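import Groth.Statements.S7615
import Groth.Agent.H38.GeomRedDense
import Groth.Agent.H25.GeomIrr
import Groth.Agent.S2150
import Groth.Agent.S15533
import Mathlib

set_option autoImplicit false
universe u
open CategoryTheory CategoryTheory.Limits AlgebraicGeometry
open Variety

namespace Groth.Agent.S7615

open TensorProduct

theorem eq_isoSpec_comp {R : CommRingCat.{u}} {Y : Scheme.{u}} [IsAffine Y] (g : Y ⟶ Spec R) :
    g = Y.isoSpec.hom ≫ Spec.map ((Scheme.ΓSpecIso R).inv ≫ g.appTop) := by
  rw [Spec.map_comp, ← Category.assoc, Scheme.isoSpec_hom_naturality, Scheme.isoSpec_Spec_hom,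
    Category.assoc, ← Spec.map_comp, Iso.inv_hom_id, Spec.map_id, Category.comp_id]

theorem irreducibleSpace_tensor_of_specMap (k B : Type u) [Field k] [CommRing B] [Algebra k B]
    (h : GeometricallyIrreducible (Spec.map (CommRingCat.ofHom (algebraMap k B))))
    (k' : Type u) [Field k'] [Algebra k k'] :
    IrreducibleSpace (PrimeSpectrum (B ⊗[k] k')) := by
  have h1 : IrreducibleSpace ↥(pullback (Spec.map (CommRingCat.ofHom (algebraMap k B)))
      (Spec.map (CommRingCat.ofHom (algebraMap k k')))) :=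
    h.geometrically_irreducibleSpace (Spec.map (CommRingCat.ofHom (algebraMap k k')))
      (pullback.fst _ _) (pullback.snd _ _) (IsPullback.of_hasPullback _ _)
  exact ((pullbackSpecIso k B k').hom.homeomorph.irreducibleSpace_iff).mp h1

theorem sep_of_chart (k K B : Type u) [Field k] [Field K] [CommRing B] [Nontrivial B]
    (φ : k →+* K) (ψ : k →+* B) (j : K →+* B) (hj : ∀ c, j (φ c) = ψ c) (hfin : φ.Finite)
    (hB : @Algebra.IsGeometricallyReduced k B _ _ ψ.toAlgebra) :
    @Algebra.IsSeparable k K _ _ φ.toAlgebra := by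
  letI algK : Algebra k K := φ.toAlgebra
  letI algB : Algebra k B := ψ.toAlgebra
  haveI : Module.Finite k K := hfin
  haveI : Algebra.IsGeometricallyReduced k B := hB
  let ι : K →ₐ[k] B := { j with commutes' := hj }
  have hι : Function.Injective ι := j.injective
  haveI : Algebra.IsGeometricallyReduced k K := Algebra.IsGeometricallyReduced.of_injective ι hι
  haveI : Algebra.FormallySmooth k K :=
    Groth.Agent.H44.MacLane.formallySmooth_iff_isGeometricallyReduced.mpr inferInstance
  exact Groth.Agent.S15533.isSeparable_of_formallySmooth k K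

theorem pinsep_of_chart (k K B : Type u) [Field k] [Field K] [CommRing B] [Nontrivial B]
    (φ : k →+* K) (ψ : k →+* B) (j : K →+* B) (hj : ∀ c, j (φ c) = ψ c) (hfin : φ.Finite)
    (hB : letI := ψ.toAlgebra
      ∀ (k' : Type u) [Field k'] [Algebra k k'], IrreducibleSpace (PrimeSpectrum (B ⊗[k] k'))) :
    @IsPurelyInseparable k K _ _ φ.toAlgebra := by
  letI algK : Algebra k K := φ.toAlgebra
  letI algB : Algebra k B := ψ.toAlgebra
  haveI : Module.Finite k K := hfin
  haveI : Algebra.IsIntegral k K := Algebra.IsIntegral.of_finite k K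
  let ι : K →ₐ[k] B := { j with commutes' := hj }
  have hι : Function.Injective ι := j.injective
  have hK : ∀ (k' : Type u) [Field k'] [Algebra k k'],
      IrreducibleSpace (PrimeSpectrum (k' ⊗[k] K)) := by
    intro k' _ _
    rw [Groth.Agent.H25.GeomIrr.irreducibleSpace_iff]
    have h1 : Groth.Agent.H25.GeomIrr.PrimeNil (B ⊗[k] k') :=
      (Groth.Agent.H25.GeomIrr.irreducibleSpace_iff _).mp (hB k')
    have h2 : Groth.Agent.H25.GeomIrr.PrimeNil (K ⊗[k] k') :=
      Groth.Agent.H25.GeomIrr.PrimeNil.of_injective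
        (Algebra.TensorProduct.map ι (AlgHom.id k k')).toRingHom
        (Groth.Agent.H25.GeomIrr.tensor_map_injective ι hι) h1
    exact Groth.Agent.H25.GeomIrr.PrimeNil.of_injective
      (Algebra.TensorProduct.comm k k' K).toAlgHom.toRingHom
      (Algebra.TensorProduct.comm k k' K).injective h2
  have hsep := (Groth.Agent.S2150.result (k := k) (K := K)).mp hK
  rw [isPurelyInseparable_iff]
  intro x
  refine ⟨Algebra.IsIntegral.isIntegral x, fun hx => ?_⟩
  obtain ⟨c, hc⟩ := hsep x hx
  exact ⟨c, hc⟩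

theorem exists_chart (k : Type u) [Field k] {X : Scheme.{u}} (f : X ⟶ Spec (CommRingCat.of k))
    [IsIntegral X] :
    ∃ (B : Type u) (_ : CommRing B) (_ : Nontrivial B) (ψ : k →+* B) (j : Γ(X, ⊤) →+* B),
      (∀ c, j ((f.appTop.hom.comp (Scheme.ΓSpecIso (CommRingCat.of k)).inv.hom) c) = ψ c) ∧
      (GeometricallyReduced f → @Algebra.IsGeometricallyReduced k B _ _ ψ.toAlgebra) ∧
      (GeometricallyIrreducible f → letI := ψ.toAlgebra
        ∀ (k' : Type u) [Field k'] [Algebra k k'],
          IrreducibleSpace (PrimeSpectrum (B ⊗[k] k'))) := by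
  have x : X := Nonempty.some inferInstance
  obtain ⟨U, hU', hxU⟩ : ∃ U : X.Opens, IsAffineOpen U ∧ x ∈ U := by
    obtain ⟨_, ⟨U, hU, rfl⟩, hxU, -⟩ :=
      X.isBasis_affineOpens.exists_subset_of_mem_open (Set.mem_univ x) isOpen_univ
    exact ⟨U, hU, hxU⟩
  haveI : IsAffine (U : Scheme.{u}) := hU'
  let ψc : CommRingCat.of k ⟶ Γ((U : Scheme.{u}), ⊤) :=
    (Scheme.ΓSpecIso (CommRingCat.of k)).inv ≫ (U.ι ≫ f).appTop
  have hg : U.ι ≫ f = (U : Scheme.{u}).isoSpec.hom ≫ Spec.map ψc := eq_isoSpec_comp (U.ι ≫ f)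
  have hψ : Spec.map ψc = (U : Scheme.{u}).isoSpec.inv ≫ (U.ι ≫ f) := by
    rw [hg, Iso.inv_hom_id_assoc]
  haveI : Nonempty ((⊤ : (U : Scheme.{u}).Opens)) := ⟨⟨⟨x, hxU⟩, trivial⟩⟩
  letI algB : Algebra k Γ((U : Scheme.{u}), ⊤) := ψc.hom.toAlgebra
  refine ⟨Γ((U : Scheme.{u}), ⊤), inferInstance, inferInstance, ψc.hom, U.ι.appTop.hom,
    ?_, ?_, ?_⟩
  · intro c
    rfl
  · intro h
    haveI := h
    haveI h1 : GeometricallyReduced (U.ι ≫ f) :=
      Groth.Agent.H38.GeomRedDense.geometricallyReduced_comp_openImmersion U.ι f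
    have h2 : GeometricallyReduced (Spec.map ψc) := by
      rw [hψ]
      exact (MorphismProperty.cancel_left_of_respectsIso (P := @GeometricallyReduced) _ _).mpr h1
    exact Groth.Agent.H38.GeomRedDense.isGeometricallyReduced_of_specMap k
      Γ((U : Scheme.{u}), ⊤) h2
  · intro h k' _ _
    haveI := h
    haveI : Subsingleton ↥(Spec (CommRingCat.of k)) :=
      (inferInstance : Subsingleton (PrimeSpectrum k))
    haveI : Surjective (U.ι ≫ f) := ⟨fun y => ⟨⟨x, hxU⟩, Subsingleton.elim _ _⟩⟩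
    haveI h1 : GeometricallyIrreducible (U.ι ≫ f) := inferInstance
    have h2 : GeometricallyIrreducible (Spec.map ψc) := by
      rw [hψ]
      exact (MorphismProperty.cancel_left_of_respectsIso
        (P := @GeometricallyIrreducible) _ _).mpr h1
    exact irreducibleSpace_tensor_of_specMap k Γ((U : Scheme.{u}), ⊤) h2 k'

theorem main (k : Type u) [Field k] (X : Scheme.{u}) (f : X ⟶ Spec (CommRingCat.of k))
    [IsIntegral X] [IsProper f] :
    letI := (f.appTop.hom.comp (Scheme.ΓSpecIso (CommRingCat.of k)).inv.hom :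
      k →+* Γ(X, ⊤)).toAlgebra
    IsField ↑Γ(X, ⊤) ∧ Module.Finite k ↑Γ(X, ⊤) ∧
      (GeometricallyReduced f → Algebra.IsSeparable k ↑Γ(X, ⊤)) ∧
      (GeometricallyIrreducible f → IsPurelyInseparable k ↑Γ(X, ⊤)) := by
  have hfield : IsField ↑Γ(X, ⊤) := isField_of_universallyClosed k f
  have hsurj : Function.Surjective (Scheme.ΓSpecIso (CommRingCat.of k)).inv.hom :=
    (ConcreteCategory.bijective_of_isIso (Scheme.ΓSpecIso (CommRingCat.of k)).inv).2
  have hfin : (f.appTop.hom.comp (Scheme.ΓSpecIso (CommRingCat.of k)).inv.hom).Finite :=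
    RingHom.Finite.comp (finite_appTop_of_universallyClosed k f)
      (RingHom.Finite.of_surjective _ hsurj)
  obtain ⟨B, _, _, ψ, j, hj, hR, hI⟩ := exists_chart k f
  letI fld : Field ↑Γ(X, ⊤) := hfield.toField
  refine ⟨hfield, hfin, fun hgr => ?_, fun hgi => ?_⟩
  · exact sep_of_chart k ↑Γ(X, ⊤) B
      (f.appTop.hom.comp (Scheme.ΓSpecIso (CommRingCat.of k)).inv.hom) ψ j hj hfin (hR hgr)
  · exact pinsep_of_chart k ↑Γ(X, ⊤) B
      (f.appTop.hom.comp (Scheme.ΓSpecIso (CommRingCat.of k)).inv.hom) ψ j hj hfin (hI hgi)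

/-- Let X be a proper variety over a field k (integral, separated, of finite type and proper over k) and
K = H^0(X, O_X), a k-algebra via the structure morphism. Then K is a field, finite over k; K/k is
separable when X is geometrically reduced over k, and purely inseparable when X is geometrically
irreducible over k. -/
theorem result (k : Type u) [Field k] (X : Scheme.{u}) [X.Over (Spec (CommRingCat.of k))] [IsIntegral X] [IsProper (X ↘ (Spec (CommRingCat.of k)))] :
    letI := ((X ↘ (Spec (CommRingCat.of k))).appTop.hom.comp (Scheme.ΓSpecIso (CommRingCat.of k)).inv.hom : k →+* Γ(X, ⊤)).toAlgebra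
    IsField ↑Γ(X, ⊤) ∧ Module.Finite k ↑Γ(X, ⊤) ∧
      (GeometricallyReduced (X ↘ (Spec (CommRingCat.of k))) → Algebra.IsSeparable k ↑Γ(X, ⊤)) ∧
      (GeometricallyIrreducible (X ↘ (Spec (CommRingCat.of k))) → IsPurelyInseparable k ↑Γ(X, ⊤)) := by
  exact main k X (X ↘ Spec (CommRingCat.of k))

end Groth.Agent.S7615
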