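import Groth.Statements.S7616
import Groth.Agent.H73.NagataNormz
import Groth.Agent.H73.InsepFinite

set_option autoImplicit false
universe u
open CategoryTheory CategoryTheory.Limits AlgebraicGeometry
open Variety

namespace Groth.Agent.S7616

/-- Let f : Y → X be a quasi-compact morphism of schemes locally of finite type over a field k, with Y
reduced; f is automatically quasi-separated. Then the normalization of X in Y is finite over X. -/
theorem result (k : Type u) [Field k] (X : Scheme.{u}) [X.Over (Spec (CommRingCat.of k))] [LocallyOfFiniteType (X ↘ (Spec (CommRingCat.of k)))]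
    (Y : Scheme.{u}) [Y.Over (Spec (CommRingCat.of k))] [LocallyOfFiniteType (Y ↘ (Spec (CommRingCat.of k)))] [IsReduced Y]
    (f : Y ⟶ X) [f.IsOver (Spec (CommRingCat.of k))] [QuasiCompact f] [QuasiSeparated f] :
    IsFinite f.fromNormalization := by
  have hflft : LocallyOfFiniteType f := by
    have : LocallyOfFiniteType (f ≫ (X ↘ (Spec (CommRingCat.of k)))) := by
      rw [CategoryTheory.comp_over]; infer_instance
    exact locallyOfFiniteType_of_comp f (X ↘ (Spec (CommRingCat.of k)))
  refine Groth.Agent.H73.NagataFin.isFinite_fromNormalization f ?_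
  intro U
  let ψ : k →+* Γ(X, (U : X.Opens)) :=
    ((X ↘ (Spec (CommRingCat.of k))).appLE ⊤ U le_top).hom.comp
      (Scheme.ΓSpecIso (CommRingCat.of k)).inv.hom
  have hψ : ψ.FiniteType := by
    refine RingHom.FiniteType.comp ?_ ?_
    · exact (X ↘ (Spec (CommRingCat.of k))).finiteType_appLE (isAffineOpen_top _) U.2 _
    · exact RingHom.FiniteType.of_surjective _
        (ConcreteCategory.bijective_of_isIso (Scheme.ΓSpecIso (CommRingCat.of k)).inv).2
  letI algkA : Algebra k Γ(X, (U : X.Opens)) := ψ.toAlgebra
  have hft : Algebra.FiniteType k Γ(X, (U : X.Opens)) := hψ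
  refine ⟨Algebra.FiniteType.isNoetherianRing k _, ?_⟩
  intro p hp L _ _ _ _ hL
  exact Groth.Agent.H73.InsepFinite.finite_integralClosure_of_finiteType k
    (Γ(X, (U : X.Opens)) ⧸ p) (FractionRing (Γ(X, (U : X.Opens)) ⧸ p)) L

end Groth.Agent.S7616
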