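import Groth.Statements.S7619
import Mathlib
-- import your own Groth.Agent.* helpers here

set_option autoImplicit false
universe u
open CategoryTheory CategoryTheory.Limits AlgebraicGeometry
open scoped TensorProduct
open Variety

namespace Groth.Agent.S7619

theorem span_top (A B : Type u) [CommRing A] [CommRing B] [Algebra A B] (q : Ideal B)
    [q.IsPrime] :
    Submodule.span q.ResidueField (Set.range (fun b : B =>
      (1 : q.ResidueField) ⊗ₜ[B] (KaehlerDifferential.D A B b))) = ⊤ := by
  rw [eq_top_iff]
  rintro v -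
  induction v using TensorProduct.induction_on with
  | zero => exact Submodule.zero_mem _
  | tmul c m =>
    have hm : m ∈ Submodule.span B (Set.range (KaehlerDifferential.D A B)) := by
      rw [KaehlerDifferential.span_range_derivation]; trivial
    revert c
    refine Submodule.span_induction (p := fun m _ => ∀ c : q.ResidueField,
      c ⊗ₜ[B] m ∈ Submodule.span q.ResidueField (Set.range (fun b : B =>
        (1 : q.ResidueField) ⊗ₜ[B] (KaehlerDifferential.D A B b)))) ?_ ?_ ?_ ?_ hm
    · rintro _ ⟨b, rfl⟩ c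
      have e : c ⊗ₜ[B] (KaehlerDifferential.D A B b) =
          c • ((1 : q.ResidueField) ⊗ₜ[B] (KaehlerDifferential.D A B b)) := by
        rw [TensorProduct.smul_tmul', smul_eq_mul, mul_one]
      rw [e]
      exact Submodule.smul_mem _ c (Submodule.subset_span ⟨b, rfl⟩)
    · intro c
      rw [TensorProduct.tmul_zero]
      exact Submodule.zero_mem _
    · intro x y _ _ hx hy c
      rw [TensorProduct.tmul_add]
      exact Submodule.add_mem _ (hx c) (hy c)
    · intro s x _ hx c
      rw [← TensorProduct.smul_tmul]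
      exact hx (s • c)
  | add v w hv hw => exact Submodule.add_mem _ hv hw


/-- Let A → B be a finite type ring map (a finite type morphism of affine schemes), q a prime of B and r
= dim_{κ(q)} Ω_{B/A} ⊗_B κ(q). Then there is an A-algebra homomorphism A[x_1, …, x_r] → B for which
B is unramified over A[x_1, …, x_r] at q. -/
theorem result (A B : Type u) [CommRing A] [CommRing B] [Algebra A B] [Algebra.FiniteType A B]
    (q : Ideal B) [q.IsPrime] (r : ℕ) (hr : Module.finrank q.ResidueField (q.ResidueField ⊗[B] Ω[B⁄A]) = r) :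
    ∃ φ : MvPolynomial (Fin r) A →ₐ[A] B,
      letI := φ.toRingHom.toAlgebra
      Algebra.IsUnramifiedAt (MvPolynomial (Fin r) A) q := by
  classical
  obtain ⟨T, hT⟩ : ∃ T : Set (q.ResidueField ⊗[B] Ω[B⁄A]), T = Set.range (fun b : B =>
      (1 : q.ResidueField) ⊗ₜ[B] (KaehlerDifferential.D A B b)) := ⟨_, rfl⟩
  have hTtop : Submodule.span q.ResidueField T = ⊤ := by rw [hT]; exact span_top A B q
  haveI : Module.Finite B Ω[B⁄A] := inferInstance
  haveI : Module.Finite q.ResidueField (q.ResidueField ⊗[B] Ω[B⁄A]) := inferInstance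
  obtain ⟨f, hfT, hfspan, -⟩ := Submodule.exists_fun_fin_finrank_span_eq q.ResidueField T
  have hn : Module.finrank q.ResidueField ↥(Submodule.span q.ResidueField T) = r := by
    rw [hTtop, finrank_top, hr]
  have hfT' : ∀ i, ∃ b : B,
      (1 : q.ResidueField) ⊗ₜ[B] (KaehlerDifferential.D A B b) = f i := by
    intro i
    have h1 := hfT i
    rw [hT] at h1
    exact h1
  choose b0 hb0 using hfT'
  obtain ⟨b, hb⟩ : ∃ b : Fin r → B, ∀ i, b i = b0 (Fin.cast hn.symm i) :=
    ⟨fun i => b0 (Fin.cast hn.symm i), fun i => rfl⟩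
  have hbspan : Submodule.span q.ResidueField (Set.range (fun i : Fin r =>
      (1 : q.ResidueField) ⊗ₜ[B] (KaehlerDifferential.D A B (b i)))) = ⊤ := by
    rw [← hTtop, ← hfspan]
    congr 1
    ext v
    constructor
    · rintro ⟨i, rfl⟩
      refine ⟨Fin.cast hn.symm i, ?_⟩
      show f (Fin.cast hn.symm i) =
        (1 : q.ResidueField) ⊗ₜ[B] (KaehlerDifferential.D A B (b i))
      rw [hb, hb0]
    · rintro ⟨j, rfl⟩
      refine ⟨Fin.cast hn j, ?_⟩
      have hj : Fin.cast hn.symm (Fin.cast hn j) = j := by simp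
      show (1 : q.ResidueField) ⊗ₜ[B] (KaehlerDifferential.D A B (b (Fin.cast hn j))) = f j
      rw [hb, hj, hb0]
  obtain ⟨φ, hφ⟩ : ∃ φ : MvPolynomial (Fin r) A →ₐ[A] B, φ = MvPolynomial.aeval b := ⟨_, rfl⟩
  refine ⟨φ, ?_⟩
  letI : Algebra (MvPolynomial (Fin r) A) B := φ.toRingHom.toAlgebra
  haveI : IsScalarTower A (MvPolynomial (Fin r) A) B :=
    IsScalarTower.of_algebraMap_eq (fun a => (φ.commutes a).symm)
  haveI : Algebra.FiniteType (MvPolynomial (Fin r) A) B :=
    Algebra.FiniteType.of_restrictScalars_finiteType A (MvPolynomial (Fin r) A) B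
  have halg : ∀ i, algebraMap (MvPolynomial (Fin r) A) B (MvPolynomial.X i) = b i := by
    intro i
    show φ (MvPolynomial.X i) = b i
    rw [hφ, MvPolynomial.aeval_X]
  have key : Subsingleton (q.ResidueField ⊗[B] Ω[B⁄MvPolynomial (Fin r) A]) := by
    obtain ⟨ψ, hψ⟩ : ∃ ψ : (q.ResidueField ⊗[B] Ω[B⁄A]) →ₗ[q.ResidueField]
        (q.ResidueField ⊗[B] Ω[B⁄MvPolynomial (Fin r) A]),
        ψ = LinearMap.baseChange q.ResidueField
          (KaehlerDifferential.map A (MvPolynomial (Fin r) A) B B) := ⟨_, rfl⟩
    have hψsurj : Function.Surjective ψ := by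
      rw [hψ, LinearMap.baseChange_eq_ltensor]
      exact LinearMap.lTensor_surjective _
        (KaehlerDifferential.map_surjective (R := A) (S := MvPolynomial (Fin r) A) (B := B))
    have hzero : ∀ v, ψ v = 0 := by
      intro v
      have hv : v ∈ Submodule.span q.ResidueField (Set.range (fun i : Fin r =>
          (1 : q.ResidueField) ⊗ₜ[B] (KaehlerDifferential.D A B (b i)))) := by
        rw [hbspan]; trivial
      refine Submodule.span_induction (p := fun v _ => ψ v = 0) ?_ ?_ ?_ ?_ hv
      · rintro _ ⟨i, rfl⟩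
        show ψ ((1 : q.ResidueField) ⊗ₜ[B] (KaehlerDifferential.D A B (b i))) = 0
        have e : algebraMap B B (b i) =
            algebraMap (MvPolynomial (Fin r) A) B (MvPolynomial.X i) := (halg i).symm
        rw [hψ, LinearMap.baseChange_tmul, KaehlerDifferential.map_D, e,
          Derivation.map_algebraMap, TensorProduct.tmul_zero]
      · exact map_zero ψ
      · intro x y _ _ hx hy
        rw [map_add, hx, hy, add_zero]
      · intro c x _ hx
        rw [map_smul, hx, smul_zero]
    exact ⟨fun w1 w2 => by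
      obtain ⟨v1, rfl⟩ := hψsurj w1
      obtain ⟨v2, rfl⟩ := hψsurj w2
      rw [hzero, hzero]⟩
  have hmem : (⟨q, inferInstance⟩ : PrimeSpectrum B) ∈
      Algebra.unramifiedLocus (MvPolynomial (Fin r) A) B := by
    rw [Algebra.unramifiedLocus_eq_compl_support, Set.mem_compl_iff,
      Module.mem_support_iff_nontrivial_residueField_tensorProduct,
      not_nontrivial_iff_subsingleton]
    exact key
  exact hmem

end Groth.Agent.S7619
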