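import Groth.Statements.S7620
import Mathlib
import Groth.Agent.H54.IntegralDim

set_option autoImplicit false
universe u
open CategoryTheory CategoryTheory.Limits AlgebraicGeometry
open scoped TensorProduct
open Variety

namespace Groth.Agent.S7620

/-- Let A → B be a finite type ring map (a finite type morphism of affine schemes X → S), p a prime of A
and suppose the fibre ring κ(p) ⊗_A B has Krull dimension d. Then there is an A-algebra homomorphism
π : A[t_1, …, t_d] → B such that the induced map of fibres κ(p) ⊗_A A[t_1, …, t_d] → κ(p) ⊗_A B is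
finite. -/
theorem result (A B : Type u) [CommRing A] [CommRing B] [Algebra A B] [Algebra.FiniteType A B]
    (p : Ideal A) [p.IsPrime] (d : ℕ) (hd : ringKrullDim (p.ResidueField ⊗[A] B) = d) :
    ∃ π : MvPolynomial (Fin d) A →ₐ[A] B,
      (Algebra.TensorProduct.map (AlgHom.id p.ResidueField p.ResidueField) π).toRingHom.Finite := by
  classical
  haveI : Nontrivial (p.ResidueField ⊗[A] B) := by
    by_contra hn
    rw [not_nontrivial_iff_subsingleton] at hn
    have h0 : ringKrullDim (p.ResidueField ⊗[A] B) = ⊥ := ringKrullDim_eq_bot_of_subsingleton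
    rw [hd] at h0
    exact absurd h0 (by exact_mod_cast WithBot.coe_ne_bot)
  obtain ⟨s, g, hginj, hgfin⟩ := exists_finite_inj_algHom_of_fg p.ResidueField (p.ResidueField ⊗[A] B)
  have hs : s = d := by
    have h1 := Groth.Agent.H54.ringKrullDim_eq_of_ringHom_isIntegral_of_injective g.toRingHom
      (RingHom.Finite.to_isIntegral hgfin) hginj
    rw [Groth.Agent.H54.ringKrullDim_mvPolynomial_field, hd] at h1
    exact_mod_cast h1.symm
  subst hs
  have hsm : ∀ (a : A) (b : B), algebraMap A p.ResidueField a • ((1 : p.ResidueField) ⊗ₜ[A] b) =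
      (1 : p.ResidueField) ⊗ₜ[A] (a • b) := by
    intro a b
    rw [TensorProduct.smul_tmul', smul_eq_mul, mul_one, Algebra.algebraMap_eq_smul_one,
      TensorProduct.smul_tmul]
  have key : ∀ z : p.ResidueField ⊗[A] B, ∃ (a : A) (b : B), a ∉ p ∧
      (algebraMap A p.ResidueField a) • z = (1 : p.ResidueField) ⊗ₜ[A] b := by
    intro z
    induction z using TensorProduct.induction_on with
    | zero =>
      exact ⟨1, 0, (Ideal.ne_top_iff_one p).mp (Ideal.IsPrime.ne_top inferInstance), by simp⟩
    | tmul c b =>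
      obtain ⟨x, y, hy, rfl⟩ := @IsFractionRing.div_surjective (A ⧸ p) _ p.ResidueField _ _ _ c
      obtain ⟨x, rfl⟩ := Ideal.Quotient.mk_surjective x
      obtain ⟨y, rfl⟩ := Ideal.Quotient.mk_surjective y
      have hyp : y ∉ p := fun h => by
        have h0 : Ideal.Quotient.mk p y = 0 := Ideal.Quotient.eq_zero_iff_mem.mpr h
        rw [h0] at hy
        exact zero_notMem_nonZeroDivisors hy
      have h1x : algebraMap (A ⧸ p) p.ResidueField (Ideal.Quotient.mk p x) =
          algebraMap A p.ResidueField x := by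
        rw [← Ideal.Quotient.algebraMap_eq, ← IsScalarTower.algebraMap_apply]
      have h1y : algebraMap (A ⧸ p) p.ResidueField (Ideal.Quotient.mk p y) =
          algebraMap A p.ResidueField y := by
        rw [← Ideal.Quotient.algebraMap_eq, ← IsScalarTower.algebraMap_apply]
      have hne : algebraMap A p.ResidueField y ≠ 0 := by
        rw [Ne, Ideal.algebraMap_residueField_eq_zero]
        exact hyp
      refine ⟨y, x • b, hyp, ?_⟩
      rw [TensorProduct.smul_tmul', smul_eq_mul, h1x, h1y, mul_div_cancel₀ _ hne, ← hsm,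
        TensorProduct.smul_tmul', smul_eq_mul, mul_one]
    | add z₁ z₂ h₁ h₂ =>
      obtain ⟨a₁, b₁, ha₁, e₁⟩ := h₁
      obtain ⟨a₂, b₂, ha₂, e₂⟩ := h₂
      refine ⟨a₁ * a₂, a₂ • b₁ + a₁ • b₂, fun hmem => ?_, ?_⟩
      · rcases Ideal.IsPrime.mem_or_mem inferInstance hmem with h | h
        · exact ha₁ h
        · exact ha₂ h
      · have t1 : algebraMap A p.ResidueField (a₁ * a₂) • z₁ =
            (1 : p.ResidueField) ⊗ₜ[A] (a₂ • b₁) := by
          rw [map_mul, mul_comm, mul_smul, e₁, hsm]
        have t2 : algebraMap A p.ResidueField (a₁ * a₂) • z₂ =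
            (1 : p.ResidueField) ⊗ₜ[A] (a₁ • b₂) := by
          rw [map_mul, mul_smul, e₂, hsm]
        rw [smul_add, t1, t2, TensorProduct.tmul_add]
  choose a b ha hab using fun i : Fin s => key (g (MvPolynomial.X i))
  have hu : ∀ i, algebraMap A p.ResidueField (a i) ≠ 0 := by
    intro i
    rw [Ne, Ideal.algebraMap_residueField_eq_zero]
    exact ha i
  let π : MvPolynomial (Fin s) A →ₐ[A] B := MvPolynomial.aeval b
  refine ⟨π, ?_⟩
  let e : p.ResidueField ⊗[A] MvPolynomial (Fin s) A ≃ₐ[p.ResidueField]
      MvPolynomial (Fin s) p.ResidueField := MvPolynomial.algebraTensorAlgEquiv A p.ResidueField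
  let σ : MvPolynomial (Fin s) p.ResidueField →ₐ[p.ResidueField]
      MvPolynomial (Fin s) p.ResidueField :=
    MvPolynomial.aeval (fun i => MvPolynomial.C (algebraMap A p.ResidueField (a i)) * MvPolynomial.X i)
  have hσ : Function.Surjective σ := by
    rw [← AlgHom.range_eq_top, eq_top_iff, ← MvPolynomial.adjoin_range_X, Algebra.adjoin_le_iff]
    rintro _ ⟨i, rfl⟩
    refine ⟨MvPolynomial.C (algebraMap A p.ResidueField (a i))⁻¹ * MvPolynomial.X i, ?_⟩
    change σ (MvPolynomial.C (algebraMap A p.ResidueField (a i))⁻¹ * MvPolynomial.X i) =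
      MvPolynomial.X i
    have h1 : σ (MvPolynomial.X i) =
        MvPolynomial.C (algebraMap A p.ResidueField (a i)) * MvPolynomial.X i :=
      MvPolynomial.aeval_X _ i
    have h2 : σ (MvPolynomial.C (algebraMap A p.ResidueField (a i))⁻¹) =
        MvPolynomial.C (algebraMap A p.ResidueField (a i))⁻¹ := by
      rw [MvPolynomial.algHom_C, MvPolynomial.algebraMap_eq]
    rw [map_mul, h1, h2, ← mul_assoc, ← MvPolynomial.C_mul, inv_mul_cancel₀ (hu i),
      MvPolynomial.C_1, one_mul]
  have hcomp : Algebra.TensorProduct.map (AlgHom.id p.ResidueField p.ResidueField) π =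
      (g.comp σ).comp e.toAlgHom := by
    apply Algebra.TensorProduct.ext (by ext)
    apply MvPolynomial.algHom_ext
    intro i
    have e1 : e ((1 : p.ResidueField) ⊗ₜ[A] MvPolynomial.X i) = MvPolynomial.X i := by
      simp [e]
    have h1 : σ (MvPolynomial.X i) =
        MvPolynomial.C (algebraMap A p.ResidueField (a i)) * MvPolynomial.X i :=
      MvPolynomial.aeval_X _ i
    change (1 : p.ResidueField) ⊗ₜ[A] π (MvPolynomial.X i) =
      g (σ (e ((1 : p.ResidueField) ⊗ₜ[A] MvPolynomial.X i)))
    rw [e1, h1, map_mul, MvPolynomial.algHom_C, ← Algebra.smul_def, hab i]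
    simp only [π, MvPolynomial.aeval_X]
  change ((Algebra.TensorProduct.map (AlgHom.id p.ResidueField p.ResidueField) π)).Finite
  rw [hcomp]
  exact (AlgHom.Finite.comp hgfin (AlgHom.Finite.of_surjective σ hσ)).comp
    (AlgHom.Finite.of_surjective e.toAlgHom e.surjective)

end Groth.Agent.S7620
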