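import Groth.Statements.S7622
import Mathlib
import Groth.Agent.H87.EqCohen

set_option autoImplicit false
set_option maxHeartbeats 400000
universe u
open CategoryTheory CategoryTheory.Limits AlgebraicGeometry
open Variety

namespace Groth.Agent.S7622

/-- Let A be a Noetherian local algebra over a field k (such as the local ring of a locally Noetherian
k-scheme at a point) whose residue field κ is a separable extension of k, meaning geometrically
reduced over k; κ need not be algebraic over k. Then there are n ≥ 0, an ideal I of κ[[x_1, …, x_n]]
and a k-algebra isomorphism e from κ[[x_1, …, x_n]]/I onto the completion A^∧ of A at its maximal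
ideal which induces the identity on residue fields: for every a in A, the value of e on the constant
power series whose value is the residue class of a is congruent to the image of a modulo the
extended maximal ideal of A^∧. -/
theorem result (k A : Type u) [Field k] [CommRing A] [Algebra k A]
    [IsNoetherianRing A] [IsLocalRing A] [Algebra.IsGeometricallyReduced k (IsLocalRing.ResidueField A)] :
    ∃ (n : ℕ) (I : Ideal (MvPowerSeries (Fin n) (IsLocalRing.ResidueField A)))
      (e : (MvPowerSeries (Fin n) (IsLocalRing.ResidueField A) ⧸ I) ≃ₐ[k]
        AdicCompletion (IsLocalRing.maximalIdeal A) A),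
      ∀ a : A, e (Ideal.Quotient.mk I (MvPowerSeries.C (IsLocalRing.residue A a))) -
          algebraMap A (AdicCompletion (IsLocalRing.maximalIdeal A) A) a ∈
        (IsLocalRing.maximalIdeal A).map (algebraMap A (AdicCompletion (IsLocalRing.maximalIdeal A) A)) := by
  classical
  have hbij := AdicCompletion.residueField_map_bijective A
  let ι : IsLocalRing.ResidueField A →ₐ[k]
      IsLocalRing.ResidueField (AdicCompletion (IsLocalRing.maximalIdeal A) A) :=
    { IsLocalRing.ResidueField.map
        (algebraMap A (AdicCompletion (IsLocalRing.maximalIdeal A) A)) with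
      commutes' := fun c => by
        show IsLocalRing.ResidueField.map
          (algebraMap A (AdicCompletion (IsLocalRing.maximalIdeal A) A))
            (algebraMap k (IsLocalRing.ResidueField A) c) =
          algebraMap k (IsLocalRing.ResidueField (AdicCompletion (IsLocalRing.maximalIdeal A) A)) c
        rw [IsScalarTower.algebraMap_apply k A (IsLocalRing.ResidueField A),
          IsLocalRing.ResidueField.algebraMap_eq, IsLocalRing.ResidueField.map_residue,
          IsScalarTower.algebraMap_apply k (AdicCompletion (IsLocalRing.maximalIdeal A) A)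
            (IsLocalRing.ResidueField (AdicCompletion (IsLocalRing.maximalIdeal A) A)),
          IsLocalRing.ResidueField.algebraMap_eq,
          IsScalarTower.algebraMap_apply k A (AdicCompletion (IsLocalRing.maximalIdeal A) A)] }
  have hι : ∀ a : A, ι (IsLocalRing.residue A a) =
      IsLocalRing.residue _ (algebraMap A (AdicCompletion (IsLocalRing.maximalIdeal A) A) a) :=
    fun a => IsLocalRing.ResidueField.map_residue _ a
  let ιe : IsLocalRing.ResidueField A ≃ₐ[k]
      IsLocalRing.ResidueField (AdicCompletion (IsLocalRing.maximalIdeal A) A) :=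
    AlgEquiv.ofBijective ι hbij
  have hιe : ∀ x, ιe x = ι x := fun x => rfl
  have _ : Algebra.IsGeometricallyReduced k
      (IsLocalRing.ResidueField (AdicCompletion (IsLocalRing.maximalIdeal A) A)) :=
    Algebra.IsGeometricallyReduced.of_injective
      (ιe.symm : IsLocalRing.ResidueField (AdicCompletion (IsLocalRing.maximalIdeal A) A) →ₐ[k]
        IsLocalRing.ResidueField A) ιe.symm.injective
  obtain ⟨σ, hσ⟩ := Groth.Agent.S2452.result (k := k)
    (A := AdicCompletion (IsLocalRing.maximalIdeal A) A)
  obtain ⟨t, ht⟩ := Groth.Agent.H87.EqCohen.exists_gens (A := A)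
    (IsNoetherian.noetherian (IsLocalRing.maximalIdeal A))
  have ht' : Ideal.span (Set.range (fun i =>
      algebraMap A (AdicCompletion (IsLocalRing.maximalIdeal A) A) (t i))) =
      IsLocalRing.maximalIdeal (AdicCompletion (IsLocalRing.maximalIdeal A) A) := by
    rw [AdicCompletion.maximalIdeal_eq_map]
    have h3 : Ideal.map (algebraMap A (AdicCompletion (IsLocalRing.maximalIdeal A) A))
        (IsLocalRing.maximalIdeal A) =
        Ideal.map (algebraMap A (AdicCompletion (IsLocalRing.maximalIdeal A) A))
          (Ideal.span (Set.range t)) := by rw [ht]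
    rw [h3, Ideal.map_span, ← Set.range_comp]
    rfl
  obtain ⟨e, heC, heX⟩ := Groth.Agent.H87.PowEval.exists_mvEvalₐ
    (IsLocalRing.maximalIdeal (AdicCompletion (IsLocalRing.maximalIdeal A) A)) (σ.comp ι)
    (fun i => algebraMap A (AdicCompletion (IsLocalRing.maximalIdeal A) A) (t i))
    (fun i => by rw [← ht']; exact Ideal.subset_span ⟨i, rfl⟩)
  have hsurj : Function.Surjective e := by
    have h1 := Groth.Agent.H87.EqCohen.surjective_of_section
      (fun i => algebraMap A (AdicCompletion (IsLocalRing.maximalIdeal A) A) (t i)) ht'
      e.toRingHom heX (fun a => ⟨ιe.symm (IsLocalRing.residue _ a), by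
        show a - e (MvPowerSeries.C (ιe.symm (IsLocalRing.residue _ a))) ∈ _
        rw [heC, ← IsLocalRing.residue_eq_zero_iff, map_sub, AlgHom.comp_apply, ← hιe,
          AlgEquiv.apply_symm_apply, hσ, sub_self]⟩)
    exact h1
  refine ⟨_, RingHom.ker e, Ideal.quotientKerAlgEquivOfSurjective hsurj, fun a => ?_⟩
  have h2 : (Ideal.quotientKerAlgEquivOfSurjective hsurj)
      (Ideal.Quotient.mk (RingHom.ker e) (MvPowerSeries.C (IsLocalRing.residue A a))) =
      e (MvPowerSeries.C (IsLocalRing.residue A a)) := rfl
  rw [h2, heC, ← AdicCompletion.maximalIdeal_eq_map, ← IsLocalRing.residue_eq_zero_iff, map_sub,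
    AlgHom.comp_apply, hι, hσ, sub_self]

end Groth.Agent.S7622
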