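import Groth.Statements.S7623
import Groth.Agent.S4999

set_option autoImplicit false
universe u
open CategoryTheory CategoryTheory.Limits AlgebraicGeometry
open Variety

namespace Groth.Agent.S7623

/-- Let k be a perfect field and A a reduced finite type k-algebra such that Ω_{A/k} is a projective
A-module (locally free, as it is finitely presented). Then A is smooth over k. The scheme statement,
X reduced and locally of finite type over k with Ω_{X/k} locally free is smooth over k, is this
assertion on affine opens. -/
theorem result (k A : Type u) [Field k] [PerfectField k] [CommRing A] [Algebra k A]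
    [Algebra.FiniteType k A] [_root_.IsReduced A] [Module.Projective A Ω[A⁄k]] : Algebra.Smooth k A := by
  refine (Groth.Agent.S4999.result k A).mpr ⟨inferInstance, fun p _ hp => ?_⟩
  haveI : _root_.IsReduced (Localization.AtPrime p) := inferInstance
  have hm := Groth.Agent.S4999.maximalIdeal_eq_bot (Localization.AtPrime p)
    (Groth.Agent.S4999.dim_localization_minimal A p hp)
  let e : Localization.AtPrime p ≃ₐ[k] p.ResidueField :=
    AlgEquiv.ofBijective (IsScalarTower.toAlgHom k (Localization.AtPrime p) p.ResidueField)
      (Groth.Agent.S4999.residue_bijective _ hm)
  haveI : Algebra.EssFiniteType k p.ResidueField := Algebra.EssFiniteType.comp k A _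
  haveI : Algebra.FormallySmooth k p.ResidueField := Algebra.FormallySmooth.of_perfectField
  haveI : Algebra.IsGeometricallyReduced k p.ResidueField :=
    (Groth.Agent.S2451.result (k := k) (K := p.ResidueField)).mp inferInstance
  exact Algebra.IsGeometricallyReduced.of_injective e.toAlgHom e.injective

end Groth.Agent.S7623
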