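import Groth.Statements.S7624
import Groth.Agent.H38.ValFibreDim3
import Groth.Agent.H38.FibreDimCons

set_option autoImplicit false
universe u
open CategoryTheory CategoryTheory.Limits AlgebraicGeometry
open Variety

namespace Groth.Agent.S7624

/-- Let R be a valuation ring, X an irreducible scheme and f : X → Spec R a surjective morphism locally
of finite type. Then each irreducible component of the fibre of f over the closed point of Spec R
has Krull dimension equal to that of the fibre of f over the generic point. -/
theorem result (R : Type u) [CommRing R] [IsDomain R] [ValuationRing R]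
    (X : Scheme.{u}) [IrreducibleSpace ↥X] (f : X ⟶ Spec (CommRingCat.of R)) [LocallyOfFiniteType f] [Surjective f]
    (Z : Set ↥(f.fiber (IsLocalRing.closedPoint R))) (hZ : Z ∈ irreducibleComponents ↥(f.fiber (IsLocalRing.closedPoint R))) :
    topologicalKrullDim ↥Z = topologicalKrullDim ↥(f.fiber (⟨⊥, Ideal.bot_prime⟩ : PrimeSpectrum R)) := by
  haveI : IrreducibleSpace (Spec (CommRingCat.of R)) :=
    inferInstanceAs (IrreducibleSpace (PrimeSpectrum R))
  have hgenA : genericPoint (Spec (CommRingCat.of R)) = (⊥ : PrimeSpectrum R) :=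
    genericPoint_eq_bot_of_affine (CommRingCat.of R)
  have hbot : (⟨⊥, Ideal.bot_prime⟩ : PrimeSpectrum R) = genericPoint (Spec (CommRingCat.of R)) :=
    hgenA.symm
  rw [hbot]
  have hdom : DenseRange f.base := f.surjective.denseRange
  obtain ⟨z0, -⟩ := hZ.1.nonempty
  have hz0 : f.base ((f.fiberι (IsLocalRing.closedPoint R)).base z0) = IsLocalRing.closedPoint R :=
    Groth.Agent.H54.fiberι_mem f _ z0
  obtain ⟨e₁, he₁⟩ := Groth.Agent.H38.FibreDimCons.exists_fibreDimAt_eq f
    ((f.fiberι (IsLocalRing.closedPoint R)).base z0)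
  have hdim : topologicalKrullDim ↥(f.fiber (genericPoint (Spec (CommRingCat.of R)))) =
      (e₁ : WithBot ℕ∞) := by
    rw [← he₁]
    exact (Groth.Agent.H38.ValFibreDim.fibreDimAt_eq_dim_generic_fiber f hdom _ hz0).symm
  rw [hdim]
  refine Groth.Agent.H38.ValFibreDim.dim_component_fiber_eq f _ e₁ ?_ Z hZ
  intro a
  rw [← hdim]
  exact Groth.Agent.H38.ValFibreDim.fibreDimAt_eq_dim_generic_fiber f hdom _
    (Groth.Agent.H54.fiberι_mem f _ a)

end Groth.Agent.S7624
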