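import Groth.Statements.S7625
import Groth.Agent.H9.CMFlatSch
import Groth.Agent.S9175

set_option linter.style.haveILetI false

set_option autoImplicit false
universe u
open CategoryTheory CategoryTheory.Limits AlgebraicGeometry
open Variety

namespace Groth.Agent.S7625


open Groth.Agent.H9.CMFlatSch Groth.Agent.H9.CMFlatRing Groth.Agent.H9.FibDim TensorProduct

set_option maxHeartbeats 1600000 in
theorem result' {X S : Scheme.{u}} (f : X ⟶ S) [LocallyOfFiniteType f] (x : ↥X)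
    (V : S.Opens) (hV : IsAffineOpen V) (hxV : f x ∈ V) (d : ℕ) (hd : FlatMor.fibreDimAt f x = d) :
    ∃ (U : X.Opens), IsAffineOpen U ∧ x ∈ U ∧
      ∃ (g : (U : Scheme.{u}) ⟶ (V : Scheme.{u})) (π : (U : Scheme.{u}) ⟶ 𝔸(ULift.{u} (Fin d); (V : Scheme.{u}))),
        g ≫ V.ι = U.ι ≫ f ∧ π ≫ (𝔸(ULift.{u} (Fin d); (V : Scheme.{u})) ↘ (V : Scheme.{u})) = g ∧
          LocallyQuasiFinite π ∧ LocallyOfFiniteType π := by
  obtain ⟨W₀, hW₀, hxW₀, e₀⟩ :=
    exists_isAffineOpen_mem_and_subset (X := X) (x := x) (U := f ⁻¹ᵁ V) hxV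
  letI algRS : Algebra Γ(S, V) Γ(X, W₀) := (f.appLE V W₀ e₀).hom.toAlgebra
  haveI : Algebra.FiniteType Γ(S, V) Γ(X, W₀) := f.finiteType_appLE hV hW₀ e₀
  set q := (hW₀.primeIdealOf ⟨x, hxW₀⟩).asIdeal with hq
  set p := q.under Γ(S, V) with hp
  haveI : q.LiesOver p := ⟨rfl⟩
  obtain ⟨Q, hQ⟩ := exists_fiber_prime p q
  have hdim : FlatMor.localDim (PrimeSpectrum (p.Fiber Γ(X, W₀))) Q = (d : WithBot ℕ∞) := by
    rw [← hd]
    exact localDim_fiber_eq_fibreDimAt f x hV hW₀ e₀ hxW₀ p rfl Q hQ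
  obtain ⟨s, hsq, φ, hφft, hφ⟩ := Groth.Agent.S9175.result Γ(S, V) Γ(X, W₀) p q Q hQ d hdim
  have hW : IsAffineOpen (X.basicOpen s) := hW₀.basicOpen s
  have hWW₀ : X.basicOpen s ≤ W₀ := X.basicOpen_le s
  have hxW : x ∈ X.basicOpen s := by
    have h1 : hW₀.primeIdealOf ⟨x, hxW₀⟩ ∈ (hW₀.fromSpec ⁻¹ᵁ X.basicOpen s) := by
      rw [hW₀.fromSpec_preimage_basicOpen]
      exact hsq
    have h2 := hW₀.fromSpec_primeIdealOf ⟨x, hxW₀⟩
    have h3 : hW₀.fromSpec (hW₀.primeIdealOf ⟨x, hxW₀⟩) ∈ X.basicOpen s := h1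
    rw [h2] at h3
    exact h3
  have eW : X.basicOpen s ≤ f ⁻¹ᵁ V := hWW₀.trans e₀
  haveI hloc : IsLocalization.Away s Γ(X, X.basicOpen s) := hW₀.isLocalization_basicOpen s
  let ε : Localization.Away s ≃ₐ[Γ(X, W₀)] Γ(X, X.basicOpen s) :=
    IsLocalization.algEquiv (Submonoid.powers s) _ _
  let ren : MvPolynomial (ULift.{u} (Fin d)) Γ(S, V) ≃ₐ[Γ(S, V)] MvPolynomial (Fin d) Γ(S, V) :=
    MvPolynomial.renameEquiv _ Equiv.ulift
  let Ψ : CommRingCat.of (MvPolynomial (ULift.{u} (Fin d)) Γ(S, V)) ⟶ Γ(X, X.basicOpen s) :=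
    CommRingCat.ofHom ((ε.toRingHom.comp φ.toRingHom).comp ren.toRingHom)
  have hΨ : CommRingCat.ofHom MvPolynomial.C ≫ Ψ = f.appLE V (X.basicOpen s) eW := by
    ext r
    show ε (φ (ren (MvPolynomial.C r))) = f.appLE V (X.basicOpen s) eW r
    have h1 : ren (MvPolynomial.C r) = algebraMap Γ(S, V) _ r := by
      simp [ren, MvPolynomial.algebraMap_eq]
    rw [h1, φ.commutes, IsScalarTower.algebraMap_apply Γ(S, V) Γ(X, W₀) (Localization.Away s),
      ε.commutes, ← Scheme.Hom.appLE_map f e₀ (homOfLE hWW₀).op]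
    rfl
  have hqf : Ψ.hom.QuasiFinite := by
    show ((ε.toRingHom.comp φ.toRingHom).comp ren.toRingHom).QuasiFinite
    refine RingHom.QuasiFinite.comp (RingHom.QuasiFinite.comp ?_ hφ) ?_
    · exact RingHom.QuasiFinite.of_finite (RingHom.Finite.of_surjective _ ε.surjective)
    · exact RingHom.QuasiFinite.of_finite (RingHom.Finite.of_surjective _ ren.surjective)
  have hft : Ψ.hom.FiniteType := by
    show ((ε.toRingHom.comp φ.toRingHom).comp ren.toRingHom).FiniteType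
    refine RingHom.FiniteType.comp (RingHom.FiniteType.comp ?_ hφft) ?_
    · exact RingHom.FiniteType.of_surjective _ ε.surjective
    · exact RingHom.FiniteType.of_surjective _ ren.surjective
  haveI : LocallyQuasiFinite (Spec.map Ψ) :=
    (HasRingHomProperty.Spec_iff (P := @LocallyQuasiFinite)).mpr hqf
  haveI : LocallyOfFiniteType (Spec.map Ψ) :=
    (HasRingHomProperty.Spec_iff (P := @LocallyOfFiniteType)).mpr hft
  haveI : IsIso (AffineSpace.map (ULift.{u} (Fin d)) hV.isoSpec.inv) :=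
    (AffineSpace.isPullback_map (n := ULift.{u} (Fin d)) hV.isoSpec.inv).isIso_fst_of_isIso
  refine ⟨X.basicOpen s, hW, hxW, f.resLE V (X.basicOpen s) eW,
    hW.isoSpec.hom ≫ Spec.map Ψ ≫ (AffineSpace.SpecIso (ULift.{u} (Fin d)) Γ(S, V)).inv ≫
      AffineSpace.map (ULift.{u} (Fin d)) hV.isoSpec.inv, ?_, ?_, ?_, ?_⟩
  · exact Scheme.Hom.resLE_comp_ι f eW
  · rw [← cancel_mono V.ι, Scheme.Hom.resLE_comp_ι]
    simp only [Category.assoc]
    rw [AffineSpace.map_over_assoc, AffineSpace.SpecIso_inv_over_assoc, ← Spec.map_comp_assoc, hΨ]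
    have h1 : hV.isoSpec.inv ≫ V.ι = hV.fromSpec := rfl
    rw [h1, IsAffineOpen.SpecMap_appLE_fromSpec f hV hW eW, ← Category.assoc,
      IsAffineOpen.isoSpec_hom_fromSpec]
  · infer_instance
  · infer_instance


/-- Let f : X → S be locally of finite type, x a point of X with image s, V an affine open neighbourhood
of s in S, and suppose dim_x(X_s) = d. Then there is an affine open neighbourhood U of x with f(U) ⊆
V and a factorisation of f|_U as U → 𝔸^d_V → V with U → 𝔸^d_V locally quasi-finite and locally of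
finite type (hence quasi-finite, U being affine). -/
theorem result {X S : Scheme.{u}} (f : X ⟶ S) [LocallyOfFiniteType f] (x : ↥X)
    (V : S.Opens) (hV : IsAffineOpen V) (hxV : f x ∈ V) (d : ℕ) (hd : FlatMor.fibreDimAt f x = d) :
    ∃ (U : X.Opens), IsAffineOpen U ∧ x ∈ U ∧
      ∃ (g : (U : Scheme.{u}) ⟶ (V : Scheme.{u})) (π : (U : Scheme.{u}) ⟶ 𝔸(ULift.{u} (Fin d); (V : Scheme.{u}))),
        g ≫ V.ι = U.ι ≫ f ∧ π ≫ (𝔸(ULift.{u} (Fin d); (V : Scheme.{u})) ↘ (V : Scheme.{u})) = g ∧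
          LocallyQuasiFinite π ∧ LocallyOfFiniteType π := by
  exact result' f x V hV hxV d hd

end Groth.Agent.S7625
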