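import Groth.Statements.S7628
import Groth.Agent.H24.FGSubLimit

set_option autoImplicit false
universe u
open CategoryTheory CategoryTheory.Limits AlgebraicGeometry
open Variety

namespace Groth.Agent.S7628

section Helpers

variable (k : Type u) [Field k] {X : Scheme.{u}} (s : X ⟶ Spec (CommRingCat.of k))
  (A : Type u) [CommRing A] [Algebra k A]

/-- structure map `Spec E → Spec k` -/
noncomputable abbrev bE (E : (Groth.Agent.H24.FGSub k A)ᵒᵖ) :
    Spec (CommRingCat.of E.unop.1) ⟶ Spec (CommRingCat.of k) :=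
  Spec.map (CommRingCat.ofHom (algebraMap k E.unop.1))

/-- transition map `Spec E → Spec E'` -/
noncomputable abbrev gE {E E' : (Groth.Agent.H24.FGSub k A)ᵒᵖ} (φ : E ⟶ E') :
    Spec (CommRingCat.of E.unop.1) ⟶ Spec (CommRingCat.of E'.unop.1) :=
  (Groth.Agent.H24.fgSpecDiagram k A).map φ

/-- projection `Spec A → Spec E` -/
noncomputable abbrev pE (E : (Groth.Agent.H24.FGSub k A)ᵒᵖ) :
    Spec (CommRingCat.of A) ⟶ Spec (CommRingCat.of E.unop.1) :=
  (Groth.Agent.H24.fgSpecCone k A).π.app E

theorem gE_bE {E E' : (Groth.Agent.H24.FGSub k A)ᵒᵖ} (φ : E ⟶ E') :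
    gE k A φ ≫ bE k A E' = bE k A E :=
  Groth.Agent.H24.fgSpecDiagramβ_map k A φ

theorem pE_bE (E : (Groth.Agent.H24.FGSub k A)ᵒᵖ) :
    pE k A E ≫ bE k A E = Spec.map (CommRingCat.ofHom (algebraMap k A)) :=
  Groth.Agent.H24.fgSpecCone_π_β k A E

theorem pE_gE {E E' : (Groth.Agent.H24.FGSub k A)ᵒᵖ} (φ : E ⟶ E') :
    pE k A E ≫ gE k A φ = pE k A E' :=
  (Groth.Agent.H24.fgSpecCone k A).w φ

theorem gE_id (E : (Groth.Agent.H24.FGSub k A)ᵒᵖ) : gE k A (𝟙 E) = 𝟙 _ :=
  (Groth.Agent.H24.fgSpecDiagram k A).map_id E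

theorem gE_comp {E E' E'' : (Groth.Agent.H24.FGSub k A)ᵒᵖ} (φ : E ⟶ E') (ψ : E' ⟶ E'') :
    gE k A (φ ≫ ψ) = gE k A φ ≫ gE k A ψ :=
  (Groth.Agent.H24.fgSpecDiagram k A).map_comp φ ψ

/-- transition maps of the pulled-back diagram -/
noncomputable def fMap {E E' : (Groth.Agent.H24.FGSub k A)ᵒᵖ} (φ : E ⟶ E') :
    pullback s (bE k A E) ⟶ pullback s (bE k A E') :=
  pullback.lift (pullback.fst s (bE k A E)) (pullback.snd s (bE k A E) ≫ gE k A φ)
    (by rw [Category.assoc, gE_bE, pullback.condition])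

theorem fMap_fst {E E' : (Groth.Agent.H24.FGSub k A)ᵒᵖ} (φ : E ⟶ E') :
    fMap k s A φ ≫ pullback.fst s (bE k A E') = pullback.fst s (bE k A E) :=
  pullback.lift_fst _ _ _

theorem fMap_snd {E E' : (Groth.Agent.H24.FGSub k A)ᵒᵖ} (φ : E ⟶ E') :
    fMap k s A φ ≫ pullback.snd s (bE k A E') = pullback.snd s (bE k A E) ≫ gE k A φ :=
  pullback.lift_snd _ _ _

/-- the pulled-back diagram `E ↦ X_E` -/
noncomputable def pbF : (Groth.Agent.H24.FGSub k A)ᵒᵖ ⥤ Scheme.{u} where
  obj E := pullback s (bE k A E)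
  map φ := fMap k s A φ
  map_id E := by
    apply pullback.hom_ext
    · rw [fMap_fst, Category.id_comp]
    · rw [fMap_snd, Category.id_comp, gE_id, Category.comp_id]
  map_comp φ ψ := by
    apply pullback.hom_ext
    · rw [fMap_fst, Category.assoc, fMap_fst, fMap_fst]
    · rw [fMap_snd, Category.assoc, fMap_snd, ← Category.assoc, fMap_snd, Category.assoc,
        ← gE_comp]

/-- components of the cone -/
noncomputable def fLift (E : (Groth.Agent.H24.FGSub k A)ᵒᵖ) :
    pullback s (Spec.map (CommRingCat.ofHom (algebraMap k A))) ⟶ pullback s (bE k A E) :=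
  pullback.lift (pullback.fst s _) (pullback.snd s _ ≫ pE k A E)
    (by rw [Category.assoc, pE_bE, pullback.condition])

theorem fLift_fst (E : (Groth.Agent.H24.FGSub k A)ᵒᵖ) :
    fLift k s A E ≫ pullback.fst s (bE k A E) = pullback.fst s _ :=
  pullback.lift_fst _ _ _

theorem fLift_snd (E : (Groth.Agent.H24.FGSub k A)ᵒᵖ) :
    fLift k s A E ≫ pullback.snd s (bE k A E) = pullback.snd s _ ≫ pE k A E :=
  pullback.lift_snd _ _ _

theorem fLift_fMap {E E' : (Groth.Agent.H24.FGSub k A)ᵒᵖ} (φ : E ⟶ E') :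
    fLift k s A E ≫ fMap k s A φ = fLift k s A E' := by
  apply pullback.hom_ext
  · rw [Category.assoc, fMap_fst, fLift_fst, fLift_fst]
  · rw [Category.assoc, fMap_snd, ← Category.assoc, fLift_snd, fLift_snd, Category.assoc, pE_gE]

/-- the cone `X_A → X_E` -/
noncomputable def pbFCone : Cone (pbF k s A) where
  pt := pullback s (Spec.map (CommRingCat.ofHom (algebraMap k A)))
  π :=
    { app := fun E => fLift k s A E
      naturality := fun _ _ φ => (Category.id_comp _).trans (fLift_fMap k s A φ).symm }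

/-- projection to the diagram of spectra -/
noncomputable def pbFα : pbF k s A ⟶ Groth.Agent.H24.fgSpecDiagram k A where
  app E := pullback.snd s (bE k A E)
  naturality _ _ φ := fMap_snd k s A φ

theorem isPullback_fLift (E : (Groth.Agent.H24.FGSub k A)ᵒᵖ) :
    IsPullback (fLift k s A E) (pullback.snd s (Spec.map (CommRingCat.ofHom (algebraMap k A))))
      (pullback.snd s (bE k A E)) (pE k A E) := by
  have big : IsPullback (fLift k s A E ≫ pullback.fst s (bE k A E))
      (pullback.snd s (Spec.map (CommRingCat.ofHom (algebraMap k A)))) s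
      (pE k A E ≫ bE k A E) := by
    rw [fLift_fst, pE_bE]
    exact IsPullback.of_hasPullback _ _
  exact IsPullback.of_right big (fLift_snd k s A E) (IsPullback.of_hasPullback _ _)

/-- `X_A` is the limit of the `X_E`. -/
noncomputable def pbFConeIsLimit : IsLimit (pbFCone k s A) :=
  haveI : IsConnected (Groth.Agent.H24.FGSub k A)ᵒᵖ := IsCofiltered.isConnected _
  isLimitOfIsPullbackOfIsConnected (pbFα k s A) (pbFCone k s A)
    (Groth.Agent.H24.fgSpecCone k A)
    { hom := pullback.snd s (Spec.map (CommRingCat.ofHom (algebraMap k A)))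
      w := fun E => (fLift_snd k s A E).symm }
    (fun E => isPullback_fLift k s A E)
    (Groth.Agent.H24.fgSpecConeIsLimit k A)

instance isAffineHom_fMap {E E' : (Groth.Agent.H24.FGSub k A)ᵒᵖ} (φ : E ⟶ E') :
    IsAffineHom ((pbF k s A).map φ) := by
  show IsAffineHom (fMap k s A φ)
  haveI h1 : IsAffineHom (pullback.fst s (bE k A E)) :=
    MorphismProperty.pullback_fst _ _ inferInstance
  haveI h2 : IsAffineHom (pullback.fst s (bE k A E')) :=
    MorphismProperty.pullback_fst _ _ inferInstance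
  haveI : IsAffineHom (fMap k s A φ ≫ pullback.fst s (bE k A E')) := by
    rw [fMap_fst]; exact h1
  exact IsAffineHom.of_comp (fMap k s A φ) (pullback.fst s (bE k A E'))

end Helpers

/-- Let X be a scheme over a field k, A a k-algebra and V ⊆ X_A = X ×_k Spec A a quasi-compact open
subset. Then there are a finitely generated k-subalgebra A' ⊆ A and a quasi-compact open subset V' ⊆
X_{A'} such that V is the inverse image of V' under the transition morphism X_A → X_{A'} (any
morphism compatible with the projections to X and with Spec A → Spec A'; it is unique). -/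
theorem result (k : Type u) [Field k] (X : Scheme.{u}) [X.Over (Spec (CommRingCat.of k))] (A : Type u) [CommRing A] [Algebra k A]
    (V : Set ↥(pullback (X ↘ (Spec (CommRingCat.of k))) (Spec.map (CommRingCat.ofHom (algebraMap k A))))) (hV : IsOpen V) (hVc : IsCompact V) :
    ∃ (A' : Subalgebra k A), A'.FG ∧
      ∃ (V' : Set ↥(pullback (X ↘ (Spec (CommRingCat.of k))) (Spec.map (CommRingCat.ofHom (algebraMap k ↥A'))))), IsOpen V' ∧ IsCompact V' ∧
        ∀ π : pullback (X ↘ (Spec (CommRingCat.of k))) (Spec.map (CommRingCat.ofHom (algebraMap k A))) ⟶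
            pullback (X ↘ (Spec (CommRingCat.of k))) (Spec.map (CommRingCat.ofHom (algebraMap k ↥A'))),
          π ≫ pullback.fst _ _ = pullback.fst _ _ →
          π ≫ pullback.snd _ _ = pullback.snd _ _ ≫ Spec.map (CommRingCat.ofHom A'.val.toRingHom) →
            π.base ⁻¹' V' = V := by
  classical
  obtain ⟨E, V'', hV''c, hV''⟩ := exists_preimage_eq (pbF k (X ↘ (Spec (CommRingCat.of k))) A)
    (pbFCone k (X ↘ (Spec (CommRingCat.of k))) A)
    (pbFConeIsLimit k (X ↘ (Spec (CommRingCat.of k))) A) ⟨V, hV⟩ hVc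
  refine ⟨E.unop.1, E.unop.2, ?_⟩
  refine ⟨V''.carrier, V''.is_open', hV''c, ?_⟩
  intro π h1 h2
  have hπ : π = fLift k (X ↘ (Spec (CommRingCat.of k))) A E := by
    apply pullback.hom_ext
    · rw [h1]; exact (fLift_fst k _ A E).symm
    · rw [h2]; exact (fLift_snd k _ A E).symm
  rw [hπ]
  have := congrArg TopologicalSpace.Opens.carrier hV''
  exact this

end Groth.Agent.S7628
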