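import Groth.Statements.S7629
import Groth.Agent.H54.LocalIso2

set_option autoImplicit false
universe u
open CategoryTheory CategoryTheory.Limits AlgebraicGeometry
open Variety

namespace Groth.Agent.S7629

/-- (2) ⇒ (3): let X and Y be varieties over a field k (integral, separated, of finite type) and suppose
the function fields k(X) and k(Y) are isomorphic as k-algebras. Then there are nonempty open
subschemes U ⊆ X and V ⊆ Y which are isomorphic as schemes over k. -/
theorem result (k : Type u) [Field k] (X : Scheme.{u}) [X.Over (Spec (CommRingCat.of k))] [IsIntegral X] [IsSeparated (X ↘ (Spec (CommRingCat.of k)))] [LocallyOfFiniteType (X ↘ (Spec (CommRingCat.of k)))] [QuasiCompact (X ↘ (Spec (CommRingCat.of k)))]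
    (Y : Scheme.{u}) [Y.Over (Spec (CommRingCat.of k))] [IsIntegral Y] [IsSeparated (Y ↘ (Spec (CommRingCat.of k)))] [LocallyOfFiniteType (Y ↘ (Spec (CommRingCat.of k)))] [QuasiCompact (Y ↘ (Spec (CommRingCat.of k)))]
    (e : X.functionField ≅ Y.functionField)
    (he : e.hom.hom.comp (Curv2.stalkMap k X (genericPoint X)) = Curv2.stalkMap k Y (genericPoint Y)) :
    ∃ (U : X.Opens) (V : Y.Opens), (U : Set ↥X).Nonempty ∧
      ∃ φ : (U : Scheme.{u}) ≅ (V : Scheme.{u}), φ.hom ≫ V.ι ≫ (Y ↘ (Spec (CommRingCat.of k))) = U.ι ≫ (X ↘ (Spec (CommRingCat.of k))) := by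
  classical
  let S := Spec (CommRingCat.of k)
  let sX : X ⟶ S := X ↘ S
  let sY : Y ⟶ S := Y ↘ S
  let x := genericPoint X
  let y := genericPoint Y
  have hxy : sX x = sY y := @Subsingleton.elim (PrimeSpectrum k) inferInstance _ _
  have hiso : ∀ s : S, IsIso (S.presheaf.germ ⊤ s trivial) := by
    intro s
    obtain rfl : s = IsLocalRing.closedPoint k :=
      @Subsingleton.elim (PrimeSpectrum k) inferInstance _ _
    rw [← AlgebraicGeometry.ΓSpecIso_hom_stalkClosedPointIso_inv]
    infer_instance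
  have hcX : (Scheme.ΓSpecIso (CommRingCat.of k)).inv ≫ S.presheaf.germ ⊤ (sX x) trivial ≫
      sX.stalkMap x = CommRingCat.ofHom (Curv2.stalkMap k X x) := by
    rw [Scheme.Hom.germ_stalkMap]
    rfl
  have hcY : (Scheme.ΓSpecIso (CommRingCat.of k)).inv ≫ S.presheaf.germ ⊤ (sY y) trivial ≫
      sY.stalkMap y = CommRingCat.ofHom (Curv2.stalkMap k Y y) := by
    rw [Scheme.Hom.germ_stalkMap]
    rfl
  have he' : CommRingCat.ofHom (Curv2.stalkMap k X x) ≫ e.hom =
      CommRingCat.ofHom (Curv2.stalkMap k Y y) := by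
    ext1
    exact he
  have h : sY.stalkMap y ≫ e.inv =
      S.presheaf.stalkSpecializes (Inseparable.of_eq hxy).specializes ≫ sX.stalkMap x := by
    haveI := hiso (sY y)
    rw [← cancel_epi (S.presheaf.germ ⊤ (sY y) trivial),
      ← cancel_epi (Scheme.ΓSpecIso (CommRingCat.of k)).inv]
    rw [TopCat.Presheaf.germ_stalkSpecializes_assoc, hcX, ← Category.assoc,
      ← Category.assoc, Category.assoc _ _ (sY.stalkMap y), hcY, ← he', Category.assoc,
      e.hom_inv_id]
    exact (Category.comp_id _).symm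
  obtain ⟨U, hxU, V, f', hf', -, hf'₂⟩ :=
    Groth.Agent.H54.local_iso_germInjective sX sY (x := x) (y := y) hxy e.inv h
  haveI := hf'
  exact ⟨U, V, ⟨x, hxU⟩, asIso f', hf'₂⟩

end Groth.Agent.S7629
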