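import Groth.Statements.S7631
import Mathlib
import Groth.Agent.S9385
import Groth.Agent.S18266

set_option autoImplicit false
set_option linter.style.haveILetI false
set_option linter.unusedSectionVars false
set_option linter.unusedVariables false
universe u
open CategoryTheory CategoryTheory.Limits AlgebraicGeometry
open Variety

namespace Groth.Agent.S7631

section Helpers
open CategoryTheory AlgebraicGeometry TopologicalSpace Limits

theorem ker_prod {S X Y A B : Scheme.{u}} (hS : ∀ {T : Scheme.{u}} (t : T ⟶ S), Flat t)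
    (a : A ⟶ S) (b : B ⟶ S) (x : X ⟶ S) (y : Y ⟶ S)
    (f : A ⟶ X) (hf : f ≫ x = a) [QuasiCompact f] (g : B ⟶ Y) (hg : g ≫ y = b) [QuasiCompact g]
    (F : pullback a b ⟶ pullback x y)
    (hF₁ : F ≫ pullback.fst x y = pullback.fst a b ≫ f)
    (hF₂ : F ≫ pullback.snd x y = pullback.snd a b ≫ g) :
    F.ker = f.ker.comap (pullback.fst x y) ⊔ g.ker.comap (pullback.snd x y) := by
  obtain ⟨z, hz⟩ : ∃ z : f.image ⟶ S, z = f.imageι ≫ x := ⟨_, rfl⟩
  obtain ⟨z', hz'⟩ : ∃ z' : g.image ⟶ S, z' = g.imageι ≫ y := ⟨_, rfl⟩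
  have htz : f.toImage ≫ z = a := by rw [hz, ← Category.assoc, f.toImage_imageι, hf]
  have htz' : g.toImage ≫ z' = b := by rw [hz', ← Category.assoc, g.toImage_imageι, hg]
  haveI : Flat b := hS b
  haveI : Flat z := hS z
  haveI : IsSchemeTheoreticallyDominant f.toImage :=
    ⟨Groth.Agent.S9385.ker_toImage_eq_bot f⟩
  haveI : IsSchemeTheoreticallyDominant g.toImage :=
    ⟨Groth.Agent.S9385.ker_toImage_eq_bot g⟩
  obtain ⟨T₁, hT₁f, hT₁s⟩ : ∃ T₁ : pullback a b ⟶ pullback z b,
      T₁ ≫ pullback.fst z b = pullback.fst a b ≫ f.toImage ∧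
      T₁ ≫ pullback.snd z b = pullback.snd a b :=
    ⟨pullback.lift (pullback.fst a b ≫ f.toImage) (pullback.snd a b)
      (by rw [Category.assoc, htz, pullback.condition]),
      pullback.lift_fst _ _ _, pullback.lift_snd _ _ _⟩
  have P₁ : IsPullback T₁ (pullback.fst a b) (pullback.fst z b) f.toImage := by
    refine IsPullback.of_right ?_ hT₁f (IsPullback.of_hasPullback z b).flip
    rw [hT₁s, htz]
    exact (IsPullback.of_hasPullback a b).flip
  haveI : IsSchemeTheoreticallyDominant T₁ :=
    IsSchemeTheoreticallyDominant.of_isPullback P₁.flip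
  obtain ⟨T₂, hT₂f, hT₂s⟩ : ∃ T₂ : pullback z b ⟶ pullback z z',
      T₂ ≫ pullback.fst z z' = pullback.fst z b ∧
      T₂ ≫ pullback.snd z z' = pullback.snd z b ≫ g.toImage :=
    ⟨pullback.lift (pullback.fst z b) (pullback.snd z b ≫ g.toImage)
      (by rw [Category.assoc, htz', pullback.condition]),
      pullback.lift_fst _ _ _, pullback.lift_snd _ _ _⟩
  have P₂ : IsPullback T₂ (pullback.snd z b) (pullback.snd z z') g.toImage := by
    refine IsPullback.of_right ?_ hT₂s (IsPullback.of_hasPullback z z')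
    rw [hT₂f, htz']
    exact IsPullback.of_hasPullback z b
  haveI : IsSchemeTheoreticallyDominant T₂ :=
    IsSchemeTheoreticallyDominant.of_isPullback P₂.flip
  obtain ⟨e, he₁, he₂⟩ : ∃ e : pullback z z' ⟶ pullback x y,
      e ≫ pullback.fst x y = pullback.fst z z' ≫ f.imageι ∧
      e ≫ pullback.snd x y = pullback.snd z z' ≫ g.imageι :=
    ⟨pullback.lift (pullback.fst z z' ≫ f.imageι) (pullback.snd z z' ≫ g.imageι)
      (by rw [Category.assoc, Category.assoc, ← hz, ← hz', pullback.condition]),
      pullback.lift_fst _ _ _, pullback.lift_snd _ _ _⟩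
  have hTe : (T₁ ≫ T₂) ≫ e = F := by
    apply pullback.hom_ext
    · rw [hF₁]
      simp only [Category.assoc]
      rw [he₁, ← Category.assoc T₂, hT₂f, ← Category.assoc T₁, hT₁f, Category.assoc,
        f.toImage_imageι]
    · rw [hF₂]
      simp only [Category.assoc]
      rw [he₂, ← Category.assoc T₂, hT₂s, Category.assoc, ← Category.assoc T₁, hT₁s,
        g.toImage_imageι]
  have h3 : F.ker = e.ker := by
    rw [← hTe, Scheme.Hom.ker_comp, Scheme.Hom.ker_eq_bot (T₁ ≫ T₂),
      Scheme.IdealSheafData.map_bot]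
  have h4a : f.ker.comap (pullback.fst x y) ≤ e.ker := by
    calc f.ker.comap (pullback.fst x y)
        = (pullback.fst (pullback.fst x y) f.imageι).ker := rfl
      _ ≤ (pullback.lift e (pullback.fst z z') he₁ ≫
            pullback.fst (pullback.fst x y) f.imageι).ker := Scheme.Hom.le_ker_comp _ _
      _ = e.ker := by rw [pullback.lift_fst]
  have h4b : g.ker.comap (pullback.snd x y) ≤ e.ker := by
    calc g.ker.comap (pullback.snd x y)
        = (pullback.fst (pullback.snd x y) g.imageι).ker := rfl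
      _ ≤ (pullback.lift e (pullback.snd z z') he₂ ≫
            pullback.fst (pullback.snd x y) g.imageι).ker := Scheme.Hom.le_ker_comp _ _
      _ = e.ker := by rw [pullback.lift_fst]
  obtain ⟨K, hK⟩ : ∃ K : (pullback x y).IdealSheafData,
      K = f.ker.comap (pullback.fst x y) ⊔ g.ker.comap (pullback.snd x y) := ⟨_, rfl⟩
  rw [h3, ← hK]
  refine le_antisymm ?_ (hK ▸ sup_le h4a h4b)
  -- the closed subscheme of K maps to the product of the images
  have H₁ : (pullback.fst (pullback.fst x y) f.imageι).ker ≤ K.subschemeι.ker := by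
    rw [K.ker_subschemeι, hK]
    exact le_sup_left (a := f.ker.comap (pullback.fst x y))
  have H₂ : (pullback.fst (pullback.snd x y) g.imageι).ker ≤ K.subschemeι.ker := by
    rw [K.ker_subschemeι, hK]
    exact le_sup_right (b := g.ker.comap (pullback.snd x y))
  obtain ⟨wZ, hwZ⟩ : ∃ wZ : K.subscheme ⟶ f.image,
      wZ ≫ f.imageι = K.subschemeι ≫ pullback.fst x y :=
    ⟨IsClosedImmersion.lift (pullback.fst (pullback.fst x y) f.imageι) K.subschemeι H₁ ≫
      pullback.snd (pullback.fst x y) f.imageι, by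
      rw [Category.assoc, ← pullback.condition, ← Category.assoc, IsClosedImmersion.lift_fac]⟩
  obtain ⟨wZ', hwZ'⟩ : ∃ wZ' : K.subscheme ⟶ g.image,
      wZ' ≫ g.imageι = K.subschemeι ≫ pullback.snd x y :=
    ⟨IsClosedImmersion.lift (pullback.fst (pullback.snd x y) g.imageι) K.subschemeι H₂ ≫
      pullback.snd (pullback.snd x y) g.imageι, by
      rw [Category.assoc, ← pullback.condition, ← Category.assoc, IsClosedImmersion.lift_fac]⟩
  have hcond : wZ ≫ z = wZ' ≫ z' := by
    rw [hz, hz', ← Category.assoc, hwZ, ← Category.assoc, hwZ', Category.assoc, Category.assoc,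
      pullback.condition]
  have hre : pullback.lift wZ wZ' hcond ≫ e = K.subschemeι := by
    apply pullback.hom_ext
    · rw [Category.assoc, he₁, ← Category.assoc, pullback.lift_fst, hwZ]
    · rw [Category.assoc, he₂, ← Category.assoc, pullback.lift_snd, hwZ']
  calc e.ker ≤ (pullback.lift wZ wZ' hcond ≫ e).ker := Scheme.Hom.le_ker_comp _ _
    _ = K := by rw [hre, K.ker_subschemeι]

end Helpers


/-- Let f : A → X and g : B → Y be quasi-compact morphisms of schemes over a field k and F = f × g : A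
×_k B → X ×_k Y. Then the scheme-theoretic image of F is Z ×_k Z', where Z ⊆ X and Z' ⊆ Y are the
scheme-theoretic images of f and g: in terms of kernel ideal sheaves, ker F is the sum of the
pullback of ker f along the first projection and of ker g along the second. -/
theorem result (k : Type u) [Field k] (X : Scheme.{u}) [X.Over (Spec (CommRingCat.of k))] (Y : Scheme.{u}) [Y.Over (Spec (CommRingCat.of k))]
    (A B : Scheme.{u}) [A.Over (Spec (CommRingCat.of k))] [B.Over (Spec (CommRingCat.of k))]
    (f : A ⟶ X) [f.IsOver (Spec (CommRingCat.of k))] [QuasiCompact f] (g : B ⟶ Y) [g.IsOver (Spec (CommRingCat.of k))] [QuasiCompact g]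
    (F : pullback (A ↘ (Spec (CommRingCat.of k))) (B ↘ (Spec (CommRingCat.of k))) ⟶ pullback (X ↘ (Spec (CommRingCat.of k))) (Y ↘ (Spec (CommRingCat.of k))))
    (hF₁ : F ≫ pullback.fst (X ↘ (Spec (CommRingCat.of k))) (Y ↘ (Spec (CommRingCat.of k))) = pullback.fst (A ↘ (Spec (CommRingCat.of k))) (B ↘ (Spec (CommRingCat.of k))) ≫ f)
    (hF₂ : F ≫ pullback.snd (X ↘ (Spec (CommRingCat.of k))) (Y ↘ (Spec (CommRingCat.of k))) = pullback.snd (A ↘ (Spec (CommRingCat.of k))) (B ↘ (Spec (CommRingCat.of k))) ≫ g) :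
    F.ker = f.ker.comap (pullback.fst (X ↘ (Spec (CommRingCat.of k))) (Y ↘ (Spec (CommRingCat.of k)))) ⊔ g.ker.comap (pullback.snd (X ↘ (Spec (CommRingCat.of k))) (Y ↘ (Spec (CommRingCat.of k)))) := by
  haveI : IsDedekindDomain k := inferInstance
  exact ker_prod
    (fun t => Groth.Agent.S18266.flat_of_forall_eq_bot k t (fun p => by
      haveI := (t p).isPrime
      exact Ideal.eq_bot_of_prime _))
    _ _ _ _ f (comp_over f _) g (comp_over g _) F hF₁ hF₂

end Groth.Agent.S7631
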