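import Groth.Statements.S7644
-- import your own Groth.Agent.* helpers here

set_option autoImplicit false
universe u
open CategoryTheory CategoryTheory.Limits AlgebraicGeometry
open Variety

namespace Groth.Agent.S7644

section aux
open AlgebraicGeometry CategoryTheory CategoryTheory.Limits TopologicalSpace MorphismProperty

lemma main (k : Type u) [Field k] (X : Scheme.{u}) [X.Over (Spec (CommRingCat.of k))]
    [IsSeparated (X ↘ (Spec (CommRingCat.of k)))] [IrreducibleSpace X] (hdim : 0 < topologicalKrullDim X)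
    (x : X) (hx : IsClosed ({x} : Set X)) :
    ¬ IsProper (Scheme.Opens.ι (⟨({x} : Set X)ᶜ, hx.isOpen_compl⟩ : X.Opens) ≫ (X ↘ (Spec (CommRingCat.of k)))) := by
  intro hp
  have h1 : IsProper (Scheme.Opens.ι (⟨({x} : Set X)ᶜ, hx.isOpen_compl⟩ : X.Opens)) :=
    IsProper.of_comp _ (X ↘ (Spec (CommRingCat.of k)))
  have hcl : IsClosed (Set.range (Scheme.Opens.ι (⟨({x} : Set X)ᶜ, hx.isOpen_compl⟩ : X.Opens)).base) :=
    (Scheme.Opens.ι (⟨({x} : Set X)ᶜ, hx.isOpen_compl⟩ : X.Opens)).isClosedMap.isClosed_range
  have hr : Set.range (Scheme.Opens.ι (⟨({x} : Set X)ᶜ, hx.isOpen_compl⟩ : X.Opens)).base = ({x} : Set X)ᶜ :=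
    Scheme.Opens.range_ι _
  rw [hr] at hcl
  have hclopen : IsClopen (({x} : Set X)ᶜ) := ⟨hcl, hx.isOpen_compl⟩
  rcases isClopen_iff.mp hclopen with h | h
  · have hall : ∀ y : X, y = x := by
      intro y
      by_contra hne
      have : y ∈ (({x} : Set X)ᶜ) := hne
      rw [h] at this
      exact this
    have : Subsingleton (IrreducibleCloseds X) := by
      constructor
      intro a b
      apply IrreducibleCloseds.ext
      ext y
      obtain ⟨ya, hya⟩ := a.isIrreducible'.1
      obtain ⟨yb, hyb⟩ := b.isIrreducible'.1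
      rw [hall ya] at hya
      rw [hall yb] at hyb
      rw [hall y]
      exact ⟨fun _ => hyb, fun _ => hya⟩
    have hle : topologicalKrullDim X ≤ 0 := Order.krullDim_nonpos_of_subsingleton
    exact absurd hdim (not_lt.mpr hle)
  · have : x ∈ (({x} : Set X)ᶜ) := by rw [h]; trivial
    exact this rfl

end aux

/-- If X is an irreducible scheme of positive dimension, separated over a field k, and x is a closed
point of X, then the open subscheme obtained by removing x is not proper over k. -/
theorem result (k : Type u) [Field k] (X : Scheme.{u}) [X.Over (Spec (CommRingCat.of k))]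
    [IsSeparated (X ↘ (Spec (CommRingCat.of k)))] [IrreducibleSpace X] (hdim : 0 < topologicalKrullDim X)
    (x : X) (hx : IsClosed ({x} : Set X)) :
    ¬ IsProper (Scheme.Opens.ι (⟨({x} : Set X)ᶜ, hx.isOpen_compl⟩ : X.Opens) ≫ (X ↘ (Spec (CommRingCat.of k)))) := by
  exact main k X hdim x hx

end Groth.Agent.S7644
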