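import Groth.Statements.S7651
import Groth.Agent.H99.DimOne

set_option autoImplicit false
universe u
open CategoryTheory CategoryTheory.Limits AlgebraicGeometry
open Variety

namespace Groth.Agent.S7651

/-- Let (A, m) be a Noetherian local ring of dimension one and f ∈ m. Then (1) m = √(f), (2) f lies in
no minimal prime of A, and (3) A_f ≅ ∏_{p minimal} A_p as A-algebras, are equivalent; such an f
exists; if A has depth one, for instance if A is reduced, they are also equivalent to (4) f is a
nonzerodivisor and to (5) A → A_f is the localization of A at all its nonzerodivisors; and if A is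
reduced they are also equivalent to (6) A_f ≅ ∏_{p minimal} κ(p) as A-algebras. -/
theorem result (A : Type u) [CommRing A] [IsLocalRing A]
    [IsNoetherianRing A] (hdim : ringKrullDim A = 1) :
    (∃ f ∈ IsLocalRing.maximalIdeal A, ∀ p ∈ minimalPrimes A, f ∉ p) ∧
    ∀ f ∈ IsLocalRing.maximalIdeal A,
      ((IsLocalRing.maximalIdeal A = (Ideal.span {f}).radical) ↔ (∀ p ∈ minimalPrimes A, f ∉ p)) ∧
      ((∀ p ∈ minimalPrimes A, f ∉ p) ↔
        Nonempty (Localization.Away f ≃ₐ[A] (∀ p : {p : PrimeSpectrum A // p.asIdeal ∈ minimalPrimes A}, Localization.AtPrime p.1.asIdeal))) ∧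
      ((LocCoh.depth A A = 1 ∨ IsReduced A) →
        ((∀ p ∈ minimalPrimes A, f ∉ p) ↔ f ∈ nonZeroDivisors A) ∧
        ((∀ p ∈ minimalPrimes A, f ∉ p) ↔ IsLocalization (nonZeroDivisors A) (Localization.Away f))) ∧
      (IsReduced A →
        ((∀ p ∈ minimalPrimes A, f ∉ p) ↔
          Nonempty (Localization.Away f ≃ₐ[A] (∀ p : {p : PrimeSpectrum A // p.asIdeal ∈ minimalPrimes A}, p.1.asIdeal.ResidueField)))) := by
  refine ⟨Groth.Agent.H99.DimOne.exists_mem_maximalIdeal_notMem_minimalPrimes hdim, fun f hf => ⟨?_, ?_, ?_, ?_⟩⟩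
  · constructor
    · intro h p hp hfp
      have hpp := hp.isPrime
      have hle : IsLocalRing.maximalIdeal A ≤ p := by
        rw [h]; exact hpp.radical_le_iff.mpr ((Ideal.span_singleton_le_iff_mem _).mpr hfp)
      have hpe : p = IsLocalRing.maximalIdeal A :=
        le_antisymm (IsLocalRing.le_maximalIdeal hpp.ne_top) hle
      exact Groth.Agent.H99.DimOne.maximalIdeal_notMem_minimalPrimes hdim (hpe ▸ hp)
    · intro hmin
      apply le_antisymm
      · intro g hg
        exact Groth.Agent.H99.DimOne.mem_radical_of_not_le_minimalPrimes hdim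
          (fun q hq hle => hmin q hq (hle (Ideal.mem_span_singleton_self f))) hg
      · exact (Ideal.IsPrime.radical_le_iff inferInstance).mpr
          ((Ideal.span_singleton_le_iff_mem _).mpr hf)
  · exact ⟨fun hmin => Groth.Agent.H99.DimOne.nonempty_algEquiv_pi hdim hf hmin,
      fun ⟨e⟩ => Groth.Agent.H99.DimOne.notMem_of_algEquiv_pi e⟩
  · intro hdr
    constructor
    · exact ⟨fun hmin => Groth.Agent.H99.DimOne.mem_nonZeroDivisors_of_notMem_minimalPrimes hdim hmin hdr,
        fun h p hp hfp => notMem_nonZeroDivisors_of_mem_mem_minimalPrimes hfp hp h⟩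
    · exact ⟨fun hmin => Groth.Agent.H99.DimOne.isLocalization_nonZeroDivisors hdim hf
          (Groth.Agent.H99.DimOne.mem_nonZeroDivisors_of_notMem_minimalPrimes hdim hmin hdr),
        fun h => Groth.Agent.H99.DimOne.notMem_of_isLocalization_nonZeroDivisors h⟩
  · intro hred
    exact ⟨fun hmin => Groth.Agent.H99.DimOne.nonempty_algEquiv_pi_residueField hdim hf hmin,
      fun ⟨e⟩ => Groth.Agent.H99.DimOne.notMem_of_algEquiv_pi_residueField e⟩

end Groth.Agent.S7651
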