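import Groth.Statements.S7661

set_option autoImplicit false
universe u
open CategoryTheory CategoryTheory.Limits AlgebraicGeometry
open Variety

namespace Groth.Agent.S7661

/-- Let A be a ring, I an ideal, p_1, …, p_r prime ideals with I ⊄ p_i for all i, and let f̄ ∈ A/I. Then
f̄ lifts to an element f ∈ A with f ∉ p_i for all i. -/
theorem result (A : Type u) [CommRing A] (I : Ideal A)
    (s : Finset (Ideal A)) (hs : ∀ p ∈ s, p.IsPrime) (hI : ∀ p ∈ s, ¬ I ≤ p) (fbar : A ⧸ I) :
    ∃ f : A, Ideal.Quotient.mk I f = fbar ∧ ∀ p ∈ s, f ∉ p := by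
  classical
  obtain ⟨g, rfl⟩ := Ideal.Quotient.mk_surjective fbar
  -- main claim, by induction on the number of primes
  have key : ∀ (n : ℕ) (t : Finset (Ideal A)), t.card = n → (∀ p ∈ t, p.IsPrime) →
      (∀ p ∈ t, ¬ I ≤ p) → ∃ h ∈ I, ∀ p ∈ t, g + h ∉ p := by
    intro n
    induction n with
    | zero =>
      intro t ht _ _
      rw [Finset.card_eq_zero] at ht
      subst ht
      exact ⟨0, I.zero_mem, by simp⟩
    | succ n ih =>
      intro t ht htp htI
      have hne : t.Nonempty := Finset.card_pos.mp (by omega)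
      obtain ⟨p₀, hp₀⟩ := t.exists_minimal hne
      have hp₀t : p₀ ∈ t := hp₀.prop
      have hp₀prime : p₀.IsPrime := htp p₀ hp₀t
      set t' := t.erase p₀ with ht'
      have hcard : t'.card = n := by
        rw [ht', Finset.card_erase_of_mem hp₀t, ht]
        rfl
      obtain ⟨h₁, hh₁, hav⟩ := ih t' hcard (fun p hp => htp p (Finset.mem_of_mem_erase hp))
        (fun p hp => htI p (Finset.mem_of_mem_erase hp))
      by_cases hmem : g + h₁ ∈ p₀
      · -- find `h₂ ∈ I ⊓ ⨅ t'` outside `p₀`
        have hnle : ¬ (I ⊓ t'.inf id ≤ p₀) := by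
          rw [hp₀prime.inf_le, hp₀prime.inf_le']
          rintro (h | ⟨q, hq, hqp⟩)
          · exact htI p₀ hp₀t h
          · have hqt : q ∈ t := Finset.mem_of_mem_erase hq
            have : p₀ ≤ q := hp₀.le_of_le hqt hqp
            exact (Finset.ne_of_mem_erase hq) (le_antisymm hqp this)
        obtain ⟨h₂, hh₂, hh₂p⟩ := SetLike.not_le_iff_exists.mp hnle
        refine ⟨h₁ + h₂, I.add_mem hh₁ hh₂.1, fun p hp => ?_⟩
        by_cases hpp : p = p₀
        · subst hpp
          intro hcon
          apply hh₂p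
          have : h₂ = (g + (h₁ + h₂)) - (g + h₁) := by ring
          rw [this]
          exact p.sub_mem hcon hmem
        · have hpt' : p ∈ t' := Finset.mem_erase.mpr ⟨hpp, hp⟩
          have hh₂mem : h₂ ∈ p := by
            have : t'.inf id ≤ p := Finset.inf_le (f := id) hpt'
            exact this hh₂.2
          intro hcon
          apply hav p hpt'
          have : g + h₁ = (g + (h₁ + h₂)) - h₂ := by ring
          rw [this]
          exact p.sub_mem hcon hh₂mem
      · refine ⟨h₁, hh₁, fun p hp => ?_⟩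
        by_cases hpp : p = p₀
        · subst hpp
          exact hmem
        · exact hav p (Finset.mem_erase.mpr ⟨hpp, hp⟩)
  obtain ⟨h, hh, hav⟩ := key s.card s rfl hs hI
  refine ⟨g + h, ?_, hav⟩
  rw [map_add, Ideal.Quotient.eq_zero_iff_mem.mpr hh, add_zero]

end Groth.Agent.S7661
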