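import Groth.Statements.S7662
import Groth.Agent.H93.PerComp

set_option autoImplicit false
universe u
open CategoryTheory CategoryTheory.Limits AlgebraicGeometry
open Variety

namespace Groth.Agent.S7662

/-- Let X be a scheme with finitely many irreducible components Z_1, …, Z_t and T ⊆ X a finite set of
points such that, for each i, some affine open of Z_i with its reduced closed subscheme structure
contains the points of T on Z_i. Then some affine open of X contains every point of T. -/
theorem result (X : Scheme.{u})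
    (hX : (irreducibleComponents (X : Type u)).Finite) (T : Finset X)
    (h : ∀ (Z : Set X) (hZ : Z ∈ irreducibleComponents (X : Type u)),
      ∃ V : (Scheme.IdealSheafData.vanishingIdeal
          (⟨Z, isClosed_of_mem_irreducibleComponents Z hZ⟩ : TopologicalSpace.Closeds X)).subscheme.Opens,
        IsAffineOpen V ∧ ∀ t ∈ T, t ∈ Z → t ∈ (Scheme.IdealSheafData.vanishingIdeal
          (⟨Z, isClosed_of_mem_irreducibleComponents Z hZ⟩ : TopologicalSpace.Closeds X)).subschemeι.base '' (V : Set _)) :
    ∃ U : X.Opens, IsAffineOpen U ∧ ∀ t ∈ T, t ∈ U := by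
  classical
  have hG : ∀ Z : {Z // Z ∈ hX.toFinset}, Groth.Agent.H93.PerComp.G X (T : Set X)
      ⟨Z.1, isClosed_of_mem_irreducibleComponents Z.1 (hX.mem_toFinset.mp Z.2)⟩ := by
    intro Z
    obtain ⟨V, hV, hTV⟩ := h Z.1 (hX.mem_toFinset.mp Z.2)
    exact ⟨V, hV, fun t ht htZ => hTV t ht htZ⟩
  have hsup := Finset.sup_induction (p := Groth.Agent.H93.PerComp.G X (T : Set X))
    (Groth.Agent.H93.PerComp.G_bot _)
    (fun a ha b hb => Groth.Agent.H93.PerComp.G_sup _ T.finite_toSet a b ha hb)
    (s := hX.toFinset.attach)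
    (f := fun Z => (⟨Z.1, isClosed_of_mem_irreducibleComponents Z.1
      (hX.mem_toFinset.mp Z.2)⟩ : TopologicalSpace.Closeds X))
    (fun Z _ => hG Z)
  have htop : (hX.toFinset.attach.sup fun Z => (⟨Z.1, isClosed_of_mem_irreducibleComponents Z.1
      (hX.mem_toFinset.mp Z.2)⟩ : TopologicalSpace.Closeds X)) = ⊤ := by
    rw [eq_top_iff]
    intro x _
    have hZ : irreducibleComponent x ∈ hX.toFinset :=
      hX.mem_toFinset.mpr (irreducibleComponent_mem_irreducibleComponents x)
    have hle : (⟨irreducibleComponent x, isClosed_of_mem_irreducibleComponents _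
        (hX.mem_toFinset.mp hZ)⟩ : TopologicalSpace.Closeds X) ≤ _ :=
      Finset.le_sup (f := fun Z : {Z // Z ∈ hX.toFinset} =>
        (⟨Z.1, isClosed_of_mem_irreducibleComponents Z.1
          (hX.mem_toFinset.mp Z.2)⟩ : TopologicalSpace.Closeds X))
        (Finset.mem_attach _ ⟨irreducibleComponent x, hZ⟩)
    exact hle mem_irreducibleComponent
  rw [htop] at hsup
  obtain ⟨U, hU, hTU⟩ := Groth.Agent.H93.PerComp.of_G_top _ hsup
  exact ⟨U, hU, fun t ht => hTU ht⟩

end Groth.Agent.S7662
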