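import Groth.Statements.S7663
import Groth.Agent.H73.KAVal

set_option autoImplicit false
universe u
open CategoryTheory CategoryTheory.Limits AlgebraicGeometry
open Variety

namespace Groth.Agent.S7663

open Groth.Agent.H73.KA

/-- Let K be a field and A, B ⊆ K subrings with fraction field K, with A Noetherian of dimension one.
Then A ⊗ B → K is not surjective (equivalently, the subring generated by A and B is not K) if and
only if some discrete valuation ring O ⊆ K with fraction field K contains both A and B. -/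
theorem result (K : Type u) [Field K]
    (A : Subring K) [IsFractionRing A K] (B : Subring K) [IsFractionRing B K] [IsNoetherianRing A] (hdim : ringKrullDim A = 1) :
    A ⊔ B ≠ ⊤ ↔ ∃ O : ValuationSubring K, IsDiscreteValuationRing O ∧ A ≤ O.toSubring ∧ B ≤ O.toSubring := by
  constructor
  · intro hne
    obtain ⟨c, hcC, hc0, hcinv⟩ : ∃ c : K, c ∈ A ⊔ B ∧ c ≠ 0 ∧ c⁻¹ ∉ A ⊔ B := by
      by_contra hcon
      push Not at hcon
      apply hne
      rw [eq_top_iff]
      intro x _
      obtain ⟨a₁, a₂, ha₂, rfl⟩ := IsFractionRing.div_surjective (A := A) x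
      have h1 : (a₁ : K) ∈ A ⊔ B := (le_sup_left : A ≤ A ⊔ B) a₁.2
      have h2 : (a₂ : K) ∈ A ⊔ B := (le_sup_left : A ≤ A ⊔ B) a₂.2
      have h20 : (a₂ : K) ≠ 0 := fun h => nonZeroDivisors.ne_zero ha₂ (Subtype.ext h)
      show (a₁ : K) / (a₂ : K) ∈ A ⊔ B
      rw [div_eq_mul_inv]
      exact (A ⊔ B).mul_mem h1 (hcon _ h2 h20)
    let c' : (A ⊔ B : Subring K) := ⟨c, hcC⟩
    have hspan : Ideal.span {c'} ≠ ⊤ := by
      rw [Ne, Ideal.span_singleton_eq_top]
      intro hu
      obtain ⟨u, hu⟩ := hu.exists_right_inv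
      apply hcinv
      have h1 : c * (u : K) = 1 := congrArg Subtype.val hu
      rw [inv_eq_of_mul_eq_one_right h1]
      exact u.2
    obtain ⟨V, hCV, hI⟩ := Ideal.image_subset_nonunits_valuationSubring (Ideal.span {c'}) hspan
    have hvc : V.valuation c < 1 := hI ⟨c', Ideal.mem_span_singleton_self c', rfl⟩
    obtain ⟨a₁, a₂, ha₂, hc⟩ := IsFractionRing.div_surjective (A := A) c
    have hAV : ∀ r : A, algebraMap A K r ∈ V :=
      fun r => hCV ((le_sup_left : A ≤ A ⊔ B) r.2)
    have ha₁0 : a₁ ≠ 0 := by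
      rintro rfl
      apply hc0; rw [← hc]; simp
    have h20 : algebraMap A K a₂ ≠ 0 := by
      have := nonZeroDivisors.ne_zero ha₂
      simpa using this
    have hv1 : V.valuation (algebraMap A K a₁) < 1 := by
      have h3 : algebraMap A K a₁ = c * algebraMap A K a₂ := by
        rw [← hc, div_mul_cancel₀ _ h20]
      rw [h3, map_mul]
      calc V.valuation c * V.valuation (algebraMap A K a₂)
          ≤ V.valuation c * 1 :=
            mul_le_mul' le_rfl ((V.valuation_le_one_iff _).mpr (hAV a₂))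
        _ = V.valuation c := mul_one _
        _ < 1 := hvc
    have hd : Ring.KrullDimLE 1 A := by
      rw [Ring.krullDimLE_iff, hdim]
      exact_mod_cast le_refl _
    refine ⟨V, isDiscreteValuationRing_of_le (R := A) V hAV a₁ ha₁0 hv1, ?_, ?_⟩
    · exact le_sup_left.trans hCV
    · exact le_sup_right.trans hCV
  · rintro ⟨O, hO, hA, hB⟩ htop
    have hle : A ⊔ B ≤ O.toSubring := sup_le hA hB
    rw [htop] at hle
    obtain ⟨π, hπ⟩ := IsDiscreteValuationRing.exists_irreducible O
    have hπ0 : (π : K) ≠ 0 := fun h => hπ.ne_zero (Subtype.ext h)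
    have hinv : (π : K)⁻¹ ∈ O := hle (Subring.mem_top _)
    apply hπ.not_isUnit
    exact isUnit_iff_exists_inv.mpr ⟨⟨_, hinv⟩, Subtype.ext (mul_inv_cancel₀ hπ0)⟩

end Groth.Agent.S7663
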