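import Groth.Statements.S7687
import Groth.Agent.H99.GlueDimOne

set_option autoImplicit false
set_option linter.style.haveILetI false
universe u
open CategoryTheory CategoryTheory.Limits AlgebraicGeometry
open Variety

namespace Groth.Agent.S7687

/-- Let K be a field and A, B ⊆ K Noetherian semi-local domains of dimension one with fraction field K
such that A ⊗ B → K is surjective, and R = A ∩ B. Then Spec A and Spec B each map to Spec R by an
open immersion, Spec R is the union of the two images, and the natural map A ⊗_R B → K is an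
isomorphism. -/
theorem result (K : Type u) [Field K]
    (A : Subring K) [IsFractionRing A K] (B : Subring K) [IsFractionRing B K] [IsNoetherianRing A] [IsNoetherianRing B]
    (hdimA : ringKrullDim A = 1) (hdimB : ringKrullDim B = 1)
    (hslA : Finite (MaximalSpectrum A)) (hslB : Finite (MaximalSpectrum B)) (hgen : A ⊔ B = ⊤) :
    IsOpenImmersion (Spec.map (CommRingCat.ofHom (Subring.inclusion (inf_le_left : A ⊓ B ≤ A)))) ∧
      IsOpenImmersion (Spec.map (CommRingCat.ofHom (Subring.inclusion (inf_le_right : A ⊓ B ≤ B)))) ∧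
      Set.range (Spec.map (CommRingCat.ofHom (Subring.inclusion (inf_le_left : A ⊓ B ≤ A)))).base ∪
        Set.range (Spec.map (CommRingCat.ofHom (Subring.inclusion (inf_le_right : A ⊓ B ≤ B)))).base = Set.univ ∧
      IsPushout (CommRingCat.ofHom (Subring.inclusion (inf_le_left : A ⊓ B ≤ A)))
        (CommRingCat.ofHom (Subring.inclusion (inf_le_right : A ⊓ B ≤ B)))
        (CommRingCat.ofHom A.subtype) (CommRingCat.ofHom B.subtype) := by
  obtain ⟨f, g, hfg, hf0, hg0, hfA, hfinvA, hfB, hgB, hginvB, hgA⟩ :=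
    Groth.Agent.H99.Glue.exists_pair A B hdimA hdimB hslA hslB hgen
  have hfR : f ∈ A ⊓ B := ⟨hfA, hfB.mem⟩
  have hgR : g ∈ A ⊓ B := ⟨hgA.mem, hgB⟩
  have locA := Groth.Agent.H99.Glue.isLocalizationAway_of (A ⊓ B) A inf_le_left f hfR hf0 hfinvA
    (fun a ha => by
      obtain ⟨n, hn⟩ := Groth.Agent.H99.Glue.exists_mul_pow_mem B hdimB hfB a
      exact ⟨n, ⟨A.mul_mem ha (A.pow_mem hfA n), hn⟩⟩)
  have locB := Groth.Agent.H99.Glue.isLocalizationAway_of (A ⊓ B) B inf_le_right g hgR hg0 hginvB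
    (fun b hb => by
      obtain ⟨n, hn⟩ := Groth.Agent.H99.Glue.exists_mul_pow_mem A hdimA hgA b
      exact ⟨n, ⟨hn, B.mul_mem hb (B.pow_mem hgB n)⟩⟩)
  refine ⟨Groth.Agent.H99.Glue.isOpenImmersion_of_away _ _ locA,
    Groth.Agent.H99.Glue.isOpenImmersion_of_away _ _ locB, ?_, ?_⟩
  · ext p
    simp only [Set.mem_union, Set.mem_univ, iff_true]
    by_contra h
    push Not at h
    have h1 := mt (Groth.Agent.H99.Glue.mem_range_iff_of_away _ _ locA p).mpr h.1
    have h2 := mt (Groth.Agent.H99.Glue.mem_range_iff_of_away _ _ locB p).mpr h.2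
    rw [not_not] at h1 h2
    have h3 : (1 : ↥(A ⊓ B)) ∈ PrimeSpectrum.asIdeal p := by
      have : (1 : ↥(A ⊓ B)) = ⟨f, hfR⟩ + ⟨g, hgR⟩ := Subtype.ext hfg.symm
      rw [this]; exact Ideal.add_mem _ h1 h2
    exact (PrimeSpectrum.isPrime p).ne_top ((Ideal.eq_top_iff_one _).mpr h3)
  · letI : Algebra ↥(A ⊓ B) ↥B := (Subring.inclusion (inf_le_right : A ⊓ B ≤ B)).toAlgebra
    haveI : IsLocalization (Submonoid.powers (⟨g, hgR⟩ : ↥(A ⊓ B))) ↥B := locB
    have awayK : IsLocalization.Away (⟨g, hgA.mem⟩ : A) K := by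
      refine IsLocalization.Away.mk _ ?_ ?_ ?_
      · exact (isUnit_iff_ne_zero).mpr hg0
      · intro k
        obtain ⟨n, hn⟩ := Groth.Agent.H99.Glue.exists_mul_pow_mem A hdimA hgA k
        exact ⟨n, ⟨k * g ^ n, hn⟩, rfl⟩
      · intro a b hab
        refine ⟨0, ?_⟩
        have : a = b := Subtype.ext hab
        rw [this]
    haveI : IsLocalization ((Submonoid.powers (⟨g, hgR⟩ : ↥(A ⊓ B))).map
        (Subring.inclusion (inf_le_left : A ⊓ B ≤ A))) K := by
      rw [Submonoid.map_powers]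
      exact awayK
    exact CommRingCat.isPushout_of_isLocalization (Subring.inclusion (inf_le_left : A ⊓ B ≤ A))
      B.subtype (by ext x; rfl) (Submonoid.powers (⟨g, hgR⟩ : ↥(A ⊓ B)))

end Groth.Agent.S7687
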