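import Groth.Statements.S7664
import Groth.Agent.H99.GlueDimOne
import Groth.Agent.S7687

set_option autoImplicit false
set_option linter.style.haveILetI false
set_option linter.unusedVariables false
universe u
open CategoryTheory CategoryTheory.Limits AlgebraicGeometry
open Variety

namespace Groth.Agent.S7664

/-- Let K be a field, A ⊆ K a Noetherian semi-local domain of dimension one and B ⊆ K a discrete
valuation ring, both with fraction field K, and R = A ∩ B. (a) If some unit of A does not lie in R,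
then Spec A and Spec B each map to Spec R by an open immersion, Spec R is the union of the two
images, and the natural map A ⊗_R B → K is an isomorphism. (b) If every unit of A lies in R, then B
dominates the local ring of A at one of its maximal ideals (A ⊆ B and the maximal ideal of B
contracts to a maximal ideal of A) and A ⊗ B → K is not surjective. -/
theorem result (K : Type u) [Field K]
    (A : Subring K) [IsFractionRing A K] [IsNoetherianRing A] (hdim : ringKrullDim A = 1) (hsl : Finite (MaximalSpectrum A))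
    (B : ValuationSubring K) [IsDiscreteValuationRing B] :
    ((∃ u : A, IsUnit u ∧ (u : K) ∉ B) →
      IsOpenImmersion (Spec.map (CommRingCat.ofHom (Subring.inclusion (inf_le_left : A ⊓ B.toSubring ≤ A)))) ∧
      IsOpenImmersion (Spec.map (CommRingCat.ofHom (Subring.inclusion (inf_le_right : A ⊓ B.toSubring ≤ B.toSubring)))) ∧
      Set.range (Spec.map (CommRingCat.ofHom (Subring.inclusion (inf_le_left : A ⊓ B.toSubring ≤ A)))).base ∪
        Set.range (Spec.map (CommRingCat.ofHom (Subring.inclusion (inf_le_right : A ⊓ B.toSubring ≤ B.toSubring)))).base = Set.univ ∧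
      IsPushout (CommRingCat.ofHom (Subring.inclusion (inf_le_left : A ⊓ B.toSubring ≤ A)))
        (CommRingCat.ofHom (Subring.inclusion (inf_le_right : A ⊓ B.toSubring ≤ B.toSubring)))
        (CommRingCat.ofHom A.subtype) (CommRingCat.ofHom B.toSubring.subtype)) ∧
    ((∀ u : A, IsUnit u → (u : K) ∈ B) →
      (∃ h : A ≤ B.toSubring,
        (Ideal.comap (Subring.inclusion h) (IsLocalRing.maximalIdeal B)).IsMaximal) ∧ A ⊔ B.toSubring ≠ ⊤) := by
  classical
  haveI hBfr : IsFractionRing ↥B.toSubring K := inferInstanceAs (IsFractionRing ↥B K)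
  haveI hBnoeth : IsNoetherianRing ↥B.toSubring := inferInstanceAs (IsNoetherianRing ↥B)
  haveI hBloc : IsLocalRing ↥B.toSubring := inferInstanceAs (IsLocalRing ↥B)
  have hBnf : ¬ IsField ↥B := IsDiscreteValuationRing.not_isField ↥B
  have hdimB : ringKrullDim ↥B.toSubring = 1 :=
    IsPrincipalIdealRing.ringKrullDim_eq_one ↥B hBnf
  have hslB : Finite (MaximalSpectrum ↥B.toSubring) := by
    haveI : Subsingleton (MaximalSpectrum ↥B.toSubring) :=
      ⟨fun a b => MaximalSpectrum.ext ((IsLocalRing.eq_maximalIdeal a.isMaximal).trans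
        (IsLocalRing.eq_maximalIdeal b.isMaximal).symm)⟩
    exact Finite.of_subsingleton
  -- a nonzero nonunit of `B`
  have hBne : ∃ π : K, π ∈ B ∧ π ≠ 0 ∧ π⁻¹ ∉ B := by
    obtain ⟨π, hπ, hπ0⟩ :=
      Submodule.exists_mem_ne_zero_of_ne_bot (IsDiscreteValuationRing.not_a_field ↥B)
    refine ⟨π.1, π.2, fun h => hπ0 (Subtype.ext h), fun hinv => ?_⟩
    have hnu : ¬ IsUnit π := (IsLocalRing.mem_maximalIdeal _).mp hπ
    apply hnu
    refine IsUnit.of_mul_eq_one (⟨π.1⁻¹, hinv⟩ : B) (Subtype.ext ?_)
    show π.1 * π.1⁻¹ = 1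
    exact mul_inv_cancel₀ (fun h => hπ0 (Subtype.ext h))
  constructor
  · rintro ⟨u, hu, huB⟩
    have hu0 : (u : K) ≠ 0 := fun h => hu.ne_zero (Subtype.ext h)
    have huinvB : (u : K)⁻¹ ∈ B := (B.mem_or_inv_mem (u : K)).resolve_left huB
    have hrad : Groth.Agent.H99.Glue.InRad B.toSubring (u : K)⁻¹ := by
      refine ⟨huinvB, ?_⟩
      rw [IsLocalRing.jacobson_eq_maximalIdeal _ bot_ne_top]
      refine (IsLocalRing.mem_maximalIdeal _).mpr ?_
      intro hunit
      obtain ⟨v, hv⟩ := hunit
      apply huB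
      have h1 : ((v : ↥B.toSubring) : K) * (((v⁻¹ : (↥B.toSubring)ˣ) : ↥B.toSubring) : K) = 1 := by
        rw [← Subring.coe_mul, Units.mul_inv]; rfl
      rw [hv] at h1
      have h2 : (u : K) = (((v⁻¹ : (↥B.toSubring)ˣ) : ↥B.toSubring) : K) := by
        rw [← inv_inv (u : K)]
        exact inv_eq_of_mul_eq_one_right h1
      rw [h2]
      exact (((v⁻¹ : (↥B.toSubring)ˣ) : ↥B.toSubring)).2
    have hgen : A ⊔ B.toSubring = ⊤ := by
      rw [eq_top_iff]
      intro k _
      obtain ⟨n, hn⟩ := Groth.Agent.H99.Glue.exists_mul_pow_mem B.toSubring hdimB hrad k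
      have hk : k = (k * ((u : K)⁻¹) ^ n) * (u : K) ^ n := by
        rw [mul_assoc, ← mul_pow, inv_mul_cancel₀ hu0, one_pow, mul_one]
      rw [hk]
      exact Subring.mul_mem _ ((le_sup_right : B.toSubring ≤ A ⊔ B.toSubring) hn)
        ((le_sup_left : A ≤ A ⊔ B.toSubring) (Subring.pow_mem _ u.2 n))
    exact Groth.Agent.S7687.result K A B.toSubring hdim hdimB hsl hslB hgen
  · intro hall
    haveI : Ring.KrullDimLE 1 A := Ring.krullDimLE_iff.mpr (by rw [hdim, Nat.cast_one])
    have hnfA : ¬ IsField A := by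
      intro hF
      have := ringKrullDim_eq_zero_of_isField hF
      rw [hdim] at this
      simp at this
    haveI : Fintype (MaximalSpectrum A) := Fintype.ofFinite _
    have hex : ∀ m : MaximalSpectrum A, ∃ x ∈ m.asIdeal, x ≠ (0 : A) := fun m =>
      Submodule.exists_mem_ne_zero_of_ne_bot
        (Ring.ne_bot_of_isMaximal_of_not_isField m.isMaximal hnfA)
    choose x hxm hx0 using hex
    have ht0 : (∏ m, x m) ≠ 0 := Finset.prod_ne_zero_iff.mpr (fun m _ => hx0 m)
    have htrad : (∏ m, x m) ∈ (⊥ : Ideal A).jacobson := by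
      rw [Ideal.jacobson, Ideal.mem_sInf]
      rintro J ⟨-, hJ⟩
      exact Ideal.mem_of_dvd J
        (Finset.dvd_prod_of_mem x (Finset.mem_univ (⟨J, hJ⟩ : MaximalSpectrum A))) (hxm ⟨J, hJ⟩)
    generalize (∏ m, x m) = t at ht0 htrad
    have hkey : ∀ a : A, (a : K) * (t : K) ∈ B := by
      intro a
      have hunit : IsUnit (t * a + 1) := Ideal.mem_jacobson_bot.mp htrad a
      have h1 : ((t * a + 1 : A) : K) ∈ B := hall _ hunit
      have h2 : (a : K) * (t : K) = ((t * a + 1 : A) : K) - 1 := by
        push_cast; ring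
      rw [h2]; exact B.sub_mem h1 B.one_mem
    have htB : (t : K) ∈ B := by
      have := hkey 1
      simpa using this
    have hAB : A ≤ B.toSubring := by
      intro a ha
      by_contra haB
      have hainv : a⁻¹ ∈ B := (B.mem_or_inv_mem a).resolve_left haB
      have ha0 : a ≠ 0 := by
        rintro rfl
        exact haB B.zero_mem
      have hc : (⟨a⁻¹, hainv⟩ : B) ∈ IsLocalRing.maximalIdeal B := by
        refine (IsLocalRing.mem_maximalIdeal _).mpr ?_
        intro hunit
        obtain ⟨v, hv⟩ := hunit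
        apply haB
        have h1 : ((v : B) : K) * (((v⁻¹ : Bˣ) : B) : K) = 1 :=
          congrArg (fun z : B => (z : K)) v.mul_inv
        rw [hv] at h1
        have h2 : a = (((v⁻¹ : Bˣ) : B) : K) := by
          rw [← inv_inv a]
          exact inv_eq_of_mul_eq_one_right h1
        rw [h2]
        exact (((v⁻¹ : Bˣ) : B)).2
      have hmem : ∀ n : ℕ, (⟨(t : K), htB⟩ : B) ∈ (IsLocalRing.maximalIdeal B) ^ n := by
        intro n
        have hant : a ^ n * (t : K) ∈ B := by
          have := hkey ((⟨a, ha⟩ : A) ^ n)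
          simpa using this
        have heq : (⟨(t : K), htB⟩ : B) = (⟨a⁻¹, hainv⟩ : B) ^ n * ⟨_, hant⟩ := by
          apply Subtype.ext
          show (t : K) = (a⁻¹) ^ n * (a ^ n * (t : K))
          rw [← mul_assoc, ← mul_pow, inv_mul_cancel₀ ha0, one_pow, one_mul]
        rw [heq]
        exact Ideal.mul_mem_right _ _ (Ideal.pow_mem_pow hc n)
      have hzero : (⟨(t : K), htB⟩ : B) ∈ (⊥ : Ideal B) := by
        rw [← Ideal.iInf_pow_eq_bot_of_isLocalRing (IsLocalRing.maximalIdeal B)
          (IsLocalRing.maximalIdeal.isMaximal B).ne_top, Ideal.mem_iInf]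
        exact hmem
      have h0 : (t : K) = 0 := congrArg Subtype.val (Ideal.mem_bot.mp hzero)
      exact ht0 (Subtype.ext h0)
    obtain ⟨π, hπB, hπ0, hπinv⟩ := hBne
    refine ⟨⟨hAB, ?_⟩, ?_⟩
    · haveI : (IsLocalRing.maximalIdeal B).IsPrime :=
        (IsLocalRing.maximalIdeal.isMaximal B).isPrime
      have hprime : (Ideal.comap (Subring.inclusion hAB) (IsLocalRing.maximalIdeal B)).IsPrime :=
        Ideal.comap_isPrime _ _
      refine hprime.isMaximal_of_ne_bot ?_
      intro hbot
      obtain ⟨x, y, hy, hxy⟩ := IsFractionRing.div_surjective A π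
      have hxy' : (x : K) / (y : K) = π := hxy
      have hx0 : x ≠ 0 := by
        rintro rfl
        apply hπ0
        rw [← hxy']
        simp
      have hx0K : (x : K) ≠ 0 := fun h => hx0 (Subtype.ext h)
      have hxunit : IsUnit (Subring.inclusion hAB x) := by
        by_contra hnu
        have hmem : x ∈ Ideal.comap (Subring.inclusion hAB) (IsLocalRing.maximalIdeal B) :=
          Ideal.mem_comap.mpr ((IsLocalRing.mem_maximalIdeal _).mpr hnu)
        rw [hbot, Ideal.mem_bot] at hmem
        exact hx0 hmem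
      obtain ⟨v, hv⟩ := hxunit
      apply hπinv
      have h1 : ((v : ↥B.toSubring) : K) * (((v⁻¹ : (↥B.toSubring)ˣ) : ↥B.toSubring) : K) = 1 := by
        rw [← Subring.coe_mul, Units.mul_inv]; rfl
      rw [hv] at h1
      have h1' : (x : K) * (((v⁻¹ : (↥B.toSubring)ˣ) : ↥B.toSubring) : K) = 1 := h1
      have h2 : π⁻¹ = (y : K) * (((v⁻¹ : (↥B.toSubring)ˣ) : ↥B.toSubring) : K) := by
        rw [← hxy', inv_div, ← inv_eq_of_mul_eq_one_right h1', div_eq_mul_inv]
      rw [h2]
      exact B.toSubring.mul_mem (hAB y.2) (((v⁻¹ : (↥B.toSubring)ˣ) : ↥B.toSubring)).2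
    · rw [sup_eq_right.mpr hAB]
      intro htop
      apply hπinv
      have : π⁻¹ ∈ B.toSubring := by rw [htop]; trivial
      exact this

end Groth.Agent.S7664
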