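import Groth.Statements.S7665
import Groth.Agent.H99.GlueDimOne

set_option autoImplicit false
set_option linter.style.haveILetI false
set_option linter.unusedVariables false
universe u
open CategoryTheory CategoryTheory.Limits AlgebraicGeometry
open Variety

namespace Groth.Agent.S7665

/-- Let K be a field and A_1, …, A_r ⊆ K (r ≥ 1) Noetherian semi-local rings of dimension one with
fraction field K, and assume A_i and A_j generate K as a ring whenever i ≠ j. Then A = A_1 ∩ … ∩ A_r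
is a Noetherian semi-local domain of dimension one with fraction field K contained in every A_i,
each Spec A_i → Spec A is an open immersion, Spec A is the union of their images, and every closed
point of Spec A belongs to the image of exactly one Spec A_i. (The published statement asserts only
that some such subring A exists; this row takes A to be the intersection A_1 ∩ … ∩ A_r.) -/
theorem result (K : Type u) [Field K] (r : ℕ) (hr : 1 ≤ r)
    (A : Fin r → Subring K) [∀ i, IsNoetherianRing (A i)] [∀ i, IsFractionRing (A i) K]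
    (hdim : ∀ i, ringKrullDim (A i) = 1) (hsl : ∀ i, Finite (MaximalSpectrum (A i)))
    (hgen : ∀ i j, i ≠ j → A i ⊔ A j = ⊤) :
    IsNoetherianRing ↥(⨅ i, A i) ∧ ringKrullDim ↥(⨅ i, A i) = 1 ∧ Finite (MaximalSpectrum ↥(⨅ i, A i)) ∧
      IsFractionRing ↥(⨅ i, A i) K ∧
      (∀ i, IsOpenImmersion (Spec.map (CommRingCat.ofHom (Subring.inclusion (iInf_le A i))))) ∧
      (⋃ i, Set.range (Spec.map (CommRingCat.ofHom (Subring.inclusion (iInf_le A i)))).base) = Set.univ ∧
      (∀ m : PrimeSpectrum ↥(⨅ i, A i), m.asIdeal.IsMaximal →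
        ∃! i, m ∈ Set.range (Spec.map (CommRingCat.ofHom (Subring.inclusion (iInf_le A i)))).base) := by
  classical
  obtain ⟨n, rfl⟩ : ∃ n, r = n + 1 := ⟨r - 1, by omega⟩
  obtain ⟨f, hsum, hf0, hfmem, hfinv, hfrad⟩ :=
    Groth.Agent.H99.Glue.exists_partition n A hdim hsl hgen
  have hfR : ∀ i, f i ∈ ⨅ i, A i := fun i => Subring.mem_iInf.mpr (fun j => hfmem i j)
  have loc : ∀ i, @IsLocalization.Away ↥(⨅ i, A i) _ ⟨f i, hfR i⟩ (A i) _
      (Subring.inclusion (iInf_le A i)).toAlgebra := fun i =>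
    Groth.Agent.H99.Glue.isLocalizationAway_of (⨅ i, A i) (A i) (iInf_le A i) (f i) (hfR i)
      (hf0 i) (hfinv i) (fun a ha => by
        have hN : ∀ j, ∃ nj : ℕ, ∀ m, nj ≤ m → a * f i ^ m ∈ A j := by
          intro j
          by_cases hij : i = j
          · subst hij
            exact ⟨0, fun m _ => (A i).mul_mem ha ((A i).pow_mem (hfmem i i) m)⟩
          · obtain ⟨nj, hnj⟩ :=
              Groth.Agent.H99.Glue.exists_mul_pow_mem (A j) (hdim j) (hfrad i j hij) a
            refine ⟨nj, fun m hm => ?_⟩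
            obtain ⟨d, rfl⟩ := Nat.exists_eq_add_of_le hm
            rw [pow_add, ← mul_assoc]
            exact (A j).mul_mem hnj ((A j).pow_mem (hfmem i j) d)
        choose N hN using hN
        exact ⟨Finset.univ.sup N, Subring.mem_iInf.mpr
          (fun j => hN j _ (Finset.le_sup (Finset.mem_univ j)))⟩)
  letI alg : ∀ i, Algebra ↥(⨅ i, A i) (A i) :=
    fun i => (Subring.inclusion (iInf_le A i)).toAlgebra
  haveI locI : ∀ i, IsLocalization.Away (⟨f i, hfR i⟩ : ↥(⨅ i, A i)) (A i) := loc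
  have hsum' : ∑ i, (⟨f i, hfR i⟩ : ↥(⨅ i, A i)) = 1 := by
    apply Subtype.ext
    rw [AddSubmonoidClass.coe_finsetSum]
    exact hsum
  haveI hK1 : ∀ i, Ring.KrullDimLE 1 (A i) :=
    fun i => Ring.krullDimLE_iff.mpr (by rw [hdim i, Nat.cast_one])
  have hnf : ∀ i, ¬ IsField (A i) := by
    intro i hF
    have := ringKrullDim_eq_zero_of_isField hF
    rw [hdim i] at this
    simp at this
  haveI hfinI : ∀ i, Finite (MaximalSpectrum (A i)) := hsl
  have hradI : ∀ i j, i ≠ j → algebraMap ↥(⨅ i, A i) (A i) ⟨f j, hfR j⟩ ∈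
      (⊥ : Ideal (A i)).jacobson := by
    intro i j hij
    obtain ⟨h, hh⟩ := hfrad j i (Ne.symm hij)
    exact hh
  haveI hdimR : Ring.KrullDimLE 1 ↥(⨅ i, A i) :=
    Groth.Agent.H99.Glue.krullDimLE_one_of_cover (fun i => (⟨f i, hfR i⟩ : ↥(⨅ i, A i)))
      (fun i => ↥(A i)) hsum'
  have hnfR : ¬ IsField ↥(⨅ i, A i) :=
    Groth.Agent.H99.Glue.not_isField_of_cover (fun i => (⟨f i, hfR i⟩ : ↥(⨅ i, A i)))
      (fun i => ↥(A i)) 0 (hnf 0)
  refine ⟨?_, ?_, ?_, ?_, ?_, ?_, ?_⟩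
  · exact Groth.Agent.H99.Glue.isNoetherianRing_of_cover
      (fun i => (⟨f i, hfR i⟩ : ↥(⨅ i, A i))) (fun i => ↥(A i)) hsum'
  · exact Groth.Agent.H99.Glue.ringKrullDim_eq_one_of _ hnfR
  · exact Groth.Agent.H99.Glue.finite_maximalSpectrum_of_cover
      (fun i => (⟨f i, hfR i⟩ : ↥(⨅ i, A i))) (fun i => ↥(A i)) hsum' hnf
  · refine IsFractionRing.of_field (R := ↥(⨅ i, A i)) (K := K) (fun z => ?_)
    obtain ⟨a, b, hb, rfl⟩ := IsFractionRing.div_surjective (A 0) z
    have hb0 : (b : K) ≠ 0 := by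
      intro h
      exact nonZeroDivisors.ne_zero hb (Subtype.ext h)
    obtain ⟨na, a', ha'⟩ := IsLocalization.Away.surj (⟨f 0, hfR 0⟩ : ↥(⨅ i, A i)) a
    obtain ⟨nb, b', hb'⟩ := IsLocalization.Away.surj (⟨f 0, hfR 0⟩ : ↥(⨅ i, A i)) b
    have ha'' : (a : K) * f 0 ^ na = (a' : K) := congrArg (fun x : A 0 => (x : K)) ha'
    have hb'' : (b : K) * f 0 ^ nb = (b' : K) := congrArg (fun x : A 0 => (x : K)) hb'
    refine ⟨a' * ⟨f 0, hfR 0⟩ ^ nb, b' * ⟨f 0, hfR 0⟩ ^ na, ?_⟩
    show (a : K) / (b : K) = ((a' : K) * f 0 ^ nb) / ((b' : K) * f 0 ^ na)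
    rw [← ha'', ← hb'']
    have hf00 := hf0 0
    field_simp
  · intro i
    exact Groth.Agent.H99.Glue.isOpenImmersion_of_away _ _ (loc i)
  · ext p
    simp only [Set.mem_iUnion, Set.mem_univ, iff_true]
    obtain ⟨i, hi⟩ := Groth.Agent.H99.Glue.exists_notMem
      (fun i => (⟨f i, hfR i⟩ : ↥(⨅ i, A i))) hsum' (PrimeSpectrum.asIdeal p)
      (PrimeSpectrum.isPrime p).ne_top
    exact ⟨i, (Groth.Agent.H99.Glue.mem_range_iff_of_away _ _ (loc i) p).mpr hi⟩
  · intro m hm
    obtain ⟨i, hi, huniq⟩ := Groth.Agent.H99.Glue.unique_index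
      (fun i => (⟨f i, hfR i⟩ : ↥(⨅ i, A i))) (fun i => ↥(A i)) hsum' hradI m.asIdeal hm
    exact ⟨i, (Groth.Agent.H99.Glue.mem_range_iff_of_away _ _ (loc i) m).mpr hi,
      fun j hj => huniq j ((Groth.Agent.H99.Glue.mem_range_iff_of_away _ _ (loc j) m).mp hj)⟩

end Groth.Agent.S7665
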