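import Groth.Statements.S7666
import Mathlib.RingTheory.Ideal.Height
import Mathlib.RingTheory.Finiteness.Ideal
import Mathlib.Algebra.Ring.GeomSum
import Mathlib.RingTheory.Ideal.MinimalPrime.Basic

set_option autoImplicit false
universe u
open CategoryTheory CategoryTheory.Limits AlgebraicGeometry
open Variety

namespace Groth.Agent.S7666

/-- In a local ring of Krull dimension one, a prime which is not minimal is the maximal ideal. -/
theorem eq_maximalIdeal_of_not_minimal (A : Type u) [CommRing A] [IsLocalRing A]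
    (hdim : ringKrullDim A = 1) (q : Ideal A) [q.IsPrime] (hq : q ∉ minimalPrimes A) :
    q = IsLocalRing.maximalIdeal A := by
  haveI : FiniteRingKrullDim A := by
    rw [finiteRingKrullDim_iff_ne_bot_and_top, hdim]
    exact ⟨by decide, by decide⟩
  have h0 : q.height ≠ 0 := fun h => hq (Ideal.height_eq_zero_iff.1 h)
  have h1 : (q.height : WithBot ℕ∞) ≤ 1 := hdim ▸ Ideal.height_le_ringKrullDim_of_isPrime
  have h2 : q.height = 1 := by
    have h1' : q.height ≤ 1 := by exact_mod_cast h1
    exact le_antisymm h1' (Order.one_le_iff_pos.2 (pos_iff_ne_zero.2 h0))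
  have hmax : q.IsMaximal := Ideal.isMaximal_of_height_eq_ringKrullDim (by rw [h2, hdim]; rfl)
  exact IsLocalRing.eq_maximalIdeal hmax

/-- Let A be a one-dimensional Noetherian local ring and L = ∏ A_p, the product over the minimal primes
of A. If a_1, a_2 ∈ m_A have the same image in L, then a_1 and a_2 have equal n-th powers for some
positive integer n. -/
theorem result (A : Type u) [CommRing A]
    [IsLocalRing A] [IsNoetherianRing A] (hdim : ringKrullDim A = 1)
    (a₁ a₂ : A) (h₁ : a₁ ∈ IsLocalRing.maximalIdeal A) (h₂ : a₂ ∈ IsLocalRing.maximalIdeal A)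
    (heq : ∀ p : {p : PrimeSpectrum A // p.asIdeal ∈ minimalPrimes A},
      algebraMap A (Localization.AtPrime p.1.asIdeal) a₁ = algebraMap A (Localization.AtPrime p.1.asIdeal) a₂) :
    ∃ n : ℕ, 0 < n ∧ a₁ ^ n = a₂ ^ n := by
  set d := a₁ - a₂ with hd
  let J : Ideal A := Ideal.span {d} |>.annihilator
  -- J is not contained in any minimal prime
  have hJ : ∀ q : Ideal A, q.IsPrime → J ≤ q → q = IsLocalRing.maximalIdeal A := by
    intro q hq hJq
    haveI := hq
    apply eq_maximalIdeal_of_not_minimal A hdim q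
    intro hqmin
    have h := heq ⟨⟨q, hq⟩, hqmin⟩
    rw [IsLocalization.eq_iff_exists q.primeCompl] at h
    obtain ⟨⟨c, hc⟩, hc'⟩ := h
    apply hc
    apply hJq
    rw [Submodule.mem_annihilator_span_singleton]
    simp only [smul_eq_mul, hd, mul_sub]
    exact sub_eq_zero.2 hc'
  have hrad : IsLocalRing.maximalIdeal A ≤ J.radical := by
    rw [Ideal.radical_eq_sInf]
    refine le_sInf ?_
    rintro q ⟨hJq, hq⟩
    exact (hJ q hq hJq).ge
  obtain ⟨N, hN⟩ := Ideal.exists_pow_le_of_le_radical_of_fg hrad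
    (IsNoetherian.noetherian (IsLocalRing.maximalIdeal A))
  refine ⟨N + 1, Nat.succ_pos N, ?_⟩
  rw [← sub_eq_zero, ← geom_sum₂_mul a₁ a₂ (N + 1)]
  have hsum : (∑ i ∈ Finset.range (N + 1), a₁ ^ i * a₂ ^ (N + 1 - 1 - i)) ∈
      IsLocalRing.maximalIdeal A ^ N := by
    refine Ideal.sum_mem _ fun i hi => ?_
    have hi' : i ≤ N := Nat.lt_succ_iff.1 (Finset.mem_range.1 hi)
    have : IsLocalRing.maximalIdeal A ^ N =
        IsLocalRing.maximalIdeal A ^ i * IsLocalRing.maximalIdeal A ^ (N + 1 - 1 - i) := by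
      rw [← pow_add]; congr 1; omega
    rw [this]
    exact Ideal.mul_mem_mul (Ideal.pow_mem_pow h₁ _) (Ideal.pow_mem_pow h₂ _)
  have := hN hsum
  rw [Submodule.mem_annihilator_span_singleton] at this
  simpa [smul_eq_mul] using this

end Groth.Agent.S7666
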