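import Groth.Statements.S7667
import Mathlib
-- import your own Groth.Agent.* helpers here

set_option autoImplicit false
universe u
open CategoryTheory CategoryTheory.Limits AlgebraicGeometry
open Variety

namespace Groth.Agent.S7667

/-- index type: minimal primes -/
abbrev MinIdx (A : Type u) [CommRing A] := {p : PrimeSpectrum A // p.asIdeal ∈ minimalPrimes A}

/-- product of the localizations at minimal primes -/
abbrev LL (A : Type u) [CommRing A] := ∀ p : MinIdx A, Localization.AtPrime p.1.asIdeal

theorem dim_one_pow_le (A : Type u) [CommRing A] [IsLocalRing A] [IsNoetherianRing A]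
    (hdim : ringKrullDim A = 1) (J : Ideal A) (hJ : ∀ p ∈ minimalPrimes A, ¬ J ≤ p) :
    ∃ k : ℕ, IsLocalRing.maximalIdeal A ^ k ≤ J := by
  have hK : Ring.KrullDimLE 1 A := by
    rw [Ring.krullDimLE_iff, hdim]; rfl
  have hle : IsLocalRing.maximalIdeal A ≤ J.radical := by
    rw [Ideal.radical_eq_sInf]
    refine le_sInf ?_
    rintro P ⟨hJP, hP⟩
    rcases Ring.krullDimLE_one_iff.mp hK P hP with h | h
    · exact absurd hJP (hJ P h)
    · rw [IsLocalRing.eq_maximalIdeal h]
  obtain ⟨n, hn⟩ := Ideal.exists_radical_pow_le_of_fg J (IsNoetherian.noetherian _)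
  exact ⟨n, (Ideal.pow_right_mono hle n).trans hn⟩

theorem exists_sep (A : Type u) [CommRing A] (p q : MinIdx A) :
    ∃ w : A, w ∉ p.1.asIdeal ∧
      (q ≠ p → algebraMap A (Localization.AtPrime q.1.asIdeal) w = 0) := by
  by_cases hqp : q = p
  · exact ⟨1, fun h => p.1.isPrime.ne_top ((Ideal.eq_top_iff_one _).mpr h), fun h => absurd hqp h⟩
  · have hnle : ¬ q.1.asIdeal ≤ p.1.asIdeal := by
      intro hle
      apply hqp
      have h2 : p.1.asIdeal ≤ q.1.asIdeal := p.2.2 ⟨q.1.isPrime, bot_le⟩ hle
      exact Subtype.ext (PrimeSpectrum.ext (le_antisymm hle h2))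
    obtain ⟨u, huq, hup⟩ := SetLike.not_le_iff_exists.mp hnle
    have hnil : IsNilpotent (algebraMap A (Localization.AtPrime q.1.asIdeal) u) := by
      have h1 := IsLocalization.AtPrime.radical_map_of_mem_minimalPrimes
        (Localization.AtPrime q.1.asIdeal) q.1.asIdeal ⊥ q.2
      have h2 : algebraMap A (Localization.AtPrime q.1.asIdeal) u ∈
          (q.1.asIdeal).map (algebraMap A (Localization.AtPrime q.1.asIdeal)) :=
        Ideal.mem_map_of_mem _ huq
      rw [← h1, Ideal.map_bot] at h2
      obtain ⟨N, hN⟩ := Ideal.mem_radical_iff.mp h2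
      exact ⟨N, Ideal.mem_bot.mp hN⟩
    obtain ⟨N, hN⟩ := hnil
    exact ⟨u ^ N, fun h => hup (p.1.isPrime.mem_of_pow_mem N h), fun _ => by rw [map_pow, hN]⟩

theorem exists_e (A : Type u) [CommRing A] [IsNoetherianRing A] :
    ∃ e : MinIdx A → A, ∀ p : MinIdx A, e p ∉ p.1.asIdeal ∧
      ∀ q : MinIdx A, q ≠ p → algebraMap A (Localization.AtPrime q.1.asIdeal) (e p) = 0 := by
  haveI : Finite (MinIdx A) := by
    have hfin : (minimalPrimes A).Finite := minimalPrimes.finite_of_isNoetherianRing A
    haveI := hfin.to_subtype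
    exact Finite.of_injective (fun p : MinIdx A => (⟨p.1.asIdeal, p.2⟩ : minimalPrimes A))
      (fun p q h => Subtype.ext (PrimeSpectrum.ext (congrArg Subtype.val h)))
  cases nonempty_fintype (MinIdx A)
  choose w hw1 hw2 using exists_sep A
  refine ⟨fun p => ∏ q, w p q, fun p => ⟨?_, fun q hq => ?_⟩⟩
  · intro h
    haveI := p.1.isPrime
    obtain ⟨q, -, hq⟩ := Ideal.IsPrime.prod_mem_iff.mp h
    exact hw1 p q hq
  · rw [map_prod]
    exact Finset.prod_eq_zero (Finset.mem_univ q) (hw2 p q hq)

theorem exists_not_mem_smul_mem_range (A : Type u) [CommRing A] [IsNoetherianRing A]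
    (ℓ : LL A) (p : MinIdx A) :
    ∃ t : A, t ∉ p.1.asIdeal ∧
      algebraMap A (LL A) t * ℓ ∈ (algebraMap A (LL A)).range := by
  obtain ⟨e, he⟩ := exists_e A
  obtain ⟨⟨x, s⟩, hxs⟩ := IsLocalization.surj p.1.asIdeal.primeCompl (ℓ p)
  refine ⟨s * e p, ?_, ⟨e p * x, ?_⟩⟩
  · intro h
    rcases p.1.isPrime.mem_or_mem h with h | h
    · exact s.2 h
    · exact (he p).1 h
  · funext q
    simp only [Pi.mul_apply, Pi.algebraMap_apply, map_mul]
    by_cases hq : q = p
    · subst hq
      simp only at hxs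
      rw [← hxs]; ring
    · rw [(he p).2 q hq]; ring

theorem exists_pow_smul_mem_range (A : Type u) [CommRing A] [IsLocalRing A] [IsNoetherianRing A]
    (hdim : ringKrullDim A = 1) (a : A) (ha : a ∈ IsLocalRing.maximalIdeal A) (ℓ : LL A) :
    ∃ k : ℕ, ∀ k' : ℕ, k ≤ k' →
      algebraMap A (LL A) (a ^ k') * ℓ ∈ (algebraMap A (LL A)).range := by
  let J : Ideal A :=
    { carrier := {x | algebraMap A (LL A) x * ℓ ∈ (algebraMap A (LL A)).range}
      add_mem' := fun {x y} hx hy => by
        simp only [Set.mem_setOf_eq, map_add, add_mul] at *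
        exact Subring.add_mem _ hx hy
      zero_mem' := by
        simp only [Set.mem_setOf_eq, map_zero, zero_mul]
        exact Subring.zero_mem _
      smul_mem' := fun c x hx => by
        simp only [Set.mem_setOf_eq, smul_eq_mul, map_mul, mul_assoc] at *
        exact Subring.mul_mem _ (RingHom.mem_range_self _ c) hx }
  have hJ : ∀ p ∈ minimalPrimes A, ¬ J ≤ p := by
    intro p hp hle
    obtain ⟨t, ht, htr⟩ := exists_not_mem_smul_mem_range A ℓ ⟨⟨p, hp.1.1⟩, hp⟩
    exact ht (hle htr)
  obtain ⟨k, hk⟩ := dim_one_pow_le A hdim J hJ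
  refine ⟨k, fun k' hk' => ?_⟩
  have : a ^ k' ∈ J := hk (Ideal.pow_le_pow_right hk' (Ideal.pow_mem_pow ha k'))
  exact this

/-- Let A be a one-dimensional Noetherian local ring, L the product of the localizations A_p over its
minimal primes p, and I the intersection of those primes (the nilradical of A). If f ∈ L equals i +
a with a in the maximal ideal of A and i ∈ I·L, then for some positive integer n, f^n belongs to the
subring of L obtained as the image of the structure map from A. -/
theorem result (A : Type u) [CommRing A]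
    [IsLocalRing A] [IsNoetherianRing A] (hdim : ringKrullDim A = 1)
    (a : A) (ha : a ∈ IsLocalRing.maximalIdeal A)
    (i : ∀ p : {p : PrimeSpectrum A // p.asIdeal ∈ minimalPrimes A}, Localization.AtPrime p.1.asIdeal)
    (hi : i ∈ (nilradical A).map (algebraMap A (∀ p : {p : PrimeSpectrum A // p.asIdeal ∈ minimalPrimes A}, Localization.AtPrime p.1.asIdeal))) :
    ∃ n : ℕ, 0 < n ∧ (i + algebraMap A (∀ p : {p : PrimeSpectrum A // p.asIdeal ∈ minimalPrimes A}, Localization.AtPrime p.1.asIdeal) a) ^ n ∈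
      (algebraMap A (∀ p : {p : PrimeSpectrum A // p.asIdeal ∈ minimalPrimes A}, Localization.AtPrime p.1.asIdeal)).range := by
  have hnil : IsNilpotent i := by
    have hle : (nilradical A).map (algebraMap A (LL A)) ≤ nilradical (LL A) := by
      rw [Ideal.map_le_iff_le_comap]
      intro x hx
      exact mem_nilradical.mpr ((mem_nilradical.mp hx).map _)
    exact mem_nilradical.mp (hle hi)
  obtain ⟨N, hN⟩ := hnil
  choose k hk using fun m : ℕ => exists_pow_smul_mem_range A hdim a ha (i ^ m)
  refine ⟨N + (∑ m ∈ Finset.range N, k m) + 1, Nat.succ_pos _, ?_⟩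
  rw [add_pow]
  refine Subring.sum_mem _ fun m _ => ?_
  by_cases hm : m < N
  · have hKm : k m ≤ ∑ m ∈ Finset.range N, k m :=
      Finset.single_le_sum (f := k) (fun _ _ => Nat.zero_le _) (Finset.mem_range.mpr hm)
    have h1 := hk m _ hKm
    have hsplit : N + (∑ m ∈ Finset.range N, k m) + 1 - m =
        (∑ m ∈ Finset.range N, k m) + (N + 1 - m) := by omega
    have key : i ^ m * (algebraMap A (LL A)) a ^ (N + (∑ m ∈ Finset.range N, k m) + 1 - m) *
          ((N + (∑ m ∈ Finset.range N, k m) + 1).choose m : LL A)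
        = (algebraMap A (LL A) (a ^ (∑ m ∈ Finset.range N, k m)) * i ^ m) *
          (algebraMap A (LL A) (a ^ (N + 1 - m))) *
          ((N + (∑ m ∈ Finset.range N, k m) + 1).choose m : LL A) := by
      rw [hsplit, pow_add, map_pow, map_pow]; ring
    rw [key]
    exact Subring.mul_mem _ (Subring.mul_mem _ h1 (RingHom.mem_range_self _ _)) (natCast_mem _ _)
  · have h0 : i ^ m = 0 := by
      rw [← Nat.add_sub_cancel' (not_lt.mp hm), pow_add, hN, zero_mul]
    rw [h0, zero_mul, zero_mul]
    exact Subring.zero_mem _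

end Groth.Agent.S7667
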