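import Groth.Statements.S7668
import Mathlib
-- import your own Groth.Agent.* helpers here

set_option autoImplicit false
universe u
open CategoryTheory CategoryTheory.Limits AlgebraicGeometry
open Variety

namespace Groth.Agent.S7668

theorem disjoint_iff {A : Type u} [CommRing A] {r : ℕ} (p : Fin r → PrimeSpectrum A)
    (P : Ideal A) (hP : P.IsPrime) :
    Disjoint ((⨅ i, (p i).asIdeal.primeCompl : Submonoid A) : Set A) (P : Set A) ↔
      ∃ i, P ≤ (p i).asIdeal := by
  constructor
  · intro hd
    have hsub : (P : Set A) ⊆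
        ⋃ i ∈ ((Finset.univ : Finset (Fin r)) : Set (Fin r)), ((p i).asIdeal : Set A) := by
      intro x hx
      by_contra hcon
      have hxS : x ∈ (⨅ i, (p i).asIdeal.primeCompl : Submonoid A) := by
        rw [Submonoid.mem_iInf]
        intro i h
        apply hcon
        exact Set.mem_iUnion₂.mpr ⟨i, by simp, h⟩
      exact Set.disjoint_left.mp hd hxS hx
    rcases Nat.eq_zero_or_pos r with hr | hr
    · subst hr
      have h0 := hsub P.zero_mem
      obtain ⟨i, _⟩ := Set.mem_iUnion.mp h0
      exact i.elim0
    · have := (Ideal.subset_union_prime (s := Finset.univ) (f := fun i => (p i).asIdeal)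
        ⟨0, hr⟩ ⟨0, hr⟩ (fun i _ _ _ => (p i).isPrime) (I := P)).mp hsub
      obtain ⟨i, -, hi⟩ := this
      exact ⟨i, hi⟩
  · rintro ⟨i, hi⟩
    rw [Set.disjoint_left]
    intro x hxS hxP
    have := (Submonoid.mem_iInf.mp hxS) i
    exact this (hi hxP)

/-- Let A be a ring, p_1, …, p_r primes of A and S = A ∖ ⋃ p_i. Then S is a multiplicative subset, S⁻¹A
is semi-local, and contraction to A is a bijection from the maximal ideals of S⁻¹A onto the maximal
elements of {p_1, …, p_r}. -/
theorem result (A : Type u) [CommRing A]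
    (r : ℕ) (p : Fin r → PrimeSpectrum A) :
    Finite (MaximalSpectrum (Localization (⨅ i, (p i).asIdeal.primeCompl))) ∧
      Set.BijOn (fun m : Ideal (Localization (⨅ i, (p i).asIdeal.primeCompl)) =>
          m.comap (algebraMap A (Localization (⨅ i, (p i).asIdeal.primeCompl))))
        {m | m.IsMaximal}
        {q | q ∈ Set.range (fun i => (p i).asIdeal) ∧
          ∀ j, q ≤ (p j).asIdeal → q = (p j).asIdeal} := by
  set S : Submonoid A := ⨅ i, (p i).asIdeal.primeCompl with hS
  have hcm : ∀ M : Ideal (Localization S), Ideal.map (algebraMap A (Localization S))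
      (Ideal.comap (algebraMap A (Localization S)) M) = M :=
    fun M => IsLocalization.map_under S _ M
  have hdisj_p : ∀ i, Disjoint (S : Set A) ((p i).asIdeal : Set A) :=
    fun i => (disjoint_iff p (p i).asIdeal (p i).isPrime).mpr ⟨i, le_rfl⟩
  have hmc : ∀ i, Ideal.comap (algebraMap A (Localization S))
      (Ideal.map (algebraMap A (Localization S)) (p i).asIdeal) = (p i).asIdeal :=
    fun i => IsLocalization.under_map_of_isPrime_disjoint S _ (p i).isPrime (hdisj_p i)
  have hprime : ∀ i, (Ideal.map (algebraMap A (Localization S)) (p i).asIdeal).IsPrime :=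
    fun i => IsLocalization.isPrime_of_isPrime_disjoint S _ _ (p i).isPrime (hdisj_p i)
  have key : ∀ M : Ideal (Localization S), M.IsMaximal → ∀ j,
      Ideal.comap (algebraMap A (Localization S)) M ≤ (p j).asIdeal →
      Ideal.comap (algebraMap A (Localization S)) M = (p j).asIdeal := by
    intro M hM j hj
    have h1 : M ≤ Ideal.map (algebraMap A (Localization S)) (p j).asIdeal := by
      rw [← hcm M]; exact Ideal.map_mono hj
    have h2 : M = Ideal.map (algebraMap A (Localization S)) (p j).asIdeal :=
      hM.eq_of_le (hprime j).ne_top h1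
    rw [h2, hmc]
  have hex : ∀ M : Ideal (Localization S), M.IsMaximal →
      ∃ i, Ideal.comap (algebraMap A (Localization S)) M = (p i).asIdeal := by
    intro M hM
    have hMp := hM.isPrime
    have hd := ((IsLocalization.isPrime_iff_isPrime_disjoint S _ M).mp hMp)
    obtain ⟨i, hi⟩ := (disjoint_iff p _ hd.1).mp hd.2
    exact ⟨i, key M hM i hi⟩
  refine ⟨?_, ?_, ?_, ?_⟩
  · choose idx hidx using hex
    refine Finite.of_injective
      (fun M : MaximalSpectrum (Localization S) => idx M.asIdeal M.isMaximal) ?_
    intro M1 M2 h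
    have h' : idx M1.asIdeal M1.isMaximal = idx M2.asIdeal M2.isMaximal := h
    have h2 : Ideal.comap (algebraMap A (Localization S)) M1.asIdeal =
        Ideal.comap (algebraMap A (Localization S)) M2.asIdeal := by
      rw [hidx M1.asIdeal M1.isMaximal, hidx M2.asIdeal M2.isMaximal, h']
    have h3 : M1.asIdeal = M2.asIdeal := by
      rw [← hcm M1.asIdeal, ← hcm M2.asIdeal, h2]
    exact MaximalSpectrum.ext h3
  · intro M hM
    obtain ⟨i, hi⟩ := hex M hM
    exact ⟨⟨i, hi.symm⟩, fun j hj => key M hM j hj⟩
  · intro M1 _ M2 _ h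
    have h' : Ideal.comap (algebraMap A (Localization S)) M1 =
        Ideal.comap (algebraMap A (Localization S)) M2 := h
    rw [← hcm M1, ← hcm M2, h']
  · rintro q ⟨⟨i, rfl⟩, hmax⟩
    obtain ⟨M', hM', hle⟩ := Ideal.exists_le_maximal _ (hprime i).ne_top
    refine ⟨M', hM', ?_⟩
    obtain ⟨j, hj⟩ := hex M' hM'
    have h1 : (p i).asIdeal ≤ Ideal.comap (algebraMap A (Localization S)) M' := by
      rw [← hmc i]; exact Ideal.comap_mono hle
    have h2 : (p i).asIdeal = (p j).asIdeal := hmax j (h1.trans hj.le)
    show Ideal.comap (algebraMap A (Localization S)) M' = (p i).asIdeal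
    rw [hj, ← h2]

end Groth.Agent.S7668
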