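import Groth.Statements.S7674
import Groth.Agent.H38.AffInter
import Groth.Agent.H38.DimBCComp
import Groth.Agent.H54.SchemeDim
import Groth.Agent.H54.DimClosure

set_option autoImplicit false
universe u
open CategoryTheory CategoryTheory.Limits AlgebraicGeometry
open Variety

namespace Groth.Agent.S7674

/-- Let k be a field, n ≥ 0, and X, Y ⊆ A^n_k closed subsets which are equidimensional of dimensions r
and s. Then each irreducible component Z of the intersection X ∩ Y satisfies dim Z ≥ r + s − n. -/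
theorem result (k : Type u) [Field k] (n r s : ℕ)
    (X Y : Set ↥(𝔸(ULift.{u} (Fin n); Spec (CommRingCat.of k)))) (hX : IsClosed X) (hY : IsClosed Y)
    (hXr : ∀ Z ∈ irreducibleComponents X, topologicalKrullDim Z = r)
    (hYs : ∀ Z ∈ irreducibleComponents Y, topologicalKrullDim Z = s)
    (Z : Set ↥(X ∩ Y)) (hZ : Z ∈ irreducibleComponents ↥(X ∩ Y)) :
    ((r + s : ℕ) : WithBot ℕ∞) ≤ topologicalKrullDim Z + (n : WithBot ℕ∞) := by
  classical
  let T : Scheme.{u} := 𝔸(ULift.{u} (Fin n); Spec (CommRingCat.of k))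
  let st : T ⟶ Spec (CommRingCat.of k) := T ↘ Spec (CommRingCat.of k)
  haveI : LocallyOfFiniteType st := by
    haveI : LocallyOfFinitePresentation st := inferInstance
    infer_instance
  let j : Spec (CommRingCat.of (MvPolynomial (ULift.{u} (Fin n)) k)) ⟶ T :=
    (AffineSpace.SpecIso (ULift.{u} (Fin n)) (CommRingCat.of k)).inv
  let ψ : CommRingCat.of k ⟶ CommRingCat.of (MvPolynomial (ULift.{u} (Fin n)) k) :=
    CommRingCat.ofHom MvPolynomial.C
  have hψ : Spec.map ψ = j ≫ st :=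
    (AffineSpace.SpecIso_inv_over (n := ULift.{u} (Fin n)) (CommRingCat.of k)).symm
  have hft : ψ.hom.FiniteType := by
    have : LocallyOfFiniteType (Spec.map ψ) := by
      rw [hψ]; infer_instance
    exact (HasRingHomProperty.Spec_iff (P := @LocallyOfFiniteType)).mp this
  have hjsurj : Function.Surjective j.base := j.homeomorph.surjective
  have hjinj : Function.Injective j.base := j.homeomorph.injective
  -- the generic point of `Z`
  have hC : IsClosed (X ∩ Y) := hX.inter hY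
  obtain ⟨ζ, hζC, hζcl, hζmax⟩ :=
    Groth.Agent.H38.DimBCComp.exists_generic_of_mem_irreducibleComponents_subtype hC Z hZ
  -- components of `X`, `Y` through `ζ`
  have key : ∀ (W : Set ↥T) (hW : IsClosed W) (d : ℕ)
      (hWd : ∀ Z ∈ irreducibleComponents W, topologicalKrullDim Z = d) (hζW : ζ ∈ W),
      ∃ ξ : ↥T, ξ ∈ W ∧ ξ ⤳ ζ ∧ (Groth.Agent.H54.tdeg st ξ : WithBot ℕ∞) = d := by
    intro W hW d hWd hζW
    have h1 : irreducibleComponent (⟨ζ, hζW⟩ : ↥W) ∈ irreducibleComponents ↥W :=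
      irreducibleComponent_mem_irreducibleComponents _
    obtain ⟨ξ, hξW, hξcl, -⟩ :=
      Groth.Agent.H38.DimBCComp.exists_generic_of_mem_irreducibleComponents_subtype hW _ h1
    refine ⟨ξ, hξW, ?_, ?_⟩
    · rw [specializes_iff_mem_closure, hξcl]
      exact ⟨⟨ζ, hζW⟩, mem_irreducibleComponent, rfl⟩
    · rw [← Groth.Agent.H54.topologicalKrullDim_closure_singleton st ξ, hξcl,
        ← Groth.Agent.H38.DimBCComp.topologicalKrullDim_image_subtype]
      exact hWd _ h1
  obtain ⟨ξ, hξX, hξζ, hξd⟩ := key X hX r hXr hζC.1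
  obtain ⟨η, hηY, hηζ, hηd⟩ := key Y hY s hYs hζC.2
  -- primes
  obtain ⟨Pζ, hPζ⟩ := hjsurj ζ
  obtain ⟨Pξ, hPξ⟩ := hjsurj ξ
  obtain ⟨Pη, hPη⟩ := hjsurj η
  have h1 := Groth.Agent.H54.ringKrullDim_quotient_chart st j ψ hψ hft Pζ
  have h2 := Groth.Agent.H54.ringKrullDim_quotient_chart st j ψ hψ hft Pξ
  have h3 := Groth.Agent.H54.ringKrullDim_quotient_chart st j ψ hψ hft Pη
  rw [hPζ] at h1
  rw [hPξ, hξd] at h2
  rw [hPη, hηd] at h3
  have hdimZ : topologicalKrullDim ↥Z = (Groth.Agent.H54.tdeg st ζ : WithBot ℕ∞) := by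
    rw [Groth.Agent.H38.DimBCComp.topologicalKrullDim_image_subtype, ← hζcl,
      Groth.Agent.H54.topologicalKrullDim_closure_singleton st ζ]
  -- specialization in terms of primes
  have hsp : ∀ P P' : Spec (CommRingCat.of (MvPolynomial (ULift.{u} (Fin n)) k)),
      j.base P ⤳ j.base P' ↔
        (P : PrimeSpectrum (MvPolynomial (ULift.{u} (Fin n)) k)).asIdeal ≤
          (P' : PrimeSpectrum (MvPolynomial (ULift.{u} (Fin n)) k)).asIdeal := by
    intro P P'
    have h0 : j.base P ⤳ j.base P' ↔ P ⤳ P' := j.homeomorph.isInducing.specializes_iff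
    rw [h0]
    exact (PrimeSpectrum.le_iff_specializes
      (P : PrimeSpectrum (MvPolynomial (ULift.{u} (Fin n)) k)) P').symm
  haveI := (Pξ : PrimeSpectrum (MvPolynomial (ULift.{u} (Fin n)) k)).isPrime
  haveI := (Pη : PrimeSpectrum (MvPolynomial (ULift.{u} (Fin n)) k)).isPrime
  have hmin : (Pζ : PrimeSpectrum (MvPolynomial (ULift.{u} (Fin n)) k)).asIdeal ∈
      ((Pξ : PrimeSpectrum (MvPolynomial (ULift.{u} (Fin n)) k)).asIdeal ⊔
        (Pη : PrimeSpectrum (MvPolynomial (ULift.{u} (Fin n)) k)).asIdeal).minimalPrimes := by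
    refine ⟨⟨(Pζ : PrimeSpectrum (MvPolynomial (ULift.{u} (Fin n)) k)).isPrime, sup_le ?_ ?_⟩, ?_⟩
    · rw [← hsp, hPξ, hPζ]; exact hξζ
    · rw [← hsp, hPη, hPζ]; exact hηζ
    · rintro Q' ⟨hQ'p, hQ'le⟩ hQ'ζ
      let q' : Spec (CommRingCat.of (MvPolynomial (ULift.{u} (Fin n)) k)) :=
        (⟨Q', hQ'p⟩ : PrimeSpectrum (MvPolynomial (ULift.{u} (Fin n)) k))
      have e1 : ξ ⤳ j.base q' := by rw [← hPξ, hsp]; exact le_sup_left.trans hQ'le
      have e2 : η ⤳ j.base q' := by rw [← hPη, hsp]; exact le_sup_right.trans hQ'le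
      have e3 : j.base q' ⤳ ζ := by rw [← hPζ, hsp]; exact hQ'ζ
      have e4 : j.base q' ∈ X ∩ Y :=
        ⟨hX.closure_subset (closure_mono (Set.singleton_subset_iff.mpr hξX)
          (specializes_iff_mem_closure.mp e1)),
         hY.closure_subset (closure_mono (Set.singleton_subset_iff.mpr hηY)
          (specializes_iff_mem_closure.mp e2))⟩
      have e5 := hζmax _ e4 e3
      rw [← hPζ] at e5
      have e6 : q' = Pζ := hjinj e5
      rw [← e6]
  have h4 := Groth.Agent.H38.AffInter.le_dim_quotient_add k (ULift.{u} (Fin n)) _ _ _ hmin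
  rw [h1, h2, h3] at h4
  rw [hdimZ]
  have hcard : Nat.card (ULift.{u} (Fin n)) = n := by simp
  rw [hcard] at h4
  exact_mod_cast h4

end Groth.Agent.S7674
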