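import Groth.Statements.S7675
import Mathlib
import Groth.Agent.H21.ProjDiag

set_option autoImplicit false
universe u
open CategoryTheory CategoryTheory.Limits AlgebraicGeometry
open Variety

namespace Groth.Agent.S7675

open Groth.Agent.S10915 (irr mem_irr_iff irr_isMaximal le_irr_of_isHomogeneous)
open Groth.Agent.H21.ProjTop Groth.Agent.H21.ProjDim Groth.Agent.H21.ProjInter
  Groth.Agent.H21.ProjHyper Groth.Agent.H21.ProjChain Groth.Agent.H21.ProjDiag

section Aux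

variable {k : Type u} [Field k] {n : ℕ}

theorem Ici_subset_of_mem {X : Set (ProjectiveSpectrum (CohB1.polyGrading n k))} (hX : IsClosed X)
    {x₀ : ProjectiveSpectrum (CohB1.polyGrading n k)} (hx₀ : x₀ ∈ X) :
    {y : ProjectiveSpectrum (CohB1.polyGrading n k) | x₀ ≤ y} ⊆ X := by
  rw [← Groth.Agent.H21.ProjTop.closure_singleton]
  exact closure_minimal (Set.singleton_subset_iff.mpr hx₀) hX

/-- A closed subset of dimension at least `r` contains a point whose quotient has dimension at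
least `r + 1`. -/
theorem exists_point_of_dim {X : Set (ProjectiveSpectrum (CohB1.polyGrading n k))}
    (hX : IsClosed X) {r : ℕ} (h : (r : WithBot ℕ∞) ≤ topologicalKrullDim ↥X) :
    ∃ x₀ ∈ X, ∃ e : ℕ, r ≤ e ∧
      ringKrullDim (MvPolynomial (Fin (n + 1)) k ⧸ x₀.asHomogeneousIdeal.toIdeal) =
        ((e + 1 : ℕ) : WithBot ℕ∞) := by
  rw [topologicalKrullDim_subtype _ hX] at h
  obtain ⟨l, hl⟩ := Order.le_krullDim_iff.mp h
  refine ⟨l.head.1, l.head.2, ?_⟩
  obtain ⟨e, he, hkd, -⟩ := exists_dim_Ici l.head.1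
  refine ⟨e, ?_, he⟩
  let l' : LTSeries ↥{y : ProjectiveSpectrum (CohB1.polyGrading n k) | l.head.1 ≤ y} :=
    { length := l.length
      toFun := fun i => ⟨(l i).1, LTSeries.head_le l i⟩
      step := fun i => l.step i }
  have h1 := Order.LTSeries.length_le_krullDim l'
  rw [hkd] at h1
  have h2 : l'.length = r := hl
  rw [h2] at h1
  exact_mod_cast h1

theorem main (k : Type u) [Field k] (n r s : ℕ)
    (X Y : Set (ProjectiveSpectrum (CohB1.polyGrading n k))) (hX : IsClosed X) (hY : IsClosed Y)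
    (hXr : topologicalKrullDim ↥X = r) (hYs : topologicalKrullDim ↥Y = s) (hrs : n ≤ r + s) :
    (X ∩ Y).Nonempty ∧
      ((r + s : ℕ) : WithBot ℕ∞) ≤ topologicalKrullDim ↥(X ∩ Y) + (n : WithBot ℕ∞) := by
  obtain ⟨x₀, hx₀, ex, hex, hdx⟩ := exists_point_of_dim hX (le_of_eq hXr.symm)
  obtain ⟨y₀, hy₀, ey, hey, hdy⟩ := exists_point_of_dim hY (le_of_eq hYs.symm)
  haveI hxprime : x₀.asHomogeneousIdeal.toIdeal.IsPrime := x₀.isPrime
  haveI hyprime : y₀.asHomogeneousIdeal.toIdeal.IsPrime := y₀.isPrime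
  obtain ⟨P, hPprime, hxP, hyP, e, he, hle⟩ := exists_prime_ge_sup
    x₀.asHomogeneousIdeal.isHomogeneous y₀.asHomogeneousIdeal.isHomogeneous (ex + 1) (ey + 1)
    hdx hdy
  have hIhom : (x₀.asHomogeneousIdeal.toIdeal ⊔ y₀.asHomogeneousIdeal.toIdeal).IsHomogeneous
      (CohB1.polyGrading n k) :=
    x₀.asHomogeneousIdeal.isHomogeneous.sup y₀.asHomogeneousIdeal.isHomogeneous
  obtain ⟨P₀, hP₀, hP₀P⟩ := Ideal.exists_minimalPrimes_le (sup_le hxP hyP)
  haveI hP₀prime : P₀.IsPrime := hP₀.1.1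
  have hP₀hom : P₀.IsHomogeneous (CohB1.polyGrading n k) :=
    isHomogeneous_of_mem_minimalPrimes hIhom hP₀
  obtain ⟨e₀, he₀, -⟩ := exists_nat_dim k n P₀ hP₀prime.ne_top
  have hdimle : ringKrullDim (MvPolynomial (Fin (n + 1)) k ⧸ P) ≤
      ringKrullDim (MvPolynomial (Fin (n + 1)) k ⧸ P₀) :=
    ringKrullDim_le_of_surjective (Ideal.Quotient.factor hP₀P)
      (Ideal.Quotient.factor_surjective hP₀P)
  rw [he, he₀] at hdimle
  have hee₀ : e ≤ e₀ := by exact_mod_cast hdimle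
  have hP₀ne : P₀ ≠ irr k n := ne_irr_of_dim he₀ (by omega)
  have hxw : x₀ ≤ mkPoint P₀ hP₀prime hP₀hom hP₀ne :=
    (toIdeal_le_iff _ _).mp (le_sup_left.trans hP₀.1.2)
  have hyw : y₀ ≤ mkPoint P₀ hP₀prime hP₀hom hP₀ne :=
    (toIdeal_le_iff _ _).mp (le_sup_right.trans hP₀.1.2)
  have hsub : {y : ProjectiveSpectrum (CohB1.polyGrading n k) |
      mkPoint P₀ hP₀prime hP₀hom hP₀ne ≤ y} ⊆ X ∩ Y := by
    intro y hy
    exact ⟨Ici_subset_of_mem hX hx₀ (le_trans hxw hy), Ici_subset_of_mem hY hy₀ (le_trans hyw hy)⟩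
  refine ⟨⟨mkPoint P₀ hP₀prime hP₀hom hP₀ne, hsub (show mkPoint P₀ hP₀prime hP₀hom hP₀ne ≤
    mkPoint P₀ hP₀prime hP₀hom hP₀ne from le_refl _)⟩, ?_⟩
  obtain ⟨ew, hew, hkd, -⟩ := exists_dim_Ici (mkPoint P₀ hP₀prime hP₀hom hP₀ne)
  rw [mkPoint_toIdeal, he₀] at hew
  have hew' : e₀ = ew + 1 := by exact_mod_cast hew
  have hmono := krullDim_subtype_mono hsub
  rw [hkd, ← topologicalKrullDim_subtype _ (hX.inter hY)] at hmono
  have h1 : ((r + s : ℕ) : WithBot ℕ∞) ≤ ((ew + n : ℕ) : WithBot ℕ∞) := by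
    exact_mod_cast (by omega : r + s ≤ ew + n)
  refine le_trans h1 ?_
  push_cast
  exact add_le_add_left hmono _

end Aux


/-- Let k be a field, n ≥ 0 and X, Y ⊆ P^n_k nonempty closed subsets of dimensions r and s with r + s ≥
n. Then X ∩ Y is nonempty and dim(X ∩ Y) ≥ r + s − n. -/
theorem result (k : Type u) [Field k] (n r s : ℕ)
    (X Y : Set ↥(CohB1.ProjSpace n k)) (hX : IsClosed X) (hY : IsClosed Y)
    (hXne : X.Nonempty) (hYne : Y.Nonempty)
    (hXr : topologicalKrullDim X = r) (hYs : topologicalKrullDim Y = s) (hrs : n ≤ r + s) :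
    (X ∩ Y).Nonempty ∧ ((r + s : ℕ) : WithBot ℕ∞) ≤ topologicalKrullDim ↥(X ∩ Y) + (n : WithBot ℕ∞) := by
  exact main k n r s X Y hX hY hXr hYs hrs

end Groth.Agent.S7675
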