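import Groth.Statements.S7678
import Groth.Agent.H38.FrobReduced

set_option autoImplicit false
universe u
open CategoryTheory CategoryTheory.Limits AlgebraicGeometry
open Variety

namespace Groth.Agent.S7678

/-- For a field k of positive characteristic p and a k-scheme X, the base change of X along the p-th
power map of k is a reduced scheme exactly when X is geometrically reduced over k. -/
theorem result (k : Type u) [Field k] (X : Scheme.{u}) [X.Over (Spec (CommRingCat.of k))]
    (p : ℕ) [Fact p.Prime] [CharP k p] :
    GeometricallyReduced (X ↘ (Spec (CommRingCat.of k))) ↔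
      IsReduced ↑(pullback (X ↘ (Spec (CommRingCat.of k))) (Spec.map (CommRingCat.ofHom (frobenius k p)))) := by
  classical
  set f := (X ↘ (Spec (CommRingCat.of k))) with hf
  constructor
  · intro h
    exact (geometrically_iff_of_commRing_of_isClosedUnderIsomorphisms).mp h.1
      (Groth.Agent.H38.FrobReduced.FrobK k p)
  · intro h
    have h' : IsReduced (pullback f (Spec.map (CommRingCat.ofHom
        (algebraMap k (Groth.Agent.H38.FrobReduced.FrobK k p))))) := h
    have hch := (Groth.Agent.H38.BaseChangeAffine.isReduced_pullback_iff f
      (Groth.Agent.H38.FrobReduced.FrobK k p)).mp h'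
    refine ⟨geometrically_iff_of_commRing_of_isClosedUnderIsomorphisms.mpr fun K _ _ => ?_⟩
    refine (Groth.Agent.H38.BaseChangeAffine.isReduced_pullback_iff f K).mpr fun i => ?_
    letI := Groth.Agent.H38.BaseChangeAffine.chartAlgebra f i
    have h1 : _root_.IsReduced (TensorProduct k (Groth.Agent.H38.FrobReduced.FrobK k p)
        (X.affineOpenCover.X i)) :=
      haveI := hch i
      isReduced_of_injective
        (Algebra.TensorProduct.comm k (Groth.Agent.H38.FrobReduced.FrobK k p)
          (X.affineOpenCover.X i)).toRingEquiv.toRingHom
        (Algebra.TensorProduct.comm k (Groth.Agent.H38.FrobReduced.FrobK k p)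
          (X.affineOpenCover.X i)).injective
    have h2 : Algebra.IsGeometricallyReduced k (X.affineOpenCover.X i) :=
      Groth.Agent.H38.FrobReduced.isGeometricallyReduced_of_isReduced_tensor_of_roots p
        (fun c => ⟨(show Groth.Agent.H38.FrobReduced.FrobK k p from c),
          (Groth.Agent.H38.FrobReduced.algebraMap_frobK k p c).symm⟩) h1
    have h3 := (Groth.Agent.H25.GeomRed.tfae_geometricallyReduced (k := k)
      (S := X.affineOpenCover.X i)).out 1 2
    have h4 := h3.mp h2 K
    exact isReduced_of_injective
      (Algebra.TensorProduct.comm k (X.affineOpenCover.X i) K).toRingEquiv.toRingHom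
      (Algebra.TensorProduct.comm k (X.affineOpenCover.X i) K).injective

end Groth.Agent.S7678
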