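import Mathlib
import Groth.Statements.S8267
import Groth.Agent.H22.SymAlgGen
import Groth.Agent.S8255

set_option autoImplicit false
set_option linter.style.haveILetI false
universe u
open CategoryTheory CategoryTheory.Limits AlgebraicGeometry Opposite TopologicalSpace
open EGA2

namespace Groth.Agent.S8267

/-- Let E be a quasi-coherent O_S-module of finite type and A (through j : E → A) its symmetric algebra.
Then the vector bundle V(E) = Spec(A) is of finite type over S, i.e. its (affine) structure morphism
is locally of finite type. -/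
theorem result {S : Scheme.{u}} (E : S.Modules) (hE : Coh.IsCoh E)
    (A : RelSpec.QCAlg S) (j : E ⟶ A.toModule) (hA : RelSpec.IsSymAlg E A j) :
    LocallyOfFiniteType A.π := by
  have hQ : RingHom.StableUnderCompositionWithLocalizationAwaySource @RingHom.FiniteType := by
    intro R T' T _ _ _ _ r _ f hf
    exact hf.comp (RingHom.finiteType_holdsForLocalizationAway T' r)
  rw [HasRingHomProperty.iff_exists_appLE (P := @LocallyOfFiniteType) hQ]
  intro x
  obtain ⟨_, ⟨U, hU, rfl⟩, hxU, -⟩ := S.isBasis_affineOpens.exists_subset_of_mem_open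
    (Set.mem_univ (A.π x)) isOpen_univ
  refine ⟨⟨U, hU⟩, ⟨A.π ⁻¹ᵁ U, hU.preimage A.π⟩, hxU, le_rfl, ?_⟩
  rw [Scheme.Hom.appLE_eq_app]
  haveI := Groth.Agent.S8255.isIso_gammaAff A U hU
  have h3 : A.π.app U = A.str.app (op U) ≫ inv (A.gammaAff U hU) := by
    rw [← A.π_app_gammaAff U hU, Category.assoc, IsIso.hom_inv_id, Category.comp_id]
  rw [h3]
  have h4 : (A.str.app (op U)).hom.FiniteType :=
    Groth.Agent.H22.finiteType_of_isSymAlg E hE A j hA ⟨U, hU⟩
  have h5 : Function.Surjective (inv (A.gammaAff U hU)).hom :=
    (ConcreteCategory.bijective_of_isIso (inv (A.gammaAff U hU))).2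
  exact (RingHom.FiniteType.of_surjective _ h5).comp h4

end Groth.Agent.S8267
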