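import Mathlib
import Groth.Statements.S8268
import Groth.Agent.H22.SymAlgGen

set_option autoImplicit false
set_option linter.style.haveILetI false
universe u
open CategoryTheory CategoryTheory.Limits AlgebraicGeometry Opposite TopologicalSpace
open EGA2

namespace Groth.Agent.S8268

/-- A surjective homomorphism E → F of quasi-coherent O_S-modules induces a closed immersion V(F) → V(E)
of the associated vector bundles (relative spectra of the symmetric algebras; the algebra map A → B
is the one extending E → F). -/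
theorem result {S : Scheme.{u}} (E F : S.Modules) (hE : Coh.IsQCoh E)
    (hF : Coh.IsQCoh F) (u : E ⟶ F) [Epi u]
    (A B : RelSpec.QCAlg S) (j : E ⟶ A.toModule) (k : F ⟶ B.toModule)
    (hA : RelSpec.IsSymAlg E A j) (hB : RelSpec.IsSymAlg F B k)
    (ψ : A ⟶ B) (hψ : j ≫ RelSpec.QCAlg.Hom.toModuleMap ψ = u ≫ k) :
    IsClosedImmersion (RelSpec.QCAlg.specMap ψ) := by
  haveI : E.IsQuasicoherent := hE
  have key : ∀ (U : S.Opens) (hU : IsAffineOpen U),
      IsClosedImmersion (pullback.snd (RelSpec.QCAlg.specMap ψ) (A.ι U hU)) := by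
    intro U hU
    have hsurj : Function.Surjective (ψ.hom.app (op U)).hom :=
      Groth.Agent.H22.surjective_of_epi_of_isSymAlg E F u A B j k hB ψ hψ U hU
    haveI : IsClosedImmersion (Spec.map (ψ.hom.app (op U))) :=
      IsClosedImmersion.spec_of_surjective _ hsurj
    have hrange : RelSpec.QCAlg.specMap ψ ⁻¹ᵁ (A.ι U hU).opensRange =
        (B.ι U hU).opensRange := by
      rw [← A.π_preimage U hU, ← B.π_preimage U hU, ← Scheme.Hom.comp_preimage,
        RelSpec.QCAlg.specMap_π]
    have hpb : IsPullback (Spec.map (ψ.hom.app (op U))) (B.ι U hU) (A.ι U hU)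
        (RelSpec.QCAlg.specMap ψ) :=
      IsOpenImmersion.isPullback _ _ _ _ (RelSpec.QCAlg.ι_specMap U hU ψ) hrange
    have h1 : hpb.flip.isoPullback.hom ≫ pullback.snd (RelSpec.QCAlg.specMap ψ) (A.ι U hU) =
        Spec.map (ψ.hom.app (op U)) := hpb.flip.isoPullback_hom_snd
    have h2 : pullback.snd (RelSpec.QCAlg.specMap ψ) (A.ι U hU) =
        hpb.flip.isoPullback.inv ≫ Spec.map (ψ.hom.app (op U)) :=
      (Iso.eq_inv_comp _).mpr h1
    rw [h2]
    exact (MorphismProperty.cancel_left_of_respectsIso @IsClosedImmersion _ _).mpr this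
  apply IsZariskiLocalAtTarget.of_openCover (P := @IsClosedImmersion) A.glueData.cover
  intro i
  exact key i.1 i.2

end Groth.Agent.S8268
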