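import Mathlib
import Groth.Statements.S8269
import Groth.Agent.H22.SymConstr
import Groth.Agent.H22.SpecLib

set_option autoImplicit false
set_option linter.style.haveILetI false
universe u
open CategoryTheory CategoryTheory.Limits AlgebraicGeometry Opposite TopologicalSpace
open EGA2

namespace Groth.Agent.S8269

open Groth.Agent.H22 in
/-- Let Y be either a quasi-compact separated scheme or a scheme with Noetherian underlying space, and X
affine and of finite type over Y. Then X is Y-isomorphic to a closed subscheme of a vector bundle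
V(E) with E a quasi-coherent O_Y-module of finite type: there are such an E, its symmetric algebra
A, and a closed immersion X → Spec(A) over Y. -/
theorem result {X Y : Scheme.{u}}
    (hY : (CompactSpace Y ∧ Y.IsSeparated) ∨ NoetherianSpace Y) (f : X ⟶ Y) [IsAffineHom f]
    [LocallyOfFiniteType f] :
    ∃ (E : Y.Modules) (_ : Coh.IsCoh E) (A : RelSpec.QCAlg Y) (j : E ⟶ A.toModule)
      (_ : RelSpec.IsSymAlg E A j) (i : X ⟶ A.spec), IsClosedImmersion i ∧ i ≫ A.π = f := by
  obtain ⟨hcomp, hqs⟩ : CompactSpace Y ∧ QuasiSeparatedSpace Y := by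
    rcases hY with ⟨h1, h2⟩ | h
    · exact ⟨h1, inferInstance⟩
    · exact ⟨inferInstance, inferInstance⟩
  obtain ⟨B, hB⟩ : ∃ B : RelSpec.QCAlg Y, B = RelSpec.QCAlg.directImage f := ⟨_, rfl⟩
  have hft : ∀ U : Y.affineOpens, (B.str.app (op (U : Y.Opens))).hom.FiniteType := by
    intro U
    rw [hB]
    have h1 := HasRingHomProperty.appLE (P := @LocallyOfFiniteType) f inferInstance U
      ⟨f ⁻¹ᵁ U.1, U.2.preimage f⟩ le_rfl
    rw [Scheme.Hom.appLE_eq_app] at h1
    exact h1
  obtain ⟨E, k, -, hEq, hEft, hgen⟩ := exists_generating_submodule B hft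
  haveI : E.IsQuasicoherent := hEq
  obtain ⟨A, j, hA⟩ := SymConstr.exists_isSymAlg E
  obtain ⟨ψ, hψ, -⟩ := hA B k
  have hsurj : ∀ (U : Y.Opens), IsAffineOpen U → Function.Surjective (ψ.hom.app (op U)).hom := by
    intro U hU
    have hle : Subring.closure (Set.range (B.str.app (op U)).hom ∪
        Set.range (fun e : E.val.obj (op U) ↦
          (show B.presheaf.obj (op U) from (k.val.app (op U)).hom e))) ≤
        (ψ.hom.app (op U)).hom.range := by
      rw [Subring.closure_le]
      rintro x (⟨r, rfl⟩ | ⟨e, rfl⟩)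
      · refine ⟨(A.str.app (op U)).hom r, ?_⟩
        exact congrArg (fun χ : Y.presheaf ⟶ B.presheaf => (χ.app (op U)).hom r) ψ.comm
      · refine ⟨toB A U (j.app U e), ?_⟩
        rw [← toModuleMap_app]
        exact congrArg (toB B U) (congrArg (fun χ : E ⟶ B.toModule => χ.app U e) hψ)
    rw [hgen ⟨U, hU⟩] at hle
    intro b
    exact hle (Subring.mem_top b)
  have hci := SpecLib.isClosedImmersion_specMap_of_surjective ψ hsurj
  subst hB
  obtain ⟨c, hc⟩ := SpecLib.exists_iso_spec_directImage f
  refine ⟨E, ⟨hEq, hEft⟩, A, j, hA, c.hom ≫ RelSpec.QCAlg.specMap ψ, inferInstance, ?_⟩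
  rw [Category.assoc, RelSpec.QCAlg.specMap_π, hc]

end Groth.Agent.S8269
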