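import Mathlib
import Groth.Statements.S8271
import Groth.Agent.H22.SymConstr
import Groth.Agent.H22.SymSum
import Groth.Agent.H22.SpecLib
import Groth.Agent.H22.QCohLimits

set_option autoImplicit false
universe u
open CategoryTheory CategoryTheory.Limits AlgebraicGeometry Opposite TopologicalSpace
open EGA2

namespace Groth.Agent.S8271

open Groth.Agent.H22 Groth.Agent.H22.SymConstr

/-- The map on sections of a morphism of modules, as a linear map. -/
noncomputable def appₗ {S : Scheme.{u}} {M N : S.Modules} (φ : M ⟶ N) (U : S.Opens) :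
    Γ(M, U) →ₗ[Γ(S, U)] Γ(N, U) where
  toFun x := φ.app U x
  map_add' x y := map_add _ x y
  map_smul' r x := Scheme.Modules.Hom.app_smul φ r x

theorem isPushout_sections {S : Scheme.{u}} (E F : S.Modules) [E.IsQuasicoherent]
    [F.IsQuasicoherent] [(E ⊞ F).IsQuasicoherent]
    (AE AF A : RelSpec.QCAlg S) (jE : E ⟶ AE.toModule) (jF : F ⟶ AF.toModule) (j : E ⊞ F ⟶ A.toModule)
    (hAE : RelSpec.IsSymAlg E AE jE) (hAF : RelSpec.IsSymAlg F AF jF) (hA : RelSpec.IsSymAlg (E ⊞ F) A j)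
    (ψE : AE ⟶ A) (ψF : AF ⟶ A)
    (hψE : jE ≫ RelSpec.QCAlg.Hom.toModuleMap ψE = biprod.inl ≫ j)
    (hψF : jF ≫ RelSpec.QCAlg.Hom.toModuleMap ψF = biprod.inr ≫ j)
    (U : S.Opens) (hU : IsAffineOpen U) :
    IsPushout (AE.str.app (op U)) (AF.str.app (op U)) (ψE.hom.app (op U)) (ψF.hom.app (op U)) := by
  have key := SymSum.isPushout_of_sym (R := Γ(S, U)) (M := Γ(E, U)) (N := Γ(F, U))
    (P := Γ(E ⊞ F, U)) (theta AE jE U) (theta AF jF U) (theta A j U)
    (theta_bijective E AE jE hAE U hU) (theta_bijective F AF jF hAF U hU)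
    (theta_bijective (E ⊞ F) A j hA U hU)
    (AE.str.app (op U)).hom (AF.str.app (op U)).hom (A.str.app (op U)).hom
    (ψE.hom.app (op U)).hom (ψF.hom.app (op U)).hom
    (theta_algebraMap AE jE U) (theta_algebraMap AF jF U) (theta_algebraMap A j U)
    (fun r => congrArg (fun χ : S.presheaf ⟶ A.presheaf => (χ.app (op U)).hom r) ψE.comm)
    (fun r => congrArg (fun χ : S.presheaf ⟶ A.presheaf => (χ.app (op U)).hom r) ψF.comm)
    (appₗ (biprod.inl : E ⟶ E ⊞ F) U) (appₗ (biprod.inr : F ⟶ E ⊞ F) U)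
    (appₗ (biprod.fst : E ⊞ F ⟶ E) U) (appₗ (biprod.snd : E ⊞ F ⟶ F) U)
    (fun m => congrArg (fun χ : E ⟶ E => χ.app U m) (biprod.inl_fst (X := E) (Y := F)))
    (fun n => congrArg (fun χ : F ⟶ F => χ.app U n) (biprod.inr_snd (X := E) (Y := F)))
    (fun m => congrArg (fun χ : E ⟶ F => χ.app U m) (biprod.inl_snd (X := E) (Y := F)))
    (fun n => congrArg (fun χ : F ⟶ E => χ.app U n) (biprod.inr_fst (X := E) (Y := F)))
    (fun p => QCohLimits.biprod_total_app U p)
    (fun m => ?_) (fun n => ?_)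
  · exact key
  · rw [theta_ι, theta_ι, ← toModuleMap_app]
    exact congrArg (toB A U) (congrArg (fun χ : E ⟶ A.toModule => χ.app U m) hψE)
  · rw [theta_ι, theta_ι, ← toModuleMap_app]
    exact congrArg (toB A U) (congrArg (fun χ : F ⟶ A.toModule => χ.app U n) hψF)

/-- For quasi-coherent O_S-modules E and F, the vector bundle V(E ⊕ F) is identified with V(E) ×_S V(F):
with A_E, A_F, A the symmetric algebras of E, F, E ⊕ F and ψ_E : A_E → A, ψ_F : A_F → A the algebra
maps extending the inclusions of the two summands, the square formed by Spec(A) → Spec(A_E), Spec(A)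
→ Spec(A_F) and the two structure morphisms to S is a pullback square. -/
theorem result {S : Scheme.{u}} (E F : S.Modules) (hE : Coh.IsQCoh E) (hF : Coh.IsQCoh F)
    (AE AF A : RelSpec.QCAlg S) (jE : E ⟶ AE.toModule) (jF : F ⟶ AF.toModule) (j : E ⊞ F ⟶ A.toModule)
    (hAE : RelSpec.IsSymAlg E AE jE) (hAF : RelSpec.IsSymAlg F AF jF) (hA : RelSpec.IsSymAlg (E ⊞ F) A j)
    (ψE : AE ⟶ A) (ψF : AF ⟶ A)
    (hψE : jE ≫ RelSpec.QCAlg.Hom.toModuleMap ψE = biprod.inl ≫ j)
    (hψF : jF ≫ RelSpec.QCAlg.Hom.toModuleMap ψF = biprod.inr ≫ j) :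
    IsPullback (RelSpec.QCAlg.specMap ψE) (RelSpec.QCAlg.specMap ψF) AE.π AF.π := by
  have : E.IsQuasicoherent := hE
  have : F.IsQuasicoherent := hF
  have : (E ⊞ F).IsQuasicoherent := QCohLimits.isQuasicoherent_biprod E F
  refine Scheme.isPullback_of_openCover (RelSpec.QCAlg.specMap ψE) (RelSpec.QCAlg.specMap ψF)
    AE.π AF.π AE.glueData.cover ?_
  rintro ⟨U, hU⟩
  have hpo := isPushout_sections E F AE AF A jE jF j hAE hAF hA ψE ψF hψE hψF U hU
  have L := isPullback_SpecMap_of_isPushout _ _ _ _ hpo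
  have Rr : IsPullback (Spec.map (AF.str.app (op U))) (AF.ι U hU) hU.fromSpec AF.π :=
    IsOpenImmersion.isPullback (Spec.map (AF.str.app (op U))) (AF.ι U hU) hU.fromSpec AF.π
      (AF.ι_π U hU) (by rw [hU.opensRange_fromSpec, AF.π_preimage U hU])
  have Q := L.paste_vert Rr
  have hchart := (SpecLib.isPullback_ι_specMap ψE U hU).flip
  have c1 : hchart.isoPullback.hom ≫ pullback.fst _ _ = A.ι U hU := hchart.isoPullback_hom_fst
  have c2 : hchart.isoPullback.hom ≫ pullback.snd _ _ = Spec.map (ψE.hom.app (op U)) :=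
    hchart.isoPullback_hom_snd
  refine IsPullback.of_iso Q hchart.isoPullback (Iso.refl _) (Iso.refl _) (Iso.refl _) ?_ ?_ ?_ ?_
  · exact (Category.comp_id _).trans c2.symm
  · refine (Category.comp_id _).trans ?_
    change _ = hchart.isoPullback.hom ≫ pullback.fst _ _ ≫ RelSpec.QCAlg.specMap ψF
    rw [← Category.assoc, c1, RelSpec.QCAlg.ι_specMap]
  · refine (Category.comp_id _).trans ?_
    exact ((Category.id_comp _).trans (AE.ι_π U hU)).symm
  · exact (Category.comp_id _).trans (Category.id_comp _).symm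

end Groth.Agent.S8271
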