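import Groth.Statements.S8273
import Groth.Agent.H41.RelProjGlue

set_option autoImplicit false
universe u
open CategoryTheory CategoryTheory.Limits AlgebraicGeometry Opposite TopologicalSpace
open scoped HomogeneousIdeal
open EGA2

namespace Groth.Agent.S8273

section helper

variable {Y P P' : Scheme.{u}} (𝒮 : RelProj.QCGrAlg Y) (p : P ⟶ Y)
    (chart : ∀ (U : Y.Opens) (hU : IsAffineOpen U),
      (((p ⁻¹ᵁ U : P.Opens) : Scheme.{u}) ≅ Proj (𝒮.deg U hU)))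
    (p' : P' ⟶ Y)
    (chart' : ∀ (U : Y.Opens) (hU : IsAffineOpen U),
      (((p' ⁻¹ᵁ U : P'.Opens) : Scheme.{u}) ≅ Proj (𝒮.deg U hU)))

/-- the chart condition -/
def ChartId (e : P ⟶ P') : Prop :=
  ∀ (U : Y.Opens) (hU : IsAffineOpen U),
    (p ⁻¹ᵁ U).ι ≫ e = (chart U hU).hom ≫ (chart' U hU).inv ≫ (p' ⁻¹ᵁ U).ι

theorem isGradedHom_id : RelProj.IsGradedHom (𝟙 𝒮.toQCAlg) := fun _ _ _ _ hx => hx

theorem hirr_id (U : Y.Opens) (hU : IsAffineOpen U) :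
    (𝒮.deg U hU)₊ ≤
      ((𝒮.deg U hU)₊).map (RelProj.gradedHomAt (𝟙 𝒮.toQCAlg) (isGradedHom_id 𝒮) U hU) :=
  fun _ hx => Ideal.mem_map_of_mem
    (RelProj.gradedHomAt (𝟙 𝒮.toQCAlg) (isGradedHom_id 𝒮) U hU) hx

theorem projMap_id (U : Y.Opens) (hU : IsAffineOpen U) :
    Proj.map (RelProj.gradedHomAt (𝟙 𝒮.toQCAlg) (isGradedHom_id 𝒮) U hU) (hirr_id 𝒮 U hU) =
      𝟙 _ := by
  have h : RelProj.gradedHomAt (𝟙 𝒮.toQCAlg) (isGradedHom_id 𝒮) U hU =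
      GradedRingHom.id (𝒮.deg U hU) :=
    GradedRingHom.ext fun x => rfl
  rw [Groth.Agent.H41.RelProjLib.projMap_congr h (hirr_id 𝒮 U hU) (by simp)]
  exact Proj.map_id

theorem chartId_iff (e : P ⟶ P') :
    ChartId 𝒮 p chart p' chart' e ↔
      RelProj.IsRelProjMap (𝟙 𝒮.toQCAlg) (isGradedHom_id 𝒮) (hirr_id 𝒮) chart' chart e := by
  unfold ChartId RelProj.IsRelProjMap
  refine forall_congr' fun U => forall_congr' fun hU => ?_
  rw [projMap_id 𝒮 U hU, Category.id_comp]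

theorem existsUnique_chartId (hP : RelProj.IsRelProj 𝒮 p chart)
    (hP' : RelProj.IsRelProj 𝒮 p' chart') :
    ∃! e : P ⟶ P', ChartId 𝒮 p chart p' chart' e := by
  obtain ⟨e, he, huniq⟩ := Groth.Agent.H41.RelProjLib.existsUnique_relProjMap (𝟙 𝒮.toQCAlg)
    (isGradedHom_id 𝒮) (hirr_id 𝒮) chart' chart hP' hP
  exact ⟨e, (chartId_iff 𝒮 p chart p' chart' e).2 he,
    fun e' he' => huniq e' ((chartId_iff 𝒮 p chart p' chart' e').1 he')⟩

theorem comp_eq_id (e : P ⟶ P') (e' : P' ⟶ P) (he : ChartId 𝒮 p chart p' chart' e)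
    (he' : ChartId 𝒮 p' chart' p chart e') : e ≫ e' = 𝟙 P := by
  refine (P.openCoverOfIsOpenCover (fun U : Y.affineOpens => p ⁻¹ᵁ U.1)
    (Groth.Agent.H41.RelProjLib.iSup_preimage_affineOpens p)).hom_ext _ _ fun U => ?_
  obtain ⟨U, hU0⟩ := U
  have hU : IsAffineOpen U := hU0
  show (p ⁻¹ᵁ U).ι ≫ e ≫ e' = (p ⁻¹ᵁ U).ι ≫ 𝟙 P
  rw [← Category.assoc, he U hU]
  simp only [Category.assoc]
  rw [he' U hU, Iso.inv_hom_id_assoc, Iso.hom_inv_id_assoc, Category.comp_id]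

end helper


/-- Uniqueness of the relative homogeneous spectrum: two schemes over Y equipped with the chart data of
Proj(𝒮) are related by a unique morphism compatible with the charts (chartwise the identity of Proj
𝒮(U)), and that morphism is a Y-isomorphism. -/
theorem result {Y P P' : Scheme.{u}} (𝒮 : RelProj.QCGrAlg Y) (p : P ⟶ Y)
    (chart : ∀ (U : Y.Opens) (hU : IsAffineOpen U), (((p ⁻¹ᵁ U : P.Opens) : Scheme.{u}) ≅ Proj (𝒮.deg U hU)))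
    (hP : RelProj.IsRelProj 𝒮 p chart) (p' : P' ⟶ Y)
    (chart' : ∀ (U : Y.Opens) (hU : IsAffineOpen U), (((p' ⁻¹ᵁ U : P'.Opens) : Scheme.{u}) ≅ Proj (𝒮.deg U hU)))
    (hP' : RelProj.IsRelProj 𝒮 p' chart') :
    (∃! e : P ⟶ P', ∀ (U : Y.Opens) (hU : IsAffineOpen U),
        (p ⁻¹ᵁ U).ι ≫ e = (chart U hU).hom ≫ (chart' U hU).inv ≫ (p' ⁻¹ᵁ U).ι) ∧
      ∀ e : P ⟶ P', (∀ (U : Y.Opens) (hU : IsAffineOpen U),
        (p ⁻¹ᵁ U).ι ≫ e = (chart U hU).hom ≫ (chart' U hU).inv ≫ (p' ⁻¹ᵁ U).ι) → IsIso e ∧ e ≫ p' = p := by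
  have hex := existsUnique_chartId 𝒮 p chart p' chart' hP hP'
  refine ⟨hex, fun e he => ⟨?_, ?_⟩⟩
  · obtain ⟨e', he', -⟩ := existsUnique_chartId 𝒮 p' chart' p chart hP' hP
    exact ⟨⟨e', comp_eq_id 𝒮 p chart p' chart' e e' he he',
      comp_eq_id 𝒮 p' chart' p chart e' e he' he⟩⟩
  · exact Groth.Agent.H41.RelProjLib.relProjMap_comp (𝟙 𝒮.toQCAlg) (isGradedHom_id 𝒮)
      (hirr_id 𝒮) p' p chart' chart hP' hP e ((chartId_iff 𝒮 p chart p' chart' e).1 he)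

end Groth.Agent.S8273
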