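import Groth.Statements.S8274

set_option autoImplicit false
universe u
open CategoryTheory CategoryTheory.Limits AlgebraicGeometry Opposite TopologicalSpace
open scoped HomogeneousIdeal
open EGA2

namespace Groth.Agent.S8274

section helper

variable {Y P : Scheme.{u}} (𝒮 : RelProj.QCGrAlg Y) (p : P ⟶ Y)
    (chart : ∀ (U : Y.Opens) (hU : IsAffineOpen U),
      (((p ⁻¹ᵁ U : P.Opens) : Scheme.{u}) ≅ Proj (𝒮.deg U hU)))
    (f : 𝒮.presheaf.obj (op ⊤))

/-- restriction of the global section -/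
noncomputable def fres (U : Y.Opens) : 𝒮.presheaf.obj (op U) :=
  (𝒮.presheaf.map (homOfLE le_top).op).hom f

theorem fres_res {U V : Y.Opens} (hVU : V ≤ U) :
    (𝒮.presheaf.map (homOfLE hVU).op).hom (fres 𝒮 f U) = fres 𝒮 f V := by
  unfold fres
  rw [← CommRingCat.comp_apply, ← Functor.map_comp]
  rfl

/-- the local pieces of the open -/
noncomputable def G (U : Y.Opens) (hU : IsAffineOpen U) : P.Opens :=
  (p ⁻¹ᵁ U).ι ''ᵁ ((chart U hU).hom ⁻¹ᵁ Proj.basicOpen (𝒮.deg U hU) (fres 𝒮 f U))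

theorem G_le (U : Y.Opens) (hU : IsAffineOpen U) : G 𝒮 p chart f U hU ≤ p ⁻¹ᵁ U :=
  Scheme.Opens.ι_image_le _ _

theorem G_congr {V V' : Y.Opens} (h : V = V') (hV : IsAffineOpen V) (hV' : IsAffineOpen V') :
    G 𝒮 p chart f V hV = G 𝒮 p chart f V' hV' := by
  subst h; rfl

theorem G_basicOpen (hP : RelProj.IsRelProj 𝒮 p chart) (U : Y.Opens) (hU : IsAffineOpen U)
    (r : Γ(Y, U)) :
    G 𝒮 p chart f (Y.basicOpen r) (hU.basicOpen r) =
      G 𝒮 p chart f U hU ⊓ p ⁻¹ᵁ (Y.basicOpen r) := by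
  have hres := hP.chart_res U hU r
  have h1 : Proj.map (𝒮.res hU (hU.basicOpen r) (Y.basicOpen_le r))
      (𝒮.irrelevant_le_map U hU r) ⁻¹ᵁ Proj.basicOpen (𝒮.deg U hU) (fres 𝒮 f U) =
      Proj.basicOpen (𝒮.deg _ (hU.basicOpen r)) (fres 𝒮 f (Y.basicOpen r)) := by
    rw [Proj.map_preimage_basicOpen]
    congr 1
    exact fres_res 𝒮 f (Y.basicOpen_le r)
  unfold G
  rw [← h1, ← Scheme.Hom.comp_preimage, ← hres, Scheme.Hom.comp_preimage,
    Scheme.ι_image_homOfLE_eq_ι_image_inf]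

theorem main (hP : RelProj.IsRelProj 𝒮 p chart) {d : ℕ} (hd : 0 < d)
    (hf : ∀ (U : Y.Opens) (hU : IsAffineOpen U), fres 𝒮 f U ∈ 𝒮.deg U hU d) :
    ∃ Xf : P.Opens, (∀ (U : Y.Opens) (hU : IsAffineOpen U),
      Xf ⊓ p ⁻¹ᵁ U = G 𝒮 p chart f U hU) ∧ IsAffineHom (Xf.ι ≫ p) := by
  have part1 : ∀ (U : Y.Opens) (hU : IsAffineOpen U),
      (⨆ V : Y.affineOpens, G 𝒮 p chart f V.1 V.2) ⊓ p ⁻¹ᵁ U = G 𝒮 p chart f U hU := by
    intro U hU
    apply le_antisymm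
    · rintro x ⟨hxX, hxU⟩
      obtain ⟨⟨U', hU'0⟩, hxG⟩ := Opens.mem_iSup.1 hxX
      have hU' : IsAffineOpen U' := hU'0
      have hxG' : x ∈ G 𝒮 p chart f U' hU' := hxG
      have hxU' : p.base x ∈ U' := G_le 𝒮 p chart f U' hU' hxG'
      obtain ⟨r, r', hrr', hxr⟩ := exists_basicOpen_le_affine_inter hU hU' (p.base x)
        ⟨hxU, hxU'⟩
      have h1 : x ∈ G 𝒮 p chart f (Y.basicOpen r') (hU'.basicOpen r') := by
        rw [G_basicOpen 𝒮 p chart f hP U' hU' r']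
        exact ⟨hxG', hrr' ▸ hxr⟩
      rw [G_congr 𝒮 p chart f hrr'.symm (hU'.basicOpen r') (hU.basicOpen r),
        G_basicOpen 𝒮 p chart f hP U hU r] at h1
      exact h1.1
    · exact le_inf (le_iSup (fun V : Y.affineOpens => G 𝒮 p chart f V.1 V.2) ⟨U, hU⟩)
        (G_le 𝒮 p chart f U hU)
  refine ⟨⨆ V : Y.affineOpens, G 𝒮 p chart f V.1 V.2, part1, ⟨fun U hU => ?_⟩⟩
  have hG : IsAffineOpen (G 𝒮 p chart f U hU) := by
    unfold G
    apply IsAffineOpen.image_of_isOpenImmersion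
    apply IsAffineOpen.preimage_of_isIso
    exact Proj.isAffineOpen_basicOpen _ _ (hf U hU) hd
  rw [← Scheme.Hom.isAffineOpen_iff_of_isOpenImmersion
    (⨆ V : Y.affineOpens, G 𝒮 p chart f V.1 V.2).ι, Scheme.Hom.comp_preimage,
    Scheme.Hom.image_preimage_eq_opensRange_inf, Scheme.Opens.opensRange_ι, part1 U hU]
  exact hG

end helper


/-- Let 𝒮 be a quasi-coherent positively graded O_Y-algebra, P = Proj(𝒮) with structure morphism p and
charts, and f a global section of 𝒮 homogeneous of degree d > 0. There is an open subset X_f of P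
such that for every affine open U of Y, X_f ∩ p⁻¹(U) is the open D_+(f|U) of Proj 𝒮(U) transported
by the chart; moreover X_f is affine over Y. (The identification of X_f with the spectrum of a
quotient of the d-th Veronese algebra is not stated here.) -/
theorem result {Y P : Scheme.{u}} (𝒮 : RelProj.QCGrAlg Y) (p : P ⟶ Y)
    (chart : ∀ (U : Y.Opens) (hU : IsAffineOpen U), (((p ⁻¹ᵁ U : P.Opens) : Scheme.{u}) ≅ Proj (𝒮.deg U hU)))
    (hP : RelProj.IsRelProj 𝒮 p chart) {d : ℕ} (hd : 0 < d) (f : 𝒮.presheaf.obj (op ⊤))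
    (hf : ∀ (U : Y.Opens) (hU : IsAffineOpen U), (𝒮.presheaf.map (homOfLE le_top).op).hom f ∈ 𝒮.deg U hU d) :
    ∃ Xf : P.Opens,
      (∀ (U : Y.Opens) (hU : IsAffineOpen U),
        Xf ⊓ p ⁻¹ᵁ U =
          (p ⁻¹ᵁ U).ι ''ᵁ ((chart U hU).hom ⁻¹ᵁ
            Proj.basicOpen (𝒮.deg U hU) ((𝒮.presheaf.map (homOfLE le_top).op).hom f))) ∧
      IsAffineHom (Xf.ι ≫ p) := by
  exact main 𝒮 p chart f hP hd hf

end Groth.Agent.S8274
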