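import Groth.Statements.S8277
import Groth.Agent.H41.Natural

set_option autoImplicit false
universe u
open EGA2

namespace Groth.Agent.S8277

/-- For a positively graded ring S, the graded ring S♮ with S♮_n = S_{≥ n} = ⊕_{m ≥ n} S_m (presented
here as a graded ring S' with an injective algebra homomorphism φ : S' → S[X] carrying S'_n onto
S_{≥ n}·X^n for every n, so that S'_0 is identified with S), and n₀ ≥ 0: S♮_{n+1} = S♮_1 S♮_n for n
≥ n₀ if and only if S_{n+1} = S_1 S_n for n ≥ n₀. -/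
theorem result {R A B : Type u} [CommRing R] [CommRing A] [Algebra R A]
    (𝒜 : ℕ → Submodule R A) [GradedAlgebra 𝒜] [CommRing B] [Algebra R B] (ℬ : ℕ → Submodule R B) [GradedAlgebra ℬ]
    (φ : B →ₐ[R] Polynomial A) (hφ : Function.Injective φ)
    (hdeg : ∀ n : ℕ, Submodule.map φ.toLinearMap (ℬ n) =
      Submodule.map ((Polynomial.monomial n : A →ₗ[A] Polynomial A).restrictScalars R) (⨆ (m : ℕ) (_ : n ≤ m), 𝒜 m)) (n₀ : ℕ) :
    (∀ n : ℕ, n₀ ≤ n → ℬ (n + 1) = ℬ 1 * ℬ n) ↔ (∀ n : ℕ, n₀ ≤ n → 𝒜 (n + 1) = 𝒜 1 * 𝒜 n) := by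
  have hdeg' : ∀ n : ℕ, Submodule.map φ.toLinearMap (ℬ n) =
      Submodule.map (H41.Natural.mon R n) (H41.Natural.ge 𝒜 n) := hdeg
  rw [← H41.Natural.natural_mul_iff 𝒜 n₀]
  constructor
  · intro h n hn; exact (H41.Natural.eq_mul_iff 𝒜 ℬ φ hφ hdeg' n).1 (h n hn)
  · intro h n hn; exact (H41.Natural.eq_mul_iff 𝒜 ℬ φ hφ hdeg' n).2 (h n hn)

end Groth.Agent.S8277
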