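import Groth.Statements.S8280
import Groth.Agent.H41.RelConeLib

set_option autoImplicit false
universe u
open CategoryTheory CategoryTheory.Limits AlgebraicGeometry Opposite TopologicalSpace
open scoped HomogeneousIdeal
open EGA2

namespace Groth.Agent.S8280

/-- Let (f_α) be global sections of the quasi-coherent positively graded O_Y-algebra 𝒮, homogeneous of
positive degrees, such that the ideal they generate contains all 𝒮_n from some degree on
(affine-locally). Then the opens X_{f_α} of Proj(𝒮) (characterised chartwise by the basic opens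
D_+(f_α|U)) cover Proj(𝒮). (The published hypothesis fixes one degree, valid over all of Y, from
which on the f_α generate; this row asks for such a degree over each affine open separately, which
is all the proof, carried out one affine open at a time, uses.) -/
theorem result {Y P : Scheme.{u}} (𝒮 : RelProj.QCGrAlg Y) (p : P ⟶ Y)
    (chart : ∀ (U : Y.Opens) (hU : IsAffineOpen U), (((p ⁻¹ᵁ U : P.Opens) : Scheme.{u}) ≅ Proj (𝒮.deg U hU)))
    (hP : RelProj.IsRelProj 𝒮 p chart) {ι : Type u} (d : ι → ℕ) (hd : ∀ a, 0 < d a)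
    (f : ι → 𝒮.presheaf.obj (op ⊤))
    (hf : ∀ (a : ι) (U : Y.Opens) (hU : IsAffineOpen U), (𝒮.presheaf.map (homOfLE le_top).op).hom (f a) ∈ 𝒮.deg U hU (d a))
    (hgen : ∀ (U : Y.Opens) (hU : IsAffineOpen U), ∃ n₀ : ℕ, ∀ n, n₀ ≤ n →
      (𝒮.deg U hU n : Set (𝒮.presheaf.obj (op U))) ⊆
        (Ideal.span (Set.range fun a => (𝒮.presheaf.map (homOfLE (le_top : U ≤ ⊤)).op).hom (f a)) :
          Set (𝒮.presheaf.obj (op U))))
    (X : ι → P.Opens)
    (hX : ∀ (a : ι) (U : Y.Opens) (hU : IsAffineOpen U),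
      X a ⊓ p ⁻¹ᵁ U =
        (p ⁻¹ᵁ U).ι ''ᵁ ((chart U hU).hom ⁻¹ᵁ
          Proj.basicOpen (𝒮.deg U hU) ((𝒮.presheaf.map (homOfLE le_top).op).hom (f a)))) :
    ⨆ a, X a = ⊤ := by
  rw [eq_top_iff]
  intro x _
  obtain ⟨U, hU0, hxU, -⟩ := Opens.isBasis_iff_nbhd.1 Y.isBasis_affineOpens
    (show p.base x ∈ (⊤ : Y.Opens) from trivial)
  have hU : IsAffineOpen U := hU0
  have hx : x ∈ p ⁻¹ᵁ U := hxU
  obtain ⟨y, hy⟩ : ∃ y : Proj (𝒮.deg U hU), y = (chart U hU).hom.base ⟨x, hx⟩ := ⟨_, rfl⟩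
  obtain ⟨a, ha⟩ : ∃ a, (𝒮.presheaf.map (homOfLE (le_top : U ≤ ⊤)).op).hom (f a) ∉
      y.asHomogeneousIdeal := by
    by_contra hcon
    push Not at hcon
    obtain ⟨n₀, hn₀⟩ := hgen U hU
    have hspan : Ideal.span (Set.range fun a =>
        (𝒮.presheaf.map (homOfLE (le_top : U ≤ ⊤)).op).hom (f a)) ≤
        y.asHomogeneousIdeal.toIdeal := by
      rw [Ideal.span_le]
      rintro _ ⟨a, rfl⟩
      exact hcon a
    obtain ⟨b, hb, hby⟩ : ∃ b ∈ (HomogeneousIdeal.irrelevant (𝒮.deg U hU)).toIdeal,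
        b ∉ y.asHomogeneousIdeal.toIdeal := by
      by_contra h2
      push Not at h2
      exact y.not_irrelevant_le (fun b hb => h2 b hb)
    obtain ⟨i, hi, hbi⟩ := Groth.Agent.H41.RelConeLib.exists_pos_decompose_not_mem
      (𝒮.deg U hU) y.asHomogeneousIdeal.toIdeal hb hby
    apply hbi
    have hpow : ((DirectSum.decompose (𝒮.deg U hU) b i : 𝒮.presheaf.obj (op U))) ^ n₀ ∈
        𝒮.deg U hU (n₀ • i) := SetLike.pow_mem_graded n₀ (SetLike.coe_mem _)
    have hle : n₀ ≤ n₀ • i := by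
      rw [smul_eq_mul]; exact Nat.le_mul_of_pos_right n₀ hi
    have h3 : ((DirectSum.decompose (𝒮.deg U hU) b i : 𝒮.presheaf.obj (op U))) ^ n₀ ∈
        y.asHomogeneousIdeal.toIdeal := hspan (hn₀ _ hle hpow)
    exact y.isPrime.mem_of_pow_mem n₀ h3
  rw [Opens.mem_iSup]
  refine ⟨a, ?_⟩
  have h4 : x ∈ X a ⊓ p ⁻¹ᵁ U := by
    rw [hX a U hU]
    refine ⟨⟨x, hx⟩, ?_, rfl⟩
    show (chart U hU).hom.base ⟨x, hx⟩ ∈ Proj.basicOpen (𝒮.deg U hU) _
    rw [← hy, Proj.mem_basicOpen]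
    exact ha
  exact h4.1

end Groth.Agent.S8280
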