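import Groth.Statements.S8281
import Groth.Agent.H41.GlueOpens

set_option autoImplicit false
universe u
open CategoryTheory CategoryTheory.Limits AlgebraicGeometry Opposite TopologicalSpace
open EGA2

namespace Groth.Agent.S8281

section helper

variable {S S' : Scheme.{u}} (q : S' ⟶ S) (B : RelSpec.QCAlg S)
    (B' : RelSpec.QCAlg S') (u : B.presheaf ⟶ q.base _* B'.presheaf)

/-- constructor with the right type -/
abbrev mkA {X : Scheme.{u}} (U : X.Opens) (hU : IsAffineOpen U) : X.AffineZariskiSite := ⟨U, hU⟩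

/-- the local ring maps -/
noncomputable def uloc (U : S.Opens) (U' : S'.Opens) (hle : U' ≤ q ⁻¹ᵁ U) :
    B.presheaf.obj (op U) ⟶ B'.presheaf.obj (op U') :=
  (u.app (op U) : B.presheaf.obj (op U) ⟶ B'.presheaf.obj (op (q ⁻¹ᵁ U))) ≫
    B'.presheaf.map (homOfLE hle).op

theorem presheaf_map_eq (F : TopCat.Presheaf CommRingCat.{u} S'.carrier) {V W : (Opens S')ᵒᵖ}
    (k₁ k₂ : V ⟶ W) : F.map k₁ = F.map k₂ := by
  rw [Subsingleton.elim k₁ k₂]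

theorem uloc_res {U V : S.Opens} {U' V' : S'.Opens} (hle : U' ≤ q ⁻¹ᵁ U) (hle' : V' ≤ q ⁻¹ᵁ V)
    (hVU : V ≤ U) (hVU' : V' ≤ U') :
    uloc q B B' u U U' hle ≫ B'.presheaf.map (homOfLE hVU').op =
      B.presheaf.map (homOfLE hVU).op ≫ uloc q B B' u V V' hle' := by
  have hn : B.presheaf.map (homOfLE hVU).op ≫
      (u.app (op V) : B.presheaf.obj (op V) ⟶ B'.presheaf.obj (op (q ⁻¹ᵁ V))) =
      (u.app (op U) : B.presheaf.obj (op U) ⟶ B'.presheaf.obj (op (q ⁻¹ᵁ U))) ≫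
        B'.presheaf.map (homOfLE (q.preimage_mono hVU)).op := u.naturality (homOfLE hVU).op
  unfold uloc
  rw [Category.assoc, ← Functor.map_comp, ← Category.assoc, hn, Category.assoc,
    ← Functor.map_comp]
  exact congrArg (fun x => (u.app (op U) : B.presheaf.obj (op U) ⟶
    B'.presheaf.obj (op (q ⁻¹ᵁ U))) ≫ x) (presheaf_map_eq B'.presheaf _ _)

/-- local morphisms on charts -/
noncomputable def mloc (U : S.Opens) (hU : IsAffineOpen U) (U' : S'.Opens)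
    (hle : U' ≤ q ⁻¹ᵁ U) : Spec (B'.presheaf.obj (op U')) ⟶ B.spec :=
  Spec.map (uloc q B B' u U U' hle) ≫ B.ι U hU

theorem mloc_res {U V : S.AffineZariskiSite} {U' V' : S'.AffineZariskiSite} (hVU : V ≤ U)
    (hVU' : V' ≤ U') (hle : U'.1 ≤ q ⁻¹ᵁ U.1) (hle' : V'.1 ≤ q ⁻¹ᵁ V.1) :
    Spec.map (B'.presheaf.map (homOfLE (Scheme.AffineZariskiSite.toOpens_mono hVU')).op) ≫
        mloc q B B' u U.1 U.2 U'.1 hle =
      mloc q B B' u V.1 V.2 V'.1 hle' := by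
  unfold mloc
  rw [← Spec.map_comp_assoc, uloc_res q B B' u hle hle'
    (Scheme.AffineZariskiSite.toOpens_mono hVU) (Scheme.AffineZariskiSite.toOpens_mono hVU'),
    Spec.map_comp_assoc]
  congr 1
  exact B.ι_res (homOfLE hVU)

/-- the chart condition of the statement -/
def ChartCond (v : B'.spec ⟶ B.spec) : Prop :=
  ∀ (U : S.Opens) (hU : IsAffineOpen U) (U' : S'.Opens) (hU' : IsAffineOpen U')
    (hle : U' ≤ q ⁻¹ᵁ U),
      B'.ι U' hU' ≫ v =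
        Spec.map ((u.app (op U) : B.presheaf.obj (op U) ⟶ B'.presheaf.obj (op (q ⁻¹ᵁ U))) ≫
          B'.presheaf.map (homOfLE hle).op) ≫ B.ι U hU

/-- index type of the gluing -/
structure Idx where
  /-- affine open of the base -/
  U : S.AffineZariskiSite
  /-- affine open upstairs -/
  U' : S'.AffineZariskiSite
  hle : U'.1 ≤ q ⁻¹ᵁ U.1

/-- the opens of the cover -/
noncomputable abbrev Uo (i : Idx q) : B'.spec.Opens := (B'.ι i.U'.1 i.U'.2).opensRange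

theorem mem_Uo_iff (i : Idx q) (x : B'.spec) : x ∈ Uo q B' i ↔ B'.π.base x ∈ i.U'.1 := by
  unfold Uo
  rw [← B'.π_preimage i.U'.1 i.U'.2]
  rfl

theorem isOpenCover_Uo : ⨆ i, Uo q B' i = ⊤ := by
  rw [eq_top_iff]
  intro x _
  rw [Opens.mem_iSup]
  obtain ⟨U, hUaff, hxU⟩ : ∃ U : S.Opens, IsAffineOpen U ∧ q.base (B'.π.base x) ∈ U := by
    obtain ⟨U, hU, hx, -⟩ := Opens.isBasis_iff_nbhd.1 S.isBasis_affineOpens
      (show q.base (B'.π.base x) ∈ (⊤ : S.Opens) from trivial)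
    exact ⟨U, hU, hx⟩
  obtain ⟨U', hU', hxU', hle⟩ := Opens.isBasis_iff_nbhd.1 S'.isBasis_affineOpens
    (show B'.π.base x ∈ q ⁻¹ᵁ U from hxU)
  exact ⟨⟨⟨U, hUaff⟩, ⟨U', hU'⟩, hle⟩, (mem_Uo_iff q B' _ x).2 hxU'⟩

/-- the local pieces of the morphism -/
noncomputable def gloc (i : Idx q) : ((Uo q B' i : B'.spec.Opens) : Scheme.{u}) ⟶ B.spec :=
  (B'.ι i.U'.1 i.U'.2).isoOpensRange.inv ≫ mloc q B B' u i.U.1 i.U.2 i.U'.1 i.hle

theorem gloc_res (i j : Idx q) (hU : j.U ≤ i.U) (hU' : j.U' ≤ i.U')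
    (h : Uo q B' j ≤ Uo q B' i) :
    B'.spec.homOfLE h ≫ gloc q B B' u i = gloc q B B' u j := by
  have h1 : (B'.ι j.U'.1 j.U'.2).isoOpensRange.hom ≫ B'.spec.homOfLE h =
      Spec.map (B'.presheaf.map (homOfLE (Scheme.AffineZariskiSite.toOpens_mono hU')).op) ≫
        (B'.ι i.U'.1 i.U'.2).isoOpensRange.hom := by
    rw [← cancel_mono (Uo q B' i).ι]
    simp only [Category.assoc]
    rw [Scheme.homOfLE_ι, Scheme.Hom.isoOpensRange_hom_ι, Scheme.Hom.isoOpensRange_hom_ι]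
    exact (B'.ι_res (homOfLE hU')).symm
  rw [← cancel_epi (B'.ι j.U'.1 j.U'.2).isoOpensRange.hom]
  unfold gloc
  rw [reassoc_of% h1, Iso.hom_inv_id_assoc, Iso.hom_inv_id_assoc]
  exact mloc_res q B B' u hU hU' i.hle j.hle

theorem compat (i₁ i₂ : Idx q) (x : B'.spec) (hx : x ∈ Uo q B' i₁ ⊓ Uo q B' i₂) :
    ∃ (W : B'.spec.Opens) (h1 : W ≤ Uo q B' i₁) (h2 : W ≤ Uo q B' i₂), x ∈ W ∧
      B'.spec.homOfLE h1 ≫ gloc q B B' u i₁ = B'.spec.homOfLE h2 ≫ gloc q B B' u i₂ := by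
  obtain ⟨⟨U₁, hU₁⟩, ⟨U₁', hU₁'⟩, hle₁⟩ := i₁
  obtain ⟨⟨U₂, hU₂⟩, ⟨U₂', hU₂'⟩, hle₂⟩ := i₂
  have hx1 : B'.π.base x ∈ U₁' := (mem_Uo_iff q B' _ x).1 hx.1
  have hx2 : B'.π.base x ∈ U₂' := (mem_Uo_iff q B' _ x).1 hx.2
  obtain ⟨f₁, f₂, hf, hxf⟩ := exists_basicOpen_le_affine_inter hU₁ hU₂ (q.base (B'.π.base x))
    ⟨hle₁ hx1, hle₂ hx2⟩
  have hU₃₁ : mkA (S.basicOpen f₁) (hU₁.basicOpen f₁) ≤ mkA U₁ hU₁ := ⟨f₁, rfl⟩
  have hU₃₂ : mkA (S.basicOpen f₁) (hU₁.basicOpen f₁) ≤ mkA U₂ hU₂ := ⟨f₂, hf.symm⟩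
  obtain ⟨a₁, ha₁, hxa₁⟩ := hU₁'.exists_basicOpen_le (V := q ⁻¹ᵁ S.basicOpen f₁)
    ⟨B'.π.base x, hxf⟩ hx1
  obtain ⟨a₂, ha₂, hxa₂⟩ := hU₂'.exists_basicOpen_le (V := q ⁻¹ᵁ S.basicOpen f₁)
    ⟨B'.π.base x, hxf⟩ hx2
  obtain ⟨b₁, b₂, hb, hxb⟩ := exists_basicOpen_le_affine_inter (hU₁'.basicOpen a₁)
    (hU₂'.basicOpen a₂) (B'.π.base x) ⟨hxa₁, hxa₂⟩
  have h31 : mkA (S'.basicOpen b₁) ((hU₁'.basicOpen a₁).basicOpen b₁) ≤ mkA U₁' hU₁' :=
    le_trans (b := mkA (S'.basicOpen a₁) (hU₁'.basicOpen a₁)) ⟨b₁, rfl⟩ ⟨a₁, rfl⟩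
  have h32 : mkA (S'.basicOpen b₁) ((hU₁'.basicOpen a₁).basicOpen b₁) ≤ mkA U₂' hU₂' :=
    le_trans (b := mkA (S'.basicOpen a₂) (hU₂'.basicOpen a₂)) ⟨b₂, hb.symm⟩ ⟨a₂, rfl⟩
  have hle₃ : S'.basicOpen b₁ ≤ q ⁻¹ᵁ S.basicOpen f₁ := (S'.basicOpen_le b₁).trans ha₁
  have hW1 : Uo q B' ⟨mkA (S.basicOpen f₁) (hU₁.basicOpen f₁),
      mkA (S'.basicOpen b₁) ((hU₁'.basicOpen a₁).basicOpen b₁), hle₃⟩ ≤
      Uo q B' ⟨mkA U₁ hU₁, mkA U₁' hU₁', hle₁⟩ := by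
    intro y hy
    exact (mem_Uo_iff q B' _ y).2
      (Scheme.AffineZariskiSite.toOpens_mono h31 ((mem_Uo_iff q B' _ y).1 hy))
  have hW2 : Uo q B' ⟨mkA (S.basicOpen f₁) (hU₁.basicOpen f₁),
      mkA (S'.basicOpen b₁) ((hU₁'.basicOpen a₁).basicOpen b₁), hle₃⟩ ≤
      Uo q B' ⟨mkA U₂ hU₂, mkA U₂' hU₂', hle₂⟩ := by
    intro y hy
    exact (mem_Uo_iff q B' _ y).2
      (Scheme.AffineZariskiSite.toOpens_mono h32 ((mem_Uo_iff q B' _ y).1 hy))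
  refine ⟨_, hW1, hW2, (mem_Uo_iff q B' _ x).2 hxb, ?_⟩
  rw [gloc_res q B B' u _ _ hU₃₁ h31 hW1, gloc_res q B B' u _ _ hU₃₂ h32 hW2]

theorem existsUnique_chart : ∃! v : B'.spec ⟶ B.spec, ChartCond q B B' u v := by
  obtain ⟨v, hv, huniq⟩ := Groth.Agent.H41.GlueOpens.existsUnique_glue (X := B'.spec)
    (Z := B.spec) (Uo q B') (isOpenCover_Uo q B') (gloc q B B' u) (compat q B B' u)
  refine ⟨v, ?_, ?_⟩
  · intro U hU U' hU' hle
    have h1 := hv ⟨⟨U, hU⟩, ⟨U', hU'⟩, hle⟩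
    have h2 : B'.ι U' hU' ≫ v =
        (B'.ι U' hU').isoOpensRange.hom ≫ (B'.ι U' hU').opensRange.ι ≫ v := by
      rw [Scheme.Hom.isoOpensRange_hom_ι_assoc]
    rw [h2]
    have h3 : (B'.ι U' hU').opensRange.ι ≫ v =
      (B'.ι U' hU').isoOpensRange.inv ≫ mloc q B B' u U hU U' hle := h1
    rw [h3, Iso.hom_inv_id_assoc]
    rfl
  · intro v' hv'
    apply huniq
    intro i
    unfold gloc
    rw [Iso.eq_inv_comp, Scheme.Hom.isoOpensRange_hom_ι_assoc]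
    exact hv' i.U.1 i.U.2 i.U'.1 i.U'.2 i.hle

theorem comp_π_of_chartCond
    (hu : B.str ≫ u = q.c ≫ (TopCat.Presheaf.pushforward CommRingCat.{u} q.base).map B'.str)
    (v : B'.spec ⟶ B.spec) (hv : ChartCond q B B' u v) : v ≫ B.π = B'.π ≫ q := by
  refine (B'.spec.openCoverOfIsOpenCover (Uo q B') (isOpenCover_Uo q B')).hom_ext _ _ fun i => ?_
  obtain ⟨⟨U, hU⟩, ⟨U', hU'⟩, hle⟩ := i
  show (B'.ι U' hU').opensRange.ι ≫ v ≫ B.π = (B'.ι U' hU').opensRange.ι ≫ B'.π ≫ q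
  rw [← cancel_epi (B'.ι U' hU').isoOpensRange.hom, Scheme.Hom.isoOpensRange_hom_ι_assoc,
    Scheme.Hom.isoOpensRange_hom_ι_assoc]
  have hL : B'.ι U' hU' ≫ v ≫ B.π =
      Spec.map (B.str.app (op U) ≫ uloc q B B' u U U' hle) ≫ hU.fromSpec := by
    rw [← Category.assoc, hv U hU U' hU' hle, Category.assoc, B.ι_π, ← Category.assoc,
      ← Spec.map_comp]
    rfl
  have hR : B'.ι U' hU' ≫ B'.π ≫ q =
      Spec.map (q.appLE U U' hle ≫ B'.str.app (op U')) ≫ hU.fromSpec := by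
    rw [← Category.assoc, B'.ι_π, Category.assoc,
      ← IsAffineOpen.SpecMap_appLE_fromSpec q hU hU' hle, ← Category.assoc, ← Spec.map_comp]
  have hring : B.str.app (op U) ≫ uloc q B B' u U U' hle =
      q.appLE U U' hle ≫ B'.str.app (op U') := by
    have h1 := NatTrans.congr_app hu (op U)
    have h1' : B.str.app (op U) ≫
        (u.app (op U) : B.presheaf.obj (op U) ⟶ B'.presheaf.obj (op (q ⁻¹ᵁ U))) =
        q.app U ≫ B'.str.app (op (q ⁻¹ᵁ U)) := h1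
    have h2 := B'.str.naturality (homOfLE hle).op
    unfold uloc
    rw [← Category.assoc, h1', Category.assoc, ← h2, ← Category.assoc]
    rfl
  rw [hL, hR, hring]

end helper


/-- Let q : S' → S be a morphism, B and B' quasi-coherent algebras over O_S and O_{S'}, and u : B →
q_*B' a q-morphism (compatible with the structure maps). Then u induces a unique morphism v =
Spec(u) : Spec(B') → Spec(B) which on the charts over affine opens U ⊆ S, U' ⊆ q⁻¹(U) is Spec of the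
ring map B(U) → B'(U') given by u and restriction; it lies over q. -/
theorem result {S S' : Scheme.{u}} (q : S' ⟶ S) (B : RelSpec.QCAlg S)
    (B' : RelSpec.QCAlg S') (u : B.presheaf ⟶ q.base _* B'.presheaf)
    (hu : B.str ≫ u = q.c ≫ (TopCat.Presheaf.pushforward CommRingCat.{u} q.base).map B'.str) :
    (∃! v : B'.spec ⟶ B.spec,
        ∀ (U : S.Opens) (hU : IsAffineOpen U) (U' : S'.Opens) (hU' : IsAffineOpen U') (hle : U' ≤ q ⁻¹ᵁ U),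
          B'.ι U' hU' ≫ v =
            Spec.map ((u.app (op U) : B.presheaf.obj (op U) ⟶ B'.presheaf.obj (op (q ⁻¹ᵁ U))) ≫
              B'.presheaf.map (homOfLE hle).op) ≫ B.ι U hU) ∧
      ∀ v : B'.spec ⟶ B.spec,
        (∀ (U : S.Opens) (hU : IsAffineOpen U) (U' : S'.Opens) (hU' : IsAffineOpen U') (hle : U' ≤ q ⁻¹ᵁ U),
          B'.ι U' hU' ≫ v =
            Spec.map ((u.app (op U) : B.presheaf.obj (op U) ⟶ B'.presheaf.obj (op (q ⁻¹ᵁ U))) ≫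
              B'.presheaf.map (homOfLE hle).op) ≫ B.ι U hU) →
        v ≫ B.π = B'.π ≫ q := by
  exact ⟨existsUnique_chart q B B' u, fun v hv => comp_π_of_chartCond q B B' u hu v hv⟩

end Groth.Agent.S8281
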