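import Groth.Statements.S8283
import Groth.Agent.H9.SectionDVR
import Groth.Agent.H9.FiberStalk
import Groth.Agent.H9.ClosedImmStalk

set_option autoImplicit false
universe u
open CategoryTheory CategoryTheory.Limits AlgebraicGeometry Opposite TopologicalSpace
open EGA2

namespace Groth.Agent.S8283

set_option linter.style.haveILetI false in
open IsLocalRing in
theorem main {X V : Scheme.{u}} (π : V ⟶ X) [LocallyOfFiniteType π]
    (j : X ⟶ V) [IsClosedImmersion j] (hj : j ≫ π = 𝟙 X) (hJ : BlowUp.IsEffCartierIdeal j.ker)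
    (x : X) (s : X) (y : π.fiber s) (hv : (π.fiberι s) y = j x) :
    ∃ _ : IsDomain ((π.fiber s).presheaf.stalk y),
      IsDiscreteValuationRing ((π.fiber s).presheaf.stalk y) := by
  -- the fibre is locally noetherian
  haveI : LocallyOfFiniteType (π.fiberToSpecResidueField s) :=
    inferInstanceAs (LocallyOfFiniteType (pullback.snd _ _))
  haveI : IsLocallyNoetherian (π.fiber s) :=
    LocallyOfFiniteType.isLocallyNoetherian (π.fiberToSpecResidueField s)
  -- the local equation
  obtain ⟨U, hxU, t, ht, hUt⟩ := hJ (j x)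
  have hyU : (π.fiberι s) y ∈ U.1 := hv ▸ hxU
  let e : V.presheaf.stalk ((π.fiberι s) y) ≅ V.presheaf.stalk (j x) :=
    V.presheaf.stalkCongr (.of_eq hv)
  let σ : V.presheaf.stalk ((π.fiberι s) y) ⟶ X.presheaf.stalk x := e.hom ≫ j.stalkMap x
  let tB : V.presheaf.stalk ((π.fiberι s) y) := V.presheaf.germ U.1 _ hyU t
  have hetB : e.hom.hom tB = V.presheaf.germ U.1 (j x) hxU t := by
    exact congr($(TopCat.Presheaf.germ_stalkSpecializes V.presheaf hyU
      (specializes_of_eq hv.symm)) t)
  -- (a) kernel of σ
  have hker0 : RingHom.ker (j.stalkMap x).hom = Ideal.span {V.presheaf.germ U.1 (j x) hxU t} := by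
    rw [H9.ker_stalkMap_of_isClosedImmersion j U x hxU, hUt, Ideal.map_span, Set.image_singleton]
  have hker : RingHom.ker σ.hom = Ideal.span {tB} := by
    ext b
    have h1 : b ∈ RingHom.ker σ.hom ↔ e.hom.hom b ∈ RingHom.ker (j.stalkMap x).hom := by
      rw [RingHom.mem_ker, RingHom.mem_ker]; rfl
    rw [h1, hker0, Ideal.mem_span_singleton', Ideal.mem_span_singleton']
    constructor
    · rintro ⟨c, hc⟩
      refine ⟨e.inv.hom c, ?_⟩
      have inj := (ConcreteCategory.bijective_of_isIso e.hom).1
      apply inj
      change e.hom.hom (e.inv.hom c * tB) = e.hom.hom b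
      rw [map_mul, hetB, ← hc]
      congr 1
      exact congr($(e.inv_hom_id) c)
    · rintro ⟨c, rfl⟩
      exact ⟨e.hom.hom c, by rw [map_mul, hetB]⟩
  -- (b) `tB` is a nonzerodivisor
  have htB : tB ∈ nonZeroDivisors (V.presheaf.stalk ((π.fiberι s) y)) := by
    letI : Algebra Γ(V, U.1) (V.presheaf.stalk ((π.fiberι s) y)) :=
      V.presheaf.algebra_section_stalk ⟨_, hyU⟩
    haveI : IsLocalization.AtPrime (V.presheaf.stalk ((π.fiberι s) y))
        (U.2.primeIdealOf ⟨_, hyU⟩).asIdeal := U.2.isLocalization_stalk ⟨_, hyU⟩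
    exact IsLocalization.map_nonZeroDivisors_le
      (U.2.primeIdealOf ⟨_, hyU⟩).asIdeal.primeCompl _ ⟨t, ht, rfl⟩
  -- (c) the section property
  have hbij : Function.Bijective (σ.hom.comp (π.stalkMap ((π.fiberι s) y)).hom) := by
    have h1 := π.stalkMap_congr_point _ _ hv
    have h2 : π.stalkMap ((π.fiberι s) y) ≫ σ =
        (X.presheaf.stalkCongr (.of_eq <| hv ▸ rfl)).hom ≫ (j ≫ π).stalkMap x := by
      rw [Scheme.Hom.stalkMap_comp]
      exact π.stalkMap_congr_point_assoc _ _ hv _
    have h3 := Scheme.Hom.stalkMap_congr_hom _ _ hj x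
    rw [h3, Scheme.Hom.stalkMap_id] at h2
    have h4 : IsIso (π.stalkMap ((π.fiberι s) y) ≫ σ) := by
      rw [h2]
      exact IsIso.comp_isIso' (Iso.isIso_hom _) (IsIso.comp_isIso' (Iso.isIso_hom _) (IsIso.id _))
    exact ConcreteCategory.bijective_of_isIso (π.stalkMap ((π.fiberι s) y) ≫ σ)
  -- conclusion
  let E := H9.fiberStalkEquiv π s y
  haveI : IsNoetherianRing (V.presheaf.stalk ((π.fiberι s) y) ⧸
      (maximalIdeal (X.presheaf.stalk (π ((π.fiberι s) y)))).map
        (π.stalkMap ((π.fiberι s) y)).hom) := isNoetherianRing_of_ringEquiv _ E.symm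
  obtain ⟨_, hd, hdvr⟩ := H9.SectionDVR.isDVR_quotient (π.stalkMap ((π.fiberι s) y)).hom σ.hom
    hbij tB htB hker
  haveI := hd
  haveI : IsDomain ((π.fiber s).presheaf.stalk y) := E.symm.toMulEquiv.isDomain _
  exact ⟨inferInstance, IsDiscreteValuationRing.RingEquivClass.isDiscreteValuationRing E⟩

/-- Let π : V → X be locally of finite type and j : X → V a section of π that is a closed immersion with
invertible ideal sheaf. Then for every x ∈ X the local ring at j(x) of the fibre π⁻¹(π(j(x))) =
π⁻¹(x) is a regular local ring of dimension one, i.e. a discrete valuation ring (so j(x) lies on a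
single irreducible component of the fibre; the completion of that local ring is then a power-series
ring in one variable over the residue field of x). (The published statement assumes π of finite
type; this row assumes only that π is locally of finite type, which is all the proof uses: it needs
no more than the Noetherian property of the local rings of the fibre.) -/
theorem result {X V : Scheme.{u}} (π : V ⟶ X) [LocallyOfFiniteType π]
    (j : X ⟶ V) [IsClosedImmersion j] (hj : j ≫ π = 𝟙 X) (hJ : BlowUp.IsEffCartierIdeal j.ker) (x : X) :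
    ∃ _ : IsDomain ((π.fiber (π.base (j.base x))).presheaf.stalk (π.asFiber (j.base x))),
      IsDiscreteValuationRing ((π.fiber (π.base (j.base x))).presheaf.stalk (π.asFiber (j.base x))) := by
  exact main π j hj hJ x _ _ (π.fiberι_asFiber (j.base x))

end Groth.Agent.S8283
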