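import Groth.Statements.S8285
import Groth.Agent.H41.GrModQCoh
import Groth.Agent.H41.QCohTransfer

set_option autoImplicit false
universe u
open CategoryTheory CategoryTheory.Limits AlgebraicGeometry Opposite TopologicalSpace
open scoped HomogeneousIdeal
noncomputable section
open EGA2

namespace Groth.Agent.S8285

/-- The twisting sheaf O_P(n) on the relative homogeneous spectrum P = Proj(𝒮), given through its
chartwise identifications with the O(n) of the Proj 𝒮(U), is a quasi-coherent O_P-module. -/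
theorem result {Y P : Scheme.{u}} (𝒮 : RelProj.QCGrAlg Y) (p : P ⟶ Y)
    (chart : ∀ (U : Y.Opens) (hU : IsAffineOpen U), (((p ⁻¹ᵁ U : P.Opens) : Scheme.{u}) ≅ Proj (𝒮.deg U hU)))
    (hP : RelProj.IsRelProj 𝒮 p chart) (n : ℤ) (L : P.Modules)
    (lam : ∀ (U : Y.Opens) (hU : IsAffineOpen U),
      L ⟶ (Scheme.Modules.pushforward (RelProj.emb p chart U hU)).obj (GrTwist.twist (𝒮.deg U hU) n))
    (hL : RelProj.IsRelTwist 𝒮 p chart n L lam) : Coh.IsQCoh L := by
  haveI : ∀ U : Y.affineOpens, (GrTwist.twist (𝒮.deg U.1 U.2) n).IsQuasicoherent :=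
    fun U => Groth.Agent.H41.GrModQCoh.isQuasicoherent_tilde (𝒮.deg U.1 U.2) (𝒮.deg U.1 U.2) n
  have hrange : ∀ U : Y.affineOpens,
      (RelProj.emb p chart U.1 U.2).opensRange = p ⁻¹ᵁ U.1 := fun U => by
    unfold RelProj.emb
    rw [Scheme.Hom.opensRange_comp_of_isIso, Scheme.Opens.opensRange_ι]
  refine Groth.Agent.H41.QCohTransfer.isQuasicoherent_of_bijective_pushforward L
    (ι := Y.affineOpens) (fun U => Proj (𝒮.deg U.1 U.2)) (fun U => RelProj.emb p chart U.1 U.2)
    (fun U => GrTwist.twist (𝒮.deg U.1 U.2) n) (fun U => lam U.1 U.2)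
    (fun U W hW => hL.bijective U.1 U.2 W (hW.trans (le_of_eq (hrange U)))) (fun x => ?_)
  obtain ⟨U, hU, hxU, -⟩ := Opens.isBasis_iff_nbhd.mp Y.isBasis_affineOpens
    (show p.base x ∈ (⊤ : Y.Opens) from trivial)
  exact ⟨⟨U, hU⟩, by rw [hrange]; exact hxU⟩

end Groth.Agent.S8285
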