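import Groth.Statements.S8289
import Groth.Agent.H41.ConeImmLib

set_option autoImplicit false
universe u
open CategoryTheory CategoryTheory.Limits AlgebraicGeometry Opposite TopologicalSpace
open scoped HomogeneousIdeal
noncomputable section
open EGA2

namespace Groth.Agent.S8289

/-- The canonical morphism i from the affine cone to the projective cone: let 𝒮 be a quasi-coherent
positively graded O_Y-algebra with 𝒮_0 = O_Y, Ŝ = 𝒮[z] (z of degree one; presented through a graded
homomorphism ι : 𝒮 → Ŝ and a degree-one global section z with 𝒮(U)[X] → Ŝ(U), X ↦ z, bijective on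
affine opens), C = Spec(𝒮) and Ĉ = Proj(Ŝ). There is a unique morphism i : C → Ĉ which, on the chart
Spec 𝒮(U) of C over an affine open U, is Spec of the ring isomorphism Ŝ(U)_(z) ≅ 𝒮(U) (sending x/z^k
to x for x homogeneous of degree k) followed by the inclusion of D_+(z|U) into Proj Ŝ(U) and the
chart of Ĉ; this i is an open immersion, affine, lies over Y, Ĉ is the smallest closed subscheme of
Ĉ containing its image (its kernel ideal sheaf is zero), and its image is the open Ĉ_z where the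
section z does not vanish (characterised chartwise by D_+(z|U)). -/
theorem result {Y PC : Scheme.{u}} (𝒮 Sh : RelProj.QCGrAlg Y)
    (h0 : ∀ (U : Y.Opens) (hU : IsAffineOpen U), Function.Bijective (𝒮.strZero U hU).hom)
    (ι : 𝒮.toQCAlg ⟶ Sh.toQCAlg) (hι : RelProj.IsGradedHom ι) (z : Sh.presheaf.obj (op ⊤))
    (hz : ∀ (U : Y.Opens) (hU : IsAffineOpen U), (Sh.presheaf.map (homOfLE le_top).op).hom z ∈ Sh.deg U hU 1)
    (hpoly : ∀ (U : Y.Opens) (hU : IsAffineOpen U),
      Function.Bijective (Polynomial.eval₂RingHom (ι.hom.app (op U)).hom ((Sh.presheaf.map (homOfLE le_top).op).hom z)))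
    (pC : PC ⟶ Y)
    (chartC : ∀ (U : Y.Opens) (hU : IsAffineOpen U), (((pC ⁻¹ᵁ U : PC.Opens) : Scheme.{u}) ≅ Proj (Sh.deg U hU)))
    (hPC : RelProj.IsRelProj Sh pC chartC)
    (θ : ∀ (U : Y.Opens) (hU : IsAffineOpen U),
      CommRingCat.of (HomogeneousLocalization.Away (Sh.deg U hU) ((Sh.presheaf.map (homOfLE le_top).op).hom z)) ⟶
        𝒮.presheaf.obj (op U))
    (hθ : ∀ (U : Y.Opens) (hU : IsAffineOpen U)
      (q : HomogeneousLocalization.Away (Sh.deg U hU) ((Sh.presheaf.map (homOfLE le_top).op).hom z))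
      (k : ℕ) (x : 𝒮.presheaf.obj (op U)), x ∈ 𝒮.deg U hU k →
        q.val = Localization.mk ((ι.hom.app (op U)).hom x)
          ⟨(Sh.presheaf.map (homOfLE le_top).op).hom z ^ k,
            pow_mem (Submonoid.mem_powers ((Sh.presheaf.map (homOfLE le_top).op).hom z)) k⟩ →
        (θ U hU).hom q = x) :
    (∃! i : 𝒮.toQCAlg.spec ⟶ PC, ∀ (U : Y.Opens) (hU : IsAffineOpen U),
        𝒮.toQCAlg.ι U hU ≫ i =
          Spec.map (θ U hU) ≫
            Proj.awayι (Sh.deg U hU) ((Sh.presheaf.map (homOfLE le_top).op).hom z) (hz U hU) one_pos ≫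
              RelProj.emb pC chartC U hU) ∧
      ∀ i : 𝒮.toQCAlg.spec ⟶ PC, (∀ (U : Y.Opens) (hU : IsAffineOpen U),
        𝒮.toQCAlg.ι U hU ≫ i =
          Spec.map (θ U hU) ≫
            Proj.awayι (Sh.deg U hU) ((Sh.presheaf.map (homOfLE le_top).op).hom z) (hz U hU) one_pos ≫
              RelProj.emb pC chartC U hU) →
        IsOpenImmersion i ∧ IsAffineHom i ∧ i ≫ pC = 𝒮.toQCAlg.π ∧ i.ker = ⊥ ∧
          ∀ Xz : PC.Opens, (∀ (U : Y.Opens) (hU : IsAffineOpen U),
            Xz ⊓ pC ⁻¹ᵁ U =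
              (pC ⁻¹ᵁ U).ι ''ᵁ ((chartC U hU).hom ⁻¹ᵁ
                Proj.basicOpen (Sh.deg U hU) ((Sh.presheaf.map (homOfLE le_top).op).hom z))) →
            Set.range i.base = (Xz : Set PC) := by
  have hP : RelCone.IsPolyOver 𝒮 Sh ι z := ⟨hι, hz, hpoly⟩
  have hθeq : ∀ (U : Y.Opens) (hU : IsAffineOpen U),
      θ U hU = CommRingCat.ofHom (hP.awayZToBase U hU) := by
    intro U hU
    refine CommRingCat.hom_ext ?_
    refine Groth.Agent.H41.ConeImmLib.ringHom_ext_away hP U hU _ _ fun k y hy hm => ?_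
    have h2 : hP.awayZToBase U hU (HomogeneousLocalization.Away.mk (Sh.deg U hU) (hP.deg_z U hU) k
        ((ι.hom.app (op U)).hom y) hm) = hP.evalOne U hU ((ι.hom.app (op U)).hom y) :=
      hP.awayZToBase_of_val U hU _ _ k rfl
    have h1 : (θ U hU).hom (HomogeneousLocalization.Away.mk (Sh.deg U hU) (hP.deg_z U hU) k
        ((ι.hom.app (op U)).hom y) hm) = y := hθ U hU _ k y hy rfl
    rw [h1]
    exact (h2.trans (hP.evalOne_ι U hU y)).symm
  have hconv : ∀ i : 𝒮.toQCAlg.spec ⟶ PC,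
      (∀ (U : Y.Opens) (hU : IsAffineOpen U),
        𝒮.toQCAlg.ι U hU ≫ i =
          Spec.map (θ U hU) ≫
            Proj.awayι (Sh.deg U hU) ((Sh.presheaf.map (homOfLE le_top).op).hom z) (hz U hU) one_pos ≫
              RelProj.emb pC chartC U hU) ↔ RelCone.IsConeImm 𝒮 hP pC chartC i := by
    intro i
    constructor
    · intro hi U hU
      rw [← hθeq U hU]
      exact hi U hU
    · intro hi U hU
      rw [hθeq U hU]
      exact hi U hU
  obtain ⟨i₀, hi₀, huniq⟩ := Groth.Agent.H41.ConeImmLib.existsUnique_coneImm hP pC chartC hPC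
  refine ⟨⟨i₀, (hconv i₀).mpr hi₀, fun i' hi' => huniq i' ((hconv i').mp hi')⟩, fun i hi => ?_⟩
  have hi' := (hconv i).mp hi
  refine ⟨Groth.Agent.H41.ConeImmLib.isOpenImmersion_coneImm hP pC chartC hPC i hi',
    Groth.Agent.H41.ConeImmLib.isAffineHom_coneImm hP pC chartC hPC i hi',
    Groth.Agent.H41.ProjQ.coneImm_over hP pC chartC hPC i hi',
    Groth.Agent.H41.ConeImmLib.ker_coneImm hP pC chartC i hi', fun Xz hXz => ?_⟩
  rw [Groth.Agent.H41.ProjConeLib.range_coneImm hP pC chartC i hi',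
    Groth.Agent.H41.ConeImmLib.eq_zOpen_of_charts pC chartC hPC Xz hXz]

end Groth.Agent.S8289
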