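import Groth.Statements.S8297
import Groth.Agent.H41.ProjConeLib2

set_option autoImplicit false
universe u
open CategoryTheory CategoryTheory.Limits AlgebraicGeometry Opposite TopologicalSpace
open scoped HomogeneousIdeal
noncomputable section
open EGA2

namespace Groth.Agent.S8297

/-- The relation i(C) = Ĉ − j(X): let 𝒮 be a quasi-coherent positively graded O_Y-algebra with 𝒮_0 =
O_Y, Ŝ = 𝒮[z] (given through a graded homomorphism ι : 𝒮 → Ŝ and a global section z of degree one,
the map 𝒮(U)[X] → Ŝ(U), X ↦ z, being bijective over every affine open U), C = Spec(𝒮) the affine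
cone, Ĉ = Proj(Ŝ) the projective cone and X = Proj(𝒮), each relative homogeneous spectrum given with
its charts; let i : C → Ĉ be the canonical open immersion (chartwise Spec of Ŝ(U)_(z) → 𝒮(U), z ↦ 1,
followed by the inclusion of D_+(z)), θ : Ŝ → 𝒮 the graded retraction of ι sending z to 0, and j : X
→ Ĉ the morphism chartwise induced by θ (the immersion of the locus at infinity). Then the
underlying set of the image of i is the complement of the image of j. -/
theorem result {Y PC P : Scheme.{u}} (𝒮 𝒮h : RelProj.QCGrAlg Y) (h0 : RelCone.StrZeroBij 𝒮)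
    (ι : 𝒮.toQCAlg ⟶ 𝒮h.toQCAlg) (z : 𝒮h.presheaf.obj (op ⊤)) (hz : RelCone.IsPolyOver 𝒮 𝒮h ι z)
    (pC : PC ⟶ Y)
    (chartC : ∀ (U : Y.Opens) (hU : IsAffineOpen U), (((pC ⁻¹ᵁ U : PC.Opens) : Scheme.{u}) ≅ Proj (𝒮h.deg U hU)))
    (hPC : RelProj.IsRelProj 𝒮h pC chartC)
    (i : 𝒮.toQCAlg.spec ⟶ PC) (hi : RelCone.IsConeImm 𝒮 hz pC chartC i)
    (θ : 𝒮h.toQCAlg ⟶ 𝒮.toQCAlg) (hθ : RelProj.IsGradedHom θ) (hιθ : ι ≫ θ = 𝟙 _)
    (hθz : (θ.hom.app (op ⊤)).hom z = 0)
    (hirr : ∀ (U : Y.Opens) (hU : IsAffineOpen U),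
      (𝒮.deg U hU)₊ ≤ ((𝒮h.deg U hU)₊).map (RelProj.gradedHomAt θ hθ U hU))
    (p : P ⟶ Y)
    (chart : ∀ (U : Y.Opens) (hU : IsAffineOpen U), (((p ⁻¹ᵁ U : P.Opens) : Scheme.{u}) ≅ Proj (𝒮.deg U hU)))
    (hP : RelProj.IsRelProj 𝒮 p chart) (j : P ⟶ PC) (hj : RelProj.IsRelProjMap θ hθ hirr chartC chart j) :
    Set.range i.base = (Set.range j.base)ᶜ := by
  rw [Groth.Agent.H41.ProjConeLib.range_coneImm hz pC chartC i hi]
  ext x
  rw [Set.mem_compl_iff]
  constructor
  · intro hx hrange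
    obtain ⟨c, rfl⟩ := hrange
    obtain ⟨U, hU0, hcU, -⟩ := Opens.isBasis_iff_nbhd.1 Y.isBasis_affineOpens
      (show p.base c ∈ (⊤ : Y.Opens) from trivial)
    have hU : IsAffineOpen U := hU0
    obtain ⟨Q, rfl⟩ := Groth.Agent.H41.ProjConeLib.exists_emb_eq p chart U hU c hcU
    have hjQ : j.base ((RelProj.emb p chart U hU).base Q) =
        (RelProj.emb pC chartC U hU).base
          ((Proj.map (RelProj.gradedHomAt θ hθ U hU) (hirr U hU)).base Q) :=
      congrArg (fun k => k.base Q)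
        (Groth.Agent.H41.ProjConeLib.emb_comp_relProjMap pC chartC p chart θ hθ hirr j hj U hU)
    have hx1 : j.base ((RelProj.emb p chart U hU).base Q) ∈
        Groth.Agent.H41.ProjConeLib.zOpen (z := z) pC chartC := hx
    rw [hjQ, Groth.Agent.H41.ProjConeLib.mem_zOpen_iff pC chartC hPC U hU,
      Proj.mem_basicOpen] at hx1
    apply hx1
    show (θ.hom.app (op U)).hom (RelCone.restrictTop 𝒮h z U) ∈ Q.asHomogeneousIdeal
    rw [Groth.Agent.H41.ProjConeLib.θ_restrictTop z θ hθz U]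
    exact zero_mem _
  · intro hx
    by_contra hxz
    obtain ⟨U, hU0, hxU, -⟩ := Opens.isBasis_iff_nbhd.1 Y.isBasis_affineOpens
      (show pC.base x ∈ (⊤ : Y.Opens) from trivial)
    have hU : IsAffineOpen U := hU0
    obtain ⟨P, rfl⟩ := Groth.Agent.H41.ProjConeLib.exists_emb_eq pC chartC U hU x hxU
    have hzP : RelCone.restrictTop 𝒮h z U ∈ P.asHomogeneousIdeal.toIdeal := by
      by_contra hn
      exact hxz ((Groth.Agent.H41.ProjConeLib.mem_zOpen_iff pC chartC hPC U hU P).2
        ((Proj.mem_basicOpen _ _ _).2 hn))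
    have hrel : ¬ HomogeneousIdeal.irrelevant (𝒮.deg U hU) ≤
        P.asHomogeneousIdeal.comap (RelProj.gradedHomAt ι hz.graded U hU) := by
      intro hle
      exact P.not_irrelevant_le (fun b hb =>
        Groth.Agent.H41.ProjConeLib.irrelevant_le_of_mem hz U hU P.asHomogeneousIdeal.toIdeal
          hzP (fun a ha => hle ha) hb)
    obtain ⟨Q, hQ⟩ : ∃ Q : ProjectiveSpectrum (𝒮.deg U hU), Q.asHomogeneousIdeal =
        P.asHomogeneousIdeal.comap (RelProj.gradedHomAt ι hz.graded U hU) :=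
      ⟨⟨_, Ideal.comap_isPrime (RelProj.gradedHomAt ι hz.graded U hU)
        P.asHomogeneousIdeal.toIdeal, hrel⟩, rfl⟩
    have hPQ : (Proj.map (RelProj.gradedHomAt θ hθ U hU) (hirr U hU)).base Q = P := by
      refine ProjectiveSpectrum.ext (HomogeneousIdeal.toIdeal_injective (Ideal.ext fun b => ?_))
      show (θ.hom.app (op U)).hom b ∈ Q.asHomogeneousIdeal ↔ b ∈ P.asHomogeneousIdeal.toIdeal
      rw [hQ]
      show (ι.hom.app (op U)).hom ((θ.hom.app (op U)).hom b) ∈ P.asHomogeneousIdeal.toIdeal ↔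
        b ∈ P.asHomogeneousIdeal.toIdeal
      have hd : b - (ι.hom.app (op U)).hom ((θ.hom.app (op U)).hom b) ∈
          P.asHomogeneousIdeal.toIdeal :=
        ((Ideal.span_singleton_le_iff_mem _).2 hzP)
          (Groth.Agent.H41.ProjConeLib.sub_ι_θ_mem hz U hU θ hιθ
            (Groth.Agent.H41.ProjConeLib.θ_restrictTop z θ hθz U) b)
      constructor
      · intro h1
        have h4 := Ideal.add_mem _ hd h1
        rwa [sub_add_cancel] at h4
      · intro h1
        have h4 := Ideal.sub_mem _ h1 hd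
        rwa [sub_sub_cancel] at h4
    apply hx
    refine ⟨(RelProj.emb p chart U hU).base Q, ?_⟩
    have hjQ : j.base ((RelProj.emb p chart U hU).base Q) =
        (RelProj.emb pC chartC U hU).base
          ((Proj.map (RelProj.gradedHomAt θ hθ U hU) (hirr U hU)).base Q) :=
      congrArg (fun k => k.base Q)
        (Groth.Agent.H41.ProjConeLib.emb_comp_relProjMap pC chartC p chart θ hθ hirr j hj U hU)
    rw [hjQ, hPQ]

end Groth.Agent.S8297
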