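import Groth.Statements.S8298
import Groth.Agent.H41.ProjConeLib2

set_option autoImplicit false
universe u
open CategoryTheory CategoryTheory.Limits AlgebraicGeometry Opposite TopologicalSpace
open scoped HomogeneousIdeal
noncomputable section
open EGA2

namespace Groth.Agent.S8298

/-- The pointed projective cone: let 𝒮 be a quasi-coherent positively graded O_Y-algebra with 𝒮_0 = O_Y,
aug its augmentation and ε : Y → C = Spec(𝒮) the vertex section; let Ŝ = 𝒮[z] (given through a
graded homomorphism ι : 𝒮 → Ŝ and a degree-one global section z, polynomial over every affine open),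
Ĉ = Proj(Ŝ) its relative homogeneous spectrum with charts, and i : C → Ĉ the canonical open
immersion. Then the open subset of Ĉ which is the union, over the affine opens U of Y, of the chart
images of the opens of Proj Ŝ(U) where the morphism induced by ι(U) : 𝒮(U) → Ŝ(U) is defined (the
complement of V_+ of the ideal generated by ι(𝒮(U)_+)) has underlying set exactly the complement of
i(ε(Y)): the pointed projective cone Ê is Ĉ minus its vertex section. -/
theorem result {Y PC : Scheme.{u}} (𝒮 𝒮h : RelProj.QCGrAlg Y) (h0 : RelCone.StrZeroBij 𝒮)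
    (ι : 𝒮.toQCAlg ⟶ 𝒮h.toQCAlg) (z : 𝒮h.presheaf.obj (op ⊤)) (hz : RelCone.IsPolyOver 𝒮 𝒮h ι z)
    (pC : PC ⟶ Y)
    (chartC : ∀ (U : Y.Opens) (hU : IsAffineOpen U), (((pC ⁻¹ᵁ U : PC.Opens) : Scheme.{u}) ≅ Proj (𝒮h.deg U hU)))
    (hPC : RelProj.IsRelProj 𝒮h pC chartC)
    (aug : 𝒮.toQCAlg ⟶ RelSpec.QCAlg.unit Y) (haug : RelCone.IsAugmentation 𝒮 aug)
    (ε : Y ⟶ 𝒮.toQCAlg.spec) (hε : RelCone.IsVertex 𝒮 aug ε)
    (i : 𝒮.toQCAlg.spec ⟶ PC) (hi : RelCone.IsConeImm 𝒮 hz pC chartC i) :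
    ((RelCone.pointedProjCone 𝒮 hz pC chartC : PC.Opens) : Set PC) = (Set.range (ε ≫ i).base)ᶜ := by
  ext x
  rw [Set.mem_compl_iff]
  constructor
  · intro hx hrange
    obtain ⟨t, rfl⟩ := hrange
    obtain ⟨U, hU0, htU, -⟩ := Opens.isBasis_iff_nbhd.1 Y.isBasis_affineOpens
      (show t ∈ (⊤ : Y.Opens) from trivial)
    have hU : IsAffineOpen U := hU0
    have hr : t ∈ Set.range hU.fromSpec.base := by
      rw [hU.range_fromSpec]; exact htU
    obtain ⟨s, rfl⟩ := hr
    have h2 : ε.base (hU.fromSpec.base s) =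
        (𝒮.toQCAlg.ι U hU).base ((Spec.map (aug.hom.app (op U))).base s) :=
      congrArg (fun k => k.base s) (hε.chart U hU)
    have hx1 : i.base (ε.base (hU.fromSpec.base s)) ∈
        RelCone.pointedProjCone 𝒮 hz pC chartC := hx
    rw [h2, Groth.Agent.H41.ProjConeLib.coneImm_apply hz pC chartC i hi U hU,
      Groth.Agent.H41.ProjConeLib.mem_pointedProjCone_iff hz pC chartC hPC U hU,
      RelCone.mem_domOpen] at hx1
    obtain ⟨a, ha, hna⟩ := hx1
    have hyV : (Spec.map (aug.hom.app (op U))).base s ∉ RelCone.vertexCompl (𝒮.deg U hU) :=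
      (Groth.Agent.H41.RelConeLib.mem_range_aug_iff 𝒮 aug h0 haug U hU _).1 ⟨s, rfl⟩
    rw [Groth.Agent.H41.RelConeLib.mem_vertexCompl_iff] at hyV
    have hna' : a ∉ Ideal.comap (ι.hom.app (op U)).hom
        ((Proj.awayι (𝒮h.deg U hU) (RelCone.restrictTop 𝒮h z U) (hz.deg_z U hU) one_pos).base
          ((Spec.map (CommRingCat.ofHom (hz.awayZToBase U hU))).base
            ((Spec.map (aug.hom.app (op U))).base s))).asHomogeneousIdeal.toIdeal := hna
    obtain ⟨j, hj, hnj⟩ := Groth.Agent.H41.RelConeLib.exists_pos_decompose_not_mem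
      (𝒮.deg U hU) _ ha hna'
    apply hnj
    refine (Groth.Agent.H41.ProjConeLib.mem_awayι_iff hz U hU
      ((Spec.map (aug.hom.app (op U))).base s) hj _
      (SetLike.coe_mem (DirectSum.decompose (𝒮.deg U hU) a j))).2 ?_
    by_contra hcon
    exact hyV ⟨_, HomogeneousIdeal.mem_irrelevant_of_mem _ hj (SetLike.coe_mem _), hcon⟩
  · intro hx
    by_contra hxE
    obtain ⟨U, hU0, hxU, -⟩ := Opens.isBasis_iff_nbhd.1 Y.isBasis_affineOpens
      (show pC.base x ∈ (⊤ : Y.Opens) from trivial)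
    have hU : IsAffineOpen U := hU0
    obtain ⟨P, rfl⟩ := Groth.Agent.H41.ProjConeLib.exists_emb_eq pC chartC U hU x hxU
    have hP : P ∉ RelCone.domOpen (RelProj.gradedHomAt ι hz.graded U hU) := fun hP =>
      hxE ((Groth.Agent.H41.ProjConeLib.mem_pointedProjCone_iff hz pC chartC hPC U hU P).2 hP)
    rw [RelCone.mem_domOpen] at hP
    push Not at hP
    have hz' : RelCone.restrictTop 𝒮h z U ∉ P.asHomogeneousIdeal.toIdeal := by
      intro hzP
      exact P.not_irrelevant_le (fun b hb =>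
        Groth.Agent.H41.ProjConeLib.irrelevant_le_of_mem hz U hU P.asHomogeneousIdeal.toIdeal
          hzP hP hb)
    have hPz : P ∈ Proj.basicOpen (𝒮h.deg U hU) (RelCone.restrictTop 𝒮h z U) :=
      (Proj.mem_basicOpen _ _ _).2 hz'
    obtain ⟨y, hy⟩ := Groth.Agent.H41.ProjConeLib.exists_of_mem_basicOpen_z hz U hU P hPz
    have hyV : y ∉ RelCone.vertexCompl (𝒮.deg U hU) := by
      rw [Groth.Agent.H41.RelConeLib.mem_vertexCompl_iff]
      rintro ⟨a, ha, hna⟩
      obtain ⟨j, hj, hnj⟩ := Groth.Agent.H41.RelConeLib.exists_pos_decompose_not_mem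
        (𝒮.deg U hU) y.asIdeal ha hna
      apply hnj
      rw [← Groth.Agent.H41.ProjConeLib.mem_awayι_iff hz U hU y hj _ (SetLike.coe_mem _), hy]
      exact hP _ (HomogeneousIdeal.mem_irrelevant_of_mem _ hj (SetLike.coe_mem _))
    obtain ⟨s, hs⟩ := (Groth.Agent.H41.RelConeLib.mem_range_aug_iff 𝒮 aug h0 haug U hU y).2 hyV
    apply hx
    refine ⟨hU.fromSpec.base s, ?_⟩
    have h2 : ε.base (hU.fromSpec.base s) =
        (𝒮.toQCAlg.ι U hU).base ((Spec.map (aug.hom.app (op U))).base s) :=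
      congrArg (fun k => k.base s) (hε.chart U hU)
    show i.base (ε.base (hU.fromSpec.base s)) = _
    rw [h2, hs, Groth.Agent.H41.ProjConeLib.coneImm_apply hz pC chartC i hi U hU, hy]

end Groth.Agent.S8298
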