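import Groth.Statements.S8299
import Groth.Agent.H41.RelConeLib

set_option autoImplicit false
universe u
open CategoryTheory CategoryTheory.Limits AlgebraicGeometry Opposite TopologicalSpace
open scoped HomogeneousIdeal
noncomputable section
open EGA2

namespace Groth.Agent.S8299

/-- Let q : Y' → Y be a morphism of schemes, 𝒮 and 𝒮' quasi-coherent positively graded algebras over O_Y
and O_{Y'} with 𝒮_0 = O_Y and 𝒮'_0 = O_{Y'}, and φ : 𝒮 → q_*𝒮' a graded q-morphism (a map of sheaves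
of rings compatible with the structure maps through q^♯, whose components 𝒮(U) → 𝒮'(U') for affine
opens U' ⊆ q⁻¹(U) preserve degrees, recorded as graded ring homomorphisms); let C = Spec(𝒮), C' =
Spec(𝒮') be the affine cones and Φ : C' → C the morphism Spec(φ), i.e. the morphism which on the
charts over affine opens U' ⊆ q⁻¹(U) is Spec of 𝒮(U) → 𝒮'(U'); let E ⊆ C and E' ⊆ C' be the pointed
affine cones (defined chart by chart as the complements of V(𝒮(U)_+), resp. V(𝒮'(U')_+)). Then the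
inverse image of E under Φ is contained in E'. -/
theorem result {Y Y' : Scheme.{u}} (q : Y' ⟶ Y) (𝒮 : RelProj.QCGrAlg Y) (𝒮' : RelProj.QCGrAlg Y')
    (h0 : RelCone.StrZeroBij 𝒮) (h0' : RelCone.StrZeroBij 𝒮')
    (u : 𝒮.presheaf ⟶ q.base _* 𝒮'.presheaf)
    (hu : 𝒮.str ≫ u = q.c ≫ (TopCat.Presheaf.pushforward CommRingCat.{u} q.base).map 𝒮'.str)
    (φ : ∀ (U : Y.Opens) (hU : IsAffineOpen U) (U' : Y'.Opens) (hU' : IsAffineOpen U') (_ : U' ≤ q ⁻¹ᵁ U),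
      𝒮.deg U hU →+*ᵍ 𝒮'.deg U' hU')
    (hφ : ∀ (U : Y.Opens) (hU : IsAffineOpen U) (U' : Y'.Opens) (hU' : IsAffineOpen U') (hle : U' ≤ q ⁻¹ᵁ U),
      (φ U hU U' hU' hle).toRingHom =
        ((u.app (op U) : 𝒮.presheaf.obj (op U) ⟶ 𝒮'.presheaf.obj (op (q ⁻¹ᵁ U))) ≫
          𝒮'.presheaf.map (homOfLE hle).op).hom)
    (Φ : 𝒮'.toQCAlg.spec ⟶ 𝒮.toQCAlg.spec)
    (hΦ : ∀ (U : Y.Opens) (hU : IsAffineOpen U) (U' : Y'.Opens) (hU' : IsAffineOpen U') (hle : U' ≤ q ⁻¹ᵁ U),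
      𝒮'.toQCAlg.ι U' hU' ≫ Φ =
        Spec.map ((u.app (op U) : 𝒮.presheaf.obj (op U) ⟶ 𝒮'.presheaf.obj (op (q ⁻¹ᵁ U))) ≫
          𝒮'.presheaf.map (homOfLE hle).op) ≫ 𝒮.toQCAlg.ι U hU) :
    Φ ⁻¹ᵁ RelCone.pointedCone 𝒮 ≤ RelCone.pointedCone 𝒮' := by
  intro x' hx'
  obtain ⟨U, hU, U', hU', hle, y', rfl⟩ :=
    Groth.Agent.H41.RelConeLib.exists_chart_pair q 𝒮'.toQCAlg x'
  have hΦ' : 𝒮'.toQCAlg.ι U' hU' ≫ Φ =
      Spec.map (Groth.Agent.H41.RelConeLib.uloc q 𝒮.toQCAlg 𝒮'.toQCAlg u U U' hle) ≫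
        𝒮.toQCAlg.ι U hU := hΦ U hU U' hU' hle
  have hΦx : Φ.base ((𝒮'.toQCAlg.ι U' hU').base y') =
      (𝒮.toQCAlg.ι U hU).base
        ((Spec.map (Groth.Agent.H41.RelConeLib.uloc q 𝒮.toQCAlg 𝒮'.toQCAlg u U U' hle)).base y') :=
    congrArg (fun k => k.base y') hΦ'
  have h1 : (𝒮.toQCAlg.ι U hU).base
      ((Spec.map (Groth.Agent.H41.RelConeLib.uloc q 𝒮.toQCAlg 𝒮'.toQCAlg u U U' hle)).base y') ∈
      RelCone.pointedCone 𝒮 := by
    rw [← hΦx]; exact hx'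
  rw [Groth.Agent.H41.RelConeLib.mem_pointedCone_iff] at h1
  have h2 := Groth.Agent.H41.RelConeLib.mem_vertexCompl_of_map (φ U hU U' hU' hle)
    (Groth.Agent.H41.RelConeLib.uloc q 𝒮.toQCAlg 𝒮'.toQCAlg u U U' hle)
    (fun a => (congrArg (fun k => k a) (hφ U hU U' hU' hle)).symm) y' h1
  exact (Groth.Agent.H41.RelConeLib.mem_pointedCone_iff 𝒮' U' hU' y').2 h2

end Groth.Agent.S8299
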