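import Groth.Statements.S8302
import Mathlib
import Groth.Agent.H41.ModGlue
import Groth.Agent.H41.RelProjLib

set_option autoImplicit false
universe u
open CategoryTheory CategoryTheory.Limits AlgebraicGeometry Opposite TopologicalSpace
noncomputable section
open EGA2

namespace Groth.Agent.S8302

/-- The sections over `V` of a morphism between direct images. -/
def secMap {X S : Scheme.{u}} (f : X ⟶ S) [IsAffineHom f] {F G : X.Modules}
    (Ψ : (AMod.dirImg f).obj F ⟶ (AMod.dirImg f).obj G) (V : S.Opens) :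
    Γ(F, f ⁻¹ᵁ V) →ₗ[Γ(X, f ⁻¹ᵁ V)] Γ(G, f ⁻¹ᵁ V) :=
  (Ψ.val.app (op V)).hom

lemma secMap_res {X S : Scheme.{u}} (f : X ⟶ S) [IsAffineHom f] {F G : X.Modules}
    (Ψ : (AMod.dirImg f).obj F ⟶ (AMod.dirImg f).obj G) {V V' : S.Opens} (h : V ≤ V')
    (x : Γ(F, f ⁻¹ᵁ V')) :
    secMap f Ψ V (F.presheaf.map
        (homOfLE (show f ⁻¹ᵁ V ≤ f ⁻¹ᵁ V' from fun _ hy => h hy)).op x) =
      G.presheaf.map (homOfLE (show f ⁻¹ᵁ V ≤ f ⁻¹ᵁ V' from fun _ hy => h hy)).op
        (secMap f Ψ V' x) :=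
  PresheafOfModules.naturality_apply Ψ.val (homOfLE h).op x

/-- The case of a single scheme X affine over S and the identity morphism of X: let f : X → S be an
affine morphism and F, G quasi-coherent O_X-modules. Then the direct image u ↦ f_*(u) is a bijection
from the set of O_X-module homomorphisms F → G onto the set of homomorphisms f_*F → f_*G of modules
over the direct-image algebra f_*O_X. -/
theorem result {X S : Scheme.{u}} (f : X ⟶ S) [IsAffineHom f]
    (F G : X.Modules) (hF : Coh.IsQCoh F) (hG : Coh.IsQCoh G) :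
    Function.Bijective
      ((AMod.dirImg f).map : (F ⟶ G) → ((AMod.dirImg f).obj F ⟶ (AMod.dirImg f).obj G)) := by
  haveI : F.IsQuasicoherent := hF
  haveI : G.IsQuasicoherent := hG
  have hcover : IsOpenCover (fun V : S.affineOpens => f ⁻¹ᵁ V.1) :=
    Groth.Agent.H41.RelProjLib.iSup_preimage_affineOpens f
  have haff : ∀ V : S.affineOpens, IsAffineOpen (f ⁻¹ᵁ V.1) := fun V => V.2.preimage f
  constructor
  · intro φ₁ φ₂ h
    refine Groth.Agent.H41.ModGlue.hom_ext_of_affine_cover φ₁ φ₂ _ hcover haff fun V x => ?_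
    have := congrArg (fun Ψ => secMap f Ψ V.1 x) h
    exact this
  · intro Ψ
    have hdir : Groth.Agent.H41.ModGlue.FamDirected (F := F) (G := G)
        (fun V : S.affineOpens => f ⁻¹ᵁ V.1) (fun V => secMap f Ψ V.1) := by
      intro V V' y hy hy'
      obtain ⟨W, hW, hyW, hWle⟩ := Opens.isBasis_iff_nbhd.mp S.isBasis_affineOpens
        (show f.base y ∈ V.1 ⊓ V'.1 from ⟨hy, hy'⟩)
      refine ⟨⟨W, hW⟩, hyW, fun _ h => (hWle h).1, fun _ h => (hWle h).2, fun x => ?_,
        fun x => ?_⟩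
      · exact secMap_res f Ψ (hWle.trans inf_le_left) x
      · exact secMap_res f Ψ (hWle.trans inf_le_right) x
    obtain ⟨φ, hφ⟩ := Groth.Agent.H41.ModGlue.exists_hom_of_affine_family
      (fun V : S.affineOpens => f ⁻¹ᵁ V.1) haff (fun V => secMap f Ψ V.1) hdir hcover
    refine ⟨φ, ?_⟩
    apply SheafOfModules.hom_ext
    ext V' x
    show secMap f ((AMod.dirImg f).map φ) V'.unop x = secMap f Ψ V'.unop x
    refine Groth.Agent.H8.section_eq_of_cover G _ _ fun y hy => ?_
    obtain ⟨W, hW, hyW, hWle⟩ := Opens.isBasis_iff_nbhd.mp S.isBasis_affineOpens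
      (show f.base y ∈ V'.unop from hy)
    refine ⟨f ⁻¹ᵁ W, fun _ h => hWle h, hyW, ?_⟩
    rw [← secMap_res f _ hWle, ← secMap_res f _ hWle]
    exact hφ ⟨W, hW⟩ _

end Groth.Agent.S8302
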