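import Mathlib
import Groth.Statements.S8304
import Groth.Agent.H22.SymIff
import Groth.Agent.H22.SymPoly
import Groth.Agent.H22.QCohLimits
import Groth.Agent.H8.StructureCoh

set_option autoImplicit false
universe u
open CategoryTheory CategoryTheory.Limits AlgebraicGeometry Opposite TopologicalSpace
open scoped HomogeneousIdeal
noncomputable section
open EGA2

namespace Groth.Agent.S8304

open Groth.Agent.H22 Groth.Agent.H22.SymConstr

/-- The map on sections of a morphism of modules, as a linear map. -/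
def appₗ {S : Scheme.{u}} {M N : S.Modules} (φ : M ⟶ N) (U : S.Opens) :
    Γ(M, U) →ₗ[Γ(S, U)] Γ(N, U) where
  toFun x := φ.app U x
  map_add' x y := map_add _ x y
  map_smul' r x := Scheme.Modules.Hom.app_smul φ r x

/-- The map on sections of a morphism out of the structure module, as a linear map on functions. -/
def appOut {S : Scheme.{u}} {N : S.Modules} (φ : Coh.structureModule S ⟶ N)
    (U : S.Opens) : Γ(S, U) →ₗ[Γ(S, U)] Γ(N, U) where
  toFun x := φ.app U x
  map_add' x y := map_add (φ.app U).hom x y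
  map_smul' r x := Scheme.Modules.Hom.app_smul φ r x

/-- The map on sections of a morphism into the structure module, as a linear map to functions. -/
def appIn {S : Scheme.{u}} {N : S.Modules} (φ : N ⟶ Coh.structureModule S)
    (U : S.Opens) : Γ(N, U) →ₗ[Γ(S, U)] Γ(S, U) where
  toFun x := φ.app U x
  map_add' x y := map_add (φ.app U).hom x y
  map_smul' r x := Scheme.Modules.Hom.app_smul φ r x

theorem result {Y : Scheme.{u}} (E : Y.Modules) (hE : Coh.IsQCoh E)
    (𝒮 𝒮h : RelProj.QCGrAlg Y) (j : E ⟶ 𝒮.toModule) (hS : RelProj.IsGrSymAlg E 𝒮 j)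
    (ι : 𝒮.toQCAlg ⟶ 𝒮h.toQCAlg) (z : 𝒮h.presheaf.obj (op ⊤)) (hz : RelCone.IsPolyOver 𝒮 𝒮h ι z)
    (k : Coh.structureModule Y ⟶ 𝒮h.toModule)
    (hk : ∀ U : Y.Opens, (k.app U) (1 : Γ(Y, U)) = RelCone.restrictTop 𝒮h z U) :
    RelProj.IsGrSymAlg (E ⊞ Coh.structureModule Y) 𝒮h
      (biprod.desc (j ≫ RelSpec.QCAlg.Hom.toModuleMap ι) k) := by
  have : E.IsQuasicoherent := hE
  have : (Coh.structureModule Y).IsQuasicoherent := Groth.Agent.H8.isQuasicoherent_structureModule' Y
  have : (E ⊞ Coh.structureModule Y).IsQuasicoherent := QCohLimits.isQuasicoherent_biprod _ _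
  obtain ⟨J, hJdef⟩ : ∃ J : E ⊞ Coh.structureModule Y ⟶ 𝒮h.toModule,
      J = biprod.desc (j ≫ RelSpec.QCAlg.Hom.toModuleMap ι) k := ⟨_, rfl⟩
  rw [← hJdef]
  have hJ1 : biprod.inl ≫ J = j ≫ RelSpec.QCAlg.Hom.toModuleMap ι := by
    rw [hJdef, biprod.inl_desc]
  have hJ2 : biprod.inr ≫ J = k := by rw [hJdef, biprod.inr_desc]
  have hJ : ∀ (U : Y.Opens) (p : Γ(E ⊞ Coh.structureModule Y, U)),
      toB 𝒮h.toQCAlg U (J.app U p) =
        (ι.hom.app (op U)).hom (toB 𝒮.toQCAlg U (j.app U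
          ((biprod.fst : E ⊞ Coh.structureModule Y ⟶ E).app U p))) +
        (𝒮h.str.app (op U)).hom (appIn (biprod.snd : E ⊞ Coh.structureModule Y ⟶ _) U p) *
          RelCone.restrictTop 𝒮h z U := by
    intro U p
    have hp := QCohLimits.biprod_total_app (M := E) (N := Coh.structureModule Y) U p
    obtain ⟨a, ha⟩ : ∃ a, a = (biprod.fst : E ⊞ Coh.structureModule Y ⟶ E).app U p := ⟨_, rfl⟩
    obtain ⟨r, hr⟩ : ∃ r : Γ(Y, U),
        r = appIn (biprod.snd : E ⊞ Coh.structureModule Y ⟶ _) U p := ⟨_, rfl⟩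
    have hr' : (biprod.snd : E ⊞ Coh.structureModule Y ⟶ _).app U p = r := hr.symm
    rw [← ha, ← hr]
    rw [← ha, hr'] at hp
    have e1 : J.app U ((biprod.inl : E ⟶ E ⊞ Coh.structureModule Y).app U a) =
        (RelSpec.QCAlg.Hom.toModuleMap ι).app U (j.app U a) :=
      congrArg (fun χ : E ⟶ 𝒮h.toModule => χ.app U a) hJ1
    have e2 : J.app U ((biprod.inr : Coh.structureModule Y ⟶ E ⊞ Coh.structureModule Y).app U r) =
        k.app U r :=
      congrArg (fun χ : Coh.structureModule Y ⟶ 𝒮h.toModule => χ.app U r) hJ2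
    have e3 : k.app U r = r • k.app U (1 : Γ(Y, U)) := by
      rw [← Scheme.Modules.Hom.app_smul k r (1 : Γ(Y, U))]
      congr 1
      exact (mul_one r).symm
    rw [← hp, map_add, e1, e2, e3, hk U]
    change toB 𝒮h.toQCAlg U ((RelSpec.QCAlg.Hom.toModuleMap ι).app U (j.app U a)) +
      toB 𝒮h.toQCAlg U (r • ofB 𝒮h.toQCAlg U (RelCone.restrictTop 𝒮h z U)) = _
    rw [toModuleMap_app, toB_smul, toB_ofB]
  refine ⟨isSymAlg_of_theta_bijective _ 𝒮h.toQCAlg J (fun U hU => ?_), fun U hU x => ?_⟩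
  · refine SymPoly.bijective_of_poly (R := Γ(Y, U)) (M := Γ(E, U))
      (P := Γ(E ⊞ Coh.structureModule Y, U)) (theta 𝒮.toQCAlg j U)
      (theta_bijective E 𝒮.toQCAlg j hS.1 U hU) (ι.hom.app (op U)).hom
      (RelCone.restrictTop 𝒮h z U) (hz.bij U hU) (theta 𝒮h.toQCAlg J U)
      (appₗ (biprod.inl : E ⟶ E ⊞ Coh.structureModule Y) U)
      (appOut (biprod.inr : Coh.structureModule Y ⟶ E ⊞ Coh.structureModule Y) U)
      (appₗ (biprod.fst : E ⊞ Coh.structureModule Y ⟶ E) U)
      (appIn (biprod.snd : E ⊞ Coh.structureModule Y ⟶ Coh.structureModule Y) U)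
      (fun m => congrArg (fun χ : E ⟶ E => χ.app U m)
        (biprod.inl_fst (X := E) (Y := Coh.structureModule Y)))
      (fun n => congrArg (fun χ : Coh.structureModule Y ⟶ Coh.structureModule Y => χ.app U n)
        (biprod.inr_snd (X := E) (Y := Coh.structureModule Y)))
      (fun m => congrArg (fun χ : E ⟶ Coh.structureModule Y => χ.app U m)
        (biprod.inl_snd (X := E) (Y := Coh.structureModule Y)))
      (fun n => congrArg (fun χ : Coh.structureModule Y ⟶ E => χ.app U n)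
        (biprod.inr_fst (X := E) (Y := Coh.structureModule Y)))
      (fun p => QCohLimits.biprod_total_app U p)
      (fun r => ?_) (fun p => ?_)
    · rw [theta_algebraMap, theta_algebraMap]
      exact (congrArg (fun χ : Y.presheaf ⟶ 𝒮h.presheaf => (χ.app (op U)).hom r) ι.comm).symm
    · rw [theta_ι, theta_ι, theta_algebraMap, hJ U p]
      congr 2
      exact (congrArg (fun χ : Y.presheaf ⟶ 𝒮h.presheaf => (χ.app (op U)).hom _) ι.comm).symm
  · change toB 𝒮h.toQCAlg U (J.app U x) ∈ 𝒮h.deg U hU 1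
    rw [hJ U x]
    refine add_mem (hz.graded U hU 1 _ (hS.2 U hU _)) ?_
    have := SetLike.mul_mem_graded (𝒮h.str_mem U hU
      (appIn (biprod.snd : E ⊞ Coh.structureModule Y ⟶ _) U x)) (hz.deg_z U hU)
    rwa [zero_add] at this

end Groth.Agent.S8304

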