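import Groth.Statements.S8306
import Mathlib
import Groth.Agent.H22.QCohH1

set_option linter.style.haveILetI false

set_option autoImplicit false
universe u
open CategoryTheory CategoryTheory.Limits AlgebraicGeometry Opposite TopologicalSpace
noncomputable section
open EGA2

namespace Groth.Agent.S8306

/-- Exactness: in the form it takes for the direct image: let f : X → S be an affine morphism and v : F
→ G an epimorphism between quasi-coherent O_X-modules. Then the direct image f_*(v) : f_*F → f_*G, a
homomorphism of modules over the direct-image algebra f_*O_X, is again an epimorphism. (The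
published statement says that the module on X attached to a quasi-coherent f_*O_X-module is an exact
functor of that module; since this functor is inverse to the direct image on quasi-coherent modules
and the direct image is left exact, its exactness amounts to the direct image preserving
epimorphisms between quasi-coherent modules.) -/
theorem result {X S : Scheme.{u}} (f : X ⟶ S) [IsAffineHom f]
    (F G : X.Modules) (hF : Coh.IsQCoh F) (hG : Coh.IsQCoh G) (v : F ⟶ G) [Epi v] :
    Epi ((AMod.dirImg f).map v) := by
  haveI : F.IsQuasicoherent := hF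
  haveI : G.IsQuasicoherent := hG
  haveI : (kernel v).IsQuasicoherent := Groth.Agent.H22.QCohLimits.isQuasicoherent_kernel v
  let T : ShortComplex X.Modules := ShortComplex.mk (kernel.ι v) v (kernel.condition v)
  have hT : T.ShortExact :=
    { exact := ShortComplex.exact_of_f_is_kernel T (kernelIsKernel v)
      mono_f := inferInstanceAs (Mono (kernel.ι v))
      epi_g := inferInstanceAs (Epi v) }
  haveI : T.X₁.IsQuasicoherent := inferInstanceAs (kernel v).IsQuasicoherent
  have hsurj : ∀ V : S.Opens, IsAffineOpen V → Function.Surjective (v.app (f ⁻¹ᵁ V)) :=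
    fun V hV => Groth.Agent.H22.QCohH1.app_surjective T hT (hV.preimage f)
  have h1 : Epi ((SheafOfModules.toSheaf (AMod.ringSheaf (RelSpec.QCAlg.directImage f))).map
      ((AMod.dirImg f).map v)) := by
    refine (TopCat.Sheaf.isLocallySurjective_iff_epi (X := S.toTopCat) (C := AddCommGrpCat.{u})
      _).mp ?_
    rw [TopCat.Presheaf.isLocallySurjective_iff]
    intro U t x hx
    obtain ⟨V, hVaff, hxV, hVU⟩ : ∃ V : S.Opens, IsAffineOpen V ∧ x ∈ V ∧ V ≤ U := by
      obtain ⟨V, hV, hxV, hVU⟩ := TopologicalSpace.Opens.isBasis_iff_nbhd.mp S.isBasis_affineOpens hx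
      exact ⟨V, hV, hxV, hVU⟩
    obtain ⟨s, hs⟩ := hsurj V hVaff
      (G.presheaf.map (homOfLE (show f ⁻¹ᵁ V ≤ f ⁻¹ᵁ U from fun y hy => hVU hy)).op t)
    exact ⟨V, hVU, ⟨s, hs⟩, hxV⟩
  exact (SheafOfModules.toSheaf _).epi_of_epi_map h1

end Groth.Agent.S8306
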