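import Groth.Statements.S8308
import Groth.Agent.H41.ProjQ5

set_option autoImplicit false
universe u
open CategoryTheory CategoryTheory.Limits AlgebraicGeometry Opposite TopologicalSpace
open scoped HomogeneousIdeal
noncomputable section
open EGA2

namespace Groth.Agent.S8308

/-- The canonical retraction of the pointed projective cone: let 𝒮 be a quasi-coherent positively graded
O_Y-algebra with 𝒮_0 = O_Y, Ŝ = 𝒮[z] (given through a graded homomorphism ι : 𝒮 → Ŝ and a global
section z of degree one, polynomial over every affine open), X = Proj(𝒮) and Ĉ = Proj(Ŝ) the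
relative homogeneous spectra with their charts, and Ê ⊆ Ĉ the pointed projective cone. There is
exactly one morphism p : Ê → X such that for every affine open U of Y and every f ∈ 𝒮(U) homogeneous
of positive degree, on the affine piece Spec Ŝ(U)_(ι f) of Ê (the standard open D_+(ι f) of Proj
Ŝ(U) carried into Ĉ by the chart) p is Spec of the canonical homomorphism 𝒮(U)_(f) → Ŝ(U)_(ι f)
followed by the standard open D_+(f) of Proj 𝒮(U) and the chart of X. Every such p is affine and
surjective, lies over Y, and is a retraction of the immersion at infinity: if j : X → Ĉ is the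
morphism chartwise induced by the graded retraction θ : Ŝ → 𝒮 of ι with θ(z) = 0, then j factors
through Ê and the factorisation followed by p is the identity of X. -/
theorem result {Y PC P : Scheme.{u}} (𝒮 𝒮h : RelProj.QCGrAlg Y) (h0 : RelCone.StrZeroBij 𝒮)
    (ι : 𝒮.toQCAlg ⟶ 𝒮h.toQCAlg) (z : 𝒮h.presheaf.obj (op ⊤)) (hz : RelCone.IsPolyOver 𝒮 𝒮h ι z)
    (pC : PC ⟶ Y)
    (chartC : ∀ (U : Y.Opens) (hU : IsAffineOpen U), (((pC ⁻¹ᵁ U : PC.Opens) : Scheme.{u}) ≅ Proj (𝒮h.deg U hU)))
    (hPC : RelProj.IsRelProj 𝒮h pC chartC)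
    (p : P ⟶ Y)
    (chart : ∀ (U : Y.Opens) (hU : IsAffineOpen U), (((p ⁻¹ᵁ U : P.Opens) : Scheme.{u}) ≅ Proj (𝒮.deg U hU)))
    (hP : RelProj.IsRelProj 𝒮 p chart) :
    (∃! r : ((RelCone.pointedProjCone 𝒮 hz pC chartC : PC.Opens) : Scheme.{u}) ⟶ P,
      (∀ (U : Y.Opens) (hU : IsAffineOpen U) (d : ℕ) (hd : 0 < d) (f : 𝒮.presheaf.obj (op U)) (hf : f ∈ 𝒮.deg U hU d)
        (g : Spec (CommRingCat.of (HomogeneousLocalization.Away (𝒮h.deg U hU) ((RelProj.gradedHomAt ι hz.graded U hU) f))) ⟶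
          ((RelCone.pointedProjCone 𝒮 hz pC chartC : PC.Opens) : Scheme.{u})),
        g ≫ (RelCone.pointedProjCone 𝒮 hz pC chartC).ι =
            Proj.awayι (𝒮h.deg U hU) ((RelProj.gradedHomAt ι hz.graded U hU) f) ((RelProj.gradedHomAt ι hz.graded U hU).2 hf) hd ≫
              RelProj.emb pC chartC U hU →
          g ≫ r =
            Spec.map (CommRingCat.ofHom (HomogeneousLocalization.Away.map (RelProj.gradedHomAt ι hz.graded U hU) f)) ≫
              Proj.awayι (𝒮.deg U hU) f hf hd ≫ RelProj.emb p chart U hU)) ∧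
    ∀ r : ((RelCone.pointedProjCone 𝒮 hz pC chartC : PC.Opens) : Scheme.{u}) ⟶ P,
      (∀ (U : Y.Opens) (hU : IsAffineOpen U) (d : ℕ) (hd : 0 < d) (f : 𝒮.presheaf.obj (op U)) (hf : f ∈ 𝒮.deg U hU d)
        (g : Spec (CommRingCat.of (HomogeneousLocalization.Away (𝒮h.deg U hU) ((RelProj.gradedHomAt ι hz.graded U hU) f))) ⟶
          ((RelCone.pointedProjCone 𝒮 hz pC chartC : PC.Opens) : Scheme.{u})),
        g ≫ (RelCone.pointedProjCone 𝒮 hz pC chartC).ι =
            Proj.awayι (𝒮h.deg U hU) ((RelProj.gradedHomAt ι hz.graded U hU) f) ((RelProj.gradedHomAt ι hz.graded U hU).2 hf) hd ≫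
              RelProj.emb pC chartC U hU →
          g ≫ r =
            Spec.map (CommRingCat.ofHom (HomogeneousLocalization.Away.map (RelProj.gradedHomAt ι hz.graded U hU) f)) ≫
              Proj.awayι (𝒮.deg U hU) f hf hd ≫ RelProj.emb p chart U hU) →
      IsAffineHom r ∧ Function.Surjective r.base ∧ r ≫ p = (RelCone.pointedProjCone 𝒮 hz pC chartC).ι ≫ pC ∧
        ∀ (θ : 𝒮h.toQCAlg ⟶ 𝒮.toQCAlg) (hθ : RelProj.IsGradedHom θ), ι ≫ θ = 𝟙 _ →
          (θ.hom.app (op ⊤)).hom z = 0 →
          ∀ (hirr : ∀ (U : Y.Opens) (hU : IsAffineOpen U),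
              (𝒮.deg U hU)₊ ≤ ((𝒮h.deg U hU)₊).map (RelProj.gradedHomAt θ hθ U hU))
            (j : P ⟶ PC), RelProj.IsRelProjMap θ hθ hirr chartC chart j →
            ∀ j' : P ⟶ ((RelCone.pointedProjCone 𝒮 hz pC chartC : PC.Opens) : Scheme.{u}), j' ≫ (RelCone.pointedProjCone 𝒮 hz pC chartC).ι = j → j' ≫ r = 𝟙 P := by
  have hW : RelProj.domQ (RelProj.QGrHom.ofHom ι hz.graded) pC chartC =
      RelCone.pointedProjCone 𝒮 hz pC chartC :=
    Groth.Agent.H41.ProjQ.domQ_ofHom_eq ι hz.graded pC chartC hPC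
  obtain ⟨v₀, hv₀, hv₀u⟩ := Groth.Agent.H41.ProjQ.existsUnique_isProjQMapOn
    (RelProj.QGrHom.ofHom ι hz.graded) p chart pC chartC hP hPC
  have key := fun r => Groth.Agent.H41.ProjQ.diagEq_iff ι hz.graded p chart pC chartC hP hPC
    (RelCone.pointedProjCone 𝒮 hz pC chartC) hW r
  refine ⟨⟨(PC.isoOfEq hW).inv ≫ v₀, ?_, ?_⟩, ?_⟩
  · refine (key _).mpr ?_
    rw [Iso.hom_inv_id_assoc]
    exact hv₀
  · intro r hr
    have h1 := hv₀u _ ((key r).mp hr)
    rw [← h1, Iso.inv_hom_id_assoc]
  · intro r hr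
    have hv := (key r).mp hr
    refine ⟨?_, ?_, ?_, ?_⟩
    · have haff := Groth.Agent.H41.ProjQ.isAffineHom_of_isProjQMapOn
        (RelProj.QGrHom.ofHom ι hz.graded) p chart pC chartC hP hPC _ hv
      exact (MorphismProperty.cancel_left_of_respectsIso @IsAffineHom (PC.isoOfEq hW).hom r).mp haff
    · intro x
      obtain ⟨U, hU, d, hd, f, hf, q, hq, hqx⟩ :=
        Groth.Agent.H41.ProjQ.exists_standard_open p chart x
      have hq' : q ∈ Proj.basicOpen (𝒮.deg U hU) f := hq
      rw [← Proj.opensRange_awayι (𝒮.deg U hU) f hf hd] at hq'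
      obtain ⟨y, hy⟩ := hq'
      have hret : (Groth.Agent.H41.ProjQ.evalZeroGr hz U hU).comp
          ((RelProj.QGrHom.ofHom ι hz.graded).gradedAt U hU U hU
            (Groth.Agent.H41.ProjQ.le_id U)) = GradedRingHom.id _ := by
        rw [Groth.Agent.H41.ProjQ.gradedAt_self]
        exact Groth.Agent.H41.ProjQ.evalZeroGr_comp hz U hU
      obtain ⟨w, hw⟩ := Groth.Agent.H41.ProjQ.surjective_spec_away_map_of_retraction _ _ hret f y
      have hc := (Groth.Agent.H41.ProjQ.isProjQMapOn_iff _ p chart pC chartC _).mp hv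
        (Groth.Agent.H41.ProjQ.diag U hU hd f hf)
      refine ⟨(PC.isoOfEq hW).hom.base ((Groth.Agent.H41.ProjQ.lift _ pC chartC
        (Groth.Agent.H41.ProjQ.diag U hU hd f hf)).base w), ?_⟩
      have h1 := congrArg (fun k => k.base w) hc
      refine h1.trans ?_
      show (RelProj.emb p chart U hU).base ((Proj.awayι (𝒮.deg U hU) f hf hd).base
        ((Spec.map (CommRingCat.ofHom (HomogeneousLocalization.Away.map
          ((RelProj.QGrHom.ofHom ι hz.graded).gradedAt U hU U hU
            (Groth.Agent.H41.ProjQ.le_id U)) f))).base w)) = x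
      rw [hw, hy]
      exact hqx
    · have hover := Groth.Agent.H41.ProjQ.isProjQMapOn_over _ p chart pC chartC hP hPC _ hv
      have h2 : (PC.isoOfEq hW).hom ≫ (r ≫ p) =
          (PC.isoOfEq hW).hom ≫ ((RelCone.pointedProjCone 𝒮 hz pC chartC).ι ≫ pC) := by
        rw [← Category.assoc, hover, Scheme.isoOfEq_hom_ι_assoc, Category.comp_id]
      exact (cancel_epi _).mp h2
    · intro θ hθ hιθ hθz hirr j hj j' hj'
      refine Groth.Agent.H41.ProjQ.hom_ext_standard p chart _ _ fun U hU d hd f hf => ?_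
      rw [Category.comp_id]
      have hθι : (RelProj.gradedHomAt θ hθ U hU).comp (RelProj.gradedHomAt ι hz.graded U hU) =
          GradedRingHom.id _ :=
        GradedRingHom.ext fun x => congrArg (fun k => (k.hom.app (op U)).hom x) hιθ
      have hf' : (RelProj.gradedHomAt θ hθ U hU) ((RelProj.gradedHomAt ι hz.graded U hU) f) = f :=
        congrArg (fun k : 𝒮.deg U hU →+*ᵍ 𝒮.deg U hU => k f) hθι
      have hrange := Groth.Agent.H41.ProjQ.range_diag_subset ι hz.graded pC chartC hPC _ hW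
        U hU hd f hf
      have hg := hr U hU d hd f hf (IsOpenImmersion.lift _ _ hrange)
        (IsOpenImmersion.lift_fac _ _ _)
      have h1 := Groth.Agent.H41.ProjQ.awayι_comp_map_eq (RelProj.gradedHomAt θ hθ U hU)
        (hirr U hU) hd _ ((RelProj.gradedHomAt ι hz.graded U hU).2 hf) f hf' hf
      have h2 := Groth.Agent.H41.ProjConeLib.emb_comp_relProjMap pC chartC p chart θ hθ hirr j hj
        U hU
      have h3 : (Proj.awayι (𝒮.deg U hU) f hf hd ≫ RelProj.emb p chart U hU) ≫ j' =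
          Spec.map (CommRingCat.ofHom (Groth.Agent.H41.ProjQ.awayMapEq
            (RelProj.gradedHomAt θ hθ U hU) _ f hf')) ≫ IsOpenImmersion.lift _ _ hrange := by
        rw [← cancel_mono (RelCone.pointedProjCone 𝒮 hz pC chartC).ι]
        simp only [Category.assoc]
        rw [hj', h2, reassoc_of% h1, IsOpenImmersion.lift_fac]
        rfl
      rw [← Category.assoc, h3, Category.assoc, hg, ← Category.assoc,
        Groth.Agent.H41.ProjQ.spec_awayMapEq_retraction _ _ hθι f hf', Category.id_comp]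

end Groth.Agent.S8308
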