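import Groth.Statements.S8322
import Groth.Agent.H41.GrModQCoh
import Groth.Agent.H41.QCohTransfer

set_option autoImplicit false
universe u
open CategoryTheory CategoryTheory.Limits AlgebraicGeometry Opposite TopologicalSpace
open scoped HomogeneousIdeal
noncomputable section
open EGA2

namespace Groth.Agent.S8322

/-- Quasi-coherence: for a general quasi-coherent graded 𝒮-module ℳ: the module (ℳ(n))~ on P = Proj(𝒮),
given through its chartwise identifications with the modules (ℳ(U)(n))~ on the Proj 𝒮(U), is a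
quasi-coherent O_P-module. -/
theorem result {Y P : Scheme.{u}} (𝒮 : RelProj.QCGrAlg Y) (p : P ⟶ Y)
    (chart : ∀ (U : Y.Opens) (hU : IsAffineOpen U), (((p ⁻¹ᵁ U : P.Opens) : Scheme.{u}) ≅ Proj (𝒮.deg U hU)))
    (hP : RelProj.IsRelProj 𝒮 p chart) (ℳ : RelProj.GrModule 𝒮)
    (hℳ : Coh.IsQCoh ((AMod.toOS 𝒮.toQCAlg).obj ℳ.mod)) (n : ℤ) (F : P.Modules)
    (lam : ∀ (U : Y.Opens) (hU : IsAffineOpen U),
      F ⟶ (Scheme.Modules.pushforward (RelProj.emb p chart U hU)).obj (GrMod.tilde (𝒮.deg U hU) (ℳ.deg U hU) n))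
    (hF : RelProj.IsRelTilde 𝒮 p chart ℳ n F lam) : Coh.IsQCoh F := by
  haveI : ∀ U : Y.affineOpens,
      (GrMod.tilde (𝒮.deg U.1 U.2) (ℳ.deg U.1 U.2) n).IsQuasicoherent :=
    fun U => Groth.Agent.H41.GrModQCoh.isQuasicoherent_tilde (𝒮.deg U.1 U.2) (ℳ.deg U.1 U.2) n
  have hrange : ∀ U : Y.affineOpens,
      (RelProj.emb p chart U.1 U.2).opensRange = p ⁻¹ᵁ U.1 := fun U => by
    unfold RelProj.emb
    rw [Scheme.Hom.opensRange_comp_of_isIso, Scheme.Opens.opensRange_ι]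
  refine Groth.Agent.H41.QCohTransfer.isQuasicoherent_of_bijective_pushforward F
    (ι := Y.affineOpens) (fun U => Proj (𝒮.deg U.1 U.2)) (fun U => RelProj.emb p chart U.1 U.2)
    (fun U => GrMod.tilde (𝒮.deg U.1 U.2) (ℳ.deg U.1 U.2) n) (fun U => lam U.1 U.2)
    (fun U W hW => hF.bijective U.1 U.2 W (hW.trans (le_of_eq (hrange U)))) (fun x => ?_)
  obtain ⟨U, hU, hxU, -⟩ := Opens.isBasis_iff_nbhd.mp Y.isBasis_affineOpens
    (show p.base x ∈ (⊤ : Y.Opens) from trivial)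
  exact ⟨⟨U, hU⟩, by rw [hrange]; exact hxU⟩

end Groth.Agent.S8322
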