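import Groth.Statements.S8333
import Groth.Agent.H41.DegOneMod2
import Groth.Agent.H41.SymGraded2
import Groth.Agent.H41.ProjBundleProper
import Groth.Agent.H41.RelProjExists
import Groth.Agent.H41.RelTwistExists
import Groth.Agent.H41.RelProjGlue
import Groth.Agent.H41.RelProjLib
import Groth.Agent.H41.PullTwist
import Groth.Agent.H41.RelTwistGG2
import Groth.Agent.H22.PullRelAmple
import Groth.Agent.S8292
import Groth.Agent.S5722

set_option autoImplicit false
universe u
open CategoryTheory CategoryTheory.Limits AlgebraicGeometry Opposite TopologicalSpace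
open scoped HomogeneousIdeal
noncomputable section
open EGA2

namespace Groth.Agent.S8333

/-- Let Y be a scheme with quasi-compact underlying space, 𝒮 a quasi-coherent positively graded
O_Y-algebra generated by 𝒮_1 with 𝒮_1 of finite type, p : P = Proj(𝒮) → Y, and F a quasi-coherent
O_P-module of finite type. Then there is n₀ such that for all n ≥ n₀ the canonical morphism
p^*(p_*(F(n))) → F(n) is an epimorphism, where F(n) = F ⊗ O_P(n) with O_P(n) given through its
chartwise identifications. -/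
theorem result {Y P : Scheme.{u}} (𝒮 : RelProj.QCGrAlg Y) (p : P ⟶ Y)
    (chart : ∀ (U : Y.Opens) (hU : IsAffineOpen U), (((p ⁻¹ᵁ U : P.Opens) : Scheme.{u}) ≅ Proj (𝒮.deg U hU)))
    (hP : RelProj.IsRelProj 𝒮 p chart) [CompactSpace Y] (hgen : 𝒮.IsGenDegOne)
    (hft : 𝒮.IsFTDeg 1) (F : P.Modules) (hFq : Coh.IsQCoh F) (hFt : CohB1.IsFT F) :
    ∃ n₀ : ℤ, ∀ (n : ℤ), n₀ ≤ n → ∀ (L : P.Modules)
      (lam : ∀ (U : Y.Opens) (hU : IsAffineOpen U),
      L ⟶ (Scheme.Modules.pushforward (RelProj.emb p chart U hU)).obj (GrTwist.twist (𝒮.deg U hU) n)),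
      RelProj.IsRelTwist 𝒮 p chart n L lam →
        Epi ((Scheme.Modules.pullbackPushforwardAdjunction p).counit.app (CohB1.tensorMod F L)) := by
  classical
  obtain ⟨E, hE, u, hu1, husurj, -, hfin⟩ := Groth.Agent.H41.DegOneMod.exists_degMod_inj 𝒮 1
  have hEq : E.IsQuasicoherent := hE
  obtain ⟨𝒯, jT, hT, hdeg⟩ := Groth.Agent.H41.SymGraded.exists_isGrSymAlg_deg E
  obtain ⟨ubar, hubar, hju⟩ := Groth.Agent.H41.SymGraded.exists_gradedHom 𝒯 jT hT hdeg 𝒮 u hu1
  have hirr := Groth.Agent.H41.SymGraded.irrelevant_le_map 𝒯 jT hT 𝒮 hgen u husurj ubar hubar hju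
  have hgenT := Groth.Agent.H41.SymGraded.isGenDegOne_of_isGrSymAlg 𝒯 jT hT
  obtain ⟨PT, pT, chartT, hPT⟩ := Groth.Agent.H41.RelProjExists.exists_isRelProj 𝒯
  obtain ⟨OT, lamT, hOT⟩ := Groth.Agent.H41.RelTwistExists.exists_isRelTwist 𝒯 pT chartT hPT 1
  obtain ⟨h, hh, -⟩ := Groth.Agent.H41.RelProjLib.existsUnique_relProjMap ubar hubar hirr
    chartT chart hPT hP
  have hcomp : h ≫ pT = p := Groth.Agent.H41.RelProjLib.relProjMap_comp ubar hubar hirr pT p
    chartT chart hPT hP h hh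
  have hci : IsClosedImmersion h := Groth.Agent.S8292.result 𝒮 𝒯 hgen E hE u hu1 husurj jT hT ubar
    hubar hju hirr pT p chartT chart hPT hP h hh
  have hproperT : IsProper pT := Groth.Agent.H41.ProjBundleProper.isProper_projBundle 𝒯 jT hT hdeg
    (hfin hft) pT chartT hPT
  have hproper : IsProper p := by rw [← hcomp]; infer_instance
  obtain ⟨O1, lam1, hO1⟩ := Groth.Agent.H41.RelTwistExists.exists_isRelTwist 𝒮 p chart hP 1
  obtain ⟨τ⟩ := Groth.Agent.H41.PullTwist.pullback_twist_iso ubar hubar hgenT hirr pT p chartT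
    chart hPT hP h hh 1 OT lamT hOT O1 lam1 hO1
  have hamp0 : RelAmple.IsRelAmple p ((Scheme.Modules.pullback h).obj OT) :=
    Groth.Agent.S5722.result p E hE 𝒯 jT hT PT pT chartT hPT OT lamT hOT h hcomp h.isEmbedding
  have hamp : RelAmple.IsRelAmple p O1 :=
    Groth.Agent.H22.PullRelAmple.isRelAmple_of_iso p τ hamp0
  have hinv : PicF.IsInvertible O1 :=
    Groth.Agent.H41.RelTwistInv.isInvertible_of_isGenDegOne 𝒮 p chart 1 O1 lam1 hO1 hgen
  haveI : CompactSpace P := by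
    have hc := QuasiCompact.isCompact_preimage (f := p) Set.univ isOpen_univ isCompact_univ
    rw [Set.preimage_univ] at hc
    exact isCompact_univ_iff.mp hc
  obtain ⟨n₀, hn₀pos, hn₀⟩ := Groth.Agent.H41.RelTwistGG2.exists_epi_counit_of_isRelAmple' p
    hinv hamp F hFq hFt
  refine ⟨(n₀ : ℤ), fun n hn L lam hL => ?_⟩
  obtain ⟨k, rfl⟩ := Int.eq_ofNat_of_zero_le (le_trans (Int.natCast_nonneg n₀) hn)
  have hk : n₀ ≤ k := by exact_mod_cast hn
  obtain ⟨k', rfl⟩ := Nat.exists_eq_succ_of_ne_zero (by omega : k ≠ 0)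
  obtain ⟨ρ⟩ := Groth.Agent.H41.RelTwistGG2.nonempty_tensorPow_iso 𝒮 p chart hP hgen O1 lam1 hO1
    k' _ (by push_cast; ring) L lam hL
  obtain ⟨e2⟩ := Groth.Agent.H18.TensorModIso.nonempty_tensorMod_congr (Iso.refl F) ρ
  exact Groth.Agent.H41.RelTwistGG2.epi_counit_of_iso p e2 (hn₀ (k' + 1) hk)

end Groth.Agent.S8333
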