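import Groth.Statements.S8334
import Groth.Agent.H41.DegOneMod2
import Groth.Agent.H41.SymGraded2
import Groth.Agent.H41.ProjBundleProper
import Groth.Agent.H41.RelProjExists
import Groth.Agent.H41.RelTwistExists
import Groth.Agent.H41.RelProjGlue
import Groth.Agent.H41.RelProjLib
import Groth.Agent.H41.RelTwistInv
import Groth.Agent.H41.FTSubEpi
import Groth.Agent.H41.TensorEpi
import Groth.Agent.H41.RelMulUnit2
import Groth.Agent.H18.TensorCoh
import Groth.Agent.H18.TensorAssoc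
import Groth.Agent.H18.AmpleTwistGG
import Groth.Agent.H18.TensorModIso
import Groth.Agent.S8292
import Groth.Agent.S8333

set_option autoImplicit false
universe u
open CategoryTheory CategoryTheory.Limits AlgebraicGeometry Opposite TopologicalSpace
open scoped HomogeneousIdeal
noncomputable section
open EGA2

namespace Groth.Agent.S8334

/-- Let Y be a quasi-compact separated scheme, or a scheme with Noetherian underlying space, 𝒮 a
quasi-coherent positively graded O_Y-algebra generated by 𝒮_1 with 𝒮_1 of finite type, p : P =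
Proj(𝒮) → Y, and F a quasi-coherent O_P-module of finite type. Then there is n₀ such that for every
n ≥ n₀, F is a quotient of (p^*G)(−n) = p^*(G) ⊗ O_P(−n) for some quasi-coherent O_Y-module G of
finite type (which may vary with n), O_P(−n) being given through its chartwise identifications. -/
theorem result {Y P : Scheme.{u}} (𝒮 : RelProj.QCGrAlg Y) (p : P ⟶ Y)
    (chart : ∀ (U : Y.Opens) (hU : IsAffineOpen U), (((p ⁻¹ᵁ U : P.Opens) : Scheme.{u}) ≅ Proj (𝒮.deg U hU)))
    (hP : RelProj.IsRelProj 𝒮 p chart)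
    (hY : (CompactSpace Y ∧ Y.IsSeparated) ∨ NoetherianSpace Y) (hgen : 𝒮.IsGenDegOne)
    (hft : 𝒮.IsFTDeg 1) (F : P.Modules) (hFq : Coh.IsQCoh F) (hFt : CohB1.IsFT F) :
    ∃ n₀ : ℤ, ∀ (n : ℤ), n₀ ≤ n → ∀ (L : P.Modules)
      (lam : ∀ (U : Y.Opens) (hU : IsAffineOpen U),
      L ⟶ (Scheme.Modules.pushforward (RelProj.emb p chart U hU)).obj (GrTwist.twist (𝒮.deg U hU) (-n))),
      RelProj.IsRelTwist 𝒮 p chart (-n) L lam →
        ∃ (G : Y.Modules) (π : CohB1.tensorMod ((Scheme.Modules.pullback p).obj G) L ⟶ F),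
          Coh.IsQCoh G ∧ CohB1.IsFT G ∧ Epi π := by
  classical
  haveI : CompactSpace Y := by
    rcases hY with ⟨h1, -⟩ | h2
    · exact h1
    · haveI := h2
      infer_instance
  haveI : QuasiSeparatedSpace Y := by
    rcases hY with ⟨-, h1⟩ | h2
    · haveI := h1
      infer_instance
    · haveI := h2
      exact ⟨fun U V _ _ _ _ => TopologicalSpace.NoetherianSpace.isCompact _⟩
  have hproper : IsProper p := by
    obtain ⟨E, hE, u, hu1, husurj, -, hfin⟩ := Groth.Agent.H41.DegOneMod.exists_degMod_inj 𝒮 1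
    have hEq : E.IsQuasicoherent := hE
    obtain ⟨𝒯, jT, hT, hdeg⟩ := Groth.Agent.H41.SymGraded.exists_isGrSymAlg_deg E
    obtain ⟨ubar, hubar, hju⟩ :=
      Groth.Agent.H41.SymGraded.exists_gradedHom 𝒯 jT hT hdeg 𝒮 u hu1
    have hirr :=
      Groth.Agent.H41.SymGraded.irrelevant_le_map 𝒯 jT hT 𝒮 hgen u husurj ubar hubar hju
    obtain ⟨PT, pT, chartT, hPT⟩ := Groth.Agent.H41.RelProjExists.exists_isRelProj 𝒯
    obtain ⟨h, hh, -⟩ := Groth.Agent.H41.RelProjLib.existsUnique_relProjMap ubar hubar hirr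
      chartT chart hPT hP
    have hcomp : h ≫ pT = p := Groth.Agent.H41.RelProjLib.relProjMap_comp ubar hubar hirr pT p
      chartT chart hPT hP h hh
    have hci : IsClosedImmersion h := Groth.Agent.S8292.result 𝒮 𝒯 hgen E hE u hu1 husurj jT hT
      ubar hubar hju hirr pT p chartT chart hPT hP h hh
    have hproperT : IsProper pT :=
      Groth.Agent.H41.ProjBundleProper.isProper_projBundle 𝒯 jT hT hdeg (hfin hft) pT chartT hPT
    rw [← hcomp]
    infer_instance
  obtain ⟨n₀, hn₀⟩ := Groth.Agent.S8333.result 𝒮 p chart hP hgen hft F hFq hFt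
  refine ⟨n₀, fun n hn L lam hL => ?_⟩
  obtain ⟨Ln, lamn, hLn⟩ := Groth.Agent.H41.RelTwistExists.exists_isRelTwist 𝒮 p chart hP n
  have hLninv : PicF.IsInvertible Ln :=
    Groth.Agent.H41.RelTwistInv.isInvertible_of_isGenDegOne 𝒮 p chart n Ln lamn hLn hgen
  have hLinv : PicF.IsInvertible L :=
    Groth.Agent.H41.RelTwistInv.isInvertible_of_isGenDegOne 𝒮 p chart (-n) L lam hL hgen
  have hepi := hn₀ n hn Ln lamn hLn
  have hcoh : Coh.IsCoh (CohB1.tensorMod F Ln) :=
    Groth.Agent.H18.TensorCoh.isCoh_tensorMod (F := F) (M := Ln) ⟨hFq, hFt⟩ hLninv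
  have hq1 : (CohB1.tensorMod F Ln).IsQuasicoherent := hcoh.1
  have hq2 : SheafOfModules.IsFiniteType (R := P.ringCatSheaf) (CohB1.tensorMod F Ln) := hcoh.2
  obtain ⟨G, φ, hGq, hGt, hφ⟩ :=
    Groth.Agent.H41.FTSubEpi.exists_ft_epi p (CohB1.tensorMod F Ln) hepi
  have hepi2 : Epi (Groth.Agent.H22.TwistSeq.tmMap φ L) :=
    Groth.Agent.H41.TensorEpi.epi_tmMap φ L hLinv
  obtain ⟨e1⟩ := Groth.Agent.H18.TensorAssoc.nonempty_tensorMod_assoc F Ln L hLninv hLinv
  obtain ⟨e0⟩ := Groth.Agent.H41.RelMulUnit2.nonempty_iso_unit 𝒮 p chart hP n (-n)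
    (add_neg_cancel n) Ln lamn hLn L lam hL hgen
  obtain ⟨e2⟩ := Groth.Agent.H18.TensorModIso.nonempty_tensorMod_congr (Iso.refl F) e0
  obtain ⟨c⟩ := Groth.Agent.H18.AmpleTwistGG.nonempty_tensorMod_comm F (Coh.structureModule P)
  have hepi3 : Epi (Groth.Agent.H22.IdealTwist.mulHom (𝟙 (Coh.structureModule P)) F) :=
    Groth.Agent.H41.TensorEpi.epi_mulHom_id F
  refine ⟨G, Groth.Agent.H22.TwistSeq.tmMap φ L ≫ e1.hom ≫ e2.hom ≫ c.hom ≫
    Groth.Agent.H22.IdealTwist.mulHom (𝟙 (Coh.structureModule P)) F, hGq, hGt, ?_⟩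
  infer_instance

end Groth.Agent.S8334
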