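import Groth.Statements.S8338
import Groth.Agent.H41.GrModMaps

set_option autoImplicit false
universe u
open CategoryTheory CategoryTheory.Limits AlgebraicGeometry Opposite TopologicalSpace
noncomputable section
open EGA2

namespace Groth.Agent.S8338

/-- For an exact sequence M₁ → M₂ → M₃ of graded S-modules with degree-preserving maps u, v and every
integer n, the induced morphisms M₁(n)~ → M₂(n)~ → M₃(n)~ of modules on X = Proj S give an exact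
sequence of sections over every basic open D_+(f), f homogeneous of positive degree (these opens are
affine and cover X, so the sequence of modules is exact). Gradings by additive subgroups, modules
graded in non-negative degrees. -/
theorem result {A σ : Type u} [CommRing A] [SetLike σ A] [AddSubgroupClass σ A] (𝒜 : ℕ → σ)
    [GradedRing 𝒜] {M₁ τ₁ : Type u} [AddCommGroup M₁] [Module A M₁] [SetLike τ₁ M₁] [AddSubgroupClass τ₁ M₁]
    (ℳ₁ : ℕ → τ₁) [SetLike.GradedSMul 𝒜 ℳ₁] [DirectSum.Decomposition ℳ₁]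
    {M₂ τ₂ : Type u} [AddCommGroup M₂] [Module A M₂] [SetLike τ₂ M₂] [AddSubgroupClass τ₂ M₂]
    (ℳ₂ : ℕ → τ₂) [SetLike.GradedSMul 𝒜 ℳ₂] [DirectSum.Decomposition ℳ₂]
    {M₃ τ₃ : Type u} [AddCommGroup M₃] [Module A M₃] [SetLike τ₃ M₃] [AddSubgroupClass τ₃ M₃]
    (ℳ₃ : ℕ → τ₃) [SetLike.GradedSMul 𝒜 ℳ₃] [DirectSum.Decomposition ℳ₃]
    (u : M₁ →ₗ[A] M₂) (hu : ∀ (i : ℕ) (m : M₁), m ∈ ℳ₁ i → u m ∈ ℳ₂ i)
    (v : M₂ →ₗ[A] M₃) (hv : ∀ (i : ℕ) (m : M₂), m ∈ ℳ₂ i → v m ∈ ℳ₃ i)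
    (hex : Function.Exact u v) (n : ℤ) {d : ℕ} (hd : 0 < d) (f : A) (hf : f ∈ 𝒜 d) :
    Function.Exact ((GrMod.map 𝒜 u hu n).app (Proj.basicOpen 𝒜 f))
      ((GrMod.map 𝒜 v hv n).app (Proj.basicOpen 𝒜 f)) := by
  intro s₂
  constructor
  · intro h0
    obtain ⟨k, i, m₂, hi, hs₂⟩ :=
      Groth.Agent.H41.GrModSections.sections_eq_fraction 𝒜 ℳ₂ n hd hf s₂
    have hloc : ∀ x : ProjectiveSpectrum 𝒜, f ∉ x.asHomogeneousIdeal →
        ∃ c : A, c ∉ x.asHomogeneousIdeal ∧ c • v (m₂ : M₂) = 0 := by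
      intro x hx
      have hfk : f ^ k ∈ x.asHomogeneousIdeal.toIdeal.primeCompl := fun h =>
        hx (x.isPrime.mem_of_pow_mem k h)
      have h1 : GrMod.val ((GrMod.map 𝒜 v hv n).app (Proj.basicOpen 𝒜 f) s₂) ⟨x, hx⟩ = 0 := by
        rw [h0]; rfl
      have h2 : GrMod.val s₂ ⟨x, hx⟩ = LocalizedModule.mk (m₂ : M₂) ⟨f ^ k, hfk⟩ := hs₂ ⟨x, hx⟩
      rw [GrMod.map_app_val, h2, GrMod.locMap_mk] at h1
      exact Groth.Agent.H41.GrModMaps.exists_smul_eq_zero_of_mk_eq_zero 𝒜 x _ _ h1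
    obtain ⟨N, hN⟩ :=
      Groth.Agent.H41.GrModSections.exists_pow_smul_eq_zero_of_forall_localized_eq_zero 𝒜 ℳ₃ hd hf
        (hv i _ m₂.2) hloc
    have h2 : v (f ^ N • (m₂ : M₂)) = 0 := by rw [map_smul]; exact hN
    obtain ⟨m₁, hm₁⟩ := (hex _).mp h2
    have hmem : f ^ N • (m₂ : M₂) ∈ ℳ₂ (N • d + i) :=
      SetLike.GradedSMul.smul_mem (SetLike.pow_mem_graded N hf) m₂.2
    have hm₁' : u (DirectSum.decompose ℳ₁ m₁ (N • d + i) : M₁) = f ^ N • (m₂ : M₂) := by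
      have h3 : (DirectSum.decompose ℳ₂ (u m₁) (N • d + i) : M₂) =
          u (DirectSum.decompose ℳ₁ m₁ (N • d + i) : M₁) :=
        Groth.Agent.H41.GrModMaps.decompose_map ℳ₁ ℳ₂ u.toAddMonoidHom hu m₁ (N • d + i)
      rw [← h3, hm₁, DirectSum.decompose_of_mem_same ℳ₂ hmem]
    have hdeg : ((N • d + i : ℕ) : ℤ) = (((k + N) • d : ℕ) : ℤ) + n := by
      simp only [smul_eq_mul]; push_cast; rw [hi]; ring
    refine ⟨Groth.Agent.H41.GrModQCoh.fracSect 𝒜 ℳ₁ n (Proj.basicOpen 𝒜 f) hdeg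
      (DirectSum.decompose ℳ₁ m₁ (N • d + i)) ⟨f ^ (k + N), SetLike.pow_mem_graded _ hf⟩
      (fun x h => (ProjectiveSpectrum.mem_basicOpen 𝒜 f x.1).mp x.2
        (x.1.isPrime.mem_of_pow_mem _ h)), ?_⟩
    refine Groth.Agent.H41.GrModQCoh.sect_ext 𝒜 ℳ₂ n _ _ fun x => ?_
    have hxf : f ∉ x.1.asHomogeneousIdeal := (ProjectiveSpectrum.mem_basicOpen 𝒜 f x.1).mp x.2
    have hfk : f ^ k ∈ x.1.asHomogeneousIdeal.toIdeal.primeCompl := fun h =>
      hxf (x.1.isPrime.mem_of_pow_mem k h)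
    have h4 : GrMod.val s₂ x = LocalizedModule.mk (m₂ : M₂) ⟨f ^ k, hfk⟩ := hs₂ x
    rw [GrMod.map_app_val, Groth.Agent.H41.GrModQCoh.val_fracSect, GrMod.locMap_mk, hm₁', h4,
      LocalizedModule.mk_eq]
    refine ⟨1, ?_⟩
    have key : f ^ k • (f ^ N • (m₂ : M₂)) = f ^ (k + N) • (m₂ : M₂) := by
      rw [smul_smul, ← pow_add]
    rw [one_smul, one_smul]
    exact key
  · rintro ⟨s₁, rfl⟩
    refine Groth.Agent.H41.GrModQCoh.sect_ext 𝒜 ℳ₃ n _ _ fun x => ?_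
    have key : ∀ q : GrMod.LocMod 𝒜 (M := M₁) x.1,
        GrMod.locMap v x.1 (GrMod.locMap u x.1 q) = 0 := by
      intro q
      induction q using LocalizedModule.induction_on with
      | h m s =>
        rw [GrMod.locMap_mk, GrMod.locMap_mk, hex.apply_apply_eq_zero, LocalizedModule.zero_mk]
    exact key _

end Groth.Agent.S8338
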