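import Groth.Statements.S8339
import Groth.Agent.H41.GrModMaps

set_option autoImplicit false
universe u
open CategoryTheory CategoryTheory.Limits AlgebraicGeometry Opposite TopologicalSpace
open scoped HomogeneousIdeal
noncomputable section
open EGA2

namespace Groth.Agent.S8339

/-- Let ψ : S' → S be a homomorphism of graded rings with S_+ contained in the ideal generated by
ψ(S'_+), so that Φ : Proj S → Proj S' is everywhere defined, and let N be a graded S-module. If M is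
the graded S'-module obtained from N by restriction of scalars along ψ — given here as any graded
S'-module with a degree-preserving bijective ψ-semilinear map v : M → N — then the canonical
morphism M(n)~ → Φ_*(N(n)~), m/f ↦ v(m)/ψ(f), is an isomorphism for every integer n. (The published
statement is over the open G(ψ) where Φ is defined; the hypothesis on irrelevant ideals used here
forces G(ψ) = Proj S. For v not bijective this morphism is not an isomorphism in general. Gradings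
by additive subgroups; modules graded in non-negative degrees.) -/
theorem result {A σ : Type u} [CommRing A] [SetLike σ A] [AddSubgroupClass σ A] {𝒜 : ℕ → σ}
    [GradedRing 𝒜] {B σ' : Type u} [CommRing B] [SetLike σ' B] [AddSubgroupClass σ' B] {ℬ : ℕ → σ'} [GradedRing ℬ]
    (ψ : 𝒜 →+*ᵍ ℬ) (hψ : ℬ₊ ≤ (𝒜₊).map ψ)
    {M τ : Type u} [AddCommGroup M] [Module A M] [SetLike τ M] [AddSubgroupClass τ M] (ℳ : ℕ → τ)
    [SetLike.GradedSMul 𝒜 ℳ] [DirectSum.Decomposition ℳ]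
    {N τ' : Type u} [AddCommGroup N] [Module B N] [SetLike τ' N] [AddSubgroupClass τ' N] (𝒩 : ℕ → τ')
    [SetLike.GradedSMul ℬ 𝒩] [DirectSum.Decomposition 𝒩]
    (v : M →ₛₗ[ψ.toRingHom] N) (hv : ∀ (i : ℕ) (m : M), m ∈ ℳ i → v m ∈ 𝒩 i) (hbij : Function.Bijective v)
    (n : ℤ) : IsIso (GrMod.comap ψ hψ v hv n) := by
  refine Groth.Agent.H41.GrModMaps.isIso_of_bijective_basis _
    (fun p : {p : ℕ × A // 0 < p.1 ∧ p.2 ∈ 𝒜 p.1} => Proj.basicOpen 𝒜 p.1.2)
    (Groth.Agent.H41.GrModMaps.isBasis_basicOpen_pos 𝒜) ?_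
  rintro ⟨⟨d, f⟩, hd, hf⟩
  dsimp only at hd hf ⊢
  have hψf : ψ f ∈ ℬ d := ψ.map_mem hf
  have hpre : ∀ y : ProjectiveSpectrum ℬ,
      y ∈ (Proj.map ψ hψ ⁻¹ᵁ Proj.basicOpen 𝒜 f) ↔ ψ f ∉ y.asHomogeneousIdeal := fun y => Iff.rfl
  constructor
  · refine (injective_iff_map_eq_zero
      ((GrMod.comap ψ hψ v hv n).app (Proj.basicOpen 𝒜 f)).hom).mpr fun s hs => ?_
    obtain ⟨k, i, m, hi, hsm⟩ :=
      Groth.Agent.H41.GrModSections.sections_eq_fraction 𝒜 ℳ n hd hf s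
    have hloc : ∀ y : ProjectiveSpectrum ℬ, ψ f ∉ y.asHomogeneousIdeal →
        ∃ c : B, c ∉ y.asHomogeneousIdeal ∧ c • v (m : M) = 0 := by
      intro y hy
      have hyU : y ∈ (Proj.map ψ hψ ⁻¹ᵁ Proj.basicOpen 𝒜 f) := (hpre y).mpr hy
      have h1 : GrMod.val ((GrMod.comap ψ hψ v hv n).app (Proj.basicOpen 𝒜 f) s) ⟨y, hyU⟩ = 0 :=
        congrArg (fun t : Γ(GrMod.tilde ℬ 𝒩 n, Proj.map ψ hψ ⁻¹ᵁ Proj.basicOpen 𝒜 f) =>
          GrMod.val t ⟨y, hyU⟩) hs
      have hfk : f ^ k ∈ (ProjectiveSpectrum.comap ψ hψ y).asHomogeneousIdeal.toIdeal.primeCompl :=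
        fun h => hyU (Ideal.IsPrime.mem_of_pow_mem (ProjectiveSpectrum.comap ψ hψ y).isPrime k h)
      have h2 : GrMod.val s ⟨ProjectiveSpectrum.comap ψ hψ y, hyU⟩ =
          LocalizedModule.mk (m : M) ⟨f ^ k, hfk⟩ := hsm ⟨_, hyU⟩
      rw [GrMod.comap_app_val, h2, GrMod.locModMap_mk] at h1
      exact Groth.Agent.H41.GrModMaps.exists_smul_eq_zero_of_mk_eq_zero ℬ y _ _ h1
    obtain ⟨N, hN⟩ :=
      Groth.Agent.H41.GrModSections.exists_pow_smul_eq_zero_of_forall_localized_eq_zero ℬ 𝒩 hd hψf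
        (hv i _ m.2) hloc
    have h3 : v (f ^ N • (m : M)) = 0 := by
      rw [LinearMap.map_smulₛₗ, map_pow]
      exact hN
    have h4 : f ^ N • (m : M) = 0 := hbij.1 (h3.trans (map_zero v).symm)
    refine Groth.Agent.H41.GrModQCoh.sect_ext 𝒜 ℳ n _ _ fun x => ?_
    have hxf : f ∉ x.1.asHomogeneousIdeal := (ProjectiveSpectrum.mem_basicOpen 𝒜 f x.1).mp x.2
    exact (hsm x).trans (Groth.Agent.H41.GrModMaps.mk_eq_zero_of_smul_eq_zero 𝒜 x.1 _ _ (f ^ N)
      (fun h => hxf (x.1.isPrime.mem_of_pow_mem N h)) h4)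
  · intro t
    have hle : ProjectiveSpectrum.basicOpen ℬ (ψ f) ≤ Proj.map ψ hψ ⁻¹ᵁ Proj.basicOpen 𝒜 f :=
      fun y hy => (hpre y).mpr hy
    obtain ⟨k, i, n', hi, ht⟩ :=
      Groth.Agent.H41.GrModSections.sections_eq_fraction ℬ 𝒩 n hd hψf
        ((GrMod.tilde ℬ 𝒩 n).presheaf.map (homOfLE hle).op t)
    obtain ⟨m, hm⟩ := hbij.2 (n' : N)
    have hmi : m ∈ ℳ i := by
      have h3 : (DirectSum.decompose 𝒩 (v m) i : N) = v (DirectSum.decompose ℳ m i : M) :=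
        Groth.Agent.H41.GrModMaps.decompose_map ℳ 𝒩 v.toAddMonoidHom hv m i
      rw [hm, DirectSum.decompose_of_mem_same 𝒩 n'.2] at h3
      have h5 : (DirectSum.decompose ℳ m i : M) = m := hbij.1 (h3.symm.trans hm.symm)
      rw [← h5]
      exact SetLike.coe_mem _
    have hdeg : (i : ℤ) = ((k • d : ℕ) : ℤ) + n := by
      simp only [smul_eq_mul]; push_cast; exact hi
    refine ⟨Groth.Agent.H41.GrModQCoh.fracSect 𝒜 ℳ n (Proj.basicOpen 𝒜 f) hdeg ⟨m, hmi⟩
      ⟨f ^ k, SetLike.pow_mem_graded _ hf⟩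
      (fun x h => (ProjectiveSpectrum.mem_basicOpen 𝒜 f x.1).mp x.2
        (x.1.isPrime.mem_of_pow_mem _ h)), ?_⟩
    refine Groth.Agent.H41.GrModQCoh.sect_ext ℬ 𝒩 n
      (W := Proj.map ψ hψ ⁻¹ᵁ Proj.basicOpen 𝒜 f) _ _ fun y => ?_
    have hy : ψ f ∉ y.1.asHomogeneousIdeal := (hpre y.1).mp y.2
    have hψfk : (ψ f) ^ k ∈ y.1.asHomogeneousIdeal.toIdeal.primeCompl := fun h =>
      hy (y.1.isPrime.mem_of_pow_mem k h)
    have h5 : GrMod.val t y = LocalizedModule.mk (n' : N) ⟨(ψ f) ^ k, hψfk⟩ := ht ⟨y.1, hy⟩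
    rw [GrMod.comap_app_val, Groth.Agent.H41.GrModQCoh.val_fracSect, GrMod.locModMap_mk, h5,
      LocalizedModule.mk_eq]
    refine ⟨1, ?_⟩
    have key : (ψ f) ^ k • v m = ψ (f ^ k) • (n' : N) := by rw [map_pow, hm]
    rw [one_smul, one_smul]
    exact key

end Groth.Agent.S8339
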