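import Groth.Statements.S8340
import Groth.Agent.H41.RelMulUnit

set_option autoImplicit false
universe u
open CategoryTheory CategoryTheory.Limits AlgebraicGeometry Opposite TopologicalSpace
open scoped HomogeneousIdeal
noncomputable section
open EGA2

namespace Groth.Agent.S8340

/-- For a quasi-compact open U of X = Proj(𝒮), 𝒮 any quasi-coherent positively graded O_Y-algebra, there
is d > 0 such that for every n divisible by d the module O_X(−n)|U is an inverse of O_X(n)|U: the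
tensor product O_X(n)|U ⊗ O_X(−n)|U is isomorphic to O_U (existence of an isomorphism; the twisting
sheaves are given through their chartwise identifications). -/
theorem result {Y X : Scheme.{u}} (𝒮 : RelProj.QCGrAlg Y) (q : X ⟶ Y)
    (chart : ∀ (U : Y.Opens) (hU : IsAffineOpen U), (((q ⁻¹ᵁ U : X.Opens) : Scheme.{u}) ≅ Proj (𝒮.deg U hU)))
    (hX : RelProj.IsRelProj 𝒮 q chart) (U : X.Opens) (hU : IsCompact (U : Set X)) :
    ∃ d : ℕ, 0 < d ∧ ∀ (n : ℤ), (d : ℤ) ∣ n →
      ∀ (L : X.Modules)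
        (lam : ∀ (V : Y.Opens) (hV : IsAffineOpen V),
          L ⟶ (Scheme.Modules.pushforward (RelProj.emb q chart V hV)).obj (GrTwist.twist (𝒮.deg V hV) n)),
        RelProj.IsRelTwist 𝒮 q chart n L lam →
      ∀ (L' : X.Modules)
        (lam' : ∀ (V : Y.Opens) (hV : IsAffineOpen V),
          L' ⟶ (Scheme.Modules.pushforward (RelProj.emb q chart V hV)).obj (GrTwist.twist (𝒮.deg V hV) (-n))),
        RelProj.IsRelTwist 𝒮 q chart (-n) L' lam' →
          Nonempty (CohB1.tensorMod (L.restrict U.ι) (L'.restrict U.ι) ≅ Coh.structureModule (U : Scheme.{u})) := by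
  classical
  have hloc : ∀ y : X, ∃ (V : Y.Opens) (hV : IsAffineOpen V) (e : ℕ) (_ : 0 < e)
      (f : 𝒮.presheaf.obj (op V)) (_ : f ∈ 𝒮.deg V hV e),
      y ∈ RelProj.emb q chart V hV ''ᵁ Proj.basicOpen (𝒮.deg V hV) f := by
    intro y
    obtain ⟨V, hV, hyV, -⟩ := Opens.isBasis_iff_nbhd.mp Y.isBasis_affineOpens
      (show q.base y ∈ (⊤ : Y.Opens) from trivial)
    obtain ⟨y', hy'⟩ : ∃ y', (RelProj.emb q chart V hV).base y' = y := by
      have : y ∈ (RelProj.emb q chart V hV).opensRange := by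
        rw [Groth.Agent.H41.RelTildeMaps.opensRange_emb]; exact hyV
      exact this
    obtain ⟨e, he, f, hf, hfy⟩ := Groth.Agent.H41.RelTildeMaps.exists_pos_not_mem (𝒮.deg V hV) y'
    exact ⟨V, hV, e, he, f, hf, y', (ProjectiveSpectrum.mem_basicOpen (𝒮.deg V hV) f y').mpr hfy,
      hy'⟩
  choose V hV e he f hf hy using hloc
  obtain ⟨t, ht⟩ := hU.elim_finite_subcover
    (fun y : X => ((RelProj.emb q chart (V y) (hV y) ''ᵁ
      Proj.basicOpen (𝒮.deg (V y) (hV y)) (f y) : X.Opens) : Set X))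
    (fun y => (RelProj.emb q chart (V y) (hV y) ''ᵁ
      Proj.basicOpen (𝒮.deg (V y) (hV y)) (f y)).2)
    (fun y _ => Set.mem_iUnion.mpr ⟨y, hy y⟩)
  refine ⟨∏ y ∈ t, e y, Finset.prod_pos fun y _ => he y, fun n hn L lam hL L' lam' hL' => ?_⟩
  refine Groth.Agent.H41.RelMulUnit.nonempty_restrict_iso 𝒮 q chart hX n (-n) (add_neg_cancel n)
    L lam hL L' lam' hL' U ?_
  intro z hz
  obtain ⟨y, hyt, hzy⟩ := Set.mem_iUnion₂.mp (ht hz)
  have hdvd : ((e y : ℕ) : ℤ) ∣ n :=
    (Int.natCast_dvd_natCast.mpr (Finset.dvd_prod_of_mem e hyt)).trans hn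
  obtain ⟨k, hk⟩ := hdvd
  exact ⟨V y, hV y, e y, -k, f y, hf y, by rw [hk]; ring, hzy⟩

end Groth.Agent.S8340
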