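import Groth.Statements.S8345
import Mathlib.Data.Finite.Sum
-- import your own Groth.Agent.* helpers here

set_option autoImplicit false
universe u
open ConstrTop

namespace Groth.Agent.S8345

open TopologicalSpace in
theorem retro_of_noeth {X : Type u} [TopologicalSpace X] [NoetherianSpace X] (U : Set X) :
    IsRetrocompact U := fun V _ _ => NoetherianSpace.isCompact (U ∩ V)

open TopologicalSpace in
theorem aux_fwd {X : Type u} [TopologicalSpace X] (s : Set X)
    (hs : Topology.IsConstructible s) :
    ∃ (ι : Type) (_ : Finite ι) (Z : ι → Set X), (∀ i, IsLocallyClosed (Z i)) ∧ s = ⋃ i, Z i := by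
  induction s, hs using BooleanSubalgebra.closure_sdiff_sup_induction with
  | isSublattice =>
    exact ⟨fun s hs t ht ↦ ⟨hs.1.union ht.1, hs.2.union ht.2⟩,
      fun s hs t ht ↦ ⟨hs.1.inter ht.1, hs.2.inter_isOpen ht.2 ht.1⟩⟩
  | bot_mem => exact ⟨isOpen_empty, .empty⟩
  | top_mem => exact ⟨isOpen_univ, .univ⟩
  | sdiff U hU V hV =>
    refine ⟨Unit, inferInstance, fun _ => U \ V, fun _ => ?_, ?_⟩
    · exact ⟨U, Vᶜ, hU.1, hV.1.isClosed_compl, rfl⟩
    · exact (Set.iUnion_const _).symm
  | sup s _ t _ hs' ht' =>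
    obtain ⟨ι, hι, Z, hZ, rfl⟩ := hs'
    obtain ⟨κ, hκ, W, hW, rfl⟩ := ht'
    have := hι
    have := hκ
    refine ⟨ι ⊕ κ, inferInstance, Sum.elim Z W, ?_, ?_⟩
    · rintro (i | j)
      · exact hZ i
      · exact hW j
    · simp [Set.iUnion_sum]

open TopologicalSpace in
/-- Suppose X is a topological space that is Noetherian. Then a subset s of X is constructible exactly
when s can be written as the union of finitely many locally closed subsets of X. -/
theorem result {X : Type u} [TopologicalSpace X]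
    [NoetherianSpace X] (s : Set X) :
    Topology.IsConstructible s ↔
      ∃ (n : ℕ) (Z : Fin n → Set X), (∀ i, IsLocallyClosed (Z i)) ∧ s = ⋃ i, Z i := by
  constructor
  · intro hs
    obtain ⟨ι, hι, Z, hZ, rfl⟩ := aux_fwd s hs
    obtain ⟨n, ⟨e⟩⟩ := Finite.exists_equiv_fin ι
    refine ⟨n, fun i => Z (e.symm i), fun i => hZ _, ?_⟩
    exact (e.symm.surjective.iUnion_comp Z).symm
  · rintro ⟨n, Z, hZ, rfl⟩
    refine Topology.IsConstructible.iUnion fun i => ?_
    obtain ⟨U, C, hU, hC, h⟩ := hZ i
    rw [h]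
    refine Topology.IsConstructible.inter ((retro_of_noeth U).isConstructible hU) ?_
    have : C = Cᶜᶜ := (compl_compl C).symm
    rw [this]
    exact ((retro_of_noeth Cᶜ).isConstructible hC.isOpen_compl).compl

end Groth.Agent.S8345
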