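import Groth.Statements.S8346
import Groth.Agent.S8344

set_option autoImplicit false
universe u
open ConstrTop

namespace Groth.Agent.S8346

open scoped Set.Notation

open TopologicalSpace in
/-- Let X be a topological space admitting a basis of open subsets which are retrocompact in X. Then
every locally constructible subset T of X is retrocompact in X. -/
theorem result {X : Type u} [TopologicalSpace X]
    {B : Set (Set X)} (hB : IsTopologicalBasis B) (hBr : ∀ U ∈ B, IsRetrocompact U) {T : Set X}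
    (hT : Topology.IsLocallyConstructible T) : IsRetrocompact T := by
  intro W hWc hWo
  have key (x : X) (hx : x ∈ W) : ∃ V, IsOpen V ∧ x ∈ V ∧ V ⊆ W ∧ Topology.IsConstructible (V ∩ T) := by
    obtain ⟨U, hxU, hU, hUs⟩ := hT x
    obtain ⟨V, hVB, hxV, hVUW⟩ := hB.mem_nhds_iff.mp (Filter.inter_mem hxU (hWo.mem_nhds hx))
    have hV₁ : IsOpen V := hB.isOpen hVB
    have hVU : V ⊆ U := hVUW.trans Set.inter_subset_left
    have h1 : Topology.IsConstructible (V ↓∩ T) :=
      (hUs.preimage_of_isOpenEmbedding (Topology.IsOpenEmbedding.id.restrict hVU hV₁) :)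
    have h2 : Topology.IsConstructible (V ∩ T) := by
      have := h1.image_of_isOpenEmbedding hV₁.isOpenEmbedding_subtypeVal
        (by simpa using hBr V hVB)
      rwa [Subtype.image_preimage_coe] at this
    exact ⟨V, hV₁, hxV, hVUW.trans Set.inter_subset_right, h2⟩
  choose! V hVo hxV hVW hVT using key
  obtain ⟨σ, hσW, hσ⟩ := hWc.elim_nhds_subcover V (fun x hx => (hVo x hx).mem_nhds (hxV x hx))
  have hEq : T ∩ W = ⋃ x ∈ σ, ((V x ∩ T) ∩ W) := by
    apply subset_antisymm
    · rintro y ⟨hyT, hyW⟩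
      obtain ⟨x, hxσ, hyx⟩ := Set.mem_iUnion₂.mp (hσ hyW)
      exact Set.mem_iUnion₂.mpr ⟨x, hxσ, ⟨hyx, hyT⟩, hyW⟩
    · exact Set.iUnion₂_subset fun x _ y hy => ⟨hy.1.2, hy.2⟩
  rw [hEq]
  exact σ.isCompact_biUnion fun x hx =>
    Groth.Agent.S8344.result (hVT x (hσW x hx)) hWc hWo

end Groth.Agent.S8346
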