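import Groth.Statements.S8348
import Mathlib.Algebra.Homology.HomologicalComplexLimits
import Mathlib.CategoryTheory.Abelian.Basic

set_option autoImplicit false
universe v u
open CategoryTheory CategoryTheory.Limits
open HomAlg3

namespace Groth.Agent.S8348

section helpers

variable {C : Type u} [Category.{v} C] [Abelian C] (Q : CochainComplex C ℕ)

theorem epi_toCycles (i : ℕ) (hac : IsZero (Q.homology (i + 1))) : Epi (Q.toCycles i (i + 1)) := by
  have hcok := Q.homologyIsCokernel i (i + 1) (by simp)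
  apply Preadditive.epi_of_cancel_zero
  intro T g hg
  obtain ⟨l, hl⟩ := CokernelCofork.IsColimit.desc' hcok g hg
  have h2 : Q.homologyπ (i + 1) = 0 := hac.eq_of_tgt _ _
  simp only [Cofork.π_ofπ] at hl
  rw [← hl]
  have : Q.homologyπ (i + 1) ≫ l = 0 ≫ l := congrArg (· ≫ l) h2
  rw [this, zero_comp]

/-- the comparison map `Q^i ⟶ Z^i ⊞ Z^{i+1}` -/
noncomputable def φ (r : ∀ i, Q.X i ⟶ Q.cycles i) (i : ℕ) : Q.X i ⟶ Q.cycles i ⊞ Q.cycles (i + 1) :=
  biprod.lift (r i) (Q.toCycles i (i + 1))

theorem φ_mono (r : ∀ i, Q.X i ⟶ Q.cycles i) (hr : ∀ i, Q.iCycles i ≫ r i = 𝟙 _) (i : ℕ) :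
    Mono (φ Q r i) := by
  apply Preadditive.mono_of_cancel_zero
  intro T x hx
  have h1 : x ≫ r i = 0 := by
    have := congrArg (· ≫ biprod.fst) hx
    simpa [φ] using this
  have h2 : x ≫ Q.toCycles i (i + 1) = 0 := by
    have := congrArg (· ≫ biprod.snd) hx
    simpa [φ] using this
  have h3 : x ≫ Q.d i (i + 1) = 0 := by
    rw [← Q.toCycles_i i (i + 1), ← Category.assoc, h2, zero_comp]
  have h4 : x = Q.liftCycles x (i + 1) (by simp) h3 ≫ Q.iCycles i := by simp
  rw [h4, Category.assoc, hr, Category.comp_id] at h1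
  rw [h4, h1, zero_comp]

theorem φ_epi (r : ∀ i, Q.X i ⟶ Q.cycles i) (hr : ∀ i, Q.iCycles i ≫ r i = 𝟙 _) (i : ℕ)
    (hac : IsZero (Q.homology (i + 1))) : Epi (φ Q r i) := by
  have := epi_toCycles Q i hac
  apply Preadditive.epi_of_cancel_zero
  intro T t ht
  have h1 : biprod.inl ≫ t = 0 := by
    have h0 : Q.iCycles i ≫ Q.toCycles i (i + 1) = 0 := by
      rw [← cancel_mono (Q.iCycles (i + 1)), Category.assoc, Q.toCycles_i, Q.iCycles_d, zero_comp]
    have : Q.iCycles i ≫ φ Q r i = biprod.inl := by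
      apply biprod.hom_ext <;> simp [φ, hr, h0]
    rw [← this, Category.assoc, ht, comp_zero]
  have h2 : Q.toCycles i (i + 1) ≫ (biprod.inr ≫ t) = 0 := by
    have h3 : t = biprod.snd ≫ biprod.inr ≫ t := by
      apply biprod.hom_ext'
      · simp [h1]
      · simp
    have : φ Q r i ≫ biprod.snd = Q.toCycles i (i + 1) := by simp [φ]
    rw [← this, Category.assoc, ← h3, ht]
  have h4 : biprod.inr ≫ t = 0 := by
    rwa [← cancel_epi (Q.toCycles i (i + 1)), comp_zero]
  apply biprod.hom_ext' <;> simp [h1, h4]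


theorem main (hinj : ∀ i : ℕ, Injective (Q.X i)) (hac : ∀ i : ℕ, IsZero (Q.homology (i + 1)))
    (hsplit : ∀ i : ℕ, IsSplitMono (Q.iCycles i)) : Injective Q := by
  let r : ∀ i, Q.X i ⟶ Q.cycles i := fun i => retraction (Q.iCycles i)
  have hr : ∀ i, Q.iCycles i ≫ r i = 𝟙 _ := fun i => IsSplitMono.id (Q.iCycles i)
  have hZ : ∀ i, Injective (Q.cycles i) := fun i =>
    Retract.injective (Y := Q.X i) ⟨Q.iCycles i, r i, hr i⟩
  have hiso : ∀ i, IsIso (φ Q r i) := fun i =>
    have := φ_mono Q r hr i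
    haveI := φ_epi Q r hr i (hac i)
    isIso_of_mono_of_epi _
  have I3 : ∀ i, Q.d i (i + 1) ≫ r (i + 1) = Q.toCycles i (i + 1) := by
    intro i
    rw [← Q.toCycles_i i (i + 1), Category.assoc, hr, Category.comp_id]
  refine ⟨fun {A B} g f _ => ?_⟩
  obtain ⟨k, hk⟩ : ∃ k : ∀ i, B.X i ⟶ Q.cycles i, ∀ i, f.f i ≫ k i = g.f i ≫ r i :=
    ⟨fun i => Injective.factorThru (g.f i ≫ r i) (f.f i), fun i => Injective.comp_factorThru _ _⟩
  obtain ⟨hf, hφ⟩ : ∃ hf : ∀ i, B.X i ⟶ Q.X i,
      ∀ i, hf i ≫ φ Q r i = biprod.lift (k i) (B.d i (i + 1) ≫ k (i + 1)) :=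
    ⟨fun i => biprod.lift (k i) (B.d i (i + 1) ≫ k (i + 1)) ≫ inv (φ Q r i), fun i => by
      simp only [Category.assoc, IsIso.inv_hom_id, Category.comp_id]⟩
  have I1 : ∀ i, hf i ≫ r i = k i := by
    intro i
    have := congrArg (· ≫ biprod.fst) (hφ i)
    simpa [φ] using this
  have I2 : ∀ i, hf i ≫ Q.toCycles i (i + 1) = B.d i (i + 1) ≫ k (i + 1) := by
    intro i
    have := congrArg (· ≫ biprod.snd) (hφ i)
    simpa [φ] using this
  have hcomm : ∀ i j, (ComplexShape.up ℕ).Rel i j → hf i ≫ Q.d i j = B.d i j ≫ hf j := by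
    rintro i j rfl
    have := φ_mono Q r hr (i + 1)
    rw [← cancel_mono (φ Q r (i + 1)), Category.assoc, Category.assoc, hφ]
    apply biprod.hom_ext
    · simp only [φ, Category.assoc, biprod.lift_fst]
      rw [I3, I2]
    · simp only [φ, Category.assoc, biprod.lift_snd]
      rw [Q.d_toCycles, comp_zero, B.d_comp_d_assoc, zero_comp]
  refine ⟨⟨hf, hcomm⟩, ?_⟩
  ext i
  have := φ_mono Q r hr i
  rw [← cancel_mono (φ Q r i)]
  simp only [HomologicalComplex.comp_f, Category.assoc, hφ]
  apply biprod.hom_ext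
  · simp only [φ, Category.assoc, biprod.lift_fst]
    exact hk i
  · simp only [φ, Category.assoc, biprod.lift_snd]
    rw [← I3, f.comm_assoc, hk, g.comm_assoc]


end helpers

/-- Let C be an abelian category and Q a cochain complex of objects of C in degrees 0, 1, 2, ... such
that every Q^i is injective, every homology object H^i(Q) with i ≥ 1 is zero, and every inclusion of
the cycles Z^i(Q) into Q^i (i ≥ 0) is a split monomorphism. Then Q is an injective object of the
category of cochain complexes of C indexed by the natural numbers. (The published statement is for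
the narrower class of complexes with Z^i(Q) = B^i(Q) for every i ≥ 0, which in degree 0, where there
is no incoming differential, forces Z^0(Q) = 0; this row allows a nonzero Z^0(Q), so that it pairs
with the embedding of an arbitrary complex into such a Q. Such a Q is the direct sum of Z^0(Q)
placed in degree 0 and of the two-term complexes with Z^{i+1}(Q) in degrees i and i+1 and the
identity as differential, and the published argument carries over with Z^i(Q) in place of B^i(Q) as
the first summand of Q^i.) -/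
theorem result {C : Type u} [Category.{v} C] [Abelian C]
    (Q : CochainComplex C ℕ) (hinj : ∀ i : ℕ, Injective (Q.X i)) (hac : ∀ i : ℕ, IsZero (Q.homology (i + 1)))
    (hsplit : ∀ i : ℕ, IsSplitMono (Q.iCycles i)) : Injective Q := by
  exact main Q hinj hac hsplit

end Groth.Agent.S8348
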