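import Groth.Statements.S8349
import Mathlib.Algebra.Homology.Refinements

set_option autoImplicit false
universe v u
open CategoryTheory CategoryTheory.Limits
open HomAlg3

namespace Groth.Agent.S8349

section helpers

variable {C : Type u} [Category.{v} C] [Abelian C] (I : ℕ → C)

/-- the object in degree `i` -/
noncomputable abbrev QX (i : ℕ) : C := I i ⊞ I (i + 1)

/-- the differential -/
noncomputable abbrev Qd (i : ℕ) : QX I i ⟶ QX I (i + 1) := biprod.snd ≫ biprod.inl

theorem Qsq (i : ℕ) : Qd I i ≫ Qd I (i + 1) = 0 := by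
  simp [Qd]

/-- the complex -/
noncomputable abbrev Qc : CochainComplex C ℕ := CochainComplex.of (QX I) (Qd I) (Qsq I)

theorem Qc_d (i : ℕ) : (Qc I).d i (i + 1) = biprod.snd ≫ biprod.inl :=
  CochainComplex.of_d _ _ i

theorem fst_inl_of_snd_zero {T : C} (i : ℕ) (x : T ⟶ QX I i) (hx : x ≫ biprod.snd = 0) :
    x ≫ biprod.fst ≫ biprod.inl = x := by
  apply biprod.hom_ext <;> simp [hx]

theorem snd_zero_of_d_zero {T : C} (i : ℕ) (x : T ⟶ (Qc I).X i) (hx : x ≫ (Qc I).d i (i + 1) = 0) :
    x ≫ (biprod.snd : QX I i ⟶ _) = 0 := by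
  rw [Qc_d] at hx
  have : (x ≫ (biprod.snd : QX I i ⟶ _)) ≫ (biprod.inl : _ ⟶ QX I (i + 1)) = 0 := by
    simpa using hx
  rwa [← cancel_mono (biprod.inl : _ ⟶ QX I (i + 1)), zero_comp]

theorem Q_acyclic (i : ℕ) : IsZero ((Qc I).homology (i + 1)) := by
  rw [← HomologicalComplex.exactAt_iff_isZero_homology,
    HomologicalComplex.exactAt_iff_exact_up_to_refinements _ i (i + 1) (i + 2) (by simp) (by simp)]
  intro T x₂ hx₂
  have h0 := snd_zero_of_d_zero I (i + 1) x₂ hx₂
  refine ⟨T, 𝟙 T, inferInstance, x₂ ≫ (biprod.fst : QX I (i + 1) ⟶ _) ≫ (biprod.inr : _ ⟶ QX I i), ?_⟩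
  rw [Category.id_comp, Qc_d]
  simp only [Category.assoc, biprod.inr_snd_assoc]
  exact (fst_inl_of_snd_zero I (i + 1) x₂ h0).symm

theorem Q_split (i : ℕ) : IsSplitMono ((Qc I).iCycles i) := by
  have h1 : ((biprod.fst : QX I i ⟶ _) ≫ (biprod.inl : _ ⟶ QX I i)) ≫ (Qc I).d i (i + 1) = 0 := by
    rw [Qc_d]; simp
  refine ⟨⟨⟨(Qc I).liftCycles ((biprod.fst : QX I i ⟶ _) ≫ (biprod.inl : _ ⟶ QX I i)) (i + 1)
    (by simp) h1, ?_⟩⟩⟩
  rw [← cancel_mono ((Qc I).iCycles i), Category.assoc, HomologicalComplex.liftCycles_i,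
    Category.id_comp]
  exact fst_inl_of_snd_zero I i _ (snd_zero_of_d_zero I i _ ((Qc I).iCycles_d i (i + 1)))

theorem main [EnoughInjectives C] (A : CochainComplex C ℕ) :
    ∃ (Q : CochainComplex C ℕ) (f : A ⟶ Q), Mono f ∧ (∀ i : ℕ, Injective (Q.X i)) ∧
      (∀ i : ℕ, IsZero (Q.homology (i + 1))) ∧ ∀ i : ℕ, IsSplitMono (Q.iCycles i) := by
  let J : ℕ → C := fun i => Injective.under (A.X i)
  let ff : ∀ i, A.X i ⟶ (Qc J).X i := fun i =>
    biprod.lift (Injective.ι (A.X i)) (A.d i (i + 1) ≫ Injective.ι (A.X (i + 1)))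
  have hcomm : ∀ i, ff i ≫ (Qc J).d i (i + 1) = A.d i (i + 1) ≫ ff (i + 1) := by
    intro i
    rw [Qc_d]
    apply biprod.hom_ext <;> simp [ff]
  refine ⟨Qc J, CochainComplex.ofHom ff hcomm, ?_, ?_, Q_acyclic J, Q_split J⟩
  · apply HomologicalComplex.mono_of_mono_f
    intro i
    have : ff i ≫ (biprod.fst : QX J i ⟶ _) = Injective.ι (A.X i) := by simp [ff]
    exact mono_of_mono_fac this
  · intro i
    change Injective (J i ⊞ J (i + 1))
    infer_instance

end helpers


/-- Let C be an abelian category in which every object embeds in an injective object, and let A be a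
cochain complex of objects of C in degrees 0, 1, 2, .... Then there are a cochain complex Q, with
every Q^i injective, H^i(Q) = 0 for every i ≥ 1 and every cycle inclusion Z^i(Q) ⟶ Q^i (i ≥ 0) a
split monomorphism, and a monomorphism of complexes A ⟶ Q. (The published statement asks Z^i(Q) =
B^i(Q) for every i ≥ 0; in degree 0, where there is no incoming differential, this makes Z^0(Q) = 0,
and then no complex with nonzero degree-0 cycles, for instance a nonzero object placed in degree 0,
embeds in such a Q, because the degree-0 component of a chain map into Q factors through Z^0(Q).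
This row asks vanishing homology in positive degrees only; the published construction, which embeds
each A^i in an injective I^i and takes Q^i = I^i ⊕ I^{i+1}, proves that version once an injective
I^0 containing A^0 is used in degree 0 as well.) -/
theorem result {C : Type u} [Category.{v} C] [Abelian C]
    [EnoughInjectives C] (A : CochainComplex C ℕ) :
    ∃ (Q : CochainComplex C ℕ) (f : A ⟶ Q), Mono f ∧ (∀ i : ℕ, Injective (Q.X i)) ∧
      (∀ i : ℕ, IsZero (Q.homology (i + 1))) ∧ ∀ i : ℕ, IsSplitMono (Q.iCycles i) := by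
  exact main A

end Groth.Agent.S8349
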