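import Groth.Statements.S8351
import Groth.Agent.H42.HyperPush
import Groth.Agent.H42.RDPlus

set_option autoImplicit false
universe u
open CategoryTheory CategoryTheory.Limits TopologicalSpace
open CohCx

namespace Groth.Agent.S8351

open CategoryTheory.Limits Opposite TopologicalSpace Groth.Agent.H42 Groth.Agent.H5.HDULib in
theorem aux {X Y : TopCat.{u}} (f : X ⟶ Y)
    [HasDerivedCategory.{u} (CohTop.Ab X)] [HasDerivedCategory.{u} (CohTop.Ab Y)]
    (K : CochainComplex.Plus (CohTop.Ab X)) (p : ℤ) :
    Nonempty ((DerivedCategory.Plus.homologyFunctor (CohTop.Ab Y) p).obj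
        ((CohTop.push f).rightDerivedFunctorPlus.obj
          (DerivedCategory.Plus.Qh.obj ((HomotopyCategory.Plus.quotient (CohTop.Ab X)).obj K))) ≅
      (presheafToSheaf (Opens.grothendieckTopology Y) AddCommGrpCat.{u}).obj
        ((Opens.map f).op ⋙ CohCx.HDUPresheaf (DerivedCategory.Q.obj K.obj) p)) := by
  let F := CohTop.push f
  let D₀ : DerivedCategory.Plus (CohTop.Ab X) :=
    DerivedCategory.Plus.Qh.obj ((HomotopyCategory.Plus.quotient (CohTop.Ab X)).obj K)
  obtain ⟨L, hL⟩ := HomotopyCategory.Plus.quotient_obj_surjective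
    ((RDPlus.E (CohTop.Ab X)).inverse.obj D₀)
  let Iq : RDPlus.KInj (CohTop.Ab X) := (HomotopyCategory.Plus.quotient _).obj L
  let e₀ : (RDPlus.Ei (CohTop.Ab X)).obj Iq ≅ D₀ :=
    (RDPlus.Ei (CohTop.Ab X)).mapIso (eqToIso hL) ≪≫ (RDPlus.E (CohTop.Ab X)).counitIso.app D₀
  let M : CochainComplex (CohTop.Ab X) ℤ :=
    ((InjectiveObject.ι (CohTop.Ab X)).mapHomologicalComplex (ComplexShape.up ℤ)).obj L.obj
  haveI hM : M.IsKInjective := inferInstanceAs (CochainComplex.IsKInjective
      (((InjectiveObject.ι (CohTop.Ab X)).mapHomologicalComplex (.up ℤ)).obj L.obj))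
  let N : CochainComplex (CohTop.Ab Y) ℤ := (F.mapHomologicalComplex (ComplexShape.up ℤ)).obj M
  -- the derived functor side
  let i1 : F.rightDerivedFunctorPlus.obj D₀ ≅ (RDPlus.G F).obj Iq :=
    F.rightDerivedFunctorPlus.mapIso e₀.symm ≪≫ ((RDPlus.u F).app Iq).symm
  let i3 : (DerivedCategory.Plus.homologyFunctor (CohTop.Ab Y) p).obj ((RDPlus.G F).obj Iq) ≅
      N.homology p :=
    (DerivedCategory.homologyFunctor (CohTop.Ab Y) p).mapIso
        ((DerivedCategory.quotientCompQhIso (CohTop.Ab Y)).app N) ≪≫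
      (DerivedCategory.homologyFunctorFactors (CohTop.Ab Y) p).app N
  let i4 : (N⟦p⟧).homology 0 ≅ N.homology p :=
    ((HomologicalComplex.homologyFunctor (CohTop.Ab Y) (ComplexShape.up ℤ) 0).shiftIso
      p 0 p (add_zero p)).app N
  let M' : CochainComplex (CohTop.Ab X) ℤ := M⟦p⟧
  let i5 : ((F.mapHomologicalComplex (ComplexShape.up ℤ)).obj M').homology 0 ≅
      (N⟦p⟧).homology 0 :=
    (HomologicalComplex.homologyFunctor (CohTop.Ab Y) (ComplexShape.up ℤ) 0).mapIso
      ((F.mapCochainComplexShiftIso p).app M)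
  obtain ⟨i6⟩ := HyperPush.nonempty_iso_homology_zero f M'
  -- the hypercohomology side
  let e : DerivedCategory.Q.obj M ≅ DerivedCategory.Q.obj K.obj :=
    ((DerivedCategory.quotientCompQhIso (CohTop.Ab X)).app M).symm ≪≫
      DerivedCategory.Plus.ι.mapIso e₀ ≪≫
      (DerivedCategory.quotientCompQhIso (CohTop.Ab X)).app K.obj
  let a : (shiftFunctor (DerivedCategory (CohTop.Ab X)) p).obj (DerivedCategory.Q.obj K.obj) ≅
      (shiftFunctor (DerivedCategory (CohTop.Ab X)) (0 : ℤ)).obj (DerivedCategory.Q.obj M') :=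
    (shiftFunctor _ p).mapIso e.symm ≪≫ ((DerivedCategory.Q.commShiftIso p).app M).symm ≪≫
      ((shiftFunctorZero _ ℤ).app _).symm
  let b : CohCx.HDUPresheaf (DerivedCategory.Q.obj K.obj) p ≅
      CohCx.HDUPresheaf (DerivedCategory.Q.obj M') 0 :=
    Functor.isoWhiskerLeft (G (Opens.grothendieckTopology X)).op (preadditiveYoneda.mapIso a)
  let i7 := (presheafToSheaf (Opens.grothendieckTopology Y) AddCommGrpCat.{u}).mapIso
    (Functor.isoWhiskerLeft (Opens.map f).op b)
  exact ⟨(DerivedCategory.Plus.homologyFunctor (CohTop.Ab Y) p).mapIso i1 ≪≫ i3 ≪≫ i4.symm ≪≫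
    i5.symm ≪≫ i6.symm ≪≫ i7.symm⟩

/-- For abelian sheaves on topological spaces and a complex bounded below. Let f : X ⟶ Y be a continuous
map and K a bounded below complex of abelian sheaves on X. For every p, the p-th cohomology sheaf of
the derived direct image R f_*(K) (bounded below right derived functor of f_*, computed with
injective resolutions) is isomorphic to the sheaf associated with the presheaf U ↦ H^p(f⁻¹(U), K) on
Y, where H^p(V, K) denotes hypercohomology (morphisms from the free abelian sheaf on V to K[p] in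
the derived category). (The published statement is for modules over arbitrary ringed spaces,
complexes unbounded via Cartan-Eilenberg resolutions, and a canonical isomorphism; here only the
existence of an isomorphism is asserted, and the derived categories are assumed to exist with
morphism types in the universe of X and Y.) -/
theorem result {X Y : TopCat.{u}} (f : X ⟶ Y)
    [HasDerivedCategory.{u} (CohTop.Ab X)] [HasDerivedCategory.{u} (CohTop.Ab Y)]
    (K : CochainComplex.Plus (CohTop.Ab X)) (p : ℤ) :
    Nonempty ((DerivedCategory.Plus.homologyFunctor (CohTop.Ab Y) p).obj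
        ((CohTop.push f).rightDerivedFunctorPlus.obj
          (DerivedCategory.Plus.Qh.obj ((HomotopyCategory.Plus.quotient (CohTop.Ab X)).obj K))) ≅
      (presheafToSheaf (Opens.grothendieckTopology Y) AddCommGrpCat.{u}).obj
        ((Opens.map f).op ⋙ CohCx.HDUPresheaf (DerivedCategory.Q.obj K.obj) p)) := by
  exact aux f K p

end Groth.Agent.S8351
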