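import Groth.Statements.S8352
import Mathlib.CategoryTheory.Limits.Types.Images
import Mathlib.CategoryTheory.Limits.Preserves.Basic

set_option autoImplicit false
universe u
open CategoryTheory CategoryTheory.Limits Opposite
open HomAlg3

namespace Groth.Agent.S8352

section TypeLevel

variable {G : ℕᵒᵖ ⥤ Type u} (hG : ∀ n, Function.Surjective (G.map (homOfLE (Nat.le_succ n)).op))

/-- successive preimages -/
noncomputable def pre (p : ℕ) (a : G.obj ⟨p⟩) : (n : ℕ) → G.obj ⟨p + n⟩
  | 0 => a
  | n + 1 => (hG (p + n) (pre p a n)).choose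

theorem pre_succ (p : ℕ) (a : G.obj ⟨p⟩) (n : ℕ) :
    G.map (homOfLE (Nat.le_succ (p + n))).op (pre hG p a (n + 1)) = pre hG p a n :=
  (hG (p + n) (pre hG p a n)).choose_spec

theorem pre_le (p : ℕ) (a : G.obj ⟨p⟩) (m n : ℕ) (h : m ≤ n) :
    G.map (homOfLE (Nat.add_le_add_left h p)).op (pre hG p a n) = pre hG p a m := by
  induction h with
  | refl =>
    have : (homOfLE (Nat.add_le_add_left (le_refl m) p)).op = 𝟙 (op (p + m)) := Subsingleton.elim _ _
    rw [this, Functor.map_id_apply]
  | @step k h ih =>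
    rw [← ih, ← pre_succ hG p a k, ← Functor.map_comp_apply]
    congr 1

include hG in
theorem exists_section (p : ℕ) (a : G.obj ⟨p⟩) : ∃ s : G.sections, s.1 ⟨p⟩ = a := by
  refine ⟨⟨fun j => G.map (homOfLE (Nat.le_add_left j.unop p)).op (pre hG p a j.unop), ?_⟩, ?_⟩
  · intro ⟨k⟩ ⟨j⟩ f
    have hjk : j ≤ k := leOfHom f.unop
    dsimp only
    rw [← pre_le hG p a j k hjk, ← Functor.map_comp_apply, ← Functor.map_comp_apply]
    congr 1
  · dsimp only
    exact pre_le hG p a 0 p (Nat.zero_le p)

end TypeLevel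


theorem core (F : ℕᵒᵖ ⥤ AddCommGrpCat.{u}) (hF : (F ⋙ forget AddCommGrpCat).IsMittagLeffler) (p : ℕ) :
    (limit.π F (op p)).hom.range = ⨅ (k : ℕ) (hk : p ≤ k), (F.map (homOfLE hk).op).hom.range := by
  apply le_antisymm
  · rintro x ⟨y, rfl⟩
    simp only [AddSubgroup.mem_iInf]
    intro k hk
    refine ⟨limit.π F (op k) y, ?_⟩
    rw [← limit.w F (homOfLE hk).op]
    rfl
  · intro x hx
    simp only [AddSubgroup.mem_iInf] at hx
    have hx' : x ∈ (F ⋙ forget AddCommGrpCat).eventualRange (op p) := by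
      rw [Functor.mem_eventualRange_iff]
      intro i f
      have hk : p ≤ i.unop := leOfHom f.unop
      obtain ⟨y, hy⟩ := hx i.unop hk
      refine ⟨y, ?_⟩
      have : f = (homOfLE hk).op := Subsingleton.elim _ _
      rw [this]
      exact hy
    obtain ⟨s, hs⟩ := exists_section (G := (F ⋙ forget AddCommGrpCat).toEventualRanges)
      (fun n => Functor.surjective_toEventualRanges _ hF _) p ⟨x, hx'⟩
    let s' := (F ⋙ forget AddCommGrpCat).toEventualRangesSectionsEquiv s
    have hc' := isLimitOfPreserves (forget AddCommGrpCat) (limit.isLimit F)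
    refine ⟨(Types.isLimitEquivSections hc').symm s', ?_⟩
    have := Types.isLimitEquivSections_symm_apply hc' s' (op p)
    have h2 : s'.1 (op p) = x := congrArg Subtype.val hs
    rw [← h2, ← this]
    rfl


/-- Category of abelian groups, system indexed by the natural numbers: Let (A_k) be an inverse system of
abelian groups satisfying the Mittag-Leffler condition, A = lim A_k with projections π_p : A ⟶ A_p.
Filter A and each A_k by the kernels of the maps to A_{p-1} (with A_{-1} = 0); the graded piece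
gr^p(A) is identified with Im(π_p) ∩ Ker(A_p ⟶ A_{p-1}) and gr^p(A_k), k ≥ p, with Im(A_k ⟶ A_p) ∩
Ker(A_p ⟶ A_{p-1}), a decreasing family of subgroups of A_p. The statement gr^p(A) ≅ lim_k gr^p(A_k)
then reads: Im(π_0) = ⋂_k Im(A_k ⟶ A_0), and for every p, Im(π_{p+1}) ∩ Ker(A_{p+1} ⟶ A_p) = ⋂_{k ≥
p+1} (Im(A_k ⟶ A_{p+1}) ∩ Ker(A_{p+1} ⟶ A_p)). -/
theorem result (F : ℕᵒᵖ ⥤ AddCommGrpCat.{u})
    (hF : (F ⋙ forget AddCommGrpCat).IsMittagLeffler) :
    (limit.π F (op 0)).hom.range = ⨅ k : ℕ, (F.map (homOfLE (Nat.zero_le k)).op).hom.range ∧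
      ∀ p : ℕ, (limit.π F (op (p + 1))).hom.range ⊓ (F.map (homOfLE (Nat.le_succ p)).op).hom.ker =
        ⨅ (k : ℕ) (hk : p + 1 ≤ k),
          (F.map (homOfLE hk).op).hom.range ⊓ (F.map (homOfLE (Nat.le_succ p)).op).hom.ker := by
  constructor
  · rw [core F hF 0]
    apply le_antisymm
    · simp only [le_iInf_iff]
      intro k
      exact iInf₂_le k (Nat.zero_le k)
    · simp only [le_iInf_iff]
      intro k hk
      exact iInf_le _ k
  · intro p
    rw [core F hF (p + 1)]
    apply le_antisymm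
    · simp only [le_iInf_iff]
      intro k hk
      exact inf_le_inf_right _ (iInf₂_le k hk)
    · apply le_inf
      · simp only [le_iInf_iff]
        intro k hk
        exact (iInf₂_le k hk).trans inf_le_left
      · exact (iInf₂_le (p + 1) le_rfl).trans inf_le_right

end Groth.Agent.S8352
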