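import Groth.Statements.S8353
import Mathlib.RingTheory.Finiteness.Finsupp
import Mathlib.RingTheory.Ideal.Operations

set_option autoImplicit false
universe u
open HomAlg3

namespace Groth.Agent.S8353

section helpers

variable {S : Type u} [CommRing S] (J : Ideal S) {M : Type u} [AddCommGroup M] [Module S M]

theorem core [IsPrecomplete J S]
    (G : ℕ → Submodule S M) (hG : Antitone G) (hJ : ∀ k, J • G k ≤ G (k + 1))
    (hsep : ⨅ k, G k = ⊥) (hfg : (Submodule.map (G 1).mkQ (G 0)).FG)
    (hstep : ∀ k, G (k + 1) = J • G k ⊔ G (k + 2)) :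
    (G 0).FG ∧ ∀ k, G k = J ^ k • G 0 := by
  classical
  -- powers of J shift the filtration
  have hJpow : ∀ n m, J ^ n • G m ≤ G (n + m) := by
    intro n
    induction n with
    | zero => intro m; simp
    | succ n ih =>
      intro m
      have e : n + 1 + m = n + m + 1 := by omega
      rw [pow_succ', mul_smul, e]
      exact (Submodule.smul_mono le_rfl (ih m)).trans (hJ (n + m))
  -- step A
  have stepA : ∀ k, G k = J ^ k • G 0 ⊔ G (k + 1) := by
    intro k
    induction k with
    | zero =>
      simp only [pow_zero, Ideal.one_eq_top, Submodule.top_smul, zero_add]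
      exact (sup_eq_left.mpr (hG (Nat.zero_le 1))).symm
    | succ k ih =>
      apply le_antisymm
      · have h1 : J • G k = J • (J ^ k • G 0 ⊔ G (k + 1)) := congrArg (J • ·) ih
        rw [hstep k, h1, Submodule.smul_sup, ← mul_smul, ← pow_succ']
        exact sup_le (sup_le le_sup_left ((hJ (k + 1)).trans le_sup_right)) le_sup_right
      · exact sup_le (hJpow (k + 1) 0) (hG (Nat.le_succ (k + 1)))
  -- step B : choose generators
  obtain ⟨t, ht⟩ := hfg
  have hex : ∀ y : {z // z ∈ t}, ∃ x ∈ G 0, (G 1).mkQ x = y := by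
    intro y
    have : (y : M ⧸ G 1) ∈ Submodule.map (G 1).mkQ (G 0) := by
      rw [← ht]; exact Submodule.subset_span (Finset.mem_coe.mpr y.2)
    obtain ⟨x, hx, hxy⟩ := this
    exact ⟨x, hx, hxy⟩
  choose x hx0 hxy using hex
  set L : Submodule S M := Submodule.span S (Set.range x) with hLdef
  have hL0 : L ≤ G 0 := Submodule.span_le.mpr (by rintro _ ⟨i, rfl⟩; exact hx0 i)
  have hLmap : Submodule.map (G 1).mkQ L = Submodule.map (G 1).mkQ (G 0) := by
    rw [hLdef, Submodule.map_span, ← ht]
    congr 1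
    ext z
    constructor
    · rintro ⟨_, ⟨i, rfl⟩, rfl⟩
      rw [hxy i]; exact Finset.mem_coe.mpr i.2
    · intro hz
      have hz' : z ∈ t := Finset.mem_coe.mp hz
      exact ⟨x ⟨z, hz'⟩, ⟨⟨z, hz'⟩, rfl⟩, hxy ⟨z, hz'⟩⟩
  have hG0L : G 0 ≤ L ⊔ G 1 := by
    have h1 := congrArg (Submodule.comap (G 1).mkQ) hLmap
    rw [Submodule.comap_map_mkQ, Submodule.comap_map_mkQ] at h1
    rw [sup_comm, h1]
    exact le_sup_right
  -- step C
  have stepC : ∀ k, G k ≤ J ^ k • L ⊔ G (k + 1) := by
    intro k
    rw [stepA k]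
    refine sup_le ?_ le_sup_right
    refine (Submodule.smul_mono le_rfl hG0L).trans ?_
    rw [Submodule.smul_sup]
    exact sup_le le_sup_left ((hJpow k 1).trans le_sup_right)
  -- step D
  have stepD : ∀ k, G k ≤ J ^ k • L := by
    intro k y hy
    have dec : ∀ j (z : M), z ∈ G (k + j) →
        ∃ l z', l ∈ J ^ (k + j) • L ∧ z' ∈ G (k + j + 1) ∧ z = l + z' := by
      intro j z hz
      obtain ⟨l, hl, z', hz', h⟩ := Submodule.mem_sup.mp (stepC (k + j) hz)
      exact ⟨l, z', hl, hz', h.symm⟩
    choose lf zf hlf hzf hdec using dec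
    let seq : ∀ j, {z : M // z ∈ G (k + j)} := fun j =>
      Nat.rec (motive := fun j => {z : M // z ∈ G (k + j)}) ⟨y, hy⟩
        (fun j z => ⟨zf j z.1 z.2, hzf j z.1 z.2⟩) j
    let l : ℕ → M := fun j => lf j (seq j).1 (seq j).2
    have hl : ∀ j, l j ∈ J ^ (k + j) • L := fun j => hlf j _ _
    have hseq : ∀ j, (seq j).1 = l j + (seq (j + 1)).1 := fun j => hdec j _ _
    have hsum : ∀ n, y = (∑ j ∈ Finset.range n, l j) + (seq n).1 := by
      intro n
      induction n with
      | zero => simp [seq]
      | succ n ih => rw [Finset.sum_range_succ, add_assoc, ← hseq n]; exact ih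
    have hcoef : ∀ j, ∃ a : {z // z ∈ t} → S,
        (∀ i, a i ∈ J ^ (k + j)) ∧ l j = ∑ i, a i • x i := by
      intro j
      obtain ⟨a, ha, hsum⟩ := (Submodule.mem_ideal_smul_span_iff_exists_sum _ x (l j)).mp (hl j)
      refine ⟨a, ha, ?_⟩
      rw [← hsum, Finsupp.sum_fintype]
      intro i; simp
    choose a ha hla using hcoef
    have hlim : ∀ i, ∃ A : S, ∀ n, (∑ j ∈ Finset.range n, a j i) - A ∈ J ^ n := by
      intro i
      obtain ⟨A, hA⟩ := IsPrecomplete.prec' (I := J) (M := S)
        (fun n => ∑ j ∈ Finset.range n, a j i) (by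
          intro m n hmn
          rw [SModEq.sub_mem, smul_eq_mul, Ideal.mul_top]
          induction n, hmn using Nat.le_induction with
          | base => simp
          | succ n hmn ih =>
            rw [Finset.sum_range_succ, ← sub_sub]
            refine (J ^ m).sub_mem ih ?_
            exact Ideal.pow_le_pow_right (by omega) (ha n i))
      refine ⟨A, fun n => ?_⟩
      have := hA n
      rwa [SModEq.sub_mem, smul_eq_mul, Ideal.mul_top] at this
    choose A hA using hlim
    have hAk : ∀ i, A i ∈ J ^ k := by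
      intro i
      have h1 : (∑ j ∈ Finset.range k, a j i) ∈ J ^ k :=
        (J ^ k).sum_mem fun j _ => Ideal.pow_le_pow_right (by omega) (ha j i)
      have h2 := (J ^ k).sub_mem h1 (hA i k)
      simpa using h2
    have hmem : (∑ i, A i • x i) ∈ J ^ k • L :=
      Submodule.sum_mem _ fun i _ =>
        Submodule.smul_mem_smul (hAk i) (Submodule.subset_span ⟨i, rfl⟩)
    have hzero : y - ∑ i, A i • x i = 0 := by
      have : y - ∑ i, A i • x i ∈ ⨅ n, G n := by
        rw [Submodule.mem_iInf]
        intro n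
        have e1 : y - ∑ i, A i • x i =
            (∑ i, ((∑ j ∈ Finset.range n, a j i) - A i) • x i) + (seq n).1 := by
          have e2 : (∑ j ∈ Finset.range n, l j) = ∑ i, (∑ j ∈ Finset.range n, a j i) • x i := by
            simp only [hla, Finset.sum_smul]
            rw [Finset.sum_comm]
          conv_lhs => rw [hsum n, e2]
          simp only [sub_smul, Finset.sum_sub_distrib]
          abel
        rw [e1]
        refine (G n).add_mem ?_ (hG (Nat.le_add_left n k) (seq n).2)
        refine (G n).sum_mem fun i _ => ?_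
        exact hJpow n 0 (Submodule.smul_mem_smul (hA i n) (hx0 i))
      rw [hsep] at this
      simpa using this
    rw [sub_eq_zero] at hzero
    rw [hzero]
    exact hmem
  -- conclusions
  have hGk : ∀ k, G k = J ^ k • G 0 := fun k =>
    le_antisymm ((stepD k).trans (Submodule.smul_mono le_rfl hL0)) (hJpow k 0)
  refine ⟨?_, hGk⟩
  have hG0 : G 0 = L := by
    apply le_antisymm _ hL0
    have := stepD 0
    simpa using this
  rw [hG0]
  exact Submodule.fg_span (Set.finite_range x)

theorem transport (F : ℤ → Submodule S M) {a a' b b' : ℤ} (ha : a = a') (hb : b = b')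
    (h : (Submodule.map (F a).mkQ (F b)).FG) : (Submodule.map (F a').mkQ (F b')).FG := by
  subst ha hb; exact h

theorem backward [IsPrecomplete J S]
    (F : ℤ → Submodule S M) (hF : Antitone F) (hcod : ∃ p₀ : ℤ, F p₀ = ⊤)
    (hJ : ∀ p : ℤ, J • F p ≤ F (p + 1)) (hsep : ⨅ p : ℤ, F p = ⊥)
    (h1 : ∀ p : ℤ, (Submodule.map (F (p + 1)).mkQ (F p)).FG)
    (h2 : ∃ p₁ : ℤ, ∀ p : ℤ, p₁ ≤ p → F (p + 1) = J • F p ⊔ F (p + 2)) :
    Module.Finite S M ∧ ∃ p₁ : ℤ, ∀ p : ℤ, p₁ ≤ p → J • F p = F (p + 1) := by
  obtain ⟨p₀, hp₀⟩ := hcod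
  obtain ⟨p₁, hp₁⟩ := h2
  set q : ℤ := max p₀ p₁ with hq
  have hq0 : p₀ ≤ q := le_max_left _ _
  have hq1 : p₁ ≤ q := le_max_right _ _
  let G : ℕ → Submodule S M := fun k => F (q + k)
  have hGanti : Antitone G := fun a b hab => hF (by simpa using hab)
  have hGJ : ∀ k, J • G k ≤ G (k + 1) := by
    intro k
    have := hJ (q + k)
    have e : q + (k : ℤ) + 1 = q + ((k + 1 : ℕ) : ℤ) := by push_cast; ring
    rw [e] at this
    exact this
  have hGsep : ⨅ k, G k = ⊥ := by
    rw [eq_bot_iff, ← hsep]
    refine le_iInf fun p => ?_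
    by_cases hpq : p ≤ q
    · exact (iInf_le G 0).trans (hF (by simpa using hpq))
    · have e : q + ((p - q).toNat : ℤ) = p := by
        rw [Int.toNat_of_nonneg (by omega)]; ring
      have := iInf_le G (p - q).toNat
      simpa only [G, e] using this
  have hGfg : (Submodule.map (G 1).mkQ (G 0)).FG := by
    exact transport F (by simp) (by simp) (h1 q)
  have hGstep : ∀ k, G (k + 1) = J • G k ⊔ G (k + 2) := by
    intro k
    have := hp₁ (q + k) (by omega)
    have e1 : q + (k : ℤ) + 1 = q + ((k + 1 : ℕ) : ℤ) := by push_cast; ring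
    have e2 : q + (k : ℤ) + 2 = q + ((k + 2 : ℕ) : ℤ) := by push_cast; ring
    rw [e1, e2] at this
    exact this
  obtain ⟨hfg0, hGk⟩ := core J G hGanti hGJ hGsep hGfg hGstep
  constructor
  · -- finiteness
    have hdown : ∀ n : ℕ, (F (q - n)).FG := by
      intro n
      induction n with
      | zero => simpa [G] using hfg0
      | succ n ih =>
        have e : q - ((n + 1 : ℕ) : ℤ) + 1 = q - (n : ℤ) := by push_cast; ring
        have hmap := transport F e rfl (h1 (q - ((n + 1 : ℕ) : ℤ)))
        refine Submodule.fg_of_fg_map_of_fg_inf_ker (F (q - (n : ℤ))).mkQ hmap ?_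
        rw [Submodule.ker_mkQ, inf_eq_right.mpr (hF (by push_cast; omega))]
        exact ih
    have := hdown (q - p₀).toNat
    have e : q - ((q - p₀).toNat : ℤ) = p₀ := by
      rw [Int.toNat_of_nonneg (by omega)]; ring
    rw [e, hp₀] at this
    exact Module.finite_def.mpr this
  · refine ⟨q, fun p hp => ?_⟩
    have e : q + ((p - q).toNat : ℤ) = p := by
      rw [Int.toNat_of_nonneg (by omega)]; ring
    have e' : q + (((p - q).toNat + 1 : ℕ) : ℤ) = p + 1 := by
      push_cast; rw [Int.toNat_of_nonneg (by omega)]; ring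
    have ha : F p = J ^ (p - q).toNat • G 0 := by
      have := hGk (p - q).toNat
      simpa only [G, e] using this
    have hb : F (p + 1) = J ^ ((p - q).toNat + 1) • G 0 := by
      have := hGk ((p - q).toNat + 1)
      simpa only [G, e'] using this
    rw [ha, hb, pow_succ', mul_smul]

theorem forward [IsNoetherianRing S]
    (F : ℤ → Submodule S M) (hF : Antitone F)
    (h : Module.Finite S M ∧ ∃ p₁ : ℤ, ∀ p : ℤ, p₁ ≤ p → J • F p = F (p + 1)) :
    (∀ p : ℤ, (Submodule.map (F (p + 1)).mkQ (F p)).FG) ∧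
        ∃ p₁ : ℤ, ∀ p : ℤ, p₁ ≤ p → F (p + 1) = J • F p ⊔ F (p + 2) := by
  obtain ⟨hfin, p₁, hp₁⟩ := h
  have : IsNoetherian S M := isNoetherian_of_isNoetherianRing_of_finite S M
  refine ⟨fun p => (IsNoetherian.noetherian (F p)).map _, p₁, fun p hp => ?_⟩
  rw [hp₁ p hp]
  exact (sup_eq_left.mpr (hF (by omega))).symm

end helpers


/-- Let S be a Noetherian ring which is separated and complete for the adic topology of an ideal J, and
let M be an S-module with a decreasing filtration (F^p M)_{p ∈ ℤ} by submodules such that F^p M = M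
for some p, J·F^p M ⊆ F^{p+1} M for all p, and ⋂_p F^p M = 0. Then the following are equivalent: (a)
M is a finitely generated S-module and J·F^p M = F^{p+1} M for all large p; (c) every F^p M /
F^{p+1} M is a finitely generated S-module and, for all large p, the map J ⊗ (F^p M/F^{p+1} M) ⟶
F^{p+1} M/F^{p+2} M is surjective, that is F^{p+1} M = J·F^p M + F^{p+2} M. (The published statement
also lists a third equivalent condition, finite generation of the associated graded module over the
associated graded ring; this row states the equivalence of the other two.) -/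
theorem result {S : Type u} [CommRing S] [IsNoetherianRing S]
    (J : Ideal S) [IsAdicComplete J S] {M : Type u} [AddCommGroup M] [Module S M]
    (F : ℤ → Submodule S M) (hF : Antitone F) (hcod : ∃ p₀ : ℤ, F p₀ = ⊤)
    (hJ : ∀ p : ℤ, J • F p ≤ F (p + 1)) (hsep : ⨅ p : ℤ, F p = ⊥) :
    (Module.Finite S M ∧ ∃ p₁ : ℤ, ∀ p : ℤ, p₁ ≤ p → J • F p = F (p + 1)) ↔
      ((∀ p : ℤ, (Submodule.map (F (p + 1)).mkQ (F p)).FG) ∧
        ∃ p₁ : ℤ, ∀ p : ℤ, p₁ ≤ p → F (p + 1) = J • F p ⊔ F (p + 2)) := by
  constructor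
  · exact forward J F hF
  · rintro ⟨h1, h2⟩
    exact backward J F hF hcod hJ hsep h1 h2

end Groth.Agent.S8353
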