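import Groth.Statements.S8362
import Groth.Agent.H49.SqZeroEndo

set_option autoImplicit false
universe u
open CategoryTheory AlgebraicGeometry
open SGA3

namespace Groth.Agent.S8362


/-- Over an affine base S = Spec R with S₀ = Spec (R/J) for an ideal J of square zero: for an arbitrary
S-scheme X, every S-endomorphism of X inducing the identity on X ×_S S₀ is an automorphism. (The
published statement is over an arbitrary base scheme with a quasi-coherent ideal of square zero;
this row is its case of an affine base, to which it reduces since being an isomorphism is local on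
the base.) -/
theorem result (R : Type u) [CommRing R] (J : Ideal R) (hJ : J * J = ⊥)
    (X : Over (Spec (CommRingCat.of R))) (u : X ⟶ X)
    (h : (Over.pullback (Spec.map (CommRingCat.ofHom (Ideal.Quotient.mk J)))).map u = 𝟙 _) :
    IsIso u := by
  have h0 : Limits.pullback.fst X.hom (Spec.map (CommRingCat.ofHom (Ideal.Quotient.mk J))) ≫ u.left =
      Limits.pullback.fst X.hom (Spec.map (CommRingCat.ofHom (Ideal.Quotient.mk J))) := by
    have h1 := congrArg (fun v : (Over.pullback (Spec.map (CommRingCat.ofHom
      (Ideal.Quotient.mk J)))).obj X ⟶ (Over.pullback (Spec.map (CommRingCat.ofHom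
      (Ideal.Quotient.mk J)))).obj X =>
        v.left ≫ Limits.pullback.fst X.hom (Spec.map (CommRingCat.ofHom (Ideal.Quotient.mk J)))) h
    simp only [Over.pullback, Over.homMk_left, Over.id_left, Category.id_comp] at h1
    exact (Limits.pullback.lift_fst _ _ _).symm.trans h1
  haveI hl : IsIso u.left :=
    Groth.Agent.H49.SqZeroEndo.isIso_of_sqZero J hJ X.hom u.left (Over.w u) h0
  haveI : IsIso ((Over.forget (Spec (CommRingCat.of R))).map u) := hl
  exact isIso_of_reflects_iso u (Over.forget _)

end Groth.Agent.S8362
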