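import Groth.Statements.S8364
-- import your own Groth.Agent.* helpers here

set_option autoImplicit false
universe u
open SGA3

namespace Groth.Agent.S8364

theorem bij_of_congr_id (R A : Type u) [CommRing R] [CommRing A] [Algebra R A]
    (J : Ideal R) (hJ : J * J = ⊥) (θ : A →ₐ[R] A)
    (hθ : ∀ a : A, θ a - a ∈ Ideal.map (algebraMap R A) J) : Function.Bijective θ := by
  set I := Ideal.map (algebraMap R A) J with hIdef
  have hII : I * I = ⊥ := by
    rw [hIdef, ← Ideal.map_mul, hJ, Ideal.map_bot]
  have hmul0 : ∀ x ∈ I, ∀ y ∈ I, x * y = 0 := by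
    intro x hx y hy
    have : x * y ∈ I * I := Ideal.mul_mem_mul hx hy
    rw [hII] at this
    simpa using this
  have hfix : ∀ x ∈ I, θ x = x := by
    intro x hx
    rw [hIdef, Ideal.map] at hx
    induction hx using Submodule.span_induction with
    | mem x hx =>
      obtain ⟨j, _, rfl⟩ := hx
      exact θ.commutes j
    | zero => simp
    | add x y _ _ hx hy => rw [map_add, hx, hy]
    | smul a x hx' hx =>
      have hxI : x ∈ I := by rw [hIdef, Ideal.map]; exact hx'
      rw [smul_eq_mul, map_mul, hx]
      have h0 : (θ a - a) * x = 0 := hmul0 _ (hθ a) _ hxI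
      linear_combination h0
  constructor
  · rw [injective_iff_map_eq_zero]
    intro a ha
    have h1 : a ∈ I := by
      have := hθ a
      rw [ha, zero_sub] at this
      simpa using I.neg_mem this
    have := hfix a h1
    rw [ha] at this
    exact this.symm
  · intro a
    refine ⟨2 * a - θ a, ?_⟩
    have h1 : θ (θ a - a) = θ a - a := hfix _ (hθ a)
    rw [map_sub] at h1
    rw [map_sub, map_mul, map_ofNat]
    linear_combination (-1 : A) * h1

/-- For a commutative ring R, an ideal J of R of square zero, a smooth R-algebra A and the extended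
ideal I = J·A, every R-algebra automorphism of A/I lifts to an R-algebra automorphism of A. (The
published statement concerns the automorphism functor of a smooth affine S-scheme E and affine test
schemes Y; this row is the case Y = S = Spec R, E = Spec A, which gives the general one after
replacing R by the ring of Y.) -/
theorem result (R A : Type u) [CommRing R] [CommRing A] [Algebra R A]
    [Algebra.Smooth R A] (J : Ideal R) (hJ : J * J = ⊥)
    (φ₀ : (A ⧸ Ideal.map (algebraMap R A) J) ≃ₐ[R] (A ⧸ Ideal.map (algebraMap R A) J)) :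
    ∃ φ : A ≃ₐ[R] A,
      (Ideal.Quotient.mkₐ R (Ideal.map (algebraMap R A) J)).comp φ.toAlgHom =
        φ₀.toAlgHom.comp (Ideal.Quotient.mkₐ R (Ideal.map (algebraMap R A) J)) := by
  have hII : (Ideal.map (algebraMap R A) J) ^ 2 = ⊥ := by
    rw [pow_two, ← Ideal.map_mul, hJ, Ideal.map_bot]
  have hnil : IsNilpotent (Ideal.map (algebraMap R A) J) := ⟨2, hII⟩
  let φ : A →ₐ[R] A := Algebra.FormallySmooth.lift _ hnil
    (φ₀.toAlgHom.comp (Ideal.Quotient.mkₐ R (Ideal.map (algebraMap R A) J)))
  let ψ : A →ₐ[R] A := Algebra.FormallySmooth.lift _ hnil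
    (φ₀.symm.toAlgHom.comp (Ideal.Quotient.mkₐ R (Ideal.map (algebraMap R A) J)))
  have hφ : ∀ a, Ideal.Quotient.mk (Ideal.map (algebraMap R A) J) (φ a) =
      φ₀ (Ideal.Quotient.mk (Ideal.map (algebraMap R A) J) a) := fun a =>
    Algebra.FormallySmooth.mk_lift _ hnil
      (φ₀.toAlgHom.comp (Ideal.Quotient.mkₐ R (Ideal.map (algebraMap R A) J))) a
  have hψ : ∀ a, Ideal.Quotient.mk (Ideal.map (algebraMap R A) J) (ψ a) =
      φ₀.symm (Ideal.Quotient.mk (Ideal.map (algebraMap R A) J) a) := fun a =>
    Algebra.FormallySmooth.mk_lift _ hnil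
      (φ₀.symm.toAlgHom.comp (Ideal.Quotient.mkₐ R (Ideal.map (algebraMap R A) J))) a
  have h1 : Function.Bijective (φ.comp ψ) := by
    apply bij_of_congr_id R A J hJ
    intro a
    rw [← Ideal.Quotient.eq]
    change Ideal.Quotient.mk _ (φ (ψ a)) = _
    rw [hφ, hψ]
    simp
  have h2 : Function.Bijective (ψ.comp φ) := by
    apply bij_of_congr_id R A J hJ
    intro a
    rw [← Ideal.Quotient.eq]
    change Ideal.Quotient.mk _ (ψ (φ a)) = _
    rw [hψ, hφ]
    simp
  have hbij : Function.Bijective φ := by
    constructor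
    · have : Function.Injective (ψ ∘ φ) := h2.1
      exact Function.Injective.of_comp this
    · have : Function.Surjective (φ ∘ ψ) := h1.2
      exact Function.Surjective.of_comp this
  refine ⟨AlgEquiv.ofBijective φ hbij, ?_⟩
  apply AlgHom.ext
  intro a
  exact hφ a

end Groth.Agent.S8364
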