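import Groth.Statements.S8369
import Mathlib.RingTheory.Flat.Equalizer
import Mathlib.LinearAlgebra.TensorProduct.Quotient

set_option autoImplicit false
universe u v
open SGA3

namespace Groth.Agent.S8369

section helpers
open TensorProduct

variable (A : Type u) [CommRing A] (J : Ideal A) (M : Type v) [AddCommGroup M] [Module A M]
  (N : Submodule A M)

theorem inf_smul_top_le [Module.Flat A (M ⧸ N)] : N ⊓ (J • (⊤ : Submodule A M)) ≤ J • N := by
  rintro x ⟨hxN, hxJ⟩
  have hinj : Function.Injective (N.subtype.lTensor (A ⧸ J)) :=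
    LinearMap.lTensor_injective_of_exact_of_flat N.mkQ N.mkQ_surjective N.subtype
      N.subtype_injective (LinearMap.exact_subtype_mkQ N) (A ⧸ J)
  have h1 : N.subtype.lTensor (A ⧸ J) ((1 : A ⧸ J) ⊗ₜ[A] (⟨x, hxN⟩ : N)) = 0 := by
    rw [LinearMap.lTensor_tmul]
    apply (quotTensorEquivQuotSMul M J).injective
    rw [quotTensorEquivQuotSMul_mk_one_tmul, map_zero]
    exact (Submodule.Quotient.mk_eq_zero _).mpr hxJ
  have h2 : ((1 : A ⧸ J) ⊗ₜ[A] (⟨x, hxN⟩ : N)) = 0 := hinj (by rw [h1, map_zero])
  have h3 := congrArg (quotTensorEquivQuotSMul N J) h2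
  rw [quotTensorEquivQuotSMul_mk_one_tmul, map_zero, Submodule.Quotient.mk_eq_zero] at h3
  have h4 : x ∈ (J • (⊤ : Submodule A N)).map N.subtype := ⟨⟨x, hxN⟩, h3, rfl⟩
  rwa [Submodule.map_smul'', Submodule.map_subtype_top] at h4

theorem nak (hJ : IsNilpotent J) (N' : Submodule A M) (h : N ≤ N' ⊔ J • N) : N ≤ N' := by
  obtain ⟨n, hn⟩ := hJ
  have key : ∀ k : ℕ, N ≤ N' ⊔ J ^ k • N := by
    intro k
    induction k with
    | zero => simp
    | succ k ih =>
      calc N ≤ N' ⊔ J • N := h
        _ ≤ N' ⊔ J • (N' ⊔ J ^ k • N) := sup_le_sup_left (Submodule.smul_mono le_rfl ih) _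
        _ ≤ N' ⊔ J ^ (k + 1) • N := by
          rw [Submodule.smul_sup, ← mul_smul, ← pow_succ']
          exact sup_le (le_sup_left) (sup_le (Submodule.smul_le_right.trans le_sup_left) le_sup_right)
  have := key n
  rwa [hn, Submodule.zero_eq_bot, Submodule.bot_smul, sup_bot_eq] at this

end helpers


/-- Let A be a commutative ring, J a nilpotent ideal, N ⊆ M A-modules with M/N flat over A. If elements
of N have images generating the image of N in M/JM, then they generate N. (The published statement
takes finitely many elements; this row allows an arbitrary set, which the same argument permits.) -/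
theorem result (A : Type u) [CommRing A] (J : Ideal A) (hJ : IsNilpotent J)
    (M : Type v) [AddCommGroup M] [Module A M] (N : Submodule A M) [Module.Flat A (M ⧸ N)] (s : Set M)
    (hs : s ⊆ N)
    (hgen : (Submodule.span A s).map (J • (⊤ : Submodule A M)).mkQ = N.map (J • (⊤ : Submodule A M)).mkQ) :
    Submodule.span A s = N := by
  have hle : Submodule.span A s ≤ N := Submodule.span_le.mpr hs
  refine le_antisymm hle ?_
  apply nak A J M N hJ
  have h1 := congrArg (Submodule.comap (J • (⊤ : Submodule A M)).mkQ) hgen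
  rw [Submodule.comap_map_mkQ, Submodule.comap_map_mkQ] at h1
  intro x hx
  have hx' : x ∈ J • (⊤ : Submodule A M) ⊔ Submodule.span A s := by
    rw [h1]; exact Submodule.mem_sup_right hx
  obtain ⟨z, hz, y, hy, rfl⟩ := Submodule.mem_sup.mp hx'
  refine Submodule.mem_sup.mpr ⟨y, hy, z, ?_, add_comm _ _⟩
  apply inf_smul_top_le A J M N
  refine ⟨?_, hz⟩
  have := N.sub_mem hx (hle hy)
  simpa using this

end Groth.Agent.S8369
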