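import Groth.Statements.S8374
import Groth.Agent.H80.CartanRel2
import Groth.Agent.S8375

set_option autoImplicit false
universe u
open scoped TensorProduct
open SGA3t2b

namespace Groth.Agent.S8374

/-- Over an affine base Spec A: let L be a Lie algebra over A which is a finitely generated projective
A-module, H a Cartan subalgebra of L relative to A, and p a prime of A whose residue field is
infinite. Then there are f ∈ A with f ∉ p and an element a ∈ H such that a is a regular element of
every fibre κ(q) ⊗ L with f ∉ q, H is contained in the Engel subalgebra Nil(a, L), and every element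
of Nil(a, L) is carried into H by some power of f; that is, over the basic open set D(f) the section
a is regular and H coincides with Nil(a, L). (The published statement gives a regular section of H
over some open neighbourhood of p; this row takes a global element of H and a basic open
neighbourhood D(f), which is equivalent over an affine base because multiplying by a function
invertible on D(f) does not change regularity.) -/
theorem result {A : Type u} [CommRing A] {L : Type u} [LieRing L]
    [LieAlgebra A L] [Module.Finite A L] [Module.Projective A L]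
    (H : LieSubalgebra A L) (hH : SGA3t2b.IsCartanRel H) (p : PrimeSpectrum A)
    (hp : Infinite p.asIdeal.ResidueField) :
    ∃ f : A, f ∉ p.asIdeal ∧ ∃ a : L, a ∈ H ∧
      (∀ q : PrimeSpectrum A, f ∉ q.asIdeal →
        LieAlgebra.IsRegular q.asIdeal.ResidueField ((1 : q.asIdeal.ResidueField) ⊗ₜ[A] a)) ∧
      H ≤ LieSubalgebra.engel A a ∧
      ∀ y : L, y ∈ LieSubalgebra.engel A a → ∃ n : ℕ, f ^ n • y ∈ H := by
  classical
  obtain ⟨a, haH, hareg⟩ := Groth.Agent.H80.CartanRel.exists_regular_lift H hH p hp
  have hC0 := Groth.Agent.H80.CartanRel.rank_locally_constant H hH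
  have hopen := Groth.Agent.S8375.result hC0 a
  obtain ⟨_, ⟨f₁, rfl⟩, hpf₁, hf₁⟩ :=
    PrimeSpectrum.isTopologicalBasis_basic_opens.exists_subset_of_mem_open
      (show p ∈ {q : PrimeSpectrum A | LieAlgebra.IsRegular q.asIdeal.ResidueField
        ((1 : q.asIdeal.ResidueField) ⊗ₜ[A] a)} from hareg) hopen
  have hproj : Module.Projective A (L ⧸ H.toSubmodule) := hH.1
  have hN : ∀ y ∈ H.toSubmodule, ⁅a, y⁆ ∈ H.toSubmodule := fun y hy => H.lie_mem haH hy
  obtain ⟨δ, hδ1, hδ2, hδ3⟩ :=
    Groth.Agent.H80.CartanAlg.exists_det (Groth.Agent.H80.CartanRel.adQ a H.toSubmodule hN)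
  have hδp : δ ∉ p.asIdeal :=
    hδ1 p (Groth.Agent.H80.CartanRel.adQ_baseChange_injective a _ hN _
      (Groth.Agent.H80.CartanRel.fibre_eq_engel H hH haH p hareg))
  refine ⟨f₁ * δ, fun h => (p.isPrime.mem_or_mem h).elim hpf₁ hδp, a, haH, ?_,
    Groth.Agent.H80.CartanRel.le_engel_of_isCartanRel H hH haH, ?_⟩
  · intro q hq
    have hq1 : q ∈ (PrimeSpectrum.basicOpen f₁ : Set (PrimeSpectrum A)) := by
      show f₁ ∉ q.asIdeal
      exact fun h => hq (Ideal.mul_mem_right _ _ h)
    exact hf₁ hq1
  · intro y hy
    obtain ⟨k, hk⟩ := (LieSubalgebra.mem_engel_iff A a y).mp hy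
    refine ⟨k, ?_⟩
    have h1 : ((Groth.Agent.H80.CartanRel.adQ a H.toSubmodule hN) ^ k)
        (Submodule.Quotient.mk y) = 0 := by
      rw [Groth.Agent.H80.CartanRel.adQ_pow_mk, hk, Submodule.Quotient.mk_zero]
    have h2 := hδ2 k _ h1
    have h3 : δ ^ k • y ∈ H := by
      have h4 : (Submodule.Quotient.mk (δ ^ k • y) : L ⧸ H.toSubmodule) = 0 := by
        rw [Submodule.Quotient.mk_smul]
        exact h2
      exact (Submodule.Quotient.mk_eq_zero H.toSubmodule).mp h4
    rw [mul_pow, mul_smul]
    exact H.smul_mem _ h3

end Groth.Agent.S8374
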