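import Groth.Statements.S8378
import Groth.Agent.H80.CartanRel2
import Groth.Agent.H80.LieBC

set_option autoImplicit false
universe u
open scoped TensorProduct
open SGA3t2b

namespace Groth.Agent.S8378

/-- Over an affine base Spec A: let L be a Lie algebra over A which is a finitely generated projective
A-module. If for some faithfully flat A-algebra A' the Lie algebra A' ⊗ L has a Cartan subalgebra
relative to A' (condition (C₁)), then the nilpotent rank of the fibres κ(p) ⊗ L is a locally
constant function of p ∈ Spec A (condition (C₀)). -/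
theorem result {A : Type u} [CommRing A] {L : Type u} [LieRing L]
    [LieAlgebra A L] [Module.Finite A L] [Module.Projective A L]
    (hC1 : ∃ (A' : Type u) (_ : CommRing A') (_ : Algebra A A'), Module.FaithfullyFlat A A' ∧
        ∃ H : LieSubalgebra A' (A' ⊗[A] L), SGA3t2b.IsCartanRel H) :
    ∀ p : PrimeSpectrum A, ∃ f : A, f ∉ p.asIdeal ∧ ∀ q : PrimeSpectrum A, f ∉ q.asIdeal →
        LieAlgebra.rank q.asIdeal.ResidueField (q.asIdeal.ResidueField ⊗[A] L) =
          LieAlgebra.rank p.asIdeal.ResidueField (p.asIdeal.ResidueField ⊗[A] L) := by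
  classical
  obtain ⟨A', _, _, hff, H, hH⟩ := hC1
  have hflat : (algebraMap A A').Flat := RingHom.flat_algebraMap_iff.mpr inferInstance
  have hquot : Topology.IsQuotientMap (PrimeSpectrum.comap (algebraMap A A')) :=
    PrimeSpectrum.isQuotientMap_of_generalizingMap
      (PrimeSpectrum.comap_surjective_of_faithfullyFlat (A := A) (B := A'))
      hflat.generalizingMap_comap
  set r : PrimeSpectrum A → ℕ := fun q =>
    LieAlgebra.rank q.asIdeal.ResidueField (q.asIdeal.ResidueField ⊗[A] L) with hr
  set r' : PrimeSpectrum A' → ℕ := fun q' =>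
    LieAlgebra.rank q'.asIdeal.ResidueField (q'.asIdeal.ResidueField ⊗[A'] (A' ⊗[A] L)) with hr'
  have hcomp : ∀ q', r' q' = r (PrimeSpectrum.comap (algebraMap A A') q') := by
    intro q'
    have h1 := (Groth.Agent.H80.LieBC.prime_tower (A := A) A' q' (0 : L)).1
    have h2 : Groth.Agent.H80.LieBC.kerPt (A := A) q'.asIdeal.ResidueField =
        PrimeSpectrum.comap (algebraMap A A') q' := by
      apply PrimeSpectrum.ext
      ext x
      rw [Groth.Agent.H80.LieBC.mem_kerPt_prime]
      rfl
    rw [h2] at h1
    exact h1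
  have hlc' : IsLocallyConstant r' := by
    rw [IsLocallyConstant.iff_exists_open]
    intro p'
    obtain ⟨f', hf'p, hf'⟩ := Groth.Agent.H80.CartanRel.rank_locally_constant H hH p'
    exact ⟨PrimeSpectrum.basicOpen f', (PrimeSpectrum.basicOpen f').isOpen, hf'p,
      fun q' hq' => hf' q' hq'⟩
  have hlc : IsLocallyConstant r := by
    intro s
    rw [← hquot.isOpen_preimage]
    have h3 : PrimeSpectrum.comap (algebraMap A A') ⁻¹' (r ⁻¹' s) = r' ⁻¹' s := by
      ext q'
      simp only [Set.mem_preimage, hcomp]
    rw [h3]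
    exact hlc' s
  intro p
  have hV : IsOpen {q : PrimeSpectrum A | r q = r p} := hlc.isOpen_fiber _
  obtain ⟨_, ⟨f, rfl⟩, hpf, hfV⟩ :=
    PrimeSpectrum.isTopologicalBasis_basic_opens.exists_subset_of_mem_open
      (show p ∈ {q : PrimeSpectrum A | r q = r p} from rfl) hV
  exact ⟨f, hpf, fun q hq => hfV hq⟩

end Groth.Agent.S8378
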