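import Groth.Statements.S8383
import Mathlib.LinearAlgebra.Matrix.Determinant.Basic
import Mathlib.LinearAlgebra.Matrix.NonsingularInverse
import Mathlib.LinearAlgebra.Matrix.Basis
import Mathlib.LinearAlgebra.Multilinear.Basic
import Mathlib.LinearAlgebra.Dimension.StrongRankCondition
import Mathlib.RingTheory.TensorProduct.Free

set_option autoImplicit false
universe u
open scoped TensorProduct
open SGA3t2b

namespace Groth.Agent.S8383

open Matrix in
theorem L1 {k K : Type*} [Field k] [Field K] [Algebra k K] {M : Type*} (ω : Module.Basis M k K)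
    {n : ℕ} (A : Matrix (Fin n) (Fin n) K) (hA : A.det ≠ 0) :
    ∃ r : Fin n → M, (Matrix.of fun i j => ω.repr (A i j) (r i)).det ≠ 0 := by
  classical
  by_contra hcon
  push Not at hcon
  apply hA
  let S : Finset M := Finset.univ.biUnion fun ij : Fin n × Fin n => (ω.repr (A ij.1 ij.2)).support
  let g : Fin n → M → (Fin n → K) := fun i m j => ω.repr (A i j) m • ω m
  have hrow : ∀ i, A i = ∑ m ∈ S, g i m := by
    intro i
    funext j
    rw [Finset.sum_apply]
    have h := ω.linearCombination_repr (A i j)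
    rw [Finsupp.linearCombination_apply, Finsupp.sum_of_support_subset (s := S)] at h
    · exact h.symm
    · intro m hm
      exact Finset.mem_biUnion.mpr ⟨(i, j), Finset.mem_univ _, hm⟩
    · intro m _
      simp
  have hA' : A = fun i => ∑ m ∈ S, g i m := funext hrow
  have : A.det = (detRowAlternating : (Fin n → K) [⋀^Fin n]→ₗ[K] K).toMultilinearMap
      (fun i => ∑ m ∈ S, g i m) := by
    conv_lhs => rw [hA']
    rfl
  rw [this, MultilinearMap.map_sum_finset]
  apply Finset.sum_eq_zero
  intro r _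
  have hg : (fun i => g i (r i)) =
      fun i => ω (r i) • (fun j => algebraMap k K (ω.repr (A i j) (r i))) := by
    funext i j
    simp only [g, Pi.smul_apply, smul_eq_mul, Algebra.smul_def]
    ring
  rw [hg, MultilinearMap.map_smul_univ]
  have h2 : (detRowAlternating : (Fin n → K) [⋀^Fin n]→ₗ[K] K).toMultilinearMap
      (fun i j => algebraMap k K (ω.repr (A i j) (r i))) =
      ((Matrix.of fun i j => ω.repr (A i j) (r i)).map (algebraMap k K)).det := rfl
  rw [h2, ← RingHom.mapMatrix_apply, ← RingHom.map_det, hcon r, map_zero, smul_zero]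

open Matrix in
theorem L2 {k K : Type*} [Field k] [Field K] [Algebra k K] {M : Type*} (ω : Module.Basis M k K)
    {n : ℕ} (A : Matrix (Fin n) (Fin n) K) (r : Fin n → M)
    (hr : (Matrix.of fun i j => ω.repr (A i j) (r i)).det ≠ 0) :
    ∃ x : Fin n → k, ∀ i, ∑ j, x j • A i j ≠ 0 := by
  classical
  set B : Matrix (Fin n) (Fin n) k := Matrix.of fun i j => ω.repr (A i j) (r i) with hB
  have hu : IsUnit B.det := isUnit_iff_ne_zero.mpr hr
  obtain ⟨x, hx⟩ : ∃ x : Fin n → k, B *ᵥ x = fun _ => 1 :=
    ⟨B⁻¹ *ᵥ (fun _ => 1), by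
      rw [Matrix.mulVec_mulVec, Matrix.mul_nonsing_inv _ hu, Matrix.one_mulVec]⟩
  refine ⟨x, fun i h => ?_⟩
  have h1 : ω.repr (∑ j, x j • A i j) (r i) = 1 := by
    rw [map_sum, Finsupp.finsetSum_apply]
    simp only [map_smul, Finsupp.smul_apply, smul_eq_mul]
    have h2 : (B *ᵥ x) i = 1 := by rw [hx]
    rw [Matrix.mulVec, dotProduct] at h2
    rw [← h2]
    apply Finset.sum_congr rfl
    intro j _
    simp [hB, mul_comm]
  rw [h, map_zero] at h1
  simp at h1

open Matrix TensorProduct in
theorem L3 (k : Type u) [Field k] (K : Type u) [Field K] [Algebra k K]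
    (V : Type u) [AddCommGroup V] [Module k V] [Module.Finite k V] {ι : Type} [Fintype ι]
    (θ : Module.Basis ι K (Module.Dual K (K ⊗[k] V)))
    (hx : ∀ {n : ℕ} (A : Matrix (Fin n) (Fin n) K), A.det ≠ 0 →
      ∃ x : Fin n → k, ∀ i, ∑ j, x j • A i j ≠ 0) :
    ∃ x : V, ∀ i : ι, θ i ((1 : K) ⊗ₜ[k] x) ≠ 0 := by
  classical
  let n := Module.finrank k V
  let b : Module.Basis (Fin n) k V := Module.finBasis k V
  let bK : Module.Basis (Fin n) K (K ⊗[k] V) := Algebra.TensorProduct.basis K b
  let e : ι ≃ Fin n := θ.indexEquiv bK.dualBasis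
  let θ' := θ.reindex e
  let A : Matrix (Fin n) (Fin n) K := fun i j => θ (e.symm i) (1 ⊗ₜ b j)
  have hA : A = (bK.dualBasis.toMatrix θ')ᵀ := by
    ext i j
    simp [A, θ', bK, Module.Basis.toMatrix_apply]
  have hdet : A.det ≠ 0 := by
    rw [hA, Matrix.det_transpose]
    exact Matrix.det_ne_zero_of_right_inverse (Module.Basis.toMatrix_mul_toMatrix_flip _ _)
  obtain ⟨x, hx⟩ := hx A hdet
  refine ⟨∑ j, x j • b j, fun i => ?_⟩
  have := hx (e i)
  convert this using 1
  rw [TensorProduct.tmul_sum, map_sum]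
  apply Finset.sum_congr rfl
  intro j _
  rw [TensorProduct.tmul_smul, LinearMap.map_smul_of_tower]
  simp [A]

/-- Let k be a finite field with algebraic closure K, V a finite-dimensional vector space over k, and
θ₁, …, θₙ a basis of the dual of the K-vector space K ⊗ V. Then there is x ∈ V with θᵢ(1 ⊗ x) ≠ 0
for every i. -/
theorem result (k : Type u) [Field k] [Finite k]
    (V : Type u) [AddCommGroup V] [Module k V] [Module.Finite k V] {ι : Type} [Fintype ι]
    (θ : Module.Basis ι (AlgebraicClosure k) (Module.Dual (AlgebraicClosure k) (AlgebraicClosure k ⊗[k] V))) :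
    ∃ x : V, ∀ i : ι, θ i ((1 : AlgebraicClosure k) ⊗ₜ[k] x) ≠ 0 := by
  refine L3 k (AlgebraicClosure k) V θ fun {n} A hA => ?_
  obtain ⟨r, hr⟩ := L1 (Module.Basis.ofVectorSpace k (AlgebraicClosure k)) A hA
  exact L2 _ A r hr

end Groth.Agent.S8383
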