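import Groth.Statements.S8385
import Groth.Agent.H23.SpecPiLift
import Groth.Agent.H23.SemilocalCpl2

set_option autoImplicit false
universe u
open CategoryTheory MonoidalCategory CartesianMonoidalCategory MonObj GrpObj AlgebraicGeometry
open SGA3x

namespace Groth.Agent.S8385


/-- Let A be a complete Noetherian local ring with maximal ideal m, S = Spec A, Sₙ = Spec(A/mⁿ), X =
Spec B a scheme finite over S (B a finite A-algebra) and Y an S-scheme. Then the canonical map
Hom_S(X, Y) → lim Hom_{Sₙ}(Xₙ, Yₙ), Xₙ = Spec(B/mⁿB), is bijective: two S-morphisms X → Y agreeing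
on every Xₙ are equal, and every family of S-morphisms Xₙ → Y compatible with the closed immersions
Xₙ → Xₙ₊₁ comes from an S-morphism X → Y. -/
theorem result (A : Type u) [CommRing A] [IsLocalRing A]
    [IsNoetherianRing A] [IsAdicComplete (IsLocalRing.maximalIdeal A) A] (B : Type u) [CommRing B] [Algebra A B]
    [Module.Finite A B] (Y : Over (Spec (CommRingCat.of A))) :
    (∀ f g : Spec (CommRingCat.of B) ⟶ Y.left, f ≫ Y.hom = Spec.map (CommRingCat.ofHom (algebraMap A B)) →
      g ≫ Y.hom = Spec.map (CommRingCat.ofHom (algebraMap A B)) →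
      (∀ n : ℕ, Spec.map (CommRingCat.ofHom (Ideal.Quotient.mk (Ideal.map (algebraMap A B) ((IsLocalRing.maximalIdeal A) ^ n)))) ≫ f =
        Spec.map (CommRingCat.ofHom (Ideal.Quotient.mk (Ideal.map (algebraMap A B) ((IsLocalRing.maximalIdeal A) ^ n)))) ≫ g) → f = g) ∧
    (∀ u : (n : ℕ) → (Spec (CommRingCat.of (B ⧸ (Ideal.map (algebraMap A B) ((IsLocalRing.maximalIdeal A) ^ n)))) ⟶ Y.left),
      (∀ n : ℕ, u n ≫ Y.hom =
        Spec.map (CommRingCat.ofHom ((Ideal.Quotient.mk (Ideal.map (algebraMap A B) ((IsLocalRing.maximalIdeal A) ^ n))).comp (algebraMap A B)))) →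
      (∀ n : ℕ, Spec.map (CommRingCat.ofHom (Ideal.Quotient.factor
          (Ideal.map_mono (Ideal.pow_le_pow_right (I := (IsLocalRing.maximalIdeal A)) (Nat.le_succ n))))) ≫ u (n + 1) = u n) →
      ∃ f : Spec (CommRingCat.of B) ⟶ Y.left, f ≫ Y.hom = Spec.map (CommRingCat.ofHom (algebraMap A B)) ∧
        ∀ n : ℕ, Spec.map (CommRingCat.ofHom (Ideal.Quotient.mk (Ideal.map (algebraMap A B) ((IsLocalRing.maximalIdeal A) ^ n)))) ≫ f = u n) := by
  classical
  set 𝔪 := IsLocalRing.maximalIdeal A with h𝔪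
  set 𝔞 : Ideal B := 𝔪.map (algebraMap A B) with h𝔞
  haveI : IsNoetherianRing B := Algebra.FiniteType.isNoetherianRing A B
  haveI hc1 : IsAdicComplete 𝔪 B := Groth.Agent.Lead.isAdicComplete_of_finite 𝔪 B
  haveI hc2 : IsAdicComplete 𝔞 B :=
    (IsAdicComplete.map_algebraMap_iff (I := 𝔪) (S := B) (M := B)).2 hc1
  haveI hart : IsArtinianRing (B ⧸ 𝔞) := by
    let φ : A ⧸ 𝔪 →+* B ⧸ 𝔞 := Ideal.quotientMap 𝔞 (algebraMap A B) Ideal.le_comap_map
    have hφ : φ.Finite := by
      refine RingHom.Finite.of_comp_finite (f := Ideal.Quotient.mk 𝔪) ?_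
      have h1 : φ.comp (Ideal.Quotient.mk 𝔪) = (Ideal.Quotient.mk 𝔞).comp (algebraMap A B) := by
        ext a
        simp [φ]
      rw [h1]
      exact (RingHom.Finite.of_surjective _ Ideal.Quotient.mk_surjective).comp
        (RingHom.finite_algebraMap.mpr inferInstance)
    letI := Ideal.Quotient.field 𝔪
    letI := φ.toAlgebra
    haveI : Module.Finite (A ⧸ 𝔪) (B ⧸ 𝔞) := hφ
    exact IsArtinianRing.of_finite (A ⧸ 𝔪) _
  obtain ⟨hfin, hbij, hM⟩ := Groth.Agent.H23.SemilocalCpl.semilocal_complete' B 𝔞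
  haveI := hfin
  haveI : ∀ M : MaximalSpectrum B,
      IsAdicComplete (IsLocalRing.maximalIdeal (Localization.AtPrime M.asIdeal))
        (Localization.AtPrime M.asIdeal) := fun M => (hM M).1
  let J : ℕ → Ideal B := fun n => Ideal.map (algebraMap A B) (𝔪 ^ n)
  have hJ : Antitone J := fun m n hmn => Ideal.map_mono (Ideal.pow_le_pow_right hmn)
  have hJpow : ∀ n, J n = 𝔞 ^ n := fun n => Ideal.map_pow _ _ _
  have h1 : ∀ (M : MaximalSpectrum B) n,
      (J n).map (algebraMap B (Localization.AtPrime M.asIdeal)) ≤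
        IsLocalRing.maximalIdeal (Localization.AtPrime M.asIdeal) ^ n := by
    intro M n
    rw [hJpow, Ideal.map_pow]
    exact Ideal.pow_right_mono (hM M).2.1 n
  have h2 : ∀ (M : MaximalSpectrum B) n, ∃ k,
      IsLocalRing.maximalIdeal (Localization.AtPrime M.asIdeal) ^ k ≤
        (J n).map (algebraMap B (Localization.AtPrime M.asIdeal)) := by
    intro M n
    obtain ⟨N, hN⟩ := (hM M).2.2
    refine ⟨N * n, ?_⟩
    rw [hJpow, Ideal.map_pow, pow_mul]
    exact Ideal.pow_right_mono hN n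
  have hU := fun (Y' : Scheme.{u}) => Groth.Agent.H23.SpecPiLift.hom_ext_of_forall_quot (Y := Y')
    (fun M : MaximalSpectrum B => algebraMap B (Localization.AtPrime M.asIdeal)) hbij J h1
  refine ⟨fun f g _ _ h => hU Y.left f g h, fun u hu1 hu2 => ?_⟩
  obtain ⟨f, hf⟩ := Groth.Agent.H23.SpecPiLift.exists_hom_of_forall_quot
    (fun M : MaximalSpectrum B => algebraMap B (Localization.AtPrime M.asIdeal)) hbij J hJ h1 h2
    u hu2
  refine ⟨f, ?_, hf⟩
  apply hU
  intro n
  rw [← Category.assoc, hf n, hu1 n, ← Spec.map_comp, ← CommRingCat.ofHom_comp]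

end Groth.Agent.S8385
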