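import Groth.Statements.S8441
import Mathlib.LinearAlgebra.Matrix.NonsingularInverse
import Mathlib.LinearAlgebra.Matrix.Block
import Mathlib.LinearAlgebra.Matrix.ToLin

set_option autoImplicit false
universe u v w
open SGA3t2b

namespace Groth.Agent.S8441

open Matrix in
theorem triang {R : Type*} [CommRing R] {M : Type*} [AddCommGroup M] [Module R M] {n : ℕ}
    (a θ : Fin n → M)
    (U : Matrix (Fin n) (Fin n) R) (hU : IsUnit U.det)
    (hθ : ∀ i, θ i = ∑ j, U i j • a j) (ha : LinearIndependent R a) :
    LinearIndependent R θ ∧ Submodule.span R (Set.range θ) = Submodule.span R (Set.range a) := by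
  have hcomp : Fintype.linearCombination R θ =
      (Fintype.linearCombination R a) ∘ₗ (Matrix.vecMulLinear U) := by
    refine LinearMap.ext fun v => ?_
    simp only [Fintype.linearCombination_apply, LinearMap.comp_apply, Matrix.vecMulLinear_apply]
    simp only [Matrix.vecMul, dotProduct, hθ, Finset.smul_sum, Finset.sum_smul]
    rw [Finset.sum_comm]
    refine Finset.sum_congr rfl fun j _ => Finset.sum_congr rfl fun i _ => ?_
    exact smul_smul (v i) (U i j) (a j)
  have hinj : Function.Injective (Matrix.vecMulLinear U) := by
    intro v w h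
    have := congrArg (fun x => x ᵥ* U⁻¹) h
    simpa [Matrix.vecMulLinear_apply, Matrix.vecMul_vecMul, Matrix.mul_nonsing_inv _ hU] using this
  have hsurj : Function.Surjective (Matrix.vecMulLinear U) := by
    intro v
    refine ⟨v ᵥ* U⁻¹, ?_⟩
    simp [Matrix.vecMul_vecMul, Matrix.nonsing_inv_mul _ hU]
  constructor
  · rw [linearIndependent_iff_injective_fintypeLinearCombination, hcomp]
    exact (ha.fintypeLinearCombination_injective).comp hinj
  · rw [← Fintype.range_linearCombination, ← Fintype.range_linearCombination, hcomp,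
      LinearMap.range_comp, LinearMap.range_eq_top.mpr hsurj, Submodule.map_top]


section coeff

variable {ι : Type*} {R : Type*} {M : Type*} {N : Type*} [CommRing R] [AddCommGroup M] [Module R M]
  [AddCommGroup N] [Module R N] (P : RootPairing ι R M N) {n : ℕ} (e : Fin n → ι)

def Q (i : Fin n) (x : M) : Prop :=
  ∃ c : Fin n → R, c i = 1 ∧ (∀ j, j < i → c j = 0) ∧ x = ∑ j, c j • P.root (e j)

theorem Q_base (i : Fin n) : Q P e i (P.root (e i)) := by
  classical
  refine ⟨Pi.single i 1, by simp, fun j hj => by simp [Pi.single_apply, hj.ne], ?_⟩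
  simp [Pi.single_apply, ite_smul]

theorem Q_step (i k : Fin n) (hik : i < k) (x : M) (hx : Q P e i x) :
    Q P e i (P.reflection (e k) x) := by
  classical
  obtain ⟨c, hc1, hc0, rfl⟩ := hx
  set t := P.coroot' (e k) (∑ j, c j • P.root (e j)) with ht
  refine ⟨fun j => c j - t * (if j = k then 1 else 0), ?_, ?_, ?_⟩
  · simp [hc1, hik.ne]
  · intro j hj
    simp [hc0 j hj, (hj.trans hik).ne]
  · rw [RootPairing.reflection_apply, ← ht]
    simp only [sub_smul, Finset.sum_sub_distrib, mul_smul, ite_smul, one_smul, zero_smul]
    congr 1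
    rw [← Finset.smul_sum]
    simp

theorem Q_fold (i : Fin n) (l : List (Fin n)) (hl : ∀ k ∈ l, i < k) (x : M) (hx : Q P e i x) :
    Q P e i (l.foldl (fun x j => P.reflection (e j) x) x) := by
  induction l generalizing x with
  | nil => simpa using hx
  | cons k l ih =>
    rw [List.foldl_cons]
    exact ih (fun k' hk' => hl k' (List.mem_cons_of_mem _ hk')) _
      (Q_step P e i k (hl k List.mem_cons_self) x hx)

end coeff


/-- Let R be a root system with a system of simple roots a₁, …, aₙ and simple reflections rᵢ, and put θᵢ
= rₙ ⋯ rᵢ₊₁(aᵢ). Then the θᵢ form a basis of the group generated by the roots. Stated for a root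
pairing over ℤ (Mathlib) with a base whose support is enumerated by Fin n: the θᵢ are ℤ-linearly
independent and their ℤ-span is the ℤ-span of all roots. -/
theorem result {ι : Type u} {M : Type v} {N : Type w} [AddCommGroup M] [Module ℤ M]
    [AddCommGroup N] [Module ℤ N] (P : RootPairing ι ℤ M N) (b : P.Base) (n : ℕ) (e : Fin n ≃ ↥b.support) :
    LinearIndependent ℤ (fun i : Fin n =>
      ((List.finRange n).filter (fun j => i < j)).foldl (fun x j => P.reflection (e j : ι) x) (P.root (e i : ι))) ∧
    Submodule.span ℤ (Set.range (fun i : Fin n =>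
      ((List.finRange n).filter (fun j => i < j)).foldl (fun x j => P.reflection (e j : ι) x) (P.root (e i : ι)))) =
      Submodule.span ℤ (Set.range P.root) := by
  classical
  have hQ : ∀ i : Fin n, Q P (fun j => (e j : ι)) i
      (((List.finRange n).filter (fun j => i < j)).foldl
        (fun x j => P.reflection (e j : ι) x) (P.root (e i : ι))) := by
    intro i
    refine Q_fold P (fun j => (e j : ι)) i _ ?_ _ (Q_base P _ i)
    intro k hk
    simpa using (List.mem_filter.mp hk).2
  choose U hU1 hU0 hUθ using hQ
  have hdet : (Matrix.of U).det = 1 := by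
    rw [Matrix.det_of_isUpperTriangular]
    · simp [hU1]
    · intro i j hji
      exact hU0 i j hji
  have ha : LinearIndependent ℤ (fun j : Fin n => P.root (e j : ι)) :=
    (b.linearIndepOn_root.linearIndependent).comp e e.injective
  have hrange : Set.range (fun j : Fin n => P.root (e j : ι)) = P.root '' b.support := by
    ext x
    constructor
    · rintro ⟨j, rfl⟩
      exact ⟨(e j : ι), (e j).2, rfl⟩
    · rintro ⟨i, hi, rfl⟩
      exact ⟨e.symm ⟨i, hi⟩, by simp⟩
  have := triang (fun j : Fin n => P.root (e j : ι)) _ (Matrix.of U)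
    (by rw [hdet]; exact isUnit_one) hUθ ha
  refine ⟨this.1, ?_⟩
  rw [this.2, hrange]
  exact b.span_root_support

end Groth.Agent.S8441
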