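import Groth.Statements.S8448
import Groth.Agent.H43.RankOne
import Groth.Agent.S8488

set_option autoImplicit false
universe u
open CategoryTheory MonoidalCategory CartesianMonoidalCategory MonObj GrpObj AlgebraicGeometry CategoryTheory.Limits
open Red

namespace Groth.Agent.S8448

open Groth.Agent.H43.GaGmFn Groth.Agent.H43.RankOne
open Groth.Agent.S13371 (gm_ext isUnit_gmFn)

theorem grp_conj {M : Type*} [Group M] (P Q t B : M)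
    (h : (t * P⁻¹ * t⁻¹) * (t * Q⁻¹ * t⁻¹) * (t * P⁻¹ * t⁻¹) = (P⁻¹ * Q⁻¹ * P⁻¹) * B⁻¹) :
    (P * Q * P) * t * (P * Q * P)⁻¹ = B⁻¹ * t := by
  have hB : B⁻¹ = (P⁻¹ * Q⁻¹ * P⁻¹)⁻¹ *
      ((t * P⁻¹ * t⁻¹) * (t * Q⁻¹ * t⁻¹) * (t * P⁻¹ * t⁻¹)) := by rw [h]; group
  rw [hB]; group


/-- Let G be an S-group scheme, i : T ⟶ G a torus of G (a monomorphism of groups), α : T ⟶ 𝔾_m and α^* :
𝔾_m ⟶ T homomorphisms with α ∘ α^* the squaring map, and p₊, p₋ : 𝔾_a ⟶ G homomorphisms normalised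
by T with multipliers α and α⁻¹ which satisfy the rank-one commutation rule: whenever 1 + xy is
invertible, p₊(x) p₋(y) = p₋(y/(1+xy)) · i(α^*(1+xy)) · p₊(x/(1+xy)) (the situation of any reductive
group of semisimple rank 1 with trivialised root groups, where α^* is the coroot). For a point x of
𝔾_a whose coordinate is invertible put w(x) = p₊(x) p₋(-x⁻¹) p₊(x). Then w(x) normalises T: w(x)
i(t) w(x)⁻¹ = i(α^*(α(t)))⁻¹ · i(t) for every point t of T, and for every point z of 𝔾_m one has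
w(zx) = i(α^*(z)) · w(x) = w(x) · i(α^*(z))⁻¹. (The published statement is for a reductive group of
semisimple rank one with a maximal torus and a root; this row assumes only the commutation rule, the
normalisation of p₊, p₋ by T and α ∘ α^* the squaring map, which is all the published proof uses.) -/
theorem result (S : Scheme.{u}) (G T : Over S) [GrpObj G] [GrpObj T] (i : T ⟶ G) [IsMonHom i] [Mono i] (hT : Red.IsTorus T)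
    (α : T ⟶ Red.Gm S) [IsMonHom α]
    (pp pm : Red.Ga S ⟶ G) [IsMonHom pp] [IsMonHom pm]
    (hpp : ∀ (X : Over S) (t : X ⟶ T) (x : X ⟶ Red.Ga S), ∃ x' : X ⟶ Red.Ga S,
      x' ≫ pp = (t ≫ i) * (x ≫ pp) * (t ≫ i)⁻¹ ∧ Red.gaFn x' = Red.gmFn (t ≫ α) * Red.gaFn x)
    (hpm : ∀ (X : Over S) (t : X ⟶ T) (y : X ⟶ Red.Ga S), ∃ y' : X ⟶ Red.Ga S,
      y' ≫ pm = (t ≫ i) * (y ≫ pm) * (t ≫ i)⁻¹ ∧ Red.gaFn y' * Red.gmFn (t ≫ α) = Red.gaFn y)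
    (av : Red.Gm S ⟶ T) [IsMonHom av] (h2 : av ≫ α = (𝟙 (Red.Gm S)) ^ 2)
    (hF : ∀ (X : Over S) (x y : X ⟶ Red.Ga S), IsUnit (1 + Red.gaFn x * Red.gaFn y) →
      ∃ (x' y' : X ⟶ Red.Ga S) (z : X ⟶ Red.Gm S), Red.gmFn z = 1 + Red.gaFn x * Red.gaFn y ∧
        Red.gaFn x' * Red.gmFn z = Red.gaFn x ∧ Red.gaFn y' * Red.gmFn z = Red.gaFn y ∧
        (x ≫ pp) * (y ≫ pm) = (y' ≫ pm) * (z ≫ av ≫ i) * (x' ≫ pp))
    (X : Over S) (x x' : X ⟶ Red.Ga S) (hx : Red.gaFn x' * Red.gaFn x = -1) :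
    (∀ t : X ⟶ T, ((x ≫ pp) * (x' ≫ pm) * (x ≫ pp)) * (t ≫ i) * ((x ≫ pp) * (x' ≫ pm) * (x ≫ pp))⁻¹ =
        (t ≫ α ≫ av ≫ i)⁻¹ * (t ≫ i)) ∧
      ∀ (z : X ⟶ Red.Gm S) (y y' : X ⟶ Red.Ga S), Red.gaFn y = Red.gmFn z * Red.gaFn x →
        Red.gaFn y' * Red.gaFn y = -1 →
        (y ≫ pp) * (y' ≫ pm) * (y ≫ pp) = (z ≫ av ≫ i) * ((x ≫ pp) * (x' ≫ pm) * (x ≫ pp)) ∧
          (y ≫ pp) * (y' ≫ pm) * (y ≫ pp) = ((x ≫ pp) * (x' ≫ pm) * (x ≫ pp)) * (z ≫ av ≫ i)⁻¹ := by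
  have hFop : ∀ (X : Over S) (x y x' y' : X ⟶ Red.Ga S) (z : X ⟶ Red.Gm S),
      Red.gmFn z = 1 + Red.gaFn x * Red.gaFn y → Red.gaFn x' * Red.gmFn z = Red.gaFn x →
      Red.gaFn y' * Red.gmFn z = Red.gaFn y →
      (y ≫ pm) * (x ≫ pp) = (x' ≫ pp) * (z ≫ av ≫ i)⁻¹ * (y' ≫ pm) :=
    fun X x y x' y' z hz hx' hy' =>
      Groth.Agent.S8488.result S G T i hT α pp pm hpp hpm av h2 hF X x y x' y' z hz hx' hy'
  refine ⟨?_, ?_⟩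
  · intro t
    have hxi : Red.gaFn x'⁻¹ * Red.gaFn x⁻¹ = -1 := by
      rw [gaFn_inv, gaFn_inv, neg_mul_neg, hx]
    obtain ⟨x₆, hx₆, hx₆'⟩ := hpp X t x⁻¹
    obtain ⟨y₆, hy₆, hy₆'⟩ := hpm X t x'⁻¹
    have h6 : Red.gaFn y₆ * Red.gaFn x₆ = -1 := by
      rw [hx₆', gaFn_inv]
      rw [gaFn_inv] at hy₆'
      linear_combination (-Red.gaFn x) * hy₆' + hx
    have hW := (lemmaW i α pp pm av hpp h2 hF hFop X x⁻¹ x'⁻¹ hxi (t ≫ α) x₆ y₆ hx₆' h6).2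
    have i1 : x⁻¹ ≫ pp = (x ≫ pp)⁻¹ := GrpObj.inv_comp x pp
    have i2 : x'⁻¹ ≫ pm = (x' ≫ pm)⁻¹ := GrpObj.inv_comp x' pm
    rw [hx₆, hy₆, i1, i2] at hW
    have eB : t ≫ α ≫ av ≫ i = (t ≫ α) ≫ av ≫ i := (Category.assoc _ _ _).symm
    rw [eB]
    exact grp_conj _ _ _ _ hW
  · intro z y y' hy hy'
    exact lemmaW i α pp pm av hpp h2 hF hFop X x x' hx z y y' hy hy'

end Groth.Agent.S8448
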