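import Groth.Statements.S8475
import Groth.Agent.H43.Braid
import Groth.Agent.S8488

set_option autoImplicit false
universe u
open CategoryTheory MonoidalCategory CartesianMonoidalCategory MonObj GrpObj AlgebraicGeometry CategoryTheory.Limits
open Red

namespace Groth.Agent.S8475

open Groth.Agent.H43.GaGmFn Groth.Agent.H43.RankOne Groth.Agent.H43.Braid
open Groth.Agent.S13371 (gm_ext isUnit_gmFn)

theorem grp_conj1 {M : Type*} [Group M] (p m : M) (hb : m * p * m = p * m * p) :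
    (p * m * p) * p * (p * m * p)⁻¹ = m := by
  have h1 : (p * m * p) * p = m * (p * m * p) := by
    rw [show m * (p * m * p) = (m * p * m) * p by group, hb]
  rw [h1]; group

theorem grp_cube {M : Type*} [Group M] (p m c : M) (hb : m * p * m = p * m * p)
    (hsq : (p * m * p) * (p * m * p) = c) (hc : c * c = 1) : ((p * m * p) * p) ^ 3 = 1 := by
  have h1 : (p * m * p) * p = m * (p * m * p) := by
    rw [show m * (p * m * p) = (m * p * m) * p by group, hb]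
  have h2 : (p * m * p) * m = p * (p * m * p) := by
    rw [show (p * m * p) * m = p * (m * p * m) by group, hb]
  have e : ((p * m * p) * p) ^ 3 = (m * (p * m * p)) * (m * (p * m * p)) * (m * (p * m * p)) := by
    rw [← h1, _root_.pow_three']
  rw [e]
  calc (m * (p * m * p)) * (m * (p * m * p)) * (m * (p * m * p))
      = m * ((p * m * p) * m) * ((p * m * p) * m) * (p * m * p) := by group
    _ = m * (p * (p * m * p)) * (p * (p * m * p)) * (p * m * p) := by rw [h2]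
    _ = m * p * ((p * m * p) * p) * (p * m * p) * (p * m * p) := by group
    _ = m * p * (m * (p * m * p)) * (p * m * p) * (p * m * p) := by rw [h1]
    _ = (m * p * m) * (p * m * p) * (p * m * p) * (p * m * p) := by group
    _ = (p * m * p) * (p * m * p) * (p * m * p) * (p * m * p) := by rw [hb]
    _ = ((p * m * p) * (p * m * p)) * ((p * m * p) * (p * m * p)) := by group
    _ = 1 := by rw [hsq, hc]


/-- Let G be a reductive S-group, i : T ⟶ G a maximal torus, α a character of T non-trivial on every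
geometric fibre, p₊, p₋ : 𝔾_a ⟶ G monomorphisms of groups normalised by T with multipliers α and α⁻¹
whose cell map (y, t, x) ↦ p₋(y) i(t) p₊(x) is an open immersion 𝔾_a ×_S T ×_S 𝔾_a ⟶ G, and α^* :
𝔾_m ⟶ T the coroot: α ∘ α^* is the squaring map and p₊(x) p₋(y) = p₋(y/(1+xy)) · i(α^*(1+xy)) ·
p₊(x/(1+xy)) whenever 1 + xy is invertible (so p₊ and p₋ are dual to each other). For a point x of
𝔾_a with invertible coordinate put w(x) = p₊(x) p₋(-x⁻¹) p₊(x). Then w(x) p₊(x) w(x)⁻¹ = p₋(-x⁻¹),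
and consequently (w(x) p₊(x))³ = e. -/
theorem result (S : Scheme.{u}) (G T : Over S) [GrpObj G] [GrpObj T] (i : T ⟶ G) [IsMonHom i] [Mono i] (hG : Red.IsReductive G) (hTm : Red.IsMaximalTorus i)
    (α : T ⟶ Red.Gm S) [IsMonHom α] (hα : ∀ s : S, (Over.pullback (Red.geomPt s)).map α ≠ 1)
    (pp pm : Red.Ga S ⟶ G) [IsMonHom pp] [Mono pp] [IsMonHom pm] [Mono pm]
    (hpp : ∀ (X : Over S) (t : X ⟶ T) (x : X ⟶ Red.Ga S), ∃ x' : X ⟶ Red.Ga S,
      x' ≫ pp = (t ≫ i) * (x ≫ pp) * (t ≫ i)⁻¹ ∧ Red.gaFn x' = Red.gmFn (t ≫ α) * Red.gaFn x)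
    (hpm : ∀ (X : Over S) (t : X ⟶ T) (y : X ⟶ Red.Ga S), ∃ y' : X ⟶ Red.Ga S,
      y' ≫ pm = (t ≫ i) * (y ≫ pm) * (t ≫ i)⁻¹ ∧ Red.gaFn y' * Red.gmFn (t ≫ α) = Red.gaFn y)
    (hΩ : IsOpenImmersion (((pm ⊗ₘ i) ⊗ₘ pp) ≫ (μ[G] ▷ G) ≫ μ[G]).left)
    (av : Red.Gm S ⟶ T) [IsMonHom av] (h2 : av ≫ α = (𝟙 (Red.Gm S)) ^ 2)
    (hF : ∀ (X : Over S) (x y : X ⟶ Red.Ga S), IsUnit (1 + Red.gaFn x * Red.gaFn y) →
      ∃ (x' y' : X ⟶ Red.Ga S) (z : X ⟶ Red.Gm S), Red.gmFn z = 1 + Red.gaFn x * Red.gaFn y ∧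
        Red.gaFn x' * Red.gmFn z = Red.gaFn x ∧ Red.gaFn y' * Red.gmFn z = Red.gaFn y ∧
        (x ≫ pp) * (y ≫ pm) = (y' ≫ pm) * (z ≫ av ≫ i) * (x' ≫ pp))
    (X : Over S) (x x' : X ⟶ Red.Ga S) (hx : Red.gaFn x' * Red.gaFn x = -1) :
    ((x ≫ pp) * (x' ≫ pm) * (x ≫ pp)) * (x ≫ pp) * ((x ≫ pp) * (x' ≫ pm) * (x ≫ pp))⁻¹ = x' ≫ pm ∧
      (((x ≫ pp) * (x' ≫ pm) * (x ≫ pp)) * (x ≫ pp)) ^ 3 = 1 := by
  have hT : Red.IsTorus T := hTm.2.2.1
  have hFop : ∀ (X : Over S) (x y x' y' : X ⟶ Red.Ga S) (z : X ⟶ Red.Gm S),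
      Red.gmFn z = 1 + Red.gaFn x * Red.gaFn y → Red.gaFn x' * Red.gmFn z = Red.gaFn x →
      Red.gaFn y' * Red.gmFn z = Red.gaFn y →
      (y ≫ pm) * (x ≫ pp) = (x' ≫ pp) * (z ≫ av ≫ i)⁻¹ * (y' ≫ pm) :=
    fun X x y x' y' z hz hx' hy' =>
      Groth.Agent.S8488.result S G T i hT α pp pm hpp hpm av h2 hF X x y x' y' z hz hx' hy'
  have hb := braid i α pp pm av hpp hpm h2 hF hFop X x x' hx
  have e2 : 1 + Red.gaFn x * Red.gaFn (x' * x') = -1 := by
    rw [gaFn_mul]; linear_combination 2 * hx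
  obtain ⟨-, -, n, hn, -, -, -⟩ := hF X x (x' * x') (by rw [e2]; exact isUnit_one.neg)
  rw [e2] at hn
  have hsq := w_sq i α pp pm av hpp h2 hF hFop X x x' hx n hn
  rw [_root_.pow_two] at hsq
  have hc := A_sq_eq_one i av n hn
  exact ⟨grp_conj1 _ _ hb, grp_cube _ _ _ hb hsq hc⟩

end Groth.Agent.S8475
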