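import Groth.Statements.S8476
import Groth.Agent.H43.GaGmFn

set_option autoImplicit false
universe u
open CategoryTheory MonoidalCategory CartesianMonoidalCategory MonObj GrpObj AlgebraicGeometry CategoryTheory.Limits
open Red

namespace Groth.Agent.S8476
open Groth.Agent.H43.GaGmFn
open Groth.Agent.S13371 (gm_ext isUnit_gmFn)

/-- The product of two elements of the big cell: Let G be an S-group scheme, i : T ⟶ G a torus of G (a
monomorphism of groups), α : T ⟶ 𝔾_m and α^* : 𝔾_m ⟶ T homomorphisms with α ∘ α^* the squaring map,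
and p₊, p₋ : 𝔾_a ⟶ G homomorphisms normalised by T with multipliers α and α⁻¹ which satisfy the
rank-one commutation rule: whenever 1 + xy is invertible, p₊(x) p₋(y) = p₋(y/(1+xy)) · i(α^*(1+xy))
· p₊(x/(1+xy)) (the situation of any reductive group of semisimple rank 1 with trivialised root
groups, where α^* is the coroot). Let y, t, x, y', t', x' be points (of 𝔾_a, T, 𝔾_a, ...) with u = 1
+ x y' invertible. Then p₋(y) i(t) p₊(x) · p₋(y') i(t') p₊(x') = p₋(y + y'/(u α(t))) · i(t α^*(u)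
t') · p₊(x/(u α(t')) + x'). (The published statement is for a reductive group of semisimple rank one
with a maximal torus and a root, and also asserts that the product lies in the big cell only if u is
invertible; this row assumes only the commutation rule, the normalisation of p₊, p₋ by T and α ∘ α^*
the squaring map, which is all the published proof uses for the product formula, and does not assert
the converse membership statement.) -/
theorem result (S : Scheme.{u}) (G T : Over S) [GrpObj G] [GrpObj T] (i : T ⟶ G) [IsMonHom i] [Mono i] (hT : Red.IsTorus T)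
    (α : T ⟶ Red.Gm S) [IsMonHom α]
    (pp pm : Red.Ga S ⟶ G) [IsMonHom pp] [IsMonHom pm]
    (hpp : ∀ (X : Over S) (t : X ⟶ T) (x : X ⟶ Red.Ga S), ∃ x' : X ⟶ Red.Ga S,
      x' ≫ pp = (t ≫ i) * (x ≫ pp) * (t ≫ i)⁻¹ ∧ Red.gaFn x' = Red.gmFn (t ≫ α) * Red.gaFn x)
    (hpm : ∀ (X : Over S) (t : X ⟶ T) (y : X ⟶ Red.Ga S), ∃ y' : X ⟶ Red.Ga S,
      y' ≫ pm = (t ≫ i) * (y ≫ pm) * (t ≫ i)⁻¹ ∧ Red.gaFn y' * Red.gmFn (t ≫ α) = Red.gaFn y)
    (av : Red.Gm S ⟶ T) [IsMonHom av] (h2 : av ≫ α = (𝟙 (Red.Gm S)) ^ 2)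
    (hF : ∀ (X : Over S) (x y : X ⟶ Red.Ga S), IsUnit (1 + Red.gaFn x * Red.gaFn y) →
      ∃ (x' y' : X ⟶ Red.Ga S) (z : X ⟶ Red.Gm S), Red.gmFn z = 1 + Red.gaFn x * Red.gaFn y ∧
        Red.gaFn x' * Red.gmFn z = Red.gaFn x ∧ Red.gaFn y' * Red.gmFn z = Red.gaFn y ∧
        (x ≫ pp) * (y ≫ pm) = (y' ≫ pm) * (z ≫ av ≫ i) * (x' ≫ pp))
    (X : Over S) (x y x' y' y₂ x₂ : X ⟶ Red.Ga S) (t t' : X ⟶ T) (z : X ⟶ Red.Gm S)
    (hz : Red.gmFn z = 1 + Red.gaFn x * Red.gaFn y')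
    (hy₂ : (Red.gaFn y₂ - Red.gaFn y) * Red.gmFn z * Red.gmFn (t ≫ α) = Red.gaFn y')
    (hx₂ : (Red.gaFn x₂ - Red.gaFn x') * Red.gmFn z * Red.gmFn (t' ≫ α) = Red.gaFn x) :
    ((y ≫ pm) * (t ≫ i) * (x ≫ pp)) * ((y' ≫ pm) * (t' ≫ i) * (x' ≫ pp)) =
      (y₂ ≫ pm) * ((t * (z ≫ av) * t') ≫ i) * (x₂ ≫ pp) := by
  have huz := isUnit_gmFn z
  have hu : IsUnit (1 + Red.gaFn x * Red.gaFn y') := by rw [← hz]; exact huz
  obtain ⟨x₃, y₃, z₃, hz₃, hx₃, hy₃, hprod⟩ := hF X x y' hu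
  have ez : z₃ = z := gm_ext _ _ (by rw [hz₃, hz])
  subst ez
  obtain ⟨y₄, hy₄, hy₄'⟩ := hpm X t y₃
  obtain ⟨x₄, hx₄, hx₄'⟩ := hpp X t'⁻¹ x₃
  rw [GrpObj.inv_comp, _root_.inv_inv] at hx₄
  have hσ : Red.gmFn (t'⁻¹ ≫ α) * Red.gmFn (t' ≫ α) = 1 := by
    have e : t'⁻¹ ≫ α = (t' ≫ α)⁻¹ := GrpObj.inv_comp t' α
    rw [e]; exact gmFn_inv_mul _
  have hut := isUnit_gmFn (t ≫ α)
  have hut' := isUnit_gmFn (t' ≫ α)
  have ey : y₂ = y * y₄ := ga_ext _ _ (by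
    apply (huz.mul hut).mul_left_injective
    show Red.gaFn y₂ * (Red.gmFn z₃ * Red.gmFn (t ≫ α)) =
      Red.gaFn (y * y₄) * (Red.gmFn z₃ * Red.gmFn (t ≫ α))
    rw [gaFn_mul]
    linear_combination hy₂ - Red.gmFn z₃ * hy₄' - hy₃)
  have ex : x₂ = x₄ * x' := ga_ext _ _ (by
    apply (huz.mul hut').mul_left_injective
    show Red.gaFn x₂ * (Red.gmFn z₃ * Red.gmFn (t' ≫ α)) =
      Red.gaFn (x₄ * x') * (Red.gmFn z₃ * Red.gmFn (t' ≫ α))
    rw [gaFn_mul]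
    linear_combination hx₂ - (Red.gmFn z₃ * Red.gmFn (t' ≫ α)) * hx₄' -
      (Red.gaFn x₃ * Red.gmFn z₃) * hσ - hx₃)
  subst ey ex
  rw [MonObj.mul_comp, MonObj.mul_comp, MonObj.mul_comp, MonObj.mul_comp, Category.assoc, hy₄, hx₄]
  have e : ((y ≫ pm) * (t ≫ i) * (x ≫ pp)) * ((y' ≫ pm) * (t' ≫ i) * (x' ≫ pp)) =
      (y ≫ pm) * (t ≫ i) * ((x ≫ pp) * (y' ≫ pm)) * (t' ≫ i) * (x' ≫ pp) := by group
  rw [e, hprod]
  group

end Groth.Agent.S8476
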