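import Groth.Statements.S8483
import Groth.Agent.H43.Braid
import Groth.Agent.S8488
import Groth.Agent.S8449

set_option autoImplicit false
universe u
open CategoryTheory MonoidalCategory CartesianMonoidalCategory MonObj GrpObj AlgebraicGeometry CategoryTheory.Limits
open Red

namespace Groth.Agent.S8483

open Groth.Agent.H43.GaGmFn Groth.Agent.H43.RankOne Groth.Agent.H43.Braid
open Groth.Agent.S13371 (gm_ext isUnit_gmFn)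

theorem grp_inv1 {M : Type*} [Group M] (p m : M) (hb : m * p * m = p * m * p) :
    m⁻¹ * p⁻¹ * m⁻¹ = (p * m * p)⁻¹ := by
  rw [← hb]; group

theorem grp_inv2 {M : Type*} [Group M] (p m : M) : p⁻¹ * m⁻¹ * p⁻¹ = (p * m * p)⁻¹ := by
  group


/-- Let G be a reductive S-group, i : T ⟶ G a maximal torus, α a character of T non-trivial on every
geometric fibre, p₊, p₋ : 𝔾_a ⟶ G monomorphisms of groups normalised by T with multipliers α and α⁻¹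
whose cell map (y, t, x) ↦ p₋(y) i(t) p₊(x) is an open immersion 𝔾_a ×_S T ×_S 𝔾_a ⟶ G, and α^* :
𝔾_m ⟶ T the coroot: α ∘ α^* is the squaring map and p₊(x) p₋(y) = p₋(y/(1+xy)) · i(α^*(1+xy)) ·
p₊(x/(1+xy)) whenever 1 + xy is invertible (so p₊ and p₋ are dual to each other). For points x, y of
𝔾_a with invertible coordinates put w(x) = p₊(x) p₋(-x⁻¹) p₊(x) and w₋(y) = p₋(y) p₊(-y⁻¹) p₋(y).
Then w₋(x⁻¹) = w(x)⁻¹ = w(-x), and w(x) w₋(y) = i(α^*(x y)). -/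
theorem result (S : Scheme.{u}) (G T : Over S) [GrpObj G] [GrpObj T] (i : T ⟶ G) [IsMonHom i] [Mono i] (hG : Red.IsReductive G) (hTm : Red.IsMaximalTorus i)
    (α : T ⟶ Red.Gm S) [IsMonHom α] (hα : ∀ s : S, (Over.pullback (Red.geomPt s)).map α ≠ 1)
    (pp pm : Red.Ga S ⟶ G) [IsMonHom pp] [Mono pp] [IsMonHom pm] [Mono pm]
    (hpp : ∀ (X : Over S) (t : X ⟶ T) (x : X ⟶ Red.Ga S), ∃ x' : X ⟶ Red.Ga S,
      x' ≫ pp = (t ≫ i) * (x ≫ pp) * (t ≫ i)⁻¹ ∧ Red.gaFn x' = Red.gmFn (t ≫ α) * Red.gaFn x)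
    (hpm : ∀ (X : Over S) (t : X ⟶ T) (y : X ⟶ Red.Ga S), ∃ y' : X ⟶ Red.Ga S,
      y' ≫ pm = (t ≫ i) * (y ≫ pm) * (t ≫ i)⁻¹ ∧ Red.gaFn y' * Red.gmFn (t ≫ α) = Red.gaFn y)
    (hΩ : IsOpenImmersion (((pm ⊗ₘ i) ⊗ₘ pp) ≫ (μ[G] ▷ G) ≫ μ[G]).left)
    (av : Red.Gm S ⟶ T) [IsMonHom av] (h2 : av ≫ α = (𝟙 (Red.Gm S)) ^ 2)
    (hF : ∀ (X : Over S) (x y : X ⟶ Red.Ga S), IsUnit (1 + Red.gaFn x * Red.gaFn y) →
      ∃ (x' y' : X ⟶ Red.Ga S) (z : X ⟶ Red.Gm S), Red.gmFn z = 1 + Red.gaFn x * Red.gaFn y ∧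
        Red.gaFn x' * Red.gmFn z = Red.gaFn x ∧ Red.gaFn y' * Red.gmFn z = Red.gaFn y ∧
        (x ≫ pp) * (y ≫ pm) = (y' ≫ pm) * (z ≫ av ≫ i) * (x' ≫ pp))
    (X : Over S) (x x' nx nx' y y' : X ⟶ Red.Ga S) (hx : Red.gaFn x' * Red.gaFn x = -1) (hnx : Red.gaFn nx = - Red.gaFn x)
    (hnx' : Red.gaFn nx' = - Red.gaFn x') (hy : Red.gaFn y' * Red.gaFn y = -1) (z : X ⟶ Red.Gm S)
    (hz : Red.gmFn z = Red.gaFn x * Red.gaFn y) :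
    (nx' ≫ pm) * (nx ≫ pp) * (nx' ≫ pm) = ((x ≫ pp) * (x' ≫ pm) * (x ≫ pp))⁻¹ ∧
      (nx ≫ pp) * (nx' ≫ pm) * (nx ≫ pp) = ((x ≫ pp) * (x' ≫ pm) * (x ≫ pp))⁻¹ ∧
      ((x ≫ pp) * (x' ≫ pm) * (x ≫ pp)) * ((y ≫ pm) * (y' ≫ pp) * (y ≫ pm)) = z ≫ av ≫ i := by
  have hT : Red.IsTorus T := hTm.2.2.1
  have hFop : ∀ (X : Over S) (x y x' y' : X ⟶ Red.Ga S) (z : X ⟶ Red.Gm S),
      Red.gmFn z = 1 + Red.gaFn x * Red.gaFn y → Red.gaFn x' * Red.gmFn z = Red.gaFn x →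
      Red.gaFn y' * Red.gmFn z = Red.gaFn y →
      (y ≫ pm) * (x ≫ pp) = (x' ≫ pp) * (z ≫ av ≫ i)⁻¹ * (y' ≫ pm) :=
    fun X x y x' y' z hz hx' hy' =>
      Groth.Agent.S8488.result S G T i hT α pp pm hpp hpm av h2 hF X x y x' y' z hz hx' hy'
  have hb := braid i α pp pm av hpp hpm h2 hF hFop X x x' hx
  have enx : nx = x⁻¹ := ga_ext _ _ (by rw [hnx, gaFn_inv])
  have enx' : nx' = x'⁻¹ := ga_ext _ _ (by rw [hnx', gaFn_inv])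
  have i1 : x⁻¹ ≫ pp = (x ≫ pp)⁻¹ := GrpObj.inv_comp x pp
  have i2 : x'⁻¹ ≫ pm = (x' ≫ pm)⁻¹ := GrpObj.inv_comp x' pm
  rw [enx, enx', i1, i2]
  refine ⟨grp_inv1 _ _ hb, grp_inv2 _ _, ?_⟩
  have hy2 : Red.gaFn y * Red.gaFn y' = -1 := by rw [mul_comm]; exact hy
  have hb2 := braid i α pp pm av hpp hpm h2 hF hFop X y' y hy2
  rw [hb2]
  have e2 : 1 + Red.gaFn x * Red.gaFn (x' * x') = -1 := by
    rw [gaFn_mul]; linear_combination 2 * hx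
  obtain ⟨-, -, n, hn, -, -, -⟩ := hF X x (x' * x') (by rw [e2]; exact isUnit_one.neg)
  rw [e2] at hn
  have hm : Red.gmFn z * Red.gaFn y' = - Red.gaFn x := by
    rw [hz]; linear_combination (Red.gaFn x) * hy
  exact (Groth.Agent.S8449.result S G T i hT α pp pm hpp hpm av h2 hF X x x' y' y hx hy2 z n hm hn).1

end Groth.Agent.S8483
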