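import Groth.Statements.S8513
import Mathlib

set_option autoImplicit false
open CategoryTheory MonoidalCategory CartesianMonoidalCategory MonObj GrpObj AlgebraicGeometry
universe u
open Par

namespace Groth.Agent.S8513

/-- Let G be a reductive S-group and P, Q two parabolic subgroups of G in transversal position (the
multiplication morphism P ×_S Q ⟶ G is smooth). Then P ∩ Q (a fibre product of P and Q over G) is
smooth over S. -/
theorem result {S : Scheme.{u}} {G P Q I : Over S} [GrpObj G] [GrpObj P] [GrpObj Q]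
    (hG : Red.IsReductive G) (p : P ⟶ G) (q : Q ⟶ G) (hP : Red.IsParabolic p) (hQ : Red.IsParabolic q)
    (htr : Smooth ((p ⊗ₘ q) ≫ μ[G]).left) (m : I ⟶ P) (m' : I ⟶ Q) (hI : IsPullback m m' p q) :
    Smooth I.hom := by
  obtain ⟨hq, -, -, -⟩ := hQ
  haveI := hq
  have key : ∀ {T : Over S} (a : T ⟶ P) (b : T ⟶ Q),
      lift a b ≫ (p ⊗ₘ q) ≫ μ[G] = (a ≫ p) * (b ≫ q) := by
    intro T a b
    rw [← Category.assoc, lift_map]; rfl
  have comm : lift m (m'⁻¹) ≫ (p ⊗ₘ q) ≫ μ[G] = toUnit I ≫ η[G] := by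
    rw [key, GrpObj.inv_comp, ← hI.w, _root_.mul_inv_cancel]; rfl
  have hcone : ∀ s : Limits.PullbackCone ((p ⊗ₘ q) ≫ μ[G]) η[G],
      (s.fst ≫ fst P Q) ≫ p = ((s.fst ≫ snd P Q)⁻¹) ≫ q := by
    intro s
    have h2 : lift (s.fst ≫ fst P Q) (s.fst ≫ snd P Q) = s.fst := by
      rw [← comp_lift, lift_fst_snd, Category.comp_id]
    have h1 : lift (s.fst ≫ fst P Q) (s.fst ≫ snd P Q) ≫ (p ⊗ₘ q) ≫ μ[G] = s.snd ≫ η[G] := by
      rw [h2]; exact s.condition
    rw [key] at h1
    have h3 : s.snd ≫ η[G] = (1 : s.pt ⟶ G) := by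
      rw [Hom.one_def]; congr 1; exact toUnit_unique _ _
    rw [h3] at h1
    rw [GrpObj.inv_comp]
    exact eq_inv_of_mul_eq_one_left h1
  have sq : IsPullback (lift m (m'⁻¹)) (toUnit I) ((p ⊗ₘ q) ≫ μ[G]) η[G] :=
    IsPullback.of_isLimit (Limits.PullbackCone.IsLimit.mk comm
      (fun s => hI.lift (s.fst ≫ fst P Q) ((s.fst ≫ snd P Q)⁻¹) (hcone s))
      (fun s => by
        rw [comp_lift, hI.lift_fst, GrpObj.comp_inv, hI.lift_snd, _root_.inv_inv,
          ← comp_lift, lift_fst_snd, Category.comp_id])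
      (fun s => toUnit_unique _ _)
      (fun s m₀ h1 h2 => by
        apply hI.hom_ext
        · rw [hI.lift_fst, ← h1, Category.assoc, lift_fst]
        · rw [hI.lift_snd, ← h1, Category.assoc, lift_snd, GrpObj.comp_inv, _root_.inv_inv]))
  have sq' := sq.map (Over.forget S)
  have h : Smooth ((Over.forget S).map (toUnit I)) :=
    MorphismProperty.of_isPullback (P := @Smooth) sq' htr
  have e : (Over.forget S).map (toUnit I) = I.hom := by simp
  rw [e] at h
  exact h

end Groth.Agent.S8513
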