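import Groth.Statements.S8517
import Mathlib
import Groth.Agent.S15245

set_option autoImplicit false
open CategoryTheory MonoidalCategory CartesianMonoidalCategory MonObj GrpObj AlgebraicGeometry
universe u
open RedSub

namespace Groth.Agent.S8517

open Groth.Agent.S15245 (ng root_ng ng_ng pos_iff height_ng mem_closure_sum)

section Helpers

variable {idx M N : Type} [AddCommGroup M] [AddCommGroup N] (P : RootPairing idx ℤ M N)

include P in
theorem torsionFree_left : IsAddTorsionFree M := by
  haveI := P.isPerfPair_toLinearMap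
  refine ⟨fun n hn x y hxy => ?_⟩
  have hinj : Function.Injective P.toLinearMap :=
    (LinearMap.IsPerfPair.bijective_left P.toLinearMap).1
  apply hinj
  refine LinearMap.ext fun z => ?_
  have h0 : n • x = n • y := hxy
  have h1 : (n : ℤ) • x = (n : ℤ) • y := by
    rw [Nat.cast_smul_eq_nsmul ℤ, Nat.cast_smul_eq_nsmul ℤ]; exact h0
  have h2 : P.toLinearMap ((n : ℤ) • x) z = P.toLinearMap ((n : ℤ) • y) z := by rw [h1]
  rw [map_smul, map_smul, LinearMap.smul_apply, LinearMap.smul_apply, smul_eq_mul,
    smul_eq_mul] at h2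
  exact mul_left_cancel₀ (Int.natCast_ne_zero.2 hn) h2

theorem linIndep_map {V : Type} [AddCommGroup V] (v : idx → V) (s : Finset idx)
    (e : Equiv.Perm idx) (L : V ≃ₗ[ℤ] V) (hL : ∀ a, v (e a) = L (v a))
    (h : LinearIndepOn ℤ v (s : Set idx)) :
    LinearIndepOn ℤ v ((s.map e.toEmbedding : Finset idx) : Set idx) := by
  rw [Finset.coe_map]
  unfold LinearIndepOn at h ⊢
  have h2 : LinearIndependent ℤ ((L : V →ₗ[ℤ] V) ∘ fun x : (s : Set idx) => v x) :=
    h.map' _ L.ker
  let φ : (s : Set idx) ≃ (e.toEmbedding '' (s : Set idx)) :=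
    Equiv.Set.image e.toEmbedding (s : Set idx) e.toEmbedding.injective
  refine (linearIndependent_equiv φ).1 ?_
  convert h2 using 1
  funext x
  exact hL x

theorem closure_map {V : Type} [AddCommGroup V] (v : idx → V) (s : Finset idx)
    (e : Equiv.Perm idx) (L : V ≃ₗ[ℤ] V) (hL : ∀ a, v (e a) = L (v a)) (x : V)
    (hx : x ∈ AddSubmonoid.closure (v '' (s : Set idx))) :
    L x ∈ AddSubmonoid.closure (v '' ((s.map e.toEmbedding : Finset idx) : Set idx)) := by
  refine AddSubmonoid.closure_induction ?_ ?_ ?_ hx
  · rintro y ⟨j, hj, rfl⟩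
    apply AddSubmonoid.subset_closure
    exact ⟨e j, Finset.mem_coe.2 (Finset.mem_map.2 ⟨j, Finset.mem_coe.1 hj, rfl⟩), hL j⟩
  · rw [map_zero]; exact zero_mem _
  · intro x y _ _ hx hy
    rw [map_add]; exact add_mem hx hy

/-- The image of a base under a simple reflection (or any reflection). -/
noncomputable def reflBase (b : P.Base) (i : idx) : P.Base where
  support := b.support.map (P.reflectionPerm i).toEmbedding
  linearIndepOn_root := linIndep_map (P.root : idx → M) b.support (P.reflectionPerm i)
    (P.reflection i) (fun a => P.root_reflectionPerm i a) b.linearIndepOn_root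
  linearIndepOn_coroot := linIndep_map (P.coroot : idx → N) b.support (P.reflectionPerm i)
    (P.coreflection i) (fun a => P.coroot_reflectionPerm i a) b.linearIndepOn_coroot
  root_mem_or_neg_mem j := by
    have hj : P.reflection i (P.root (P.reflectionPerm i j)) = P.root j := by
      rw [← P.root_reflectionPerm, P.reflectionPerm_self]
    rcases b.root_mem_or_neg_mem (P.reflectionPerm i j) with h | h
    · left
      have := closure_map (P.root : idx → M) b.support (P.reflectionPerm i) (P.reflection i)
        (fun a => P.root_reflectionPerm i a) _ h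
      rwa [hj] at this
    · right
      have := closure_map (P.root : idx → M) b.support (P.reflectionPerm i) (P.reflection i)
        (fun a => P.root_reflectionPerm i a) _ h
      rwa [map_neg, hj] at this
  coroot_mem_or_neg_mem j := by
    have hj : P.coreflection i (P.coroot (P.reflectionPerm i j)) = P.coroot j := by
      rw [← P.coroot_reflectionPerm, P.reflectionPerm_self]
    rcases b.coroot_mem_or_neg_mem (P.reflectionPerm i j) with h | h
    · left
      have := closure_map (P.coroot : idx → N) b.support (P.reflectionPerm i) (P.coreflection i)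
        (fun a => P.coroot_reflectionPerm i a) _ h
      rwa [hj] at this
    · right
      have := closure_map (P.coroot : idx → N) b.support (P.reflectionPerm i) (P.coreflection i)
        (fun a => P.coroot_reflectionPerm i a) _ h
      rwa [map_neg, hj] at this

theorem map_map_refl (b : P.Base) (i : idx) :
    ((b.support.map (P.reflectionPerm i).toEmbedding).map (P.reflectionPerm i).toEmbedding) =
      b.support := by
  ext j
  simp only [Finset.mem_map, Equiv.toEmbedding_apply]
  constructor
  · rintro ⟨k, ⟨l, hl, rfl⟩, rfl⟩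
    rwa [P.reflectionPerm_self]
  · intro hj
    exact ⟨P.reflectionPerm i j, ⟨j, hj, rfl⟩, by rw [P.reflectionPerm_self]⟩

theorem refl_pos_of_pos_reflBase (b : P.Base) (i a : idx)
    (ha : a ∈ RedSub.posRoots P (reflBase P b i)) :
    P.reflectionPerm i a ∈ RedSub.posRoots P b := by
  have ha' : P.root a ∈ AddSubmonoid.closure
      ((P.root : idx → M) '' ((reflBase P b i).support : Set idx)) := ha
  have h := closure_map (P.root : idx → M) (reflBase P b i).support (P.reflectionPerm i)
    (P.reflection i) (fun a => P.root_reflectionPerm i a) _ ha'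
  have e : ((reflBase P b i).support.map (P.reflectionPerm i).toEmbedding) = b.support :=
    map_map_refl P b i
  rw [e, ← P.root_reflectionPerm] at h
  exact h

theorem simple_pos (b : P.Base) {α : idx} (hα : α ∈ b.support) : α ∈ RedSub.posRoots P b :=
  AddSubmonoid.subset_closure ⟨α, Finset.mem_coe.2 hα, rfl⟩

theorem ng_simple_not_pos (b : P.Base) {α : idx} (hα : α ∈ b.support) :
    ng P α ∉ RedSub.posRoots P b := by
  rw [pos_iff, height_ng, RootPairing.Base.height_one_of_mem_support hα]
  norm_num

theorem refl_pos_of_pos [Finite idx] (b : P.Base) {α a : idx} (hα : α ∈ b.support)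
    (ha : a ∈ RedSub.posRoots P b) (hne : a ≠ α) :
    P.reflectionPerm α a ∈ RedSub.posRoots P b := by
  classical
  haveI : IsAddTorsionFree M := torsionFree_left P
  haveI : IsAddTorsionFree N := torsionFree_left P.flip
  have ha' : P.root a ∈ AddSubmonoid.closure ((P.root : idx → M) '' (b.support : Set idx)) := ha
  obtain ⟨f, hf⟩ := mem_closure_sum P b _ ha'
  let g : idx → ℤ := fun j => if j ∈ b.support then (f j : ℤ) else 0
  let g' : idx → ℤ := fun j => g j - (if j = α then P.pairing a α else 0)
  have hg0 : ∀ j, 0 ≤ g j := by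
    intro j
    simp only [g]
    split_ifs
    · exact Int.natCast_nonneg _
    · exact le_refl _
  have hg : P.root a = ∑ j ∈ b.support, g j • P.root j := by
    rw [hf]
    refine Finset.sum_congr rfl fun j hj => ?_
    simp only [g, if_pos hj, natCast_zsmul]
  have hg' : P.root (P.reflectionPerm α a) = ∑ j ∈ b.support, g' j • P.root j := by
    rw [P.root_reflectionPerm, P.reflection_apply_root]
    simp only [g', sub_smul, Finset.sum_sub_distrib, ← hg]
    congr 1
    rw [Finset.sum_eq_single_of_mem α hα]
    · simp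
    · intro j _ hj
      simp [hj]
  have hsupp : g'.support ⊆ (b.support : Set idx) := by
    intro j hj
    by_contra hjs
    have hjs' : j ∉ b.support := fun h => hjs (Finset.mem_coe.2 h)
    have hjα : j ≠ α := by
      rintro rfl
      exact hjs' hα
    exact hj (by simp [g', g, hjs', hjα])
  have hrange : ∑ j ∈ b.support, g' j • P.root j ∈ Set.range P.root := ⟨_, hg'⟩
  rcases b.pos_or_neg_of_sum_smul_root_mem g' hrange hsupp with hpos | hneg
  · show P.root (P.reflectionPerm α a) ∈
      AddSubmonoid.closure ((P.root : idx → M) '' (b.support : Set idx))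
    rw [hg']
    refine sum_mem fun j hj => ?_
    have h0 : 0 ≤ g' j := hpos.le j
    obtain ⟨n, hn⟩ := Int.eq_ofNat_of_zero_le h0
    rw [hn, natCast_zsmul]
    have hmem : P.root j ∈ AddSubmonoid.closure ((P.root : idx → M) '' (b.support : Set idx)) :=
      AddSubmonoid.subset_closure ⟨j, Finset.mem_coe.2 hj, rfl⟩
    exact nsmul_mem hmem n
  · exfalso
    have hle : ∀ j, g' j ≤ 0 := fun j => hneg.le j
    have hz : ∀ j, j ≠ α → g j = 0 := by
      intro j hj
      have h1 : g j ≤ 0 := by
        have := hle j
        simpa [g', hj] using this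
      exact le_antisymm h1 (hg0 j)
    have hroot : P.root a = g α • P.root α := by
      rw [hg, Finset.sum_eq_single_of_mem α hα]
      intro j _ hj
      rw [hz j hj, zero_smul]
    have hmem : g α • P.root α ∈ Set.range P.root := ⟨a, hroot⟩
    rcases b.eq_one_or_neg_one_of_mem_support_of_smul_mem α hα (g α) hmem with h1 | h1
    · apply hne
      apply P.root.injective
      rw [hroot, h1, one_smul]
    · have h2 : 0 ≤ g α := hg0 α
      omega

theorem exists_base_subset [Finite idx] (Ψ : Set idx)
    (hcl : ∀ a b c : idx, a ∈ Ψ → b ∈ Ψ → P.root a + P.root b = P.root c → c ∈ Ψ)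
    (htot : ∀ a, a ∈ Ψ ∨ ng P a ∈ Ψ) (b₀ : P.Base) :
    ∃ b : P.Base, RedSub.posRoots P b ⊆ Ψ := by
  classical
  haveI : Fintype idx := Fintype.ofFinite idx
  let bad : P.Base → Finset idx := fun b =>
    Finset.univ.filter (fun a => a ∈ RedSub.posRoots P b ∧ a ∉ Ψ)
  suffices H : ∀ n : ℕ, ∀ b : P.Base, (bad b).card = n →
      ∃ b' : P.Base, RedSub.posRoots P b' ⊆ Ψ from H _ b₀ rfl
  intro n
  induction n using Nat.strong_induction_on with
  | _ n ih =>
    intro b hb
    by_cases hs : ∀ α ∈ b.support, α ∈ Ψ
    · refine ⟨b, fun a ha => ?_⟩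
      have hpos : b.IsPos a := (pos_iff P b a).1 ha
      exact hpos.induction_on_add (p := fun x => x ∈ Ψ) hs
        (fun i j k hk hi hj => hcl i j k hi (hs j hj) hk.symm)
    · push_neg at hs
      obtain ⟨α, hα, hαΨ⟩ := hs
      have hngα : ng P α ∈ Ψ := (htot α).resolve_left hαΨ
      have hsub : bad (reflBase P b α) ⊆ bad b := by
        intro a ha
        simp only [bad, Finset.mem_filter, Finset.mem_univ, true_and] at ha ⊢
        obtain ⟨ha1, ha2⟩ := ha
        have hT := refl_pos_of_pos_reflBase P b α a ha1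
        have hTne : P.reflectionPerm α a ≠ α := by
          intro h
          apply ha2
          have h' := congrArg (P.reflectionPerm α) h
          rw [P.reflectionPerm_self] at h'
          have h'' : a = ng P α := h'
          rw [h'']; exact hngα
        have := refl_pos_of_pos P b hα hT hTne
        rw [P.reflectionPerm_self] at this
        exact ⟨this, ha2⟩
      have hα_bad : α ∈ bad b := by
        simp only [bad, Finset.mem_filter, Finset.mem_univ, true_and]
        exact ⟨simple_pos P b hα, hαΨ⟩
      have hα_nbad : α ∉ bad (reflBase P b α) := by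
        simp only [bad, Finset.mem_filter, Finset.mem_univ, true_and, not_and]
        intro h
        exfalso
        exact ng_simple_not_pos P b hα (refl_pos_of_pos_reflBase P b α α h)
      have hlt : (bad (reflBase P b α)).card < n := by
        rw [← hb]
        exact Finset.card_lt_card
          ((Finset.ssubset_iff_of_subset hsub).2 ⟨α, hα_bad, hα_nbad⟩)
      exact ih _ hlt (reflBase P b α) rfl

/-- The intersection of `R₁` with the opposite of `R₂`. -/
def Psi (R₁ R₂ : Set idx) : Set idx := {a | a ∈ R₁ ∧ ∃ c ∈ R₂, P.root a = -P.root c}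

theorem mem_Psi (R₁ R₂ : Set idx) (a : idx) :
    a ∈ Psi P R₁ R₂ ↔ a ∈ R₁ ∧ ng P a ∈ R₂ := by
  constructor
  · rintro ⟨h1, c, hc, hac⟩
    refine ⟨h1, ?_⟩
    have : c = ng P a := by
      apply P.root.injective
      rw [root_ng, hac, neg_neg]
    rw [← this]; exact hc
  · rintro ⟨h1, h2⟩
    exact ⟨h1, ng P a, h2, by rw [root_ng, neg_neg]⟩

theorem mem_or (b : P.Base) (a : idx) :
    a ∈ RedSub.posRoots P b ∨ ng P a ∈ RedSub.posRoots P b := by
  rcases b.root_mem_or_neg_mem a with h | h
  · exact Or.inl h
  · right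
    show P.root (ng P a) ∈ AddSubmonoid.closure ((P.root : idx → M) '' (b.support : Set idx))
    rw [root_ng]; exact h

end Helpers


/-- Let R be the set of roots of a root pairing over ℤ with finitely many roots, and R₁, R₂ two closed
subsets of R (if a, b ∈ Rᵢ and root a + root b is a root c then c ∈ Rᵢ), each containing a system of
positive roots (the positive roots of some base). If R₁ ∪ R₂ = R, then R₁ ∩ (−R₂) (the roots of R₁
whose negative is a root in R₂) contains a system of positive roots. -/
theorem result {idx M N : Type} [Finite idx] [AddCommGroup M] [AddCommGroup N] (P : RootPairing idx ℤ M N) (R₁ R₂ : Set idx)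
    (h₁ : ∀ a b c : idx, a ∈ R₁ → b ∈ R₁ → P.root a + P.root b = P.root c → c ∈ R₁)
    (h₂ : ∀ a b c : idx, a ∈ R₂ → b ∈ R₂ → P.root a + P.root b = P.root c → c ∈ R₂)
    (hb₁ : ∃ b : P.Base, RedSub.posRoots P b ⊆ R₁) (hb₂ : ∃ b : P.Base, RedSub.posRoots P b ⊆ R₂)
    (hunion : R₁ ∪ R₂ = Set.univ) :
    ∃ b : P.Base, RedSub.posRoots P b ⊆ {a | a ∈ R₁ ∧ ∃ c ∈ R₂, P.root a = -P.root c} := by
  classical
  obtain ⟨b₁, hb₁⟩ := hb₁
  obtain ⟨b₂, hb₂⟩ := hb₂
  have hcl : ∀ a b c : idx, a ∈ Psi P R₁ R₂ → b ∈ Psi P R₁ R₂ →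
      P.root a + P.root b = P.root c → c ∈ Psi P R₁ R₂ := by
    intro a b c ha hb habc
    rw [mem_Psi] at ha hb ⊢
    refine ⟨h₁ a b c ha.1 hb.1 habc, h₂ (ng P a) (ng P b) (ng P c) ha.2 hb.2 ?_⟩
    rw [root_ng, root_ng, root_ng, ← habc, neg_add]
  have htot : ∀ a, a ∈ Psi P R₁ R₂ ∨ ng P a ∈ Psi P R₁ R₂ := by
    intro a
    rw [mem_Psi, mem_Psi, ng_ng]
    have hu1 : a ∈ R₁ ∨ a ∈ R₂ := by
      have : a ∈ R₁ ∪ R₂ := by rw [hunion]; exact Set.mem_univ a
      exact this
    have hu2 : ng P a ∈ R₁ ∨ ng P a ∈ R₂ := by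
      have : ng P a ∈ R₁ ∪ R₂ := by rw [hunion]; exact Set.mem_univ _
      exact this
    have hp1 : a ∈ R₁ ∨ ng P a ∈ R₁ := (mem_or P b₁ a).imp (fun h => hb₁ h) (fun h => hb₁ h)
    have hp2 : a ∈ R₂ ∨ ng P a ∈ R₂ := (mem_or P b₂ a).imp (fun h => hb₂ h) (fun h => hb₂ h)
    tauto
  exact exists_base_subset P (Psi P R₁ R₂) hcl htot b₁

end Groth.Agent.S8517
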