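import Groth.Statements.S8524
import Groth.Agent.H4.EtaleRes

set_option autoImplicit false
universe u
open CategoryTheory CategoryTheory.Limits AlgebraicGeometry Opposite
open EtAcyc

namespace Groth.Agent.S8524

theorem primesIn_mul {L : Set ℕ} {a b : ℕ} (ha : EtAcyc.PrimesIn L a) (hb : EtAcyc.PrimesIn L b) :
    EtAcyc.PrimesIn L (a * b) :=
  ⟨Nat.mul_pos ha.1 hb.1, fun p hp hd => (hp.dvd_mul.1 hd).elim (ha.2 p hp) (hb.2 p hp)⟩

theorem primesIn_one {L : Set ℕ} : EtAcyc.PrimesIn L 1 :=
  ⟨Nat.one_pos, fun p hp hd => absurd (Nat.dvd_one.1 hd) hp.ne_one⟩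

theorem primesIn_prod {L : Set ℕ} {ι : Type*} (t : Finset ι) (m : ι → ℕ)
    (h : ∀ i ∈ t, EtAcyc.PrimesIn L (m i)) : EtAcyc.PrimesIn L (∏ i ∈ t, m i) := by
  classical
  induction t using Finset.induction_on with
  | empty =>
    rw [Finset.prod_empty]
    exact primesIn_one
  | insert a s ha ih =>
    rw [Finset.prod_insert ha]
    exact primesIn_mul (h a (Finset.mem_insert_self a s))
      (ih (fun i hi => h i (Finset.mem_insert_of_mem hi)))

/-- For the small etale site of a scheme and abelian sheaves: let L be a set of primes, F an abelian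
L-torsion sheaf on the small etale site of a scheme X, and U an etale X-scheme with quasi-compact
underlying space. Then every section of F over U is killed by some positive integer all of whose
prime factors lie in L. -/
theorem result {X : Scheme.{u}} (L : Set ℕ) (F : EtCoh.Ab X)
    (hF : EtAcyc.IsLTorsion L F) (U : X.Etale) [CompactSpace U.left] (s : EtCoh.sect F U) :
    ∃ m : ℕ, EtAcyc.PrimesIn L m ∧ m • s = 0 := by
  choose V g m hv hm hz using fun x : U.left => hF U s x
  have hopen : ∀ x, IsOpen (Set.range (g x).left.base) := fun x =>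
    (g x).left.isOpenMap.isOpen_range
  have hcover : (Set.univ : Set U.left) ⊆ ⋃ x, Set.range (g x).left.base := fun x _ =>
    Set.mem_iUnion.2 ⟨x, hv x⟩
  obtain ⟨t, ht⟩ := isCompact_univ.elim_finite_subcover _ hopen hcover
  refine ⟨∏ i ∈ t, m i, primesIn_prod t m (fun i _ => hm i), ?_⟩
  apply Groth.Agent.H4.eq_of_locally_eq F U
  intro b
  obtain ⟨i, hi, v, hvb⟩ : ∃ i ∈ t, ∃ v, (g i).left.base v = b := by
    have h0 := ht (Set.mem_univ b)
    obtain ⟨i, hi, hb⟩ := Set.mem_iUnion₂.1 h0
    exact ⟨i, hi, hb⟩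
  refine ⟨V i, g i, v, hvb, ?_⟩
  rw [map_nsmul, map_zero]
  obtain ⟨k, hk⟩ : m i ∣ ∏ j ∈ t, m j := Finset.dvd_prod_of_mem m hi
  rw [hk, mul_comm, mul_nsmul', hz i, nsmul_zero]

end Groth.Agent.S8524
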