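import Groth.Statements.S8525
import Mathlib
import Groth.Agent.H4.GeomPoints

set_option autoImplicit false
universe u
open CategoryTheory CategoryTheory.Limits AlgebraicGeometry Opposite
open EtAcyc

namespace Groth.Agent.S8525

/-- Let L be a set of primes and F an abelian sheaf on the small etale site of a scheme X. Then F is an
L-torsion sheaf if and only if for every geometric point ξ of X every element of the stalk F_ξ is
killed by a positive integer all of whose prime factors lie in L. -/
theorem result {X : Scheme.{u}} (L : Set ℕ) (F : EtCoh.Ab X) :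
    EtAcyc.IsLTorsion L F ↔
      ∀ (Ω : Type u) [Field Ω] [IsSepClosed Ω] (ξ : Spec (CommRingCat.of Ω) ⟶ X)
        (t : (EtCoh.stalk ξ).obj F), ∃ m : ℕ, EtAcyc.PrimesIn L m ∧ m • t = 0 := by
  constructor
  · intro h Ω _ _ ξ t
    obtain ⟨U, τ, z, rfl⟩ :=
      (Scheme.pointSmallEtale ξ).toPresheafFiber_jointly_surjective (P := F.obj) t
    obtain ⟨V, g, m, ⟨v, hv⟩, hm, hz⟩ :=
      h U z (τ.left.base (default : Spec (CommRingCat.of Ω)))
    obtain ⟨τ', hτ', -⟩ := Groth.Agent.H4.exists_fiber_lift ξ g τ v hv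
    refine ⟨m, hm, ?_⟩
    have h1 : (Scheme.pointSmallEtale ξ).toPresheafFiber V τ' F.obj (F.obj.map g.op z) =
        (Scheme.pointSmallEtale ξ).toPresheafFiber U τ F.obj z := by
      rw [← hτ']
      exact GrothendieckTopology.Point.toPresheafFiber_w_apply _ g τ' F.obj z
    have h2 : m • ((Scheme.pointSmallEtale ξ).toPresheafFiber V τ' F.obj
        (F.obj.map g.op z)) = 0 := by
      rw [← map_nsmul, hz, map_zero]
    rw [h1] at h2
    exact h2
  · intro h U s x
    obtain ⟨Ω, _, _, ξ, t, ht⟩ := Groth.Agent.H4.exists_geometric_point U x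
    obtain ⟨m, hm, hz⟩ := h Ω ξ ((Scheme.pointSmallEtale ξ).toPresheafFiber U t F.obj s)
    have hz' : m • ((Scheme.pointSmallEtale ξ).toPresheafFiber U t F.obj s) = 0 := hz
    have h1 : (Scheme.pointSmallEtale ξ).toPresheafFiber U t F.obj (m • s) =
        (Scheme.pointSmallEtale ξ).toPresheafFiber U t F.obj 0 := by
      rw [map_nsmul, hz', map_zero]
    obtain ⟨V, g, v, hv, hg⟩ :=
      ((Scheme.pointSmallEtale ξ).toPresheafFiber_eq_iff' U t (m • s) 0).1 h1
    refine ⟨V, g, m, ⟨v.left.base (default : Spec (CommRingCat.of Ω)), ?_⟩, hm, ?_⟩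
    · rw [← ht, ← hv]
      rfl
    · rw [← map_nsmul, hg, map_zero]

end Groth.Agent.S8525
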