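import Groth.Statements.S8535
import Mathlib.CategoryTheory.Abelian.Refinements
import Mathlib.CategoryTheory.Limits.FunctorCategory.EpiMono
import Mathlib.CategoryTheory.Balanced

set_option autoImplicit false
universe v v' u u'
open CategoryTheory CategoryTheory.Limits
open DeltaF

namespace Groth.Agent.S8535

open CategoryTheory.Limits

section helpers

variable {A : Type u} [Category.{v} A] [Abelian A] {B : Type u'} [Category.{v'} B] [Abelian B]
  {T T' : DeltaF.CohDeltaFunctor A B ℕ}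

/-- the short exact sequence of a monomorphism -/
lemma se_of_mono {X Y : A} (u : X ⟶ Y) [Mono u] :
    (ShortComplex.mk u (cokernel.π u) (cokernel.condition u)).ShortExact :=
  ShortComplex.ShortExact.mk'
    ((ShortComplex.mk u (cokernel.π u) (cokernel.condition u)).exact_of_g_is_cokernel
      (cokernelIsCokernel u))
    (inferInstanceAs (Mono u)) (inferInstanceAs (Epi (cokernel.π u)))

lemma mono_step (hT : T.IsEffaceable) (φ : T ⟶ T') (i : ℕ)
    (hepi : ∀ X, Epi ((φ.app i).app X)) (hmono : ∀ X, Mono ((φ.app i).app X)) (X : A) :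
    Mono ((φ.app (i + 1)).app X) := by
  obtain ⟨Y, u, hu, hu0⟩ := hT i X
  let S : ShortComplex A := ShortComplex.mk u (cokernel.π u) (cokernel.condition u)
  have hS : S.ShortExact := se_of_mono u
  have hδepi : Epi (T.δ S hS i (i + 1) rfl) := (T.exact₁ S hS i (i + 1) rfl).epi_f hu0
  apply Preadditive.mono_of_cancel_zero
  intro W k hk
  obtain ⟨W1, π1, hπ1, z, hz⟩ := surjective_up_to_refinements_of_epi (T.δ S hS i (i + 1) rfl) k
  have h1 : (z ≫ (φ.app i).app S.X₃) ≫ T'.δ S hS i (i + 1) rfl = 0 := by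
    have hc := φ.comm S hS i (i + 1) rfl
    change T.δ S hS i (i + 1) rfl ≫ (φ.app (i + 1)).app X = _ at hc
    rw [Category.assoc, ← hc, ← Category.assoc, ← hz, Category.assoc, hk, comp_zero]
  obtain ⟨W2, π2, hπ2, y', hy'⟩ :=
    (T'.exact₃ S hS i (i + 1) rfl).exact_up_to_refinements _ h1
  have hepiY := hepi S.X₂
  obtain ⟨W3, π3, hπ3, y, hy⟩ := surjective_up_to_refinements_of_epi ((φ.app i).app S.X₂) y'
  have e1 : π2 ≫ z ≫ (φ.app i).app S.X₃ = y' ≫ (T'.F i).map S.g := hy'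
  have h2 : (π3 ≫ π2 ≫ z) ≫ (φ.app i).app S.X₃ =
      (y ≫ (T.F i).map S.g) ≫ (φ.app i).app S.X₃ := by
    calc (π3 ≫ π2 ≫ z) ≫ (φ.app i).app S.X₃
        = π3 ≫ (π2 ≫ z ≫ (φ.app i).app S.X₃) := by simp only [Category.assoc]
      _ = π3 ≫ y' ≫ (T'.F i).map S.g := by rw [e1]
      _ = (π3 ≫ y') ≫ (T'.F i).map S.g := by rw [Category.assoc]
      _ = (y ≫ (φ.app i).app S.X₂) ≫ (T'.F i).map S.g := by rw [hy]
      _ = y ≫ ((T.F i).map S.g ≫ (φ.app i).app S.X₃) := by
        rw [Category.assoc, (φ.app i).naturality]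
      _ = (y ≫ (T.F i).map S.g) ≫ (φ.app i).app S.X₃ := by rw [Category.assoc]
  have hmonoZ := hmono S.X₃
  have h3 : π3 ≫ π2 ≫ z = y ≫ (T.F i).map S.g := (cancel_mono _).1 h2
  have h4 : (π3 ≫ π2 ≫ π1) ≫ k = 0 := by
    calc (π3 ≫ π2 ≫ π1) ≫ k = π3 ≫ π2 ≫ (π1 ≫ k) := by simp only [Category.assoc]
      _ = π3 ≫ π2 ≫ (z ≫ T.δ S hS i (i + 1) rfl) := by rw [hz]
      _ = (π3 ≫ π2 ≫ z) ≫ T.δ S hS i (i + 1) rfl := by simp only [Category.assoc]
      _ = (y ≫ (T.F i).map S.g) ≫ T.δ S hS i (i + 1) rfl := by rw [h3]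
      _ = 0 := by rw [Category.assoc, T.comp_δ, comp_zero]
  have : Epi (π3 ≫ π2 ≫ π1) := epi_comp' hπ3 (epi_comp' hπ2 hπ1)
  exact (cancel_epi (π3 ≫ π2 ≫ π1)).1 (h4.trans comp_zero.symm)

lemma epi_step (φ : T ⟶ T') (i : ℕ) (hepi : ∀ X, Epi ((φ.app i).app X))
    (heff' : ∀ X : A, ∃ (Y : A) (u : X ⟶ Y), Mono u ∧ (T'.F (i + 1)).map u = 0) (X : A) :
    Epi ((φ.app (i + 1)).app X) := by
  obtain ⟨Y, u, hu, hu0⟩ := heff' X
  let S : ShortComplex A := ShortComplex.mk u (cokernel.π u) (cokernel.condition u)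
  have hS : S.ShortExact := se_of_mono u
  have hδepi : Epi (T'.δ S hS i (i + 1) rfl) := (T'.exact₁ S hS i (i + 1) rfl).epi_f hu0
  have hc := φ.comm S hS i (i + 1) rfl
  change T.δ S hS i (i + 1) rfl ≫ (φ.app (i + 1)).app X = _ at hc
  have hZ := hepi S.X₃
  have : Epi (T.δ S hS i (i + 1) rfl ≫ (φ.app (i + 1)).app X) := by
    rw [hc]
    exact epi_comp _ _
  exact epi_of_epi (T.δ S hS i (i + 1) rfl) _

lemma main (hT : T.IsEffaceable) (φ : T ⟶ T') (n : ℕ)
    (hstep : ∀ i, i + 1 ≤ n → (∀ X, IsIso ((φ.app i).app X)) → ∀ X, Epi ((φ.app (i + 1)).app X))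
    (h0 : ∀ X, IsIso ((φ.app 0).app X)) :
    (∀ i, i ≤ n → ∀ X, IsIso ((φ.app i).app X)) ∧ ∀ X, Mono ((φ.app (n + 1)).app X) := by
  have hiso : ∀ i, i ≤ n → ∀ X, IsIso ((φ.app i).app X) := by
    intro i
    induction i with
    | zero => exact fun _ => h0
    | succ i ih =>
      intro hi X
      have hprev := ih (by omega)
      have hm : Mono ((φ.app (i + 1)).app X) :=
        mono_step hT φ i (fun X => by have := hprev X; infer_instance)
          (fun X => by have := hprev X; infer_instance) X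
      have he : Epi ((φ.app (i + 1)).app X) := hstep i hi hprev X
      exact isIso_of_mono_of_epi _
  refine ⟨hiso, fun X => ?_⟩
  have hprev := hiso n le_rfl
  exact mono_step hT φ n (fun X => by have := hprev X; infer_instance)
    (fun X => by have := hprev X; infer_instance) X

lemma a_of (hT : T.IsEffaceable) (φ : T ⟶ T') (n : ℕ)
    (hstep : ∀ i, i + 1 ≤ n → (∀ X, IsIso ((φ.app i).app X)) → ∀ X, Epi ((φ.app (i + 1)).app X))
    (h0 : ∀ X, IsIso ((φ.app 0).app X)) :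
    (∀ i : ℕ, i ≤ n → IsIso (φ.app i)) ∧ Mono (φ.app (n + 1)) := by
  obtain ⟨h1, h2⟩ := main hT φ n hstep h0
  refine ⟨fun i hi => ?_, (NatTrans.mono_iff_mono_app _).2 h2⟩
  have := h1 i hi
  exact NatIso.isIso_of_isIso_app _

end helpers

/-- Let A and B be abelian categories, T and T' cohomological delta-functors from A to B in degrees ≥ 0
whose degree-0 components are left exact (they vanish in negative degrees), such that T^i is
effaceable for every i > 0, and let φ : T → T' be a morphism of delta-functors and n a natural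
number. Then the following are equivalent: (a) φ^i is an isomorphism for i ≤ n and a monomorphism
for i = n + 1; (b) φ^0 is a monomorphism and φ^i is an epimorphism for every i ≤ n; (c) φ^0 is an
isomorphism and, for 0 < i ≤ n, T'^i is effaceable (every object X admits a monomorphism X → Y
killed by T'^i). -/
theorem result {A : Type u} [Category.{v} A] [Abelian A]
    {B : Type u'} [Category.{v'} B] [Abelian B] (T T' : DeltaF.CohDeltaFunctor A B ℕ)
    (h0 : T.ZeroMono) (h0' : T'.ZeroMono) (hT : T.IsEffaceable) (φ : T ⟶ T') (n : ℕ) :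
    ((∀ i : ℕ, i ≤ n → IsIso (φ.app i)) ∧ Mono (φ.app (n + 1)) ↔
      (Mono (φ.app 0) ∧ ∀ i : ℕ, i ≤ n → Epi (φ.app i))) ∧
    ((∀ i : ℕ, i ≤ n → IsIso (φ.app i)) ∧ Mono (φ.app (n + 1)) ↔
      (IsIso (φ.app 0) ∧ ∀ i : ℕ, 0 < i → i ≤ n → ∀ X : A, ∃ (Y : A) (u : X ⟶ Y), Mono u ∧ (T'.F i).map u = 0)) := by
  refine ⟨⟨?_, ?_⟩, ⟨?_, ?_⟩⟩
  · -- (a) → (b)
    rintro ⟨h1, _⟩
    have := h1 0 (Nat.zero_le _)
    exact ⟨inferInstance, fun i hi => by have := h1 i hi; infer_instance⟩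
  · -- (b) → (a)
    rintro ⟨hm, he⟩
    refine a_of hT φ n (fun i hi _ X => (NatTrans.epi_iff_epi_app _).1 (he (i + 1) hi) X) ?_
    intro X
    have h1 : Mono ((φ.app 0).app X) := (NatTrans.mono_iff_mono_app _).1 hm X
    have h2 : Epi ((φ.app 0).app X) := (NatTrans.epi_iff_epi_app _).1 (he 0 (Nat.zero_le _)) X
    exact isIso_of_mono_of_epi _
  · -- (a) → (c)
    rintro ⟨h1, _⟩
    refine ⟨h1 0 (Nat.zero_le _), ?_⟩
    intro i hi0 hin X
    obtain ⟨j, rfl⟩ : ∃ j, i = j + 1 := ⟨i - 1, by omega⟩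
    obtain ⟨Y, u, hu, hu0⟩ := hT j X
    refine ⟨Y, u, hu, ?_⟩
    have := h1 (j + 1) hin
    have hnat := (φ.app (j + 1)).naturality u
    rw [hu0, zero_comp] at hnat
    have : Epi ((φ.app (j + 1)).app X) := inferInstance
    exact (cancel_epi ((φ.app (j + 1)).app X)).1 (hnat.symm.trans comp_zero.symm)
  · -- (c) → (a)
    rintro ⟨h0iso, heff⟩
    refine a_of hT φ n (fun i hi hiso X => ?_) (fun X => inferInstance)
    exact epi_step φ i (fun X => by have := hiso X; infer_instance)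
      (heff (i + 1) (Nat.succ_pos i) hi) X

end Groth.Agent.S8535
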