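import Groth.Statements.S8536
import Groth.Prelude.Def_FinFr
import Groth.Agent.H4.Kummer

set_option autoImplicit false
universe u
open CategoryTheory CategoryTheory.Limits AlgebraicGeometry Opposite
open EtAcyc

namespace Groth.Agent.S8536

/-- The cokernel of a morphism into an `L`-torsion sheaf is an `L`-torsion sheaf. -/
theorem isLTorsion_cokernel {X : Scheme.{u}} (L : Set ℕ) {F G : EtCoh.Ab X} (u : F ⟶ G)
    (hG : EtAcyc.IsLTorsion L G) : EtAcyc.IsLTorsion L (cokernel u) := by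
  intro U s x
  obtain ⟨V, g, v, hv, t, ht⟩ :=
    Groth.Agent.H4.exists_local_preimage_of_epi (cokernel.π u) U s x
  obtain ⟨W, g', m, ⟨w, hw⟩, hm, hz⟩ := hG V t v
  refine ⟨W, g' ≫ g, m, ⟨w, ?_⟩, hm, ?_⟩
  · rw [← hv, ← hw]
    rfl
  · have h1 : (cokernel u).obj.map (g' ≫ g).op s =
        (cokernel u).obj.map g'.op ((cokernel u).obj.map g.op s) := by
      rw [op_comp, Functor.map_comp]
      rfl
    rw [h1, ← ht]
    have h2 : (cokernel u).obj.map g'.op ((cokernel.π u).hom.app (op V) t) =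
        (cokernel.π u).hom.app (op W) (G.obj.map g'.op t) :=
      (NatTrans.naturality_apply (cokernel.π u).hom g'.op t).symm
    rw [h2, ← map_nsmul, hz, map_zero]

/-- Compatibility of the pullback on cohomology with the connecting homomorphisms. -/
theorem Hpull_delta {X Y : Scheme.{u}} (h : Y ⟶ X) [PreservesFiniteLimits (EtCoh.pull h)]
    {S : ShortComplex (EtCoh.Ab X)} (hS : S.ShortExact) (k : ℕ) (e : EtCoh.H X S.X₃ k) :
    EtCore.Hpull h S.X₁ (k + 1) (e.comp hS.extClass rfl) =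
      (EtCore.Hpull h S.X₃ k e).comp (hS.map_of_exact (EtCoh.pull h)).extClass rfl := by
  have h1 : ∀ (A : EtCoh.Ab X) (j : ℕ) (a : EtCoh.H X A j), EtCore.Hpull h A j a =
      (Abelian.Ext.mk₀ (EtCore.pullConst h ℤ).inv).comp
        (a.mapExactFunctor (EtCoh.pull h)) (zero_add j) :=
    fun _ _ _ => rfl
  rw [h1, h1, Abelian.Ext.mapExactFunctor_comp, Abelian.Ext.mapExactFunctor_extClass]
  exact (Abelian.Ext.comp_assoc (Abelian.Ext.mk₀ _) (e.mapExactFunctor (EtCoh.pull h)) _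
    (zero_add k) rfl (by omega)).symm

/-- The diagram chase, for an arbitrary short exact sequence. -/
theorem chase {X Y : Scheme.{u}} (h : Y ⟶ X) (L : Set ℕ) (n : ℕ) (hc : EtAcyc.CompN h L n)
    [PreservesFiniteLimits (EtCoh.pull h)] {S : ShortComplex (EtCoh.Ab X)} (hS : S.ShortExact)
    (hQ : EtAcyc.IsLTorsion L S.X₃)
    (ξ : EtCoh.H Y ((EtCoh.pull h).obj S.X₁) (n + 1))
    (hξ : (EtCoh.HF Y (n + 1)).map ((EtCoh.pull h).map S.f) ξ ∈
      Set.range (EtCore.Hpull h S.X₂ (n + 1))) :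
    ξ ∈ Set.range (EtCore.Hpull h S.X₁ (n + 1)) := by
  obtain ⟨η, hη⟩ := hξ
  obtain ⟨hbij, hinj⟩ := hc S.X₃ hQ
  have h1 : η.comp (Abelian.Ext.mk₀ S.g) (add_zero (n + 1)) = 0 := by
    apply hinj
    rw [map_zero]
    refine (EtCore.Hpull_natural h S.g (n + 1) η).trans ?_
    rw [hη]
    show Sheaf.H.map ((EtCoh.pull h).map S.g) (n + 1)
      (Sheaf.H.map ((EtCoh.pull h).map S.f) (n + 1) ξ) = 0
    rw [← Sheaf.H.map_comp_apply, ← Functor.map_comp, S.zero, Functor.map_zero,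
      Sheaf.H.map_apply, Abelian.Ext.mk₀_zero, Abelian.Ext.comp_zero]
  obtain ⟨ζ, hζ⟩ := Abelian.Ext.covariant_sequence_exact₂ _ hS η h1
  have h3 : Sheaf.H.map ((EtCoh.pull h).map S.f) (n + 1)
      (ξ - EtCore.Hpull h S.X₁ (n + 1) ζ) = 0 := by
    rw [map_sub, ← EtCore.Hpull_natural, sub_eq_zero]
    have h4 : Sheaf.H.map S.f (n + 1) ζ = η := hζ
    rw [h4]
    exact hη.symm
  obtain ⟨θ', hθ'⟩ := Abelian.Ext.covariant_sequence_exact₁ _
    (hS.map_of_exact (EtCoh.pull h)) (ξ - EtCore.Hpull h S.X₁ (n + 1) ζ) h3 rfl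
  obtain ⟨θ, hθ⟩ := (hbij n le_rfl).2 θ'
  refine ⟨ζ + θ.comp hS.extClass rfl, ?_⟩
  have e1 : EtCore.Hpull h S.X₁ (n + 1) (ζ + θ.comp hS.extClass rfl) =
      EtCore.Hpull h S.X₁ (n + 1) ζ +
        EtCore.Hpull h S.X₁ (n + 1) (θ.comp hS.extClass rfl) := map_add _ _ _
  have e2 : EtCore.Hpull h S.X₁ (n + 1) (θ.comp hS.extClass rfl) =
      ξ - EtCore.Hpull h S.X₁ (n + 1) ζ := by
    refine (Hpull_delta h hS n θ).trans ?_
    have e3 : EtCore.Hpull h S.X₃ n θ = θ' := hθ
    rw [e3]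
    exact hθ'
  rw [e1, e2]
  abel

/-- Let h : Y → X be a morphism of quasi-compact quasi-separated schemes, L a set of primes and n a
natural number, and suppose that for every abelian L-torsion sheaf on X the pullback map on etale
cohomology along h is bijective in degrees ≤ n and injective in degree n + 1. Let u : F → G be a
monomorphism of abelian L-torsion sheaves on X and ξ a class in H^{n+1}(Y, h⁻¹F) whose image in
H^{n+1}(Y, h⁻¹G) comes from H^{n+1}(X, G). Then ξ comes from H^{n+1}(X, F). -/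
theorem result {X Y : Scheme.{u}} [CompactSpace X] [QuasiSeparatedSpace X]
    [CompactSpace Y] [QuasiSeparatedSpace Y] (h : Y ⟶ X) (L : Set ℕ) (n : ℕ) (hc : EtAcyc.CompN h L n)
    [PreservesFiniteLimits (EtCoh.pull h)] {F G : EtCoh.Ab X} (u : F ⟶ G) [Mono u]
    (hF : EtAcyc.IsLTorsion L F) (hG : EtAcyc.IsLTorsion L G)
    (ξ : EtCoh.H Y ((EtCoh.pull h).obj F) (n + 1))
    (hξ : (EtCoh.HF Y (n + 1)).map ((EtCoh.pull h).map u) ξ ∈ Set.range (EtCore.Hpull h G (n + 1))) :
    ξ ∈ Set.range (EtCore.Hpull h F (n + 1)) := by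
  have hS : (ShortComplex.mk u (cokernel.π u) (cokernel.condition u)).ShortExact := by
    haveI : Mono (ShortComplex.mk u (cokernel.π u) (cokernel.condition u)).f :=
      inferInstanceAs (Mono u)
    haveI : Epi (ShortComplex.mk u (cokernel.π u) (cokernel.condition u)).g :=
      inferInstanceAs (Epi (cokernel.π u))
    exact ShortComplex.ShortExact.mk
      (ShortComplex.exact_of_g_is_cokernel _ (cokernelIsCokernel u))
  exact chase h L n hc hS (isLTorsion_cokernel L u hG) ξ hξ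

end Groth.Agent.S8536
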