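import Groth.Statements.S8547
import Groth.Agent.H67.SecDesc.Main

set_option autoImplicit false
universe u
open CategoryTheory CategoryTheory.Limits AlgebraicGeometry Opposite
open EtBC

namespace Groth.Agent.S8547

/-- Let h : Y → X and p : X̄ → X be morphisms of schemes with X, Y, X̄ quasi-compact and quasi-separated
(p need not be surjective), and Ȳ = Y ×_X X̄ with projections h̄ : Ȳ → X̄ and p_Y : Ȳ → Y. If the
pullback map on global sections Γ(X, F) → Γ(Y, h^*F) is injective for every sheaf of sets F on X and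
the base change morphism h^* p_* F̄ → p_{Y*} h̄^* F̄ is a monomorphism for every sheaf of sets F̄ on
X̄, then Γ(X̄, F̄) → Γ(Ȳ, h̄^*F̄) is injective for every F̄. If the maps for h are bijective and the
base change morphisms are isomorphisms, then the maps for h̄ are bijective. -/
theorem result {X Y Xb Yb : Scheme.{u}} [CompactSpace X]
    [QuasiSeparatedSpace X] [CompactSpace Y] [QuasiSeparatedSpace Y] [CompactSpace Xb] [QuasiSeparatedSpace Xb]
    (h : Y ⟶ X) (p : Xb ⟶ X) (hb : Yb ⟶ Xb) (pY : Yb ⟶ Y) (sq : IsPullback hb pY p h) :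
    ((∀ F : EtDesc.Sh X, Function.Injective (EtDesc.secPull h F)) →
      (∀ Fb : EtDesc.Sh Xb, Mono (EtBC.baseChange0Sh p h pY hb sq.w Fb)) →
      ∀ Fb : EtDesc.Sh Xb, Function.Injective (EtDesc.secPull hb Fb)) ∧
    ((∀ F : EtDesc.Sh X, Function.Bijective (EtDesc.secPull h F)) →
      (∀ Fb : EtDesc.Sh Xb, IsIso (EtBC.baseChange0Sh p h pY hb sq.w Fb)) →
      ∀ Fb : EtDesc.Sh Xb, Function.Bijective (EtDesc.secPull hb Fb)) := by
  have hinjGen : ∀ Fb : EtDesc.Sh Xb,
      Function.Injective (EtDesc.secPull h ((EtDesc.pushSh p).obj Fb)) →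
      Function.Injective ((EtBC.baseChange0Sh p h pY hb sq.w Fb).hom.app (op (EtCoh.top Y))) →
      Function.Injective (EtDesc.secPull hb Fb) := by
    intro Fb h1 h2 s t hst
    obtain ⟨η, rfl⟩ := (Groth.Agent.H67.SecDesc.theta_bijective p Fb).2 s
    obtain ⟨η', rfl⟩ := (Groth.Agent.H67.SecDesc.theta_bijective p Fb).2 t
    rw [← Groth.Agent.H67.SecDesc.key h p hb pY sq.w, ← Groth.Agent.H67.SecDesc.key h p hb pY sq.w] at hst
    have e1 := (Groth.Agent.H67.SecDesc.theta_bijective pY _).1 hst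
    have e2 := h1 (h2 e1)
    rw [e2]
  refine ⟨fun hinj hmono Fb => ?_, fun hbij hiso Fb => ?_⟩
  · haveI := hmono Fb
    exact hinjGen Fb (hinj _)
      (Groth.Agent.S8542.injective_of_mono (EtBC.baseChange0Sh p h pY hb sq.w Fb) (EtCoh.top Y))
  · haveI := hiso Fb
    have hbcbij : Function.Bijective
        ((EtBC.baseChange0Sh p h pY hb sq.w Fb).hom.app (op (EtCoh.top Y))) := by
      let E : EtDesc.Sh Y ⥤ Type (u + 1) :=
        sheafToPresheaf Y.smallEtaleTopology (Type (u + 1)) ⋙ (evaluation _ _).obj (op (EtCoh.top Y))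
      haveI : IsIso (E.map (EtBC.baseChange0Sh p h pY hb sq.w Fb)) := inferInstance
      exact (isIso_iff_bijective (E.map (EtBC.baseChange0Sh p h pY hb sq.w Fb))).1 inferInstance
    refine ⟨hinjGen Fb (hbij _).1 hbcbij.1, fun ξ => ?_⟩
    obtain ⟨ζ, rfl⟩ := (Groth.Agent.H67.SecDesc.theta_bijective pY _).2 ξ
    obtain ⟨ζ', rfl⟩ := hbcbij.2 ζ
    obtain ⟨η, rfl⟩ := (hbij _).2 ζ'
    exact ⟨_, (Groth.Agent.H67.SecDesc.key h p hb pY sq.w Fb η).symm⟩

end Groth.Agent.S8547
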