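import Groth.Statements.S8565
import Mathlib
import Groth.Agent.S6800
import Groth.Agent.H92.CoskHomotopy

set_option autoImplicit false
open CategoryTheory CategoryTheory.Limits Opposite
universe v u
open Hyper

namespace Groth.Agent.S8565

/-- Let E be a category with finite limits, n a natural number and f, g : X ⟶ X' two morphisms of
simplicial objects of E whose components agree in every degree p < n. Then there is a simplicial
homotopy between the morphisms cosk_n(f) and cosk_n(g) of n-coskeleta (cosk_n = right Kan extension
of the n-truncation; Mathlib's combinatorial simplicial homotopies). For n = 0 the hypothesis is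
empty. -/
theorem result {E : Type u} [Category.{v} E] [HasFiniteLimits E] (n : ℕ)
    [∀ (F : (SimplexCategory.Truncated n)ᵒᵖ ⥤ E), (SimplexCategory.Truncated.inclusion n).op.HasRightKanExtension F]
    {X X' : SimplicialObject E} (f g : X ⟶ X')
    (hfg : ∀ p : ℕ, p < n → f.app (op (SimplexCategory.mk p)) = g.app (op (SimplexCategory.mk p))) :
    Nonempty (SimplicialObject.Homotopy ((SimplicialObject.cosk n).map f) ((SimplicialObject.cosk n).map g)) := by
  have hpw : ∀ F : (SimplexCategory.Truncated n)ᵒᵖ ⥤ E,
      (SimplexCategory.Truncated.inclusion n).op.HasPointwiseRightKanExtension F :=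
    fun F => Groth.Agent.S6800.result n F
  let α : Groth.Agent.H92.CoskHomotopy.Lf n ⋙ (SimplicialObject.cosk n).obj X ⟶
      Groth.Agent.H92.CoskHomotopy.Lf n ⋙ X :=
    (SimplicialObject.coskAdj n).counit.app ((SimplicialObject.truncation n).obj X)
  let α' : Groth.Agent.H92.CoskHomotopy.Lf n ⋙ (SimplicialObject.cosk n).obj X' ⟶
      Groth.Agent.H92.CoskHomotopy.Lf n ⋙ X' :=
    (SimplicialObject.coskAdj n).counit.app ((SimplicialObject.truncation n).obj X')
  have hKan : ((SimplicialObject.cosk n).obj X').IsRightKanExtension α' := by
    show ((SimplicialObject.cosk n).obj X').IsRightKanExtension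
      ((SimplicialObject.coskAdj n).counit.app ((SimplicialObject.truncation n).obj X'))
    infer_instance
  have hP' := Functor.isPointwiseRightKanExtensionOfIsRightKanExtension
    ((SimplicialObject.cosk n).obj X') α'
  have hnat : ∀ (φ : X ⟶ X') (x : (SimplexCategory.Truncated n)ᵒᵖ),
      ((SimplicialObject.cosk n).map φ).app ((Groth.Agent.H92.CoskHomotopy.Lf n).obj x) ≫ α'.app x =
        α.app x ≫ φ.app ((Groth.Agent.H92.CoskHomotopy.Lf n).obj x) := by
    intro φ x
    exact NatTrans.congr_app ((SimplicialObject.coskAdj n).counit.naturality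
      ((SimplicialObject.truncation n).map φ)) x
  exact ⟨Groth.Agent.H92.CoskHomotopy.homotopy f g hfg α α' hP' _ _ (hnat f) (hnat g)⟩

end Groth.Agent.S8565
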