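import Groth.Statements.S8567
import Groth.Agent.H67.SpecClosedAb

set_option autoImplicit false
open CategoryTheory TopologicalSpace Opposite
universe u
open CohTop

namespace Groth.Agent.S8567

/-- Let X be a topological space, K ⊆ X a compact subset such that any two distinct points of K have
disjoint neighbourhoods in X, and F a flasque abelian sheaf on X. Then the inverse image F|K of F on
the subspace K is a soft sheaf: for every closed subset A of K, every section of (F|K)|A over A is
the restriction of a section of F|K over K (the restriction map is the unit of the inverse image /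
direct image adjunction for the inclusion A → K, taken on global sections). -/
theorem result {X : TopCat.{u}} {K : Set X} (hK : IsCompact K)
    (hsep : ∀ x ∈ K, ∀ y ∈ K, x ≠ y → ∃ U V : Set X, IsOpen U ∧ IsOpen V ∧ x ∈ U ∧ y ∈ V ∧ Disjoint U V)
    (F : CohTop.Ab X) [TopCat.Sheaf.IsFlasque F] {A : Set K} (hA : IsClosed A) :
    Function.Surjective
      ((((TopCat.Sheaf.pullbackPushforwardAdjunction AddCommGrpCat.{u}
        (TopCat.ofHom ⟨((↑) : A → K), continuous_subtype_val⟩ : TopCat.of A ⟶ TopCat.of K)).unit.app
        ((CohTop.pull (TopCat.ofHom ⟨((↑) : K → X), continuous_subtype_val⟩ : TopCat.of K ⟶ X)).obj F)).hom.app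
        (op ⊤)).hom) := by
  let j : TopCat.of K ⟶ X := TopCat.ofHom ⟨((↑) : K → X), continuous_subtype_val⟩
  let a : TopCat.of A ⟶ TopCat.of K := TopCat.ofHom ⟨((↑) : A → K), continuous_subtype_val⟩
  let adjK := TopCat.Sheaf.pullbackPushforwardAdjunction AddCommGrpCat.{u} j
  let adjA := TopCat.Sheaf.pullbackPushforwardAdjunction AddCommGrpCat.{u} a
  let adj : TopCat.Sheaf.pullback AddCommGrpCat.{u} j ⋙ TopCat.Sheaf.pullback AddCommGrpCat.{u} a ⊣
      TopCat.Sheaf.pushforward AddCommGrpCat.{u} (a ≫ j) := adjK.comp adjA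
  have hi : Topology.IsInducing (a ≫ j) :=
    Topology.IsInducing.subtypeVal.comp Topology.IsInducing.subtypeVal
  have hrange : Set.range (a ≫ j) ⊆ K := by
    rintro _ ⟨x, rfl⟩
    exact x.1.2
  have : CompactSpace K := isCompact_iff_compactSpace.mp hK
  have : CompactSpace A := isCompact_iff_compactSpace.mp hA.isCompact
  have hS : IsCompact (Set.range (a ≫ j)) := isCompact_range (TopCat.Hom.hom (a ≫ j)).continuous
  have hsurj := Groth.Agent.H67.SpecClosedAb.unit_app_top_surjective (a ≫ j) adj F hi hS
    (fun x hx y hy hne => hsep x (hrange hx) y (hrange hy) hne)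
  intro t
  obtain ⟨s, hs⟩ := hsurj t
  have hcomp : adj.unit.app F = adjK.unit.app F ≫
      (TopCat.Sheaf.pushforward AddCommGrpCat.{u} j).map (adjA.unit.app _) :=
    Adjunction.comp_unit_app adjK adjA F
  refine ⟨(adjK.unit.app F).hom.app (op ⊤) s, ?_⟩
  rw [hcomp] at hs
  exact hs

end Groth.Agent.S8567
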