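import Groth.Statements.S8569
import Groth.Agent.S6127
import Mathlib.CategoryTheory.Functor.Currying
import Mathlib.CategoryTheory.Adjunction.Whiskering
import Mathlib.CategoryTheory.Adjunction.Reflective
import Mathlib.CategoryTheory.Limits.Preserves.FunctorCategory
import Mathlib.CategoryTheory.Sites.LeftExact
import Mathlib.CategoryTheory.Adjunction.Limits

set_option autoImplicit false
open CategoryTheory
universe v u
open SGA4

namespace Groth.Agent.S8569

/-- Let E be a topos (a category equivalent to the category of sheaves of sets on a small site, for the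
universe u) and D a u-small category. Then the category of functors D ⥤ E, which is the category of
sections of the constant D-topos with value E, is a topos. (The published statement is for an
arbitrary D-topos, i.e. a category bifibred in topoi over D; this row is the case of a constant
one.) -/
theorem result {E : Type v} [Category.{u} E] (hE : SGA4.IsTopos E)
    (D : Type u) [SmallCategory D] : SGA4.IsTopos (D ⥤ E) := by
  obtain ⟨C, _, J, ⟨e⟩⟩ := hE
  -- the site category
  let e₁ : (D ⥤ Cᵒᵖ ⥤ Type u) ≌ (((D × Cᵒᵖ)ᵒᵖ)ᵒᵖ ⥤ Type u) :=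
    Functor.currying.trans (opOpEquivalence (D × Cᵒᵖ)).congrLeft.symm
  let R₀ : (D ⥤ Sheaf J (Type u)) ⥤ (D ⥤ Cᵒᵖ ⥤ Type u) :=
    (Functor.whiskeringRight D _ _).obj (sheafToPresheaf J (Type u))
  let L₀ : (D ⥤ Cᵒᵖ ⥤ Type u) ⥤ (D ⥤ Sheaf J (Type u)) :=
    (Functor.whiskeringRight D _ _).obj (presheafToSheaf J (Type u))
  let adj₀ : L₀ ⊣ R₀ := (sheafificationAdjunction J (Type u)).whiskerRight D
  let R' : (D ⥤ Sheaf J (Type u)) ⥤ (((D × Cᵒᵖ)ᵒᵖ)ᵒᵖ ⥤ Type u) := R₀ ⋙ e₁.functor
  let L' : (((D × Cᵒᵖ)ᵒᵖ)ᵒᵖ ⥤ Type u) ⥤ (D ⥤ Sheaf J (Type u)) := e₁.inverse ⋙ L₀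
  let adj' : L' ⊣ R' := e₁.symm.toAdjunction.comp adj₀
  haveI : R₀.Full := inferInstance
  haveI : R₀.Faithful := inferInstance
  haveI : R'.Full := inferInstance
  haveI : R'.Faithful := inferInstance
  letI refl' : Reflective R' := { L := L', adj := adj' }
  haveI lexL₀ : Limits.PreservesFiniteLimits L₀ := ⟨fun K _ _ => inferInstance⟩
  haveI lexL' : Limits.PreservesFiniteLimits (reflector R') := by
    show Limits.PreservesFiniteLimits (e₁.inverse ⋙ L₀)
    infer_instance
  -- the reflective subcategory of presheaves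
  let P : ObjectProperty (((D × Cᵒᵖ)ᵒᵖ)ᵒᵖ ⥤ Type u) := R'.essImage
  let eqv : (D ⥤ Sheaf J (Type u)) ≌ P.FullSubcategory := equivEssImageOfReflective (i := R')
  let isoι : P.ι ≅ (P.ι ⋙ reflector R') ⋙ R' :=
    NatIso.ofComponents (fun X => asIso ((reflectorAdjunction R').unit.app X.obj))
      (fun f => (reflectorAdjunction R').unit.naturality f.hom)
  let adjP : reflector R' ⋙ R'.toEssImage ⊣ P.ι :=
    ((reflectorAdjunction R').comp eqv.toAdjunction).ofNatIsoRight isoι.symm
  letI reflP : Reflective P.ι := { L := reflector R' ⋙ R'.toEssImage, adj := adjP }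
  haveI : R'.toEssImage.IsEquivalence := {}
  haveI lexP : Limits.PreservesFiniteLimits (reflector P.ι) := by
    show Limits.PreservesFiniteLimits (reflector R' ⋙ R'.toEssImage)
    infer_instance
  obtain ⟨J', -, h2⟩ := Groth.Agent.S6127.result P
  have hP : P = Presheaf.IsSheaf J' := by
    funext F
    exact propext ((h2 F).trans (isSheaf_iff_isSheaf_of_type J' F).symm)
  refine ⟨(D × Cᵒᵖ)ᵒᵖ, inferInstance, J', ?_⟩
  show Nonempty ((D ⥤ E) ≌ ObjectProperty.FullSubcategory (Presheaf.IsSheaf J' (A := Type u)))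
  rw [← hP]
  exact ⟨e.congrRight.trans eqv⟩

end Groth.Agent.S8569
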