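import Groth.Statements.S8580
-- import your own Groth.Agent.* helpers here
import Groth.Prelude.Def_EtCore
import Groth.Agent.H5.Desc.TwoPage
import Groth.Agent.H5.Desc.ExtRetract
import Groth.Agent.H45.EtPullExact

set_option autoImplicit false
open CategoryTheory CategoryTheory.Limits AlgebraicGeometry
universe u
open EtDesc

namespace Groth.Agent.S8580

open Groth.Agent.H5.Desc

theorem isIso_fst_id {X : Scheme.{u}} (A : X.Etale) : IsIso (pullback.fst A.hom (𝟙 X)) := by
  change IsIso (pullback.fst (A.hom : A.left ⟶ X) (𝟙 X))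
  infer_instance

set_option backward.isDefEq.respectTransparency.types false in
set_option backward.isDefEq.respectTransparency false in
/-- Base change along the identity is the identity. -/
noncomputable def bcId (X : Scheme.{u}) : EtCoh.bc (𝟙 X) ≅ 𝟭 X.Etale :=
  NatIso.ofComponents
    (fun A => MorphismProperty.Over.isoMk (@asIso _ _ _ _ (pullback.fst A.hom (𝟙 X)) (isIso_fst_id A))
      (by
        have := pullback.condition (f := A.hom) (g := 𝟙 X)
        simp only [Category.comp_id] at this
        exact this))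
    (by
      intro A B g
      apply MorphismProperty.Over.Hom.ext
      rw [MorphismProperty.Comma.comp_left, MorphismProperty.Comma.comp_left]
      simp [EtCoh.bc])

noncomputable def pushId (X : Scheme.{u}) : EtCoh.push (𝟙 X) ≅ 𝟭 (EtCoh.Ab X) :=
  Functor.sheafPushforwardContinuousId' (bcId X) AddCommGrpCat.{u + 1} X.smallEtaleTopology

noncomputable def pullId (X : Scheme.{u}) : EtCoh.pull (𝟙 X) ≅ 𝟭 (EtCoh.Ab X) :=
  (EtCoh.pullPushAdj (𝟙 X)).leftAdjointUniq (Adjunction.id.ofNatIsoRight (pushId X).symm)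

/-- Cohomology is a retract along the inverse image by a morphism admitting a section. -/
theorem exists_split_mono_et {Z Z' : Scheme.{u}} (g : Z' ⟶ Z) (σ : Z ⟶ Z') (hσ : σ ≫ g = 𝟙 Z)
    (M : EtCoh.Ab Z) (N : EtCoh.Ab Z') (m : N ≅ (EtCoh.pull g).obj M) (q : ℕ) :
    ∃ (ι : AddCommGrpCat.of (EtCoh.H Z M q) ⟶ AddCommGrpCat.of (EtCoh.H Z' N q))
      (ρ : AddCommGrpCat.of (EtCoh.H Z' N q) ⟶ AddCommGrpCat.of (EtCoh.H Z M q)), ι ≫ ρ = 𝟙 _ := by
  haveI := Groth.Agent.H45.preservesFiniteLimits_pullAb g
  haveI := Groth.Agent.H45.preservesFiniteLimits_pullAb σ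
  have i : EtCoh.pull g ⋙ EtCoh.pull σ ≅ 𝟭 _ :=
    (EtCore.pullComp σ g).symm ≪≫ EtCore.pullCongr hσ ≪≫ pullId Z
  exact exists_split_mono (F₁ := EtCoh.pull g) (F₂ := EtCoh.pull σ) i _ M _ N
    ((EtCore.pullConstIso g).app _).symm m q

section Spaces

variable {X S : Scheme.{u}} (f : X ⟶ S)

/-- The `(p+1)`-fold fibre product. -/
noncomputable abbrev Xp (p : ℕ) : Scheme.{u} := widePullback S (fun _ : Fin (p + 1) => X) (fun _ => f)

/-- Its projection to the base. -/
noncomputable abbrev bp (p : ℕ) : Xp f p ⟶ S := WidePullback.base (fun _ : Fin (p + 1) => f)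

/-- Forget the last coordinate. -/
noncomputable def pr (p : ℕ) : Xp f (p + 1) ⟶ Xp f p :=
  WidePullback.lift (bp f (p + 1))
    (fun i => WidePullback.π (fun _ : Fin (p + 1 + 1) => f) i.castSucc) (by intro i; simp)

theorem pr_bp (p : ℕ) : pr f p ≫ bp f p = bp f (p + 1) :=
  WidePullback.lift_base _ _ _ _

variable (s : S ⟶ X) (hs : s ≫ f = 𝟙 S)

/-- Insert `s (f x)` as last coordinate. -/
noncomputable def sec (p : ℕ) : Xp f p ⟶ Xp f (p + 1) :=
  WidePullback.lift (bp f p)
    (fun i => Fin.lastCases (bp f p ≫ s) (fun j => WidePullback.π (fun _ : Fin (p + 1) => f) j) i)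
    (by
      intro i
      refine Fin.lastCases ?_ (fun j => ?_) i
      · rw [Fin.lastCases_last, Category.assoc, hs, Category.comp_id]
      · rw [Fin.lastCases_castSucc, WidePullback.π_arrow])

theorem sec_pr (p : ℕ) : sec f s hs p ≫ pr f p = 𝟙 _ := by
  apply WidePullback.hom_ext
  · intro j
    rw [Category.assoc, Category.id_comp]
    unfold pr
    rw [WidePullback.lift_π]
    unfold sec
    rw [WidePullback.lift_π, Fin.lastCases_castSucc]
  · rw [Category.assoc, Category.id_comp]
    have h1 : pr f p ≫ WidePullback.base (fun _ : Fin (p + 1) => f) = bp f (p + 1) := pr_bp f p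
    rw [h1]
    exact WidePullback.lift_base _ _ _ _

/-- The section of `X₀ → S`. -/
noncomputable def sec0 : S ⟶ Xp f 0 :=
  WidePullback.lift (𝟙 S) (fun _ => s) (by intro i; simp [hs])

theorem sec0_bp : sec0 f s hs ≫ bp f 0 = 𝟙 S :=
  WidePullback.lift_base _ _ _ _

variable (F : EtCoh.Ab S)

include s hs in
theorem exists_split_succ (p q : ℕ) :
    ∃ (ι : AddCommGrpCat.of (EtCoh.H (Xp f p) ((EtCoh.pull (bp f p)).obj F) q) ⟶
        AddCommGrpCat.of (EtCoh.H (Xp f (p + 1)) ((EtCoh.pull (bp f (p + 1))).obj F) q))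
      (ρ : AddCommGrpCat.of (EtCoh.H (Xp f (p + 1)) ((EtCoh.pull (bp f (p + 1))).obj F) q) ⟶
        AddCommGrpCat.of (EtCoh.H (Xp f p) ((EtCoh.pull (bp f p)).obj F) q)), ι ≫ ρ = 𝟙 _ :=
  exists_split_mono_et (pr f p) (sec f s hs p) (sec_pr f s hs p) _ _
    (((EtCore.pullCongr (pr_bp f p).symm).app F) ≪≫
      ((EtCore.pullComp (pr f p) (bp f p)).app F)) q

include s hs in
theorem exists_split_zero (q : ℕ) :
    ∃ (ι : AddCommGrpCat.of (EtCoh.H S F q) ⟶
        AddCommGrpCat.of (EtCoh.H (Xp f 0) ((EtCoh.pull (bp f 0)).obj F) q))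
      (ρ : AddCommGrpCat.of (EtCoh.H (Xp f 0) ((EtCoh.pull (bp f 0)).obj F) q) ⟶
        AddCommGrpCat.of (EtCoh.H S F q)), ι ≫ ρ = 𝟙 _ :=
  exists_split_mono_et (bp f 0) (sec0 f s hs) (sec0_bp f s hs) _ _ (Iso.refl _) q

/-- The split tower of cohomology groups in degree `q`. -/
noncomputable def tower (q : ℕ) : SplitTower AddCommGrpCat.{u + 1} where
  G p := AddCommGrpCat.of (EtCoh.H (Xp f p) ((EtCoh.pull (bp f p)).obj F) q)
  ι p := (exists_split_succ f s hs F p q).choose
  ρ p := (exists_split_succ f s hs F p q).choose_spec.choose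
  ι_ρ p := (exists_split_succ f s hs F p q).choose_spec.choose_spec
  H := AddCommGrpCat.of (EtCoh.H S F q)
  j := (exists_split_zero f s hs F q).choose
  r := (exists_split_zero f s hs F q).choose_spec.choose
  j_r := (exists_split_zero f s hs F q).choose_spec.choose_spec

end Spaces

theorem isZero_punit : IsZero (AddCommGrpCat.of PUnit.{u + 2}) :=
  AddCommGrpCat.isZero_of_subsingleton _

/-- The zero tower. -/
noncomputable def zeroTower : SplitTower AddCommGrpCat.{u + 1} where
  G _ := AddCommGrpCat.of PUnit.{u + 2}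
  ι _ := 0
  ρ _ := 0
  ι_ρ _ := isZero_punit.eq_of_src _ _
  H := AddCommGrpCat.of PUnit.{u + 2}
  j := 0
  r := 0
  j_r := isZero_punit.eq_of_src _ _


/-- In the setting of schemes and abelian sheaves on their small etale sites (where every morphism is
flat for the inverse image of sheaves), let f : X → Y be a morphism of schemes with a section s, s
followed by f being the identity, and F any abelian sheaf on the small etale site of Y. Then f is of
universal cohomological descent, and the descent spectral sequence reads, in existence form: there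
is a bounded spectral sequence of abelian groups starting at page one with E_1^{p,q} isomorphic, for
p, q ≥ 0, to the etale cohomology group H^q(X_p, F|X_p), where X_p is the (p+1)-fold fibre product
of X over Y and F|X_p the inverse image of F along its projection to Y, and zero otherwise, together
with abutment data whose filtrations are finite on H^n(Y_et, F) for n ≥ 0 (zero for n < 0). (The E_1
identifications and the abutment isomorphisms are asserted to exist only; the differentials are not
part of this statement.) -/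
theorem result {X Y : Scheme.{u}} (f : X ⟶ Y) (s : Y ⟶ X)
    (hs : s ≫ f = 𝟙 Y) (F : EtCoh.Ab Y) :
    ∃ (E : CohomologicalSpectralSequence AddCommGrpCat.{u + 1} 1)
      (a : SpSeq.Abutment E (fun n : ℤ =>
        if 0 ≤ n then AddCommGrpCat.of (EtCoh.H Y F n.toNat) else AddCommGrpCat.of PUnit.{u + 2})),
      (∀ n, a.IsFinite n) ∧ SpSeq.IsBounded E ∧
      ∀ p q : ℤ, Nonempty ((E.page 1 le_rfl).X (p, q) ≅
        (if 0 ≤ p ∧ 0 ≤ q then
          AddCommGrpCat.of (EtCoh.H (widePullback Y (fun _ : Fin (p.toNat + 1) => X) (fun _ => f))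
            ((EtCoh.pull (WidePullback.base (fun _ : Fin (p.toNat + 1) => f) :
              widePullback Y (fun _ : Fin (p.toNat + 1) => X) (fun _ => f) ⟶ Y)).obj F) q.toNat)
         else AddCommGrpCat.of PUnit.{u + 2})) := by
  let T : ℤ → SplitTower AddCommGrpCat.{u + 1} := fun q =>
    if 0 ≤ q then tower f s hs F q.toNat else zeroTower
  have hTpos : ∀ q : ℤ, 0 ≤ q → T q = tower f s hs F q.toNat := fun q h => if_pos h
  have hTneg : ∀ q : ℤ, ¬ 0 ≤ q → T q = zeroTower := fun q h => if_neg h
  obtain ⟨E, a, hfin, hbdd, hE⟩ := exists_ss (fun q => (T q).cx)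
    (fun n : ℤ =>
      if 0 ≤ n then AddCommGrpCat.of (EtCoh.H Y F n.toNat) else AddCommGrpCat.of PUnit.{u + 2})
    (fun q p hp => (T q).cx_exactAt p hp)
    (fun q => by
      by_cases h : 0 ≤ q
      · refine ⟨(T q).cxHomologyZeroIso ≪≫ eqToIso ?_⟩
        rw [hTpos q h, if_pos h]
        rfl
      · refine ⟨(T q).cxHomologyZeroIso ≪≫ eqToIso ?_⟩
        rw [hTneg q h, if_neg h]
        rfl)
    (fun q p hp => (T q).isZero_cx_X p hp)
    (fun q p hq => by
      apply SplitTower.isZero_cx_X_of_isZero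
      intro n
      rw [hTneg q (by omega)]
      exact isZero_punit)
  refine ⟨E, a, hfin, hbdd, fun p q => ?_⟩
  obtain ⟨e⟩ := hE p q
  by_cases h : 0 ≤ p ∧ 0 ≤ q
  · rw [if_pos h]
    have hp' : p = (p.toNat : ℤ) := (Int.toNat_of_nonneg h.1).symm
    refine ⟨e ≪≫ eqToIso (congrArg (fun k => (T q).cx.X k) hp') ≪≫ (T q).cxXIso p.toNat ≪≫
      eqToIso ?_⟩
    rw [hTpos q h.2]
    rfl
  · rw [if_neg h]
    refine ⟨e ≪≫ IsZero.iso ?_ isZero_punit⟩
    by_cases hq : 0 ≤ q
    · exact (T q).isZero_cx_X p (by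
        by_contra hcon
        exact h ⟨by omega, hq⟩)
    · apply SplitTower.isZero_cx_X_of_isZero
      intro n
      rw [hTneg q hq]
      exact isZero_punit

end Groth.Agent.S8580
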