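import Groth.Statements.S8591
import Groth.Agent.H43.DetAeval
import Mathlib.LinearAlgebra.Charpoly.ToMatrix

set_option autoImplicit false
universe u
open CAlg

namespace Groth.Agent.S8591

open Groth.Agent.H43 Polynomial in
/-- Let k be a commutative ring, M a finite free k-module, u an endomorphism of M with characteristic
polynomial χ, and P a polynomial over k. Then the norm, from the k-algebra k[T]/(χ) (free of rank
the rank of M) down to k, of the class of P(T) equals det(P(u)). (The published statement writes the
quotient by det(u - T), which generates the same ideal as χ(T) = det(T - u).) -/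
theorem result (k : Type u) [CommRing k] (M : Type u) [AddCommGroup M] [Module k M]
    [Module.Free k M] [Module.Finite k M] (u : M →ₗ[k] M) (P : Polynomial k) :
    Algebra.norm k (AdjoinRoot.mk u.charpoly P) = LinearMap.det (Polynomial.aeval u P) := by
  classical
  let b := Module.Free.chooseBasis k M
  have hmon : u.charpoly.Monic := LinearMap.charpoly_monic u
  let pb := AdjoinRoot.powerBasis' hmon
  rw [Algebra.norm_eq_matrix_det pb.basis, ← AdjoinRoot.aeval_eq,
    ← Polynomial.aeval_algHom_apply (Algebra.leftMulMatrix pb.basis),
    ← LinearMap.det_toMatrix b]
  have h2 : LinearMap.toMatrix b b (aeval u P) = aeval (LinearMap.toMatrix b b u) P := by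
    have := Polynomial.aeval_algHom_apply (LinearMap.toMatrixAlgEquiv b).toAlgHom u P
    exact this.symm
  rw [h2]
  apply det_aeval_eq_of_charpoly_eq
  rw [LinearMap.charpoly_toMatrix]
  have : AdjoinRoot.root u.charpoly = pb.gen := rfl
  rw [this, charpoly_leftMulMatrix pb]
  exact minpoly_root_of_monic hmon

end Groth.Agent.S8591
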