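import Groth.Statements.S8597
import Groth.Agent.S8596

set_option autoImplicit false
universe u
open CategoryTheory CategoryTheory.Limits
open CAlg

namespace Groth.Agent.S8597

open MonoidalCategory TensorProduct
open Groth.Agent.H10.FlatDescent Groth.Agent.H82.LDer Groth.Agent.H82.TorLib
  Groth.Agent.H82.TorFlat
open Groth.Agent.S8596 (isZero_tor_flat flat_of_PP iota)

section Lib

variable {A : Type u} [CommRing A]

/-- Abstract biproduct chase. -/
theorem bij_of_biprod {P M' F' N' K : Type*} [AddCommGroup P] [Module A P] [AddCommGroup M']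
    [Module A M'] [AddCommGroup F'] [Module A F'] [AddCommGroup N'] [Module A N']
    [AddCommGroup K] [Module A K]
    (i₁ : M' →ₗ[A] P) (i₂ : F' →ₗ[A] P) (p₁ : P →ₗ[A] M') (p₂ : P →ₗ[A] F')
    (h21 : ∀ m, p₂ (i₁ m) = 0) (h22 : ∀ f, p₂ (i₂ f) = f)
    (hsum : ∀ z, i₁ (p₁ z) + i₂ (p₂ z) = z)
    (v : P →ₗ[A] N') (j : K →ₗ[A] P) (hj : Function.Injective j) (hex : Function.Exact j v)
    (u₀ : M' →ₗ[A] N') (hu : Function.Bijective u₀) (hu₀ : ∀ m, v (i₁ m) = u₀ m) :
    Function.Bijective (p₂ ∘ₗ j) := by
  constructor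
  · rw [injective_iff_map_eq_zero]
    intro x hx
    have hx' : p₂ (j x) = 0 := hx
    have hv : v (j x) = 0 := hex.apply_apply_eq_zero x
    have hz : j x = i₁ (p₁ (j x)) := by
      have h3 := hsum (j x)
      rw [hx', map_zero, add_zero] at h3
      exact h3.symm
    have h0 : u₀ (p₁ (j x)) = 0 := by rw [← hu₀, ← hz, hv]
    have h1 : p₁ (j x) = 0 := hu.injective (h0.trans (map_zero u₀).symm)
    have h2 : j x = 0 := by rw [hz, h1, map_zero]
    exact hj (h2.trans (map_zero j).symm)
  · intro y
    obtain ⟨w, hw⟩ := hu.surjective (-(v (i₂ y)))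
    have hz : v (i₁ w + i₂ y) = 0 := by rw [map_add, hu₀, hw, neg_add_cancel]
    obtain ⟨x, hx⟩ := (hex _).mp hz
    refine ⟨x, ?_⟩
    show p₂ (j x) = y
    rw [hx, map_add, h21, h22, zero_add]

/-- `Tor₀(X, f)` iso gives `X ⊗ f` bijective. -/
theorem lTensor_bijective_of_isIso (X : ModuleCat.{u} A) {M N : ModuleCat.{u} A} (f : M ⟶ N)
    (h : IsIso (((Tor (ModuleCat.{u} A) 0).obj X).map f)) :
    Function.Bijective (f.hom.lTensor X) := by
  let e : (Tor (ModuleCat.{u} A) 0).obj X ≅ tensorLeft X := (tensorLeft X).leftDerivedZeroIsoSelf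
  have hn : ((Tor (ModuleCat.{u} A) 0).obj X).map f ≫ e.hom.app N = e.hom.app M ≫ X ◁ f :=
    e.hom.naturality f
  have h2 : X ◁ f = e.inv.app M ≫ ((Tor (ModuleCat.{u} A) 0).obj X).map f ≫ e.hom.app N := by
    rw [hn, Iso.inv_hom_id_app_assoc]
  have h3 : IsIso (X ◁ f) := by
    rw [h2]
    have h4 : IsIso (e.hom.app N) := inferInstance
    have h5 : IsIso (e.inv.app M) := inferInstance
    have h6 : IsIso (((Tor (ModuleCat.{u} A) 0).obj X).map f ≫ e.hom.app N) :=
      IsIso.comp_isIso
    exact IsIso.comp_isIso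
  exact (ConcreteCategory.isIso_iff_bijective (X ◁ f)).mp h3

/-- If `Tor₁(X, S.g)` is an epimorphism then `X ⊗ S.f` is a monomorphism. -/
theorem mono_whiskerLeft_of_epi_tor_one (X : ModuleCat.{u} A)
    (S : ShortComplex (ModuleCat.{u} A)) (hS : S.ShortExact)
    (h : Epi (((Tor (ModuleCat.{u} A) 1).obj X).map S.g)) : Mono (X ◁ S.f) := by
  obtain ⟨-, -, δ, w₁, w₂, e1, e2⟩ := hasLES_tor X S hS 0
  have hδ : δ = 0 :=
    (cancel_epi (((Tor (ModuleCat.{u} A) 1).obj X).map S.g)).mp (w₁.trans comp_zero.symm)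
  have hm : Mono (((Tor (ModuleCat.{u} A) 0).obj X).map S.f) := e2.mono_g hδ
  let e : (Tor (ModuleCat.{u} A) 0).obj X ≅ tensorLeft X := (tensorLeft X).leftDerivedZeroIsoSelf
  have hn : ((Tor (ModuleCat.{u} A) 0).obj X).map S.f ≫ e.hom.app S.X₂ =
      e.hom.app S.X₁ ≫ X ◁ S.f := e.hom.naturality S.f
  have h2 : X ◁ S.f = e.inv.app S.X₁ ≫ ((Tor (ModuleCat.{u} A) 0).obj X).map S.f ≫
      e.hom.app S.X₂ := by
    rw [hn, Iso.inv_hom_id_app_assoc]
  rw [h2]
  have h4 : Mono (e.hom.app S.X₂) := IsIso.mono_of_iso _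
  have h5 : Mono (e.inv.app S.X₁) := IsIso.mono_of_iso _
  have h3 : Mono (((Tor (ModuleCat.{u} A) 0).obj X).map S.f ≫ e.hom.app S.X₂) :=
    mono_comp _ _
  exact mono_comp _ _

/-- Vanishing of `Tor` of the kernel. -/
theorem isZero_tor_ker (X : ModuleCat.{u} A) (S : ShortComplex (ModuleCat.{u} A))
    (hS : S.ShortExact) (i : ℕ)
    (h1 : Epi (((Tor (ModuleCat.{u} A) (i + 1 + 1)).obj X).map S.g))
    (h2 : Mono (((Tor (ModuleCat.{u} A) (i + 1)).obj X).map S.g)) :
    IsZero (((Tor (ModuleCat.{u} A) (i + 1)).obj X).obj S.X₁) := by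
  obtain ⟨h0, -, δ, w₁, w₂, e1, e2⟩ := hasLES_tor X S hS (i + 1)
  have hδ : δ = 0 :=
    (cancel_epi (((Tor (ModuleCat.{u} A) (i + 1 + 1)).obj X).map S.g)).mp
      (w₁.trans comp_zero.symm)
  have hf : ((Tor (ModuleCat.{u} A) (i + 1)).obj X).map S.f = 0 :=
    (cancel_mono (((Tor (ModuleCat.{u} A) (i + 1)).obj X).map S.g)).mp
      (h0.trans zero_comp.symm)
  exact e2.isZero_of_both_zeros hδ hf

variable {M N F : Type u} [AddCommGroup M] [Module A M] [AddCommGroup N] [Module A N]
  [AddCommGroup F] [Module A F]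

/-- Adding a flat summand to the source does not change higher `Tor` maps being isomorphisms. -/
theorem isIso_tor_map_coprod (X : ModuleCat.{u} A) (j : ℕ) (u : M →ₗ[A] N) (π : F →ₗ[A] N)
    [Module.Flat A F]
    (hu : IsIso (((Tor (ModuleCat.{u} A) (j + 1)).obj X).map (ModuleCat.ofHom u))) :
    IsIso (((Tor (ModuleCat.{u} A) (j + 1)).obj X).map (ModuleCat.ofHom (u.coprod π))) := by
  have hS₀ := shortExact_of (LinearMap.inr A M F) (LinearMap.fst A M F) LinearMap.inr_injective
    LinearMap.fst_surjective Function.Exact.inr_fst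
  obtain ⟨h0, h1, -⟩ := hasLES_tor X _ hS₀ (j + 1)
  have hz : IsZero (((Tor (ModuleCat.{u} A) (j + 1)).obj X).obj (ModuleCat.of A F)) :=
    isZero_tor_flat X F j
  have hm : Mono (((Tor (ModuleCat.{u} A) (j + 1)).obj X).map
      (ModuleCat.ofHom (LinearMap.fst A M F))) := (h1 h0).mono_g (hz.eq_of_src _ _)
  have hab : ((Tor (ModuleCat.{u} A) (j + 1)).obj X).map (ModuleCat.ofHom (LinearMap.inl A M F)) ≫
      ((Tor (ModuleCat.{u} A) (j + 1)).obj X).map (ModuleCat.ofHom (LinearMap.fst A M F)) =
      𝟙 _ := by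
    rw [← CategoryTheory.Functor.map_comp, ← ModuleCat.ofHom_comp, LinearMap.fst_comp_inl, ModuleCat.ofHom_id,
      CategoryTheory.Functor.map_id]
  have hba : ((Tor (ModuleCat.{u} A) (j + 1)).obj X).map (ModuleCat.ofHom (LinearMap.fst A M F)) ≫
      ((Tor (ModuleCat.{u} A) (j + 1)).obj X).map (ModuleCat.ofHom (LinearMap.inl A M F)) =
      𝟙 _ := by
    rw [← cancel_mono (((Tor (ModuleCat.{u} A) (j + 1)).obj X).map
      (ModuleCat.ofHom (LinearMap.fst A M F))), Category.assoc, hab, Category.comp_id,
      Category.id_comp]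
  have hI : IsIso (((Tor (ModuleCat.{u} A) (j + 1)).obj X).map
      (ModuleCat.ofHom (LinearMap.inl A M F))) := ⟨⟨_, hab, hba⟩⟩
  have hfac : ((Tor (ModuleCat.{u} A) (j + 1)).obj X).map (ModuleCat.ofHom (LinearMap.inl A M F)) ≫
      ((Tor (ModuleCat.{u} A) (j + 1)).obj X).map (ModuleCat.ofHom (u.coprod π)) =
      ((Tor (ModuleCat.{u} A) (j + 1)).obj X).map (ModuleCat.ofHom u) := by
    rw [← CategoryTheory.Functor.map_comp, ← ModuleCat.ofHom_comp, LinearMap.coprod_inl]
  exact IsIso.of_isIso_fac_left hfac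

theorem iota_injective (p : Ideal A) [p.IsPrime] : Function.Injective (iota p) :=
  fun _ _ h => p.injective_algebraMap_quotient_residueField h

/-- A map of flat modules that is injective after tensoring with every residue field is
injective after tensoring with every finite module. -/
theorem univ_injective [IsNoetherianRing A] {L G : Type u} [AddCommGroup L] [Module A L]
    [AddCommGroup G] [Module A G] [Module.Flat A L] [Module.Flat A G] (ι : L →ₗ[A] G)
    (h : ∀ (p : Ideal A) [p.IsPrime], Function.Injective (ι.lTensor p.ResidueField))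
    (N' : Type u) [AddCommGroup N'] [Module A N'] [hN : Module.Finite A N'] :
    Function.Injective (ι.lTensor N') := by
  induction hN using IsNoetherianRing.induction_on_isQuotientEquivQuotientPrime A with
  | subsingleton N' => exact Function.injective_of_subsingleton _
  | quotient N' p f =>
    have hp : p.1.IsPrime := p.2
    have h0 : Function.Injective (ι.lTensor (A ⧸ p.1)) := by
      have hi : Function.Injective ((iota p.1).rTensor L) :=
        Module.Flat.rTensor_preserves_injective_linearMap (iota p.1) (iota_injective p.1)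
      intro x y hxy
      apply hi
      apply h p.1
      rw [Groth.Agent.H10.FlatDescent.sq, Groth.Agent.H10.FlatDescent.sq, hxy]
    exact chase_of_retract ι f.toLinearMap f.symm.toLinearMap
      (LinearMap.ext fun x => f.symm_apply_apply x) h0
  | exact N₁ N₂ N₃ f g hf hg hfg h₁ h₃ => exact chase_of_exact ι h₁ h₃ f g hf hg hfg

theorem injective_of_lTensor_self {L G : Type u} [AddCommGroup L] [Module A L]
    [AddCommGroup G] [Module A G] (ι : L →ₗ[A] G) (h : Function.Injective (ι.lTensor A)) :
    Function.Injective ι := by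
  intro x y hxy
  have h1 : (1 : A) ⊗ₜ[A] x = (1 : A) ⊗ₜ[A] y :=
    h (by rw [LinearMap.lTensor_tmul, LinearMap.lTensor_tmul, hxy])
  have h2 := congrArg (TensorProduct.lid A L) h1
  rwa [TensorProduct.lid_tmul, TensorProduct.lid_tmul, one_smul, one_smul] at h2

/-- A map of flat modules over a Noetherian ring which is bijective after tensoring with every
residue field is bijective. -/
theorem bijective_of_flat_of_lTensor_bijective [IsNoetherianRing A] {L G : Type u}
    [AddCommGroup L] [Module A L] [AddCommGroup G] [Module A G] [Module.Flat A L]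
    [Module.Flat A G] (φ : L →ₗ[A] G)
    (h : ∀ (p : Ideal A) [p.IsPrime], Function.Bijective (φ.lTensor p.ResidueField)) :
    Function.Bijective φ := by
  have huniv : ∀ (N' : Type u) [AddCommGroup N'] [Module A N'] [Module.Finite A N'],
      Function.Injective (φ.lTensor N') :=
    fun N' _ _ _ => univ_injective φ (fun p _ => (h p).injective) N'
  have hinj : Function.Injective φ := injective_of_lTensor_self φ (huniv A)
  have hQflat : Module.Flat A (G ⧸ LinearMap.range φ) := by
    rw [Module.Flat.iff_rTensor_injective']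
    intro I
    exact chase_rTensor_injective φ (LinearMap.range φ).mkQ (Submodule.mkQ_surjective _)
      (LinearMap.exact_map_mkQ_range φ) (huniv (A ⧸ I)) I.subtype I.mkQ
      (Submodule.subtype_injective _) (Submodule.mkQ_surjective _) (LinearMap.exact_subtype_mkQ I)
  have hQκ : ∀ (p : Ideal A) [p.IsPrime],
      Subsingleton (p.ResidueField ⊗[A] (G ⧸ LinearMap.range φ)) := by
    intro p _
    have key : ∀ c : p.ResidueField ⊗[A] (G ⧸ LinearMap.range φ), c = 0 := by
      intro c
      obtain ⟨y, rfl⟩ := LinearMap.lTensor_surjective p.ResidueField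
        (Submodule.mkQ_surjective (LinearMap.range φ)) c
      obtain ⟨z, rfl⟩ := (h p).surjective y
      rw [← LinearMap.comp_apply, ← LinearMap.lTensor_comp,
        (LinearMap.exact_map_mkQ_range φ).linearMap_comp_eq_zero, LinearMap.lTensor_zero,
        LinearMap.zero_apply]
    exact ⟨fun a b => (key a).trans (key b).symm⟩
  have hQ0 : Function.Injective
      ((0 : (G ⧸ LinearMap.range φ) →ₗ[A] (G ⧸ LinearMap.range φ)).lTensor A) :=
    univ_injective _ (fun p _ => by
      have := hQκ p
      exact Function.injective_of_subsingleton _) A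
  have hQ1 := injective_of_lTensor_self _ hQ0
  have hQ : Subsingleton (G ⧸ LinearMap.range φ) :=
    ⟨fun a b => hQ1 (by rw [LinearMap.zero_apply, LinearMap.zero_apply])⟩
  exact ⟨hinj, LinearMap.range_eq_top.mp (Submodule.Quotient.subsingleton_iff.mp hQ)⟩

/-- The comparison map `ker (u, π) → F`. -/
noncomputable def phi (u : M →ₗ[A] N) (π : F →ₗ[A] N) : LinearMap.ker (u.coprod π) →ₗ[A] F :=
  (LinearMap.snd A M F) ∘ₗ (LinearMap.ker (u.coprod π)).subtype

theorem phi_lTensor_bijective (u : M →ₗ[A] N) (π : F →ₗ[A] N)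
    (hv : Function.Surjective (u.coprod π)) (κ : Type u) [AddCommGroup κ] [Module A κ]
    (hj : Function.Injective ((LinearMap.ker (u.coprod π)).subtype.lTensor κ))
    (hu : Function.Bijective (u.lTensor κ)) :
    Function.Bijective ((phi u π).lTensor κ) := by
  have hid : (LinearMap.inl A M F) ∘ₗ (LinearMap.fst A M F) +
      (LinearMap.inr A M F) ∘ₗ (LinearMap.snd A M F) = LinearMap.id :=
    LinearMap.ext fun z => by simp
  have key := bij_of_biprod ((LinearMap.inl A M F).lTensor κ) ((LinearMap.inr A M F).lTensor κ)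
    ((LinearMap.fst A M F).lTensor κ) ((LinearMap.snd A M F).lTensor κ)
    (fun m => by
      rw [← LinearMap.comp_apply, ← LinearMap.lTensor_comp, LinearMap.snd_comp_inl,
        LinearMap.lTensor_zero, LinearMap.zero_apply])
    (fun f => by
      rw [← LinearMap.comp_apply, ← LinearMap.lTensor_comp, LinearMap.snd_comp_inr,
        LinearMap.lTensor_id, LinearMap.id_apply])
    (fun z => by
      rw [← LinearMap.comp_apply, ← LinearMap.comp_apply, ← LinearMap.lTensor_comp,
        ← LinearMap.lTensor_comp, ← LinearMap.add_apply, ← LinearMap.lTensor_add, hid,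
        LinearMap.lTensor_id, LinearMap.id_apply])
    ((u.coprod π).lTensor κ) ((LinearMap.ker (u.coprod π)).subtype.lTensor κ) hj
    (lTensor_exact κ (LinearMap.exact_subtype_ker_map _) hv)
    (u.lTensor κ) hu
    (fun m => by rw [← LinearMap.comp_apply, ← LinearMap.lTensor_comp, LinearMap.coprod_inl])
  rw [phi, LinearMap.lTensor_comp]
  exact key

theorem bijective_of_phi (u : M →ₗ[A] N) (π : F →ₗ[A] N) (hπ : Function.Surjective π)
    (hφ : Function.Bijective (phi u π)) : Function.Bijective u := by
  constructor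
  · rw [injective_iff_map_eq_zero]
    intro m hm
    have hmem : ((m, 0) : M × F) ∈ LinearMap.ker (u.coprod π) := by
      rw [LinearMap.mem_ker, LinearMap.coprod_apply]
      simp [hm]
    have h0 : phi u π ⟨(m, 0), hmem⟩ = 0 := rfl
    have h1 : (⟨(m, 0), hmem⟩ : LinearMap.ker (u.coprod π)) = 0 :=
      hφ.injective (h0.trans (map_zero _).symm)
    have h2 : ((m, 0) : M × F) = 0 := congrArg Subtype.val h1
    exact congrArg Prod.fst h2
  · intro n
    obtain ⟨f, rfl⟩ := hπ n
    obtain ⟨⟨⟨m, f'⟩, hk⟩, hf⟩ := hφ.surjective f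
    have hf' : f' = f := hf
    have hk' : u m + π f' = 0 := by
      rw [LinearMap.mem_ker, LinearMap.coprod_apply] at hk
      exact hk
    refine ⟨-m, ?_⟩
    rw [map_neg, ← hf']
    exact neg_eq_of_add_eq_zero_right hk'

theorem main_type [IsNoetherianRing A] (M N : Type u) [AddCommGroup M] [Module A M]
    [AddCommGroup N] [Module A N] (u : M →ₗ[A] N)
    (h : ∀ (x : Ideal A) [x.IsPrime] (i : ℕ),
      IsIso (((Tor (ModuleCat.{u} A) i).obj (ModuleCat.of A x.ResidueField)).map
        (ModuleCat.ofHom u))) :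
    Function.Bijective u := by
  have hπ : Function.Surjective (pres (R := A) N) := pres_surjective N
  have hv : Function.Surjective (u.coprod (pres (R := A) N)) := fun n => by
    obtain ⟨f, hf⟩ := hπ n
    exact ⟨(0, f), by simp [hf]⟩
  have hS := shortExact_of (LinearMap.ker (u.coprod (pres (R := A) N))).subtype
    (u.coprod (pres (R := A) N)) (Submodule.subtype_injective _) hv
    (LinearMap.exact_subtype_ker_map _)
  have hKflat : Module.Flat A (LinearMap.ker (u.coprod (pres (R := A) N))) := by
    refine flat_of_PP _ (fun x _ i => ?_)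
    have hI2 : IsIso (((Tor (ModuleCat.{u} A) (i + 1 + 1)).obj
        (ModuleCat.of A x.ResidueField)).map (ModuleCat.ofHom (u.coprod (pres (R := A) N)))) :=
      isIso_tor_map_coprod _ (i + 1) u (pres (R := A) N) (h x (i + 1 + 1))
    have hI1 : IsIso (((Tor (ModuleCat.{u} A) (i + 1)).obj
        (ModuleCat.of A x.ResidueField)).map (ModuleCat.ofHom (u.coprod (pres (R := A) N)))) :=
      isIso_tor_map_coprod _ i u (pres (R := A) N) (h x (i + 1))
    exact isZero_tor_ker (ModuleCat.of A x.ResidueField) _ hS i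
      (@IsIso.epi_of_iso _ _ _ _ _ hI2) (@IsIso.mono_of_iso _ _ _ _ _ hI1)
  have hφκ : ∀ (x : Ideal A) [x.IsPrime],
      Function.Bijective ((phi u (pres (R := A) N)).lTensor x.ResidueField) := by
    intro x _
    have hI : IsIso (((Tor (ModuleCat.{u} A) (0 + 1)).obj
        (ModuleCat.of A x.ResidueField)).map (ModuleCat.ofHom (u.coprod (pres (R := A) N)))) :=
      isIso_tor_map_coprod _ 0 u (pres (R := A) N) (h x (0 + 1))
    have hmono := mono_whiskerLeft_of_epi_tor_one (ModuleCat.of A x.ResidueField) _ hS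
      (@IsIso.epi_of_iso _ _ _ _ _ hI)
    rw [ModuleCat.mono_iff_injective] at hmono
    have hubij : Function.Bijective (u.lTensor x.ResidueField) :=
      lTensor_bijective_of_isIso (ModuleCat.of A x.ResidueField) (ModuleCat.ofHom u) (h x 0)
    exact phi_lTensor_bijective u (pres (R := A) N) hv x.ResidueField hmono hubij
  exact bijective_of_phi u (pres (R := A) N) hπ
    (bijective_of_flat_of_lTensor_bijective (phi u (pres (R := A) N)) hφκ)

end Lib

/-- Case of modules placed in degree 0: let A be a commutative Noetherian ring and u : M -> N a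
homomorphism of A-modules such that for every prime ideal x of A, with residue field k(x), and every
i ≥ 0, the induced map Tor_i^A(k(x), M) -> Tor_i^A(k(x), N) (left derived functors of k(x) ⊗ -) is
an isomorphism. Then u is an isomorphism. (The published statement is for a morphism of
bounded-above complexes and the derived tensor products with k(x); this is the case of two modules.) -/
theorem result (A : Type u) [CommRing A] [IsNoetherianRing A]
    {M N : ModuleCat.{u} A} (u : M ⟶ N)
    (h : ∀ (x : Ideal A) [x.IsPrime] (i : ℕ),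
      IsIso (((Tor (ModuleCat.{u} A) i).obj (ModuleCat.of A x.ResidueField)).map u)) :
    IsIso u := by
  rw [ConcreteCategory.isIso_iff_bijective]
  exact main_type (A := A) M N u.hom (fun x _ i => h x i)

end Groth.Agent.S8597
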