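import Groth.Statements.S8598
-- import your own Groth.Agent.* helpers here

set_option autoImplicit false
universe u
open CategoryTheory CategoryTheory.Limits AlgebraicGeometry Opposite
open EtDl

namespace Groth.Agent.S8598

/-- Let u : X -> Y be an etale, separated morphism of finite type that is surjective, and F an abelian
sheaf on Y_et. The sheaves F_n = (u_n)_! u_n^* F built from the iterated fibre powers of X over Y
form a left resolution of F; in particular (the part stated here) the augmentation u_! u^* F -> F,
which is the counit of the adjunction between extension by zero u_! and restriction u^*, is an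
epimorphism. (The continuity of V ↦ (V -> X -> Y) between the small etale sites is carried as an
instance hypothesis, the prelude's convention for extension by zero along an etale morphism.) -/
theorem result {X Y : Scheme.{u}} (u : X ⟶ Y) [Etale u] [IsSeparated u]
    [LocallyOfFiniteType u] [QuasiCompact u] [Surjective u] [EtShriek.JCont u] (F : EtCoh.Ab Y) :
    Epi ((EtShriek.extZeroAdj u).counit.app F) := by
  have hu : EtCoh.etaleMP u := ‹Etale u›
  let adj : EtShriek.compEtale u ⊣ EtCoh.bc u :=
    MorphismProperty.Over.mapPullbackAdj EtCoh.etaleMP ⊤ u hu trivial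
  -- the covering `V ×_Y X ⟶ V`
  have hcov : ∀ V : Y.Etale, Sieve.ofArrows (fun _ : Unit => (EtShriek.compEtale u).obj ((EtCoh.bc u).obj V))
      (fun _ => adj.counit.app V) ∈ Y.smallEtaleTopology V := by
    intro V
    rw [Scheme.ofArrows_mem_smallEtaleTopology_iff]
    have hs : Function.Surjective (adj.counit.app V).left := by
      have : (adj.counit.app V).left = pullback.fst V.hom u := rfl
      rw [this]
      exact (inferInstance : Surjective (pullback.fst V.hom u)).surj
    ext y
    simp only [Set.mem_iUnion, Set.mem_range, Set.mem_univ, iff_true]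
    obtain ⟨x, hx⟩ := hs y
    exact ⟨(), x, hx⟩
  haveI : (EtShriek.restrAlong u).Faithful := by
    constructor
    intro G₁ G₂ φ ψ h
    apply Sheaf.hom_ext
    ext ⟨V⟩ : 2
    refine Presheaf.IsSheaf.hom_ext G₂.property ⟨_, hcov V⟩ _ _ ?_
    rintro ⟨W, g, ⟨W', a, b, ⟨⟨⟩⟩, rfl⟩⟩
    have h' := congrArg (fun α => α.hom.app (op ((EtCoh.bc u).obj V))) h
    dsimp at h' ⊢
    simp only [op_comp, Functor.map_comp]
    rw [← Category.assoc, ← Category.assoc]
    congr 1
    rw [← φ.hom.naturality, ← ψ.hom.naturality]
    congr 1
  exact (EtShriek.extZeroAdj u).counit_epi_of_R_faithful F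

end Groth.Agent.S8598
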