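import Groth.Statements.S8603
import Mathlib

set_option autoImplicit false
universe u
open CategoryTheory CategoryTheory.Limits AlgebraicGeometry Opposite
open DEt

namespace Groth.Agent.S8603

/-- The domination half of 'the category of compactifications of f is cofiltering': let f : X -> Y be a
morphism of quasi-compact quasi-separated schemes and let (Xbar_1, j_1, fbar_1), (Xbar_2, j_2,
fbar_2) be two compactifications of f (j_i : X -> Xbar_i open immersions, fbar_i : Xbar_i -> Y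
proper, fbar_i ∘ j_i = f). Then there are a compactification (Xbar, j, fbar) of f and proper
morphisms p_i : Xbar -> Xbar_i (i = 1, 2) with p_i ∘ j = j_i and fbar_i ∘ p_i = fbar, i.e. a
compactification mapping to both by morphisms of compactifications. (The published statement also
includes the equalizing axiom: two morphisms of compactifications are equalized by a third; only
domination is stated here.) -/
theorem result {X Y : Scheme.{u}} [CompactSpace ↥X] [QuasiSeparatedSpace ↥X]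
    [CompactSpace ↥Y] [QuasiSeparatedSpace ↥Y] {f : X ⟶ Y} (c₁ c₂ : DEt.Compactification f) :
    ∃ (c : DEt.Compactification f) (p₁ : c.Xbar ⟶ c₁.Xbar) (p₂ : c.Xbar ⟶ c₂.Xbar),
      IsProper p₁ ∧ IsProper p₂ ∧ c.j ≫ p₁ = c₁.j ∧ c.j ≫ p₂ = c₂.j ∧
        p₁ ≫ c₁.fbar = c.fbar ∧ p₂ ≫ c₂.fbar = c.fbar := by
  classical
  let k : X ⟶ pullback c₁.fbar c₂.fbar :=
    pullback.lift c₁.j c₂.j (c₁.fac.trans c₂.fac.symm)
  have hk1 : k ≫ pullback.fst c₁.fbar c₂.fbar = c₁.j := pullback.lift_fst _ _ _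
  have hk2 : k ≫ pullback.snd c₁.fbar c₂.fbar = c₂.j := pullback.lift_snd _ _ _
  haveI : IsImmersion (k ≫ pullback.fst c₁.fbar c₂.fbar) := by
    rw [hk1]
    infer_instance
  haveI hkimm : IsImmersion k := IsImmersion.of_comp k (pullback.fst c₁.fbar c₂.fbar)
  haveI hkqc : QuasiCompact k := by
    refine MorphismProperty.of_postcomp (W := @QuasiCompact) (W' := @QuasiSeparated) k
      (pullback.fst c₁.fbar c₂.fbar ≫ c₁.fbar) inferInstance ?_
    have : k ≫ pullback.fst c₁.fbar c₂.fbar ≫ c₁.fbar = f := by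
      rw [← Category.assoc, hk1, c₁.fac]
    rw [this]
    infer_instance
  obtain ⟨Z, g₁, g₂, hg₁, hg₂, hg⟩ := IsImmersion.isImmersion_iff_exists_of_quasiCompact.mp hkimm
  refine ⟨⟨Z, g₁, g₂ ≫ pullback.fst c₁.fbar c₂.fbar ≫ c₁.fbar, hg₁, inferInstance, ?_⟩,
    g₂ ≫ pullback.fst c₁.fbar c₂.fbar, g₂ ≫ pullback.snd c₁.fbar c₂.fbar,
    inferInstance, inferInstance, ?_, ?_, ?_, ?_⟩
  · rw [← Category.assoc, hg, ← Category.assoc, hk1, c₁.fac]
  · show g₁ ≫ g₂ ≫ pullback.fst c₁.fbar c₂.fbar = c₁.j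
    rw [← Category.assoc, hg, hk1]
  · show g₁ ≫ g₂ ≫ pullback.snd c₁.fbar c₂.fbar = c₂.j
    rw [← Category.assoc, hg, hk2]
  · show (g₂ ≫ pullback.fst c₁.fbar c₂.fbar) ≫ c₁.fbar =
      g₂ ≫ pullback.fst c₁.fbar c₂.fbar ≫ c₁.fbar
    rw [Category.assoc]
  · show (g₂ ≫ pullback.snd c₁.fbar c₂.fbar) ≫ c₂.fbar =
      g₂ ≫ pullback.fst c₁.fbar c₂.fbar ≫ c₁.fbar
    rw [Category.assoc, pullback.condition]

end Groth.Agent.S8603
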