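import Groth.Statements.S8607
import Mathlib

set_option autoImplicit false
universe u
open CategoryTheory CategoryTheory.Limits AlgebraicGeometry Opposite
open DEt

namespace Groth.Agent.S8607

/-- The equalizing half of 'the category of compactifications of f is cofiltering': let f : X -> Y be a
morphism of quasi-compact quasi-separated schemes, (Xbar_1, j_1, fbar_1) and (Xbar_2, j_2, fbar_2)
two compactifications of f, and r, s : Xbar_1 -> Xbar_2 two morphisms of compactifications (r ∘ j_1
= j_2 = s ∘ j_1 and fbar_2 ∘ r = fbar_1 = fbar_2 ∘ s). Then there are a compactification (Xbar, j,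
fbar) of f and a proper morphism t : Xbar -> Xbar_1 of compactifications (t ∘ j = j_1, fbar_1 ∘ t =
fbar) with r ∘ t = s ∘ t. -/
theorem result {X Y : Scheme.{u}} [CompactSpace ↥X] [QuasiSeparatedSpace ↥X]
    [CompactSpace ↥Y] [QuasiSeparatedSpace ↥Y] {f : X ⟶ Y} (c₁ c₂ : DEt.Compactification f)
    (r s : c₁.Xbar ⟶ c₂.Xbar) (hr : c₁.j ≫ r = c₂.j) (hs : c₁.j ≫ s = c₂.j)
    (hr' : r ≫ c₂.fbar = c₁.fbar) (hs' : s ≫ c₂.fbar = c₁.fbar) :
    ∃ (c : DEt.Compactification f) (t : c.Xbar ⟶ c₁.Xbar), IsProper t ∧ c.j ≫ t = c₁.j ∧ t ≫ c₁.fbar = c.fbar ∧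
      t ≫ r = t ≫ s := by
  classical
  let A : Over Y := Over.mk c₁.fbar
  let B : Over Y := Over.mk c₂.fbar
  let rb : A ⟶ B := Over.homMk r hr'
  let sb : A ⟶ B := Over.homMk s hs'
  haveI : IsSeparated B.hom := (inferInstance : IsSeparated c₂.fbar)
  have ht : IsClosedImmersion (equalizer.ι rb sb).left := inferInstance
  let Xo : Over Y := Over.mk f
  let jb : Xo ⟶ A := Over.homMk c₁.j c₁.fac
  have hjb : jb ≫ rb = jb ≫ sb := by
    apply Over.OverMorphism.ext
    show c₁.j ≫ r = c₁.j ≫ s
    rw [hr, hs]
  have hjt : (equalizer.lift jb hjb).left ≫ (equalizer.ι rb sb).left = c₁.j :=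
    congrArg (fun k => k.left) (equalizer.lift_ι jb hjb)
  have hj : IsOpenImmersion (equalizer.lift jb hjb).left := by
    have hpost : MorphismProperty.HasOfPostcompProperty @IsOpenImmersion
        (MorphismProperty.monomorphisms Scheme.{u}) := by
      rw [MorphismProperty.hasOfPostcompProperty_iff_le_diagonal]
      intro U V g hg
      haveI : Mono g := hg
      show IsOpenImmersion (pullback.diagonal g)
      infer_instance
    refine MorphismProperty.of_postcomp (W := @IsOpenImmersion)
      (W' := MorphismProperty.monomorphisms Scheme.{u}) (equalizer.lift jb hjb).left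
      (equalizer.ι rb sb).left ?_ ?_
    · show Mono (equalizer.ι rb sb).left
      infer_instance
    · rw [hjt]
      infer_instance
  refine ⟨⟨(equalizer rb sb).left, (equalizer.lift jb hjb).left,
    (equalizer.ι rb sb).left ≫ c₁.fbar, hj, inferInstance, ?_⟩,
    (equalizer.ι rb sb).left, inferInstance, hjt, rfl, ?_⟩
  · rw [← Category.assoc, hjt, c₁.fac]
  · exact congrArg (fun k => k.left) (equalizer.condition rb sb)

end Groth.Agent.S8607
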