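import Groth.Statements.S8609
import Mathlib
import Groth.Agent.H88.MacMahon

set_option autoImplicit false
universe u
open CategoryTheory
open SGA4h

namespace Groth.Agent.S8609

open TensorProduct Polynomial in
/-- `det(1 - u t, M)` is the reversed characteristic polynomial of the matrix of `u`. -/
theorem detOneSub_eq {A : Type u} [CommRing A] {M : Type u} [AddCommGroup M] [Module A M] {r : ℕ}
    (e : Module.Basis (Fin r) A M) (u : M →ₗ[A] M) :
    SGA4h.detOneSub (ModuleCat.of A M) (ModuleCat.ofHom u) =
      (LinearMap.toMatrix e e u).charpolyRev := by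
  classical
  show LinearMap.det ((LinearMap.id : (A[X] ⊗[A] M) →ₗ[A[X]] (A[X] ⊗[A] M)) -
    (X : A[X]) • u.baseChange A[X]) = _
  rw [← LinearMap.det_toMatrix (Algebra.TensorProduct.basis A[X] e)]
  unfold Matrix.charpolyRev
  congr 1
  refine (map_sub (LinearMap.toMatrix (Algebra.TensorProduct.basis A[X] e)
    (Algebra.TensorProduct.basis A[X] e)) _ _).trans ?_
  refine congrArg₂ (· - ·) (LinearMap.toMatrix_id _) ?_
  refine (map_smul (LinearMap.toMatrix (Algebra.TensorProduct.basis A[X] e)
    (Algebra.TensorProduct.basis A[X] e)) _ _).trans ?_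
  refine congrArg (fun m => (X : A[X]) • m) ?_
  exact LinearMap.toMatrix_baseChange A[X] u e e


open TensorProduct PiTensorProduct Polynomial in
/-- The case of a module placed in degree 0: let A be a commutative ring, M a finite free A-module and u
an endomorphism of M. For each n let Γ^n M be the submodule of the n-fold tensor power of M fixed by
all permutations of the factors (symmetric tensors) and γ_n the endomorphism of Γ^n M induced by the
n-fold tensor power of u. Then the power series Σ_n Tr(γ_n) t^n is the inverse of the polynomial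
det(1 - u t, M): their product is 1 in A[[t]]. (The published statement allows M projective of
finite type; this row takes M free, where the trace of Γ^n M is the usual one.) -/
theorem result {A : Type u} [CommRing A] (M : Type u) [AddCommGroup M]
    [Module A M] [Module.Free A M] [Module.Finite A M] (u : M →ₗ[A] M)
    (γ : ∀ n : ℕ, ↥(⨅ σ : Equiv.Perm (Fin n),
        LinearMap.eqLocus ((PiTensorProduct.reindex A (fun _ : Fin n => M) σ).toLinearMap) LinearMap.id) →ₗ[A]
      ↥(⨅ σ : Equiv.Perm (Fin n),
        LinearMap.eqLocus ((PiTensorProduct.reindex A (fun _ : Fin n => M) σ).toLinearMap) LinearMap.id))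
    (hγ : ∀ (n : ℕ) (x : ↥(⨅ σ : Equiv.Perm (Fin n),
        LinearMap.eqLocus ((PiTensorProduct.reindex A (fun _ : Fin n => M) σ).toLinearMap) LinearMap.id)),
      (↑(γ n x) : ⨂[A] _i : Fin n, M) = PiTensorProduct.map (fun _ : Fin n => u) (↑x : ⨂[A] _i : Fin n, M)) :
    (↑(SGA4h.detOneSub (ModuleCat.of A M) (ModuleCat.ofHom u)) : PowerSeries A) *
      PowerSeries.mk (fun n => LinearMap.trace A _ (γ n)) = 1 := by
  by_cases hA : Nontrivial A
  · rw [detOneSub_eq (Module.finBasis A M) u]
    exact Groth.Agent.H88.MacMahon.main_basis (Module.finBasis A M) u γ hγ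
  · haveI : Subsingleton A := not_nontrivial_iff_subsingleton.mp hA
    ext n
    exact Subsingleton.elim _ _

end Groth.Agent.S8609
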