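import Groth.Statements.S8611
import Mathlib.Algebra.Homology.ShortComplex.Ab
import Mathlib.Algebra.Category.Grp.EpiMono
import Mathlib.Algebra.Homology.ShortComplex.ShortExact

set_option autoImplicit false
universe w v u
open CategoryTheory CategoryTheory.Limits
open SGA4h

namespace Groth.Agent.S8611

section helpers

variable {C : Type u} [Category.{v} C] [Abelian C]
  {T T' : DeltaF.CohDeltaFunctor C AddCommGrpCat.{w} ℕ}

lemma se_of_mono {X Y : C} (u : X ⟶ Y) [Mono u] :
    (ShortComplex.mk u (cokernel.π u) (cokernel.condition u)).ShortExact :=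
  ShortComplex.ShortExact.mk'
    ((ShortComplex.mk u (cokernel.π u) (cokernel.condition u)).exact_of_g_is_cokernel
      (cokernelIsCokernel u))
    (inferInstanceAs (Mono u)) (inferInstanceAs (Epi (cokernel.π u)))

lemma nat_el (φ : T ⟶ T') (q : ℕ) {X Y : C} (f : X ⟶ Y) (x : (T.F q).obj X) :
    (φ.app q).app Y ((T.F q).map f x) = (T'.F q).map f ((φ.app q).app X x) := by
  exact ConcreteCategory.congr_hom ((φ.app q).naturality f) x

lemma comm_el (φ : T ⟶ T') (S : ShortComplex C) (hS : S.ShortExact) (q : ℕ)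
    (x : (T.F q).obj S.X₃) :
    (φ.app (q + 1)).app S.X₁ (T.δ S hS q (q + 1) rfl x) =
      T'.δ S hS q (q + 1) rfl ((φ.app q).app S.X₃ x) := by
  exact ConcreteCategory.congr_hom (φ.comm S hS q (q + 1) rfl) x

lemma ex1 (T : DeltaF.CohDeltaFunctor C AddCommGrpCat.{w} ℕ) (S : ShortComplex C)
    (hS : S.ShortExact) (q : ℕ) (x : (T.F (q + 1)).obj S.X₁)
    (hx : (T.F (q + 1)).map S.f x = 0) :
    ∃ y : (T.F q).obj S.X₃, T.δ S hS q (q + 1) rfl y = x :=
  (ShortComplex.ab_exact_iff _).1 (T.exact₁ S hS q (q + 1) rfl) x hx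

lemma ex3 (T : DeltaF.CohDeltaFunctor C AddCommGrpCat.{w} ℕ) (S : ShortComplex C)
    (hS : S.ShortExact) (q : ℕ) (x : (T.F q).obj S.X₃)
    (hx : T.δ S hS q (q + 1) rfl x = 0) :
    ∃ y : (T.F q).obj S.X₂, (T.F q).map S.g y = x :=
  (ShortComplex.ab_exact_iff _).1 (T.exact₃ S hS q (q + 1) rfl) x hx

lemma ex2 (T : DeltaF.CohDeltaFunctor C AddCommGrpCat.{w} ℕ) (S : ShortComplex C)
    (hS : S.ShortExact) (q : ℕ) (x : (T.F q).obj S.X₂)
    (hx : (T.F q).map S.g x = 0) :
    ∃ y : (T.F q).obj S.X₁, (T.F q).map S.f y = x :=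
  (ShortComplex.ab_exact_iff _).1 (T.exact₂ S hS q) x hx

lemma δ_g (T : DeltaF.CohDeltaFunctor C AddCommGrpCat.{w} ℕ) (S : ShortComplex C)
    (hS : S.ShortExact) (q : ℕ) (y : (T.F q).obj S.X₂) :
    T.δ S hS q (q + 1) rfl ((T.F q).map S.g y) = 0 := by
  have h := ConcreteCategory.congr_hom (T.comp_δ S hS q (q + 1) rfl) y
  simpa using h

lemma f_g (T : DeltaF.CohDeltaFunctor C AddCommGrpCat.{w} ℕ) (S : ShortComplex C) (q : ℕ)
    (x : (T.F q).obj S.X₁) : (T.F q).map S.g ((T.F q).map S.f x) = 0 := by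
  have h : (T.F q).map S.f ≫ (T.F q).map S.g = 0 := by
    rw [← Functor.map_comp, S.zero, Functor.map_zero]
  have h' := ConcreteCategory.congr_hom h x
  simpa using h'

lemma inj_step
    (hT : ∀ (q : ℕ) (A : C) (α : (T.F (q + 1)).obj A),
      ∃ (M : C) (u : A ⟶ M), Mono u ∧ (T.F (q + 1)).map u α = 0)
    (φ : T ⟶ T') (q : ℕ)
    (hsurj : ∀ X, Function.Surjective ((φ.app q).app X))
    (hinj : ∀ X, Function.Injective ((φ.app q).app X)) (A : C) :
    Function.Injective ((φ.app (q + 1)).app A) := by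
  refine (injective_iff_map_eq_zero _).2 ?_
  intro α hα
  obtain ⟨N, u, hu, hu0⟩ := hT q A α
  haveI := hu
  let S : ShortComplex C := ShortComplex.mk u (cokernel.π u) (cokernel.condition u)
  have hS : S.ShortExact := se_of_mono u
  obtain ⟨β, hβ⟩ := ex1 T S hS q α hu0
  have h1 : T'.δ S hS q (q + 1) rfl ((φ.app q).app S.X₃ β) = 0 := by
    rw [← comm_el, hβ]
    exact hα
  obtain ⟨ν', hν'⟩ := ex3 T' S hS q _ h1
  obtain ⟨ν, hν⟩ := hsurj S.X₂ ν'
  have h2 : (φ.app q).app S.X₃ ((T.F q).map S.g ν) = (φ.app q).app S.X₃ β := by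
    rw [nat_el, hν, hν']
  have h3 := hinj S.X₃ h2
  rw [← hβ, ← h3, δ_g]

lemma surj_step (φ : T ⟶ T') (q : ℕ) (hsurj : ∀ X, Function.Surjective ((φ.app q).app X))
    {A N : C} (w : A ⟶ N) [Mono w] (α' : (T'.F (q + 1)).obj A)
    (hα' : (T'.F (q + 1)).map w α' = 0) :
    ∃ α, (φ.app (q + 1)).app A α = α' := by
  let S : ShortComplex C := ShortComplex.mk w (cokernel.π w) (cokernel.condition w)
  have hS : S.ShortExact := se_of_mono w
  obtain ⟨β', hβ'⟩ := ex1 T' S hS q α' hα'
  obtain ⟨β, hβ⟩ := hsurj S.X₃ β'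
  refine ⟨T.δ S hS q (q + 1) rfl β, ?_⟩
  have := comm_el φ S hS q β
  rw [hβ, hβ'] at this
  exact this

lemma zero_bij (hT0 : T.ZeroMono) (hT'0 : T'.ZeroMono) (φ : T ⟶ T') (E : ObjectProperty C)
    (hE : ∀ A : C, ∃ (M : C) (i : A ⟶ M), Mono i ∧ E M)
    (h0 : ∀ M, E M → Function.Bijective ((φ.app 0).app M)) (A : C) :
    Function.Bijective ((φ.app 0).app A) := by
  have hinj : ∀ A : C, Function.Injective ((φ.app 0).app A) := by
    intro A
    obtain ⟨M, i, hi, hM⟩ := hE A
    haveI := hi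
    let S : ShortComplex C := ShortComplex.mk i (cokernel.π i) (cokernel.condition i)
    have hS : S.ShortExact := se_of_mono i
    have hm : Function.Injective ((T.F 0).map i) :=
      (AddCommGrpCat.mono_iff_injective _).1 (hT0 S hS)
    intro x y hxy
    apply hm
    apply (h0 M hM).1
    rw [nat_el, nat_el, hxy]
  refine ⟨hinj A, ?_⟩
  intro a'
  obtain ⟨M, i, hi, hM⟩ := hE A
  haveI := hi
  let S : ShortComplex C := ShortComplex.mk i (cokernel.π i) (cokernel.condition i)
  have hS : S.ShortExact := se_of_mono i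
  obtain ⟨m, hm⟩ := (h0 M hM).2 ((T'.F 0).map i a')
  have hm2 : (φ.app 0).app S.X₂ m = (T'.F 0).map S.f a' := hm
  have hq : (T.F 0).map S.g m = 0 := by
    apply hinj S.X₃
    rw [nat_el, map_zero, hm2]
    exact f_g T' S 0 a'
  obtain ⟨a, ha⟩ := ex2 T S hS 0 m hq
  refine ⟨a, ?_⟩
  have hm' : Function.Injective ((T'.F 0).map S.f) :=
    (AddCommGrpCat.mono_iff_injective _).1 (hT'0 S hS)
  apply hm'
  rw [← nat_el, ha, hm2]

end helpers

/-- Let C be an abelian category, T and T' cohomological delta-functors on C in degrees ≥ 0 with values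
in abelian groups, both left exact in degree 0, with T effaceable in every degree q > 0 (every
element of T^q(A) is killed by T^q(u) for some monomorphism u : A → M, depending on the element),
and φ : T → T' a morphism of delta-functors. Let E be a class of objects such that every object
admits a monomorphism into a member of E. Then the following are equivalent: (i) φ^q(A) is bijective
for all q and all A; (ii) φ^0(M) is bijective and φ^q(M) is surjective for q > 0, for all M in E;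
(iii) φ^0(A) is bijective for all A and T' is effaceable in every degree > 0 (in the same
element-wise sense). Stated as (i) ⇔ (ii) together with (i) ⇔ (iii). -/
theorem result {C : Type u} [Category.{v} C] [Abelian C]
    (T T' : DeltaF.CohDeltaFunctor C AddCommGrpCat.{w} ℕ) (hT0 : T.ZeroMono) (hT'0 : T'.ZeroMono)
    (hT : ∀ (q : ℕ) (A : C) (α : (T.F (q + 1)).obj A),
      ∃ (M : C) (u : A ⟶ M), Mono u ∧ (T.F (q + 1)).map u α = 0)
    (φ : T ⟶ T') (E : ObjectProperty C)
    (hE : ∀ A : C, ∃ (M : C) (i : A ⟶ M), Mono i ∧ E M) :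
    ((∀ (q : ℕ) (A : C), IsIso ((φ.app q).app A)) ↔
      ((∀ M : C, E M → IsIso ((φ.app 0).app M)) ∧
        ∀ (q : ℕ) (M : C), E M → Epi ((φ.app (q + 1)).app M))) ∧
    ((∀ (q : ℕ) (A : C), IsIso ((φ.app q).app A)) ↔
      ((∀ A : C, IsIso ((φ.app 0).app A)) ∧
        ∀ (q : ℕ) (A : C) (α : (T'.F (q + 1)).obj A),
          ∃ (M : C) (u : A ⟶ M), Mono u ∧ (T'.F (q + 1)).map u α = 0)) := by
  have hb : ∀ (q : ℕ) (A : C), IsIso ((φ.app q).app A) ↔ Function.Bijective ((φ.app q).app A) :=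
    fun q A => ConcreteCategory.isIso_iff_bijective _
  have he : ∀ (q : ℕ) (A : C), Epi ((φ.app q).app A) ↔ Function.Surjective ((φ.app q).app A) :=
    fun q A => AddCommGrpCat.epi_iff_surjective _
  have engine : (∀ A, Function.Bijective ((φ.app 0).app A)) →
      (∀ (q : ℕ) (A : C) (α' : (T'.F (q + 1)).obj A),
        (∀ X, Function.Bijective ((φ.app q).app X)) →
          ∃ (N : C) (w : A ⟶ N), Mono w ∧ (T'.F (q + 1)).map w α' = 0) →
      ∀ (q : ℕ) (A : C), Function.Bijective ((φ.app q).app A) := by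
    intro h0 heff q
    induction q with
    | zero => exact h0
    | succ q ih =>
      intro A
      refine ⟨inj_step hT φ q (fun X => (ih X).2) (fun X => (ih X).1) A, ?_⟩
      intro α'
      obtain ⟨N, w, hw, hw0⟩ := heff q A α' ih
      haveI := hw
      exact surj_step φ q (fun X => (ih X).2) w α' hw0
  refine ⟨⟨?_, ?_⟩, ⟨?_, ?_⟩⟩
  · intro h
    exact ⟨fun M _ => h 0 M, fun q M _ => by have := h (q + 1) M; infer_instance⟩
  · rintro ⟨h0, hs⟩ q A
    rw [hb]
    refine engine (zero_bij hT0 hT'0 φ E hE (fun M hM => (hb 0 M).1 (h0 M hM))) ?_ q A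
    intro q A α' ih
    obtain ⟨M, f, hf, hM⟩ := hE A
    obtain ⟨μ, hμ⟩ := (he (q + 1) M).1 (hs q M hM) ((T'.F (q + 1)).map f α')
    obtain ⟨N, v, hv, hv0⟩ := hT q M μ
    haveI := hf
    haveI := hv
    refine ⟨N, f ≫ v, mono_comp f v, ?_⟩
    have e1 : (T'.F (q + 1)).map (f ≫ v) α' =
        (T'.F (q + 1)).map v ((T'.F (q + 1)).map f α') :=
      ConcreteCategory.congr_hom ((T'.F (q + 1)).map_comp f v) α'
    rw [e1, ← hμ, ← nat_el, hv0, map_zero]
  · intro h
    refine ⟨fun A => h 0 A, ?_⟩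
    intro q A α'
    obtain ⟨α, hα⟩ := ((hb (q + 1) A).1 (h (q + 1) A)).2 α'
    obtain ⟨M, u, hu, hu0⟩ := hT q A α
    refine ⟨M, u, hu, ?_⟩
    rw [← hα, ← nat_el, hu0, map_zero]
  · rintro ⟨h0, heff⟩ q A
    rw [hb]
    exact engine (fun A => (hb 0 A).1 (h0 A)) (fun q A α' _ => heff q A α') q A

end Groth.Agent.S8611
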