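import Groth.Statements.S8612
import Mathlib
import Groth.Agent.S8611
import Groth.Agent.H6.FiltColimAb

set_option autoImplicit false
universe w v u
open CategoryTheory CategoryTheory.Limits
open SGA4h

namespace Groth.Agent.S8612

section helpers

open Groth.Agent.S8611 Groth.Agent.H6.FiltColimAb

variable {C : Type u} [Category.{v} C] [Abelian C]
  {T T' : DeltaF.CohDeltaFunctor C AddCommGrpCat.{w} ℕ}

lemma map_comp_el (T : DeltaF.CohDeltaFunctor C AddCommGrpCat.{w} ℕ) (q : ℕ) {X Y Z : C}
    (f : X ⟶ Y) (g : Y ⟶ Z) (x : (T.F q).obj X) :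
    (T.F q).map (f ≫ g) x = (T.F q).map g ((T.F q).map f x) :=
  ConcreteCategory.congr_hom ((T.F q).map_comp f g) x

lemma map_id_el (T : DeltaF.CohDeltaFunctor C AddCommGrpCat.{w} ℕ) (q : ℕ) {X : C}
    (x : (T.F q).obj X) : (T.F q).map (𝟙 X) x = x :=
  ConcreteCategory.congr_hom ((T.F q).map_id X) x

/-- Injectivity passes from the class `D` to all objects. -/
lemma inj_of_colim [HasFilteredColimitsOfSize.{v, v} C]
    [∀ n, PreservesFilteredColimitsOfSize.{v, v} (T.F n)]
    [∀ n, PreservesFilteredColimitsOfSize.{v, v} (T'.F n)]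
    (φ : T ⟶ T') (D : ObjectProperty C)
    (hD : ∀ A : C, ∃ (J : Type v) (_ : SmallCategory J) (_ : IsFiltered J) (K : J ⥤ C) (c : Cocone K)
      (_ : IsColimit c), (∀ j, D (K.obj j)) ∧ Nonempty (c.pt ≅ A))
    (q : ℕ) (h : ∀ A, D A → Function.Injective ((φ.app q).app A)) (A : C) :
    Function.Injective ((φ.app q).app A) := by
  obtain ⟨J, hJ1, hJ2, K, c, hc, hK, ⟨e⟩⟩ := hD A
  have hpt : Function.Injective ((φ.app q).app c.pt) := by
    refine (injective_iff_map_eq_zero _).2 ?_
    intro x hx
    have hcT : IsColimit ((T.F q).mapCocone c) := isColimitOfPreserves (T.F q) hc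
    have hcT' : IsColimit ((T'.F q).mapCocone c) := isColimitOfPreserves (T'.F q) hc
    obtain ⟨j, y, hy⟩ := exists_rep (K ⋙ T.F q) _ hcT x
    have hy' : (T.F q).map (c.ι.app j) y = x := hy
    have h1 : (T'.F q).map (c.ι.app j) ((φ.app q).app (K.obj j) y) = 0 := by
      rw [← nat_el, hy']
      exact hx
    obtain ⟨k, f, hf⟩ := exists_map_eq_zero (K ⋙ T'.F q) _ hcT' j _ h1
    have hf' : (T'.F q).map (K.map f) ((φ.app q).app (K.obj j) y) = 0 := hf
    rw [← nat_el] at hf'
    have h2 : (T.F q).map (K.map f) y = 0 := by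
      apply h (K.obj k) (hK k)
      rw [hf', map_zero]
    rw [← hy', ← c.w f, map_comp_el, h2, map_zero]
  refine (injective_iff_map_eq_zero _).2 ?_
  intro x hx
  have h1 : (φ.app q).app c.pt ((T.F q).map e.inv x) = 0 := by
    rw [nat_el, hx, map_zero]
  have h2 : (T.F q).map e.inv x = 0 := by
    apply hpt
    rw [h1, map_zero]
  have h3 : (T.F q).map e.hom ((T.F q).map e.inv x) = x := by
    rw [← map_comp_el, e.inv_hom_id, map_id_el]
  rw [← h3, h2, map_zero]

/-- Surjectivity passes from the class `D` to all objects. -/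
lemma surj_of_colim [HasFilteredColimitsOfSize.{v, v} C]
    [∀ n, PreservesFilteredColimitsOfSize.{v, v} (T.F n)]
    [∀ n, PreservesFilteredColimitsOfSize.{v, v} (T'.F n)]
    (φ : T ⟶ T') (D : ObjectProperty C)
    (hD : ∀ A : C, ∃ (J : Type v) (_ : SmallCategory J) (_ : IsFiltered J) (K : J ⥤ C) (c : Cocone K)
      (_ : IsColimit c), (∀ j, D (K.obj j)) ∧ Nonempty (c.pt ≅ A))
    (q : ℕ) (h : ∀ A, D A → Function.Surjective ((φ.app q).app A)) (A : C) :
    Function.Surjective ((φ.app q).app A) := by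
  obtain ⟨J, hJ1, hJ2, K, c, hc, hK, ⟨e⟩⟩ := hD A
  have hpt : Function.Surjective ((φ.app q).app c.pt) := by
    intro x'
    have hcT' : IsColimit ((T'.F q).mapCocone c) := isColimitOfPreserves (T'.F q) hc
    obtain ⟨j, y', hy'⟩ := exists_rep (K ⋙ T'.F q) _ hcT' x'
    have hy'' : (T'.F q).map (c.ι.app j) y' = x' := hy'
    obtain ⟨y, hy⟩ := h (K.obj j) (hK j) y'
    refine ⟨(T.F q).map (c.ι.app j) y, ?_⟩
    rw [nat_el, hy, hy'']
  intro x'
  obtain ⟨z, hz⟩ := hpt ((T'.F q).map e.inv x')
  refine ⟨(T.F q).map e.hom z, ?_⟩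
  rw [nat_el, hz, ← map_comp_el, e.inv_hom_id, map_id_el]

/-- Injectivity in degree `q + 1` at an object with a monomorphism killing the class. -/
lemma inj_step' (φ : T ⟶ T') (q : ℕ)
    (hsurj : ∀ X, Function.Surjective ((φ.app q).app X))
    (hinj : ∀ X, Function.Injective ((φ.app q).app X)) {A N : C} (u : A ⟶ N) [Mono u]
    (α : (T.F (q + 1)).obj A) (hu0 : (T.F (q + 1)).map u α = 0)
    (hα : (φ.app (q + 1)).app A α = 0) : α = 0 := by
  let S : ShortComplex C := ShortComplex.mk u (cokernel.π u) (cokernel.condition u)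
  have hS : S.ShortExact := se_of_mono u
  obtain ⟨β, hβ⟩ := ex1 T S hS q α hu0
  have h1 : T'.δ S hS q (q + 1) rfl ((φ.app q).app S.X₃ β) = 0 := by
    rw [← comm_el, hβ]
    exact hα
  obtain ⟨ν', hν'⟩ := ex3 T' S hS q _ h1
  obtain ⟨ν, hν⟩ := hsurj S.X₂ ν'
  have h2 : (φ.app q).app S.X₃ ((T.F q).map S.g ν) = (φ.app q).app S.X₃ β := by
    rw [nat_el, hν, hν']
  have h3 := hinj S.X₃ h2
  rw [← hβ, ← h3, δ_g]

end helpers

/-- Let C be an abelian category with filtered colimits, T and T' cohomological delta-functors on C in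
degrees ≥ 0 with values in abelian groups, both left exact in degree 0 and commuting with filtered
colimits in every degree, and φ : T → T' a morphism of delta-functors. Let D and E be classes of
objects such that (a) every object of C is a filtered colimit of objects of D and (b) every object
of D admits a monomorphism into a member of E. Then φ^q(A) is bijective for all q and all A if and
only if φ^q(M) is bijective for all q and all M in E. -/
theorem result {C : Type u} [Category.{v} C] [Abelian C]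
    [HasFilteredColimitsOfSize.{v, v} C]
    (T T' : DeltaF.CohDeltaFunctor C AddCommGrpCat.{w} ℕ) (hT0 : T.ZeroMono) (hT'0 : T'.ZeroMono)
    [∀ n, PreservesFilteredColimitsOfSize.{v, v} (T.F n)] [∀ n, PreservesFilteredColimitsOfSize.{v, v} (T'.F n)]
    (φ : T ⟶ T') (D E : ObjectProperty C)
    (hD : ∀ A : C, ∃ (J : Type v) (_ : SmallCategory J) (_ : IsFiltered J) (K : J ⥤ C) (c : Cocone K)
      (_ : IsColimit c), (∀ j, D (K.obj j)) ∧ Nonempty (c.pt ≅ A))
    (hE : ∀ A : C, D A → ∃ (M : C) (i : A ⟶ M), Mono i ∧ E M) :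
    (∀ (q : ℕ) (A : C), IsIso ((φ.app q).app A)) ↔
      ∀ (q : ℕ) (M : C), E M → IsIso ((φ.app q).app M) := by
  have hb : ∀ (q : ℕ) (A : C), IsIso ((φ.app q).app A) ↔ Function.Bijective ((φ.app q).app A) :=
    fun q A => ConcreteCategory.isIso_iff_bijective _
  refine ⟨fun h q M _ => h q M, ?_⟩
  intro hEiso
  have hEb : ∀ (q : ℕ) (M : C), E M → Function.Bijective ((φ.app q).app M) :=
    fun q M hM => (hb q M).1 (hEiso q M hM)
  suffices H : ∀ (q : ℕ) (A : C), Function.Bijective ((φ.app q).app A) from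
    fun q A => (hb q A).2 (H q A)
  intro q
  induction q with
  | zero =>
    -- injectivity on `D`
    have hinjD : ∀ A, D A → Function.Injective ((φ.app 0).app A) := by
      intro A hA
      obtain ⟨M, i, hi, hM⟩ := hE A hA
      have := hi
      let S : ShortComplex C := ShortComplex.mk i (cokernel.π i) (cokernel.condition i)
      have hS : S.ShortExact := Groth.Agent.S8611.se_of_mono i
      have hm : Function.Injective ((T.F 0).map i) :=
        (AddCommGrpCat.mono_iff_injective _).1 (hT0 S hS)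
      intro x y hxy
      apply hm
      apply (hEb 0 M hM).1
      rw [Groth.Agent.S8611.nat_el, Groth.Agent.S8611.nat_el, hxy]
    have hinj := inj_of_colim φ D hD 0 hinjD
    have hsurjD : ∀ A, D A → Function.Surjective ((φ.app 0).app A) := by
      intro A hA a'
      obtain ⟨M, i, hi, hM⟩ := hE A hA
      have := hi
      let S : ShortComplex C := ShortComplex.mk i (cokernel.π i) (cokernel.condition i)
      have hS : S.ShortExact := Groth.Agent.S8611.se_of_mono i
      obtain ⟨m, hm⟩ := (hEb 0 M hM).2 ((T'.F 0).map i a')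
      have hm2 : (φ.app 0).app S.X₂ m = (T'.F 0).map S.f a' := hm
      have hq : (T.F 0).map S.g m = 0 := by
        apply hinj S.X₃
        rw [Groth.Agent.S8611.nat_el, map_zero, hm2]
        exact Groth.Agent.S8611.f_g T' S 0 a'
      obtain ⟨a, ha⟩ := Groth.Agent.S8611.ex2 T S hS 0 m hq
      refine ⟨a, ?_⟩
      have hm' : Function.Injective ((T'.F 0).map S.f) :=
        (AddCommGrpCat.mono_iff_injective _).1 (hT'0 S hS)
      apply hm'
      rw [← Groth.Agent.S8611.nat_el, ha, hm2]
    have hsurj := surj_of_colim φ D hD 0 hsurjD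
    exact fun A => ⟨hinj A, hsurj A⟩
  | succ q ih =>
    have hinjD : ∀ A, D A → Function.Injective ((φ.app (q + 1)).app A) := by
      intro A hA
      obtain ⟨M, i, hi, hM⟩ := hE A hA
      have := hi
      refine (injective_iff_map_eq_zero _).2 ?_
      intro α hα
      have hi0 : (T.F (q + 1)).map i α = 0 := by
        apply (hEb (q + 1) M hM).1
        rw [Groth.Agent.S8611.nat_el, hα, map_zero, map_zero]
      exact inj_step' φ q (fun X => (ih X).2) (fun X => (ih X).1) i α hi0 hα
    have hinj := inj_of_colim φ D hD (q + 1) hinjD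
    have hsurjD : ∀ A, D A → Function.Surjective ((φ.app (q + 1)).app A) := by
      intro A hA α'
      obtain ⟨M, i, hi, hM⟩ := hE A hA
      have := hi
      let S : ShortComplex C := ShortComplex.mk i (cokernel.π i) (cokernel.condition i)
      have hS : S.ShortExact := Groth.Agent.S8611.se_of_mono i
      obtain ⟨μ, hμ⟩ := (hEb (q + 1) M hM).2 ((T'.F (q + 1)).map i α')
      have hμ2 : (φ.app (q + 1)).app S.X₂ μ = (T'.F (q + 1)).map S.f α' := hμ
      have hq : (T.F (q + 1)).map S.g μ = 0 := by
        apply hinj S.X₃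
        rw [Groth.Agent.S8611.nat_el, map_zero, hμ2]
        exact Groth.Agent.S8611.f_g T' S (q + 1) α'
      obtain ⟨a, ha⟩ := Groth.Agent.S8611.ex2 T S hS (q + 1) μ hq
      have hdiff : (T'.F (q + 1)).map i (α' - (φ.app (q + 1)).app A a) = 0 := by
        rw [map_sub]
        have : (T'.F (q + 1)).map i ((φ.app (q + 1)).app A a) = (T'.F (q + 1)).map i α' := by
          rw [← Groth.Agent.S8611.nat_el]
          have ha' : (T.F (q + 1)).map i a = μ := ha
          rw [ha']
          exact hμ
        rw [this, sub_self]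
      obtain ⟨α₀, hα₀⟩ := Groth.Agent.S8611.surj_step φ q (fun X => (ih X).2) i _ hdiff
      refine ⟨α₀ + a, ?_⟩
      rw [map_add, hα₀, sub_add_cancel]
    have hsurj := surj_of_colim φ D hD (q + 1) hsurjD
    exact fun A => ⟨hinj A, hsurj A⟩

end Groth.Agent.S8612
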