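import Groth.Statements.S8618
import Groth.Agent.H86.TraceFix

set_option autoImplicit false
universe u
open SGA4h

namespace Groth.Agent.S8618

open TensorProduct in
/-- Let k be a finite field with q = p^f elements, F₀ ⊂ k its prime field, K an algebraically closed
extension of k, V a finite-dimensional k-vector space and φ a p-linear endomorphism of V (φ(λx) =
λ^p φ(x)); let F = φ^f, a k-linear endomorphism, F_K its K-linear extension to K ⊗_k V and φ_K the
p-linear extension of φ (φ_K(μ ⊗ v) = μ^p ⊗ φ(v)). Then F_K preserves the F₀-subspace W = Ker(φ_K -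
1) of K ⊗_k V, W is finite-dimensional over F₀, and the trace of F_K on W (an element of F₀) equals
the trace of F on V. -/
theorem result {p : ℕ} [Fact p.Prime] (k : Type u) [Field k] [Fintype k]
    [CharP k p] (f : ℕ) (hq : Fintype.card k = p ^ f) (K : Type u) [Field K] [Algebra k K] [IsAlgClosed K]
    (V : Type u) [AddCommGroup V] [Module k V] [FiniteDimensional k V]
    (φ : V →ₛₗ[frobenius k p] V) (F : V →ₗ[k] V) (hF : ∀ x, F x = (⇑φ)^[f] x)
    (φK : K ⊗[k] V →+ K ⊗[k] V) (hφK : ∀ (μ : K) (v : V), φK (μ ⊗ₜ[k] v) = (μ ^ p) ⊗ₜ[k] φ v)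
    (W : Submodule (↥(⊥ : Subfield k)) (K ⊗[k] V)) (hW : ∀ y, y ∈ W ↔ φK y = y) :
    (∀ y, φK y = y → φK (F.baseChange K y) = F.baseChange K y) ∧
    Module.Finite (↥(⊥ : Subfield k)) ↥W ∧
    ∀ (G : ↥W →ₗ[↥(⊥ : Subfield k)] ↥W), (∀ y : ↥W, (↑(G y) : K ⊗[k] V) = F.baseChange K ↑y) →
      algebraMap k K (algebraMap (↥(⊥ : Subfield k)) k (LinearMap.trace (↥(⊥ : Subfield k)) ↥W G)) =
        algebraMap k K (LinearMap.trace k V F) := by
  classical
  have hp0 : 0 < p := (Fact.out : p.Prime).pos
  haveI : CharP K p := charP_of_injective_algebraMap (algebraMap k K).injective p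
  letI algF0K : Algebra (↥(⊥ : Subfield k)) K :=
    { smul := fun r x => (r : k) • x
      algebraMap := (algebraMap k K).comp (⊥ : Subfield k).subtype
      commutes' := fun r x => mul_comm _ _
      smul_def' := fun r x => Algebra.smul_def (r : k) x }
  haveI hST : IsScalarTower (↥(⊥ : Subfield k)) K (K ⊗[k] V) :=
    ⟨fun r x u => smul_assoc (r : k) x u⟩
  have hF0 : ∀ c : K, c ^ p = c → ∃ a : ↥(⊥ : Subfield k), algebraMap (↥(⊥ : Subfield k)) K a = c := by
    intro c hc
    have h1 : c ∈ (⊥ : Subfield K) := (Subfield.mem_bot_iff_pow_eq_self (F := K) (p := p)).2 hc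
    rw [← Subfield.map_bot (algebraMap k K)] at h1
    obtain ⟨a, ha, rfl⟩ := Subfield.mem_map.1 h1
    exact ⟨⟨a, ha⟩, rfl⟩
  have hsl : ∀ (a : K) (u : K ⊗[k] V), φK (a • u) = a ^ p • φK u := by
    intro a u
    induction u using TensorProduct.induction_on with
    | zero => simp
    | tmul μ v => simp only [TensorProduct.smul_tmul', hφK, smul_eq_mul, mul_pow]
    | add x y hx hy => rw [smul_add, map_add, map_add, hx, hy, smul_add]
  have hcomm : ∀ u, φK (F.baseChange K u) = F.baseChange K (φK u) := by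
    intro u
    induction u using TensorProduct.induction_on with
    | zero => simp
    | tmul μ v =>
      have e : φ ((⇑φ)^[f] v) = (⇑φ)^[f] (φ v) :=
        (Function.iterate_succ_apply' φ f v).symm.trans (Function.iterate_succ_apply φ f v)
      rw [LinearMap.baseChange_tmul, hφK, hφK, LinearMap.baseChange_tmul, hF, hF, e]
    | add x y hx hy => rw [map_add, map_add, map_add, map_add, hx, hy]
  have hiterK : ∀ (n : ℕ) (μ : K) (v : V),
      (⇑φK)^[n] (μ ⊗ₜ[k] v) = (μ ^ (p ^ n)) ⊗ₜ[k] (⇑φ)^[n] v := by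
    intro n
    induction n with
    | zero => intro μ v; simp
    | succ n ih =>
      intro μ v
      rw [Function.iterate_succ_apply', ih, hφK, ← pow_mul, ← pow_succ,
        Function.iterate_succ_apply']
  have hFpow : ∀ (j : ℕ) (v : V), (F ^ j) v = (⇑φ)^[f * j] v := by
    intro j
    induction j with
    | zero => intro v; simp
    | succ j ih =>
      intro v
      have e : f * (j + 1) = f + f * j := by ring
      rw [e, Function.iterate_add_apply, ← ih, ← hF, pow_succ', Module.End.mul_apply]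
  have hf1 : 1 ≤ f := by
    rcases Nat.eq_zero_or_pos f with h0 | h
    · exfalso
      rw [h0, pow_zero] at hq
      have := Fintype.one_lt_card (α := k)
      omega
    · exact h
  have hT : ∀ n : ℕ, ∃ j : ℕ, ∀ u : K ⊗[k] V, ∃ w, ((F.baseChange K) ^ j) u = (⇑φK)^[n] w := by
    intro n
    refine ⟨n, fun u => ?_⟩
    induction u using TensorProduct.induction_on with
    | zero => exact ⟨0, by rw [map_zero, Groth.Agent.H86.FrobSL.iterate_zero]⟩
    | tmul μ v =>
      obtain ⟨μ', hμ'⟩ := IsAlgClosed.exists_pow_nat_eq μ (pow_pos hp0 n)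
      have hle : n ≤ f * n := Nat.le_mul_of_pos_left n hf1
      refine ⟨μ' ⊗ₜ[k] (⇑φ)^[f * n - n] v, ?_⟩
      rw [hiterK, hμ', ← Function.iterate_add_apply, Nat.add_sub_cancel' hle,
        ← LinearMap.baseChange_pow, LinearMap.baseChange_tmul, hFpow]
    | add x y hx hy =>
      obtain ⟨w1, h1⟩ := hx
      obtain ⟨w2, h2⟩ := hy
      exact ⟨w1 + w2, by rw [map_add, h1, h2, Groth.Agent.H86.FrobSL.iterate_add]⟩
  have hmain := Groth.Agent.H86.TraceFix.main (p := p) K (K ⊗[k] V) (↥(⊥ : Subfield k)) hF0 φK hsl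
    (F.baseChange K) hcomm hT W hW
  refine ⟨fun y hy => by rw [hcomm, hy], hmain.1, fun G hG => ?_⟩
  have h3 := hmain.2 G hG
  rw [LinearMap.trace_baseChange] at h3
  exact h3

end Groth.Agent.S8618
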