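import Groth.Statements.S8625
import Mathlib.Tactic.Group

set_option autoImplicit false
universe u
open SGA4h

namespace Groth.Agent.S8625

variable {G : Type u} [Group G] (F : G →* G)

/-- (i) in raw form. -/
theorem fix_of_fix (g : G) (h : F (F g * g⁻¹) = F g * g⁻¹) : F (g⁻¹ * F g) = g⁻¹ * F g := by
  have h2 : F (F g) = F g * g⁻¹ * F g := by
    have : F (F g) = F (F g * g⁻¹) * F g := by
      rw [map_mul, map_inv]; group
    rw [this, h]
  rw [map_mul, map_inv, h2]; group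

/-- converse of (i). -/
theorem fix_of_fix' (g : G) (h : F (g⁻¹ * F g) = g⁻¹ * F g) : F (F g * g⁻¹) = F g * g⁻¹ := by
  have h1 : F (F g⁻¹ * (g⁻¹)⁻¹) = F g⁻¹ * (g⁻¹)⁻¹ := by
    have e : F g⁻¹ * (g⁻¹)⁻¹ = (g⁻¹ * F g)⁻¹ := by rw [map_inv]; group
    rw [e, map_inv, h]
  have h2 := fix_of_fix F g⁻¹ h1
  have e : (g⁻¹)⁻¹ * F g⁻¹ = (F g * g⁻¹)⁻¹ := by rw [map_inv]; group
  rw [e, map_inv] at h2
  exact inv_injective h2

/-- Key lemma. -/
theorem key (g₁ g₂ c : G) (hc : F c = c)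
    (h : F g₂ * g₂⁻¹ = c * (F g₁ * g₁⁻¹) * c⁻¹) :
    ∃ e : G, F e = e ∧ g₂⁻¹ * F g₂ = e * (g₁⁻¹ * F g₁) * e⁻¹ := by
  have h2 : F g₂ = c * (F g₁ * g₁⁻¹) * c⁻¹ * g₂ := by rw [← h]; group
  refine ⟨g₂⁻¹ * c * g₁, ?_, ?_⟩
  · rw [map_mul, map_mul, map_inv, h2, hc]; group
  · rw [h2]; group

/-- Key lemma, other direction. -/
theorem key' (g₁ g₂ c : G) (hc : F c = c)
    (h : g₂⁻¹ * F g₂ = c * (g₁⁻¹ * F g₁) * c⁻¹) :
    ∃ e : G, F e = e ∧ F g₂ * g₂⁻¹ = e * (F g₁ * g₁⁻¹) * e⁻¹ := by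
  have h2 : F g₂ = g₂ * (c * (g₁⁻¹ * F g₁) * c⁻¹) := by rw [← h]; group
  refine ⟨g₂ * c * g₁⁻¹, ?_, ?_⟩
  · rw [map_mul, map_mul, map_inv, h2, hc]; group
  · rw [h2]; group

theorem lang' (hL : Function.Surjective fun g : G => F g * g⁻¹) :
    Function.Surjective fun g : G => g⁻¹ * F g := by
  intro x
  obtain ⟨h, hh⟩ := hL x⁻¹
  refine ⟨h⁻¹, ?_⟩
  simp only at hh ⊢
  have : x = (F h * h⁻¹)⁻¹ := by rw [hh, inv_inv]
  rw [this, map_inv]; group

abbrev H : Subgroup G := F.eqLocus (MonoidHom.id G)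

theorem mem_H (x : G) : x ∈ H F ↔ F x = x := Iff.rfl

noncomputable def θ (hL : Function.Surjective fun g : G => F g * g⁻¹) (a : H F) : H F :=
  ⟨(Classical.choose (hL a.1))⁻¹ * F (Classical.choose (hL a.1)), by
    have hs := Classical.choose_spec (hL a.1)
    simp only at hs
    refine fix_of_fix F _ ?_
    rw [hs]; exact a.2⟩

theorem θ_spec (hL : Function.Surjective fun g : G => F g * g⁻¹) (a : H F) :
    ∃ g : G, F g * g⁻¹ = a.1 ∧ (θ F hL a).1 = g⁻¹ * F g :=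
  ⟨Classical.choose (hL a.1), Classical.choose_spec (hL a.1), rfl⟩

theorem isConj_H_iff (a b : H F) : IsConj a b ↔ ∃ c : G, F c = c ∧ b.1 = c * a.1 * c⁻¹ := by
  rw [isConj_iff]
  constructor
  · rintro ⟨c, hc⟩
    refine ⟨c.1, c.2, ?_⟩
    rw [← hc]; simp
  · rintro ⟨c, hc, h⟩
    refine ⟨⟨c, hc⟩, ?_⟩
    apply Subtype.ext
    simp [h]

theorem θ_conj (hL : Function.Surjective fun g : G => F g * g⁻¹) (a₁ a₂ : H F) :
    IsConj a₁ a₂ ↔ IsConj (θ F hL a₁) (θ F hL a₂) := by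
  obtain ⟨g₁, h₁, e₁⟩ := θ_spec F hL a₁
  obtain ⟨g₂, h₂, e₂⟩ := θ_spec F hL a₂
  rw [isConj_H_iff, isConj_H_iff, e₁, e₂, ← h₁, ← h₂]
  constructor
  · rintro ⟨c, hc, h⟩
    exact key F g₁ g₂ c hc h
  · rintro ⟨c, hc, h⟩
    exact key' F g₁ g₂ c hc h

theorem θ_mk (hL : Function.Surjective fun g : G => F g * g⁻¹) (g : G)
    (h : F (F g * g⁻¹) = F g * g⁻¹) (h' : F (g⁻¹ * F g) = g⁻¹ * F g) :
    IsConj (θ F hL ⟨F g * g⁻¹, h⟩) (⟨g⁻¹ * F g, h'⟩ : H F) := by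
  obtain ⟨g₁, h₁, e₁⟩ := θ_spec F hL ⟨F g * g⁻¹, h⟩
  rw [isConj_H_iff, e₁]
  simp only at h₁ ⊢
  refine key F g₁ g 1 (map_one F) ?_
  rw [h₁]; group

/-- Let G be a group with an endomorphism F, and assume the Lang map g ↦ F(g)g⁻¹ is surjective (for
instance the geometric points of a connected algebraic group over F_q with its Frobenius, where the
surjectivity is the classical result of Lang; the other Lang map g ↦ g⁻¹F(g) is then surjective too,
by g ↦ g⁻¹). Let G^F be the subgroup of fixed points of F. (i) If F(g)g⁻¹ is fixed by F then so is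
g⁻¹F(g). (ii), (iii) There is a bijection of the set of conjugacy classes of G^F with itself
sending, for every g with F(g)g⁻¹ ∈ G^F, the class of F(g)g⁻¹ to the class of g⁻¹F(g) (in particular
the latter class depends only on the former). -/
theorem result {G : Type u} [Group G] (F : G →* G)
    (hL : Function.Surjective fun g : G => F g * g⁻¹) :
    (∀ g : G, F (F g * g⁻¹) = F g * g⁻¹ → F (g⁻¹ * F g) = g⁻¹ * F g) ∧
    ∃ φ : ConjClasses ↥(F.eqLocus (MonoidHom.id G)) → ConjClasses ↥(F.eqLocus (MonoidHom.id G)),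
      Function.Bijective φ ∧
      ∀ (g : G) (h : F (F g * g⁻¹) = F g * g⁻¹) (h' : F (g⁻¹ * F g) = g⁻¹ * F g),
        φ (ConjClasses.mk (⟨F g * g⁻¹, h⟩ : ↥(F.eqLocus (MonoidHom.id G)))) =
          ConjClasses.mk (⟨g⁻¹ * F g, h'⟩ : ↥(F.eqLocus (MonoidHom.id G))) := by
  refine ⟨fix_of_fix F, ?_⟩
  let φ : ConjClasses (H F) → ConjClasses (H F) :=
    Quotient.lift (fun a => ConjClasses.mk (θ F hL a))
      (fun a₁ a₂ h => ConjClasses.mk_eq_mk_iff_isConj.mpr ((θ_conj F hL a₁ a₂).mp h))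
  refine ⟨φ, ⟨?_, ?_⟩, ?_⟩
  · intro x y
    induction x using Quotient.inductionOn with | _ a₁ => ?_
    induction y using Quotient.inductionOn with | _ a₂ => ?_
    intro h
    have h' : ConjClasses.mk (θ F hL a₁) = ConjClasses.mk (θ F hL a₂) := h
    rw [ConjClasses.mk_eq_mk_iff_isConj] at h'
    exact Quotient.sound ((θ_conj F hL a₁ a₂).mpr h')
  · intro y
    induction y using Quotient.inductionOn with | _ b => ?_
    obtain ⟨g, hg⟩ := lang' F hL b.1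
    simp only at hg
    have hb : F (g⁻¹ * F g) = g⁻¹ * F g := by rw [hg]; exact b.2
    have ha := fix_of_fix' F g hb
    refine ⟨ConjClasses.mk ⟨F g * g⁻¹, ha⟩, ?_⟩
    have : φ (ConjClasses.mk ⟨F g * g⁻¹, ha⟩) = ConjClasses.mk (θ F hL ⟨F g * g⁻¹, ha⟩) := rfl
    rw [this]
    have hb' : (⟨g⁻¹ * F g, hb⟩ : H F) = b := Subtype.ext hg
    have := θ_mk F hL g ha hb
    rw [hb'] at this
    exact ConjClasses.mk_eq_mk_iff_isConj.mpr this
  · intro g h h'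
    exact ConjClasses.mk_eq_mk_iff_isConj.mpr (θ_mk F hL g h h')

end Groth.Agent.S8625
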