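import Groth.Statements.S8630
import Mathlib

set_option autoImplicit false
open Zeta

namespace Groth.Agent.S8630

theorem exists_int_mul_coeff (q : Polynomial ℚ) :
    ∃ b : ℤ, b ≠ 0 ∧ ∀ n, ∃ z : ℤ, (z : ℚ) = (b : ℚ) * q.coeff n := by
  obtain ⟨b, hb, h⟩ := IsLocalization.integerNormalization_spec (nonZeroDivisors ℤ) q
  refine ⟨b, nonZeroDivisors.ne_zero hb,
    fun n => ⟨(IsLocalization.integerNormalization (nonZeroDivisors ℤ) q).coeff n, ?_⟩⟩
  have h1 := congrArg (fun p : Polynomial ℚ => p.coeff n) h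
  simp only [Polynomial.coeff_map, Polynomial.coeff_smul, zsmul_eq_mul] at h1
  simpa using h1


/-- Fatou's lemma: let P, Q ∈ ℚ[T] be coprime with constant coefficient 1, and suppose the power series
P/Q has integer coefficients, i.e. P = Q·Z in ℚ⟦T⟧ for a power series Z with coefficients in ℤ. Then
P and Q have integer coefficients. -/
theorem result (P Q : Polynomial ℚ)
    (hPQ : IsCoprime P Q) (hP : P.coeff 0 = 1) (hQ : Q.coeff 0 = 1) (Z : PowerSeries ℤ)
    (hZ : (P : PowerSeries ℚ) = (Q : PowerSeries ℚ) * PowerSeries.map (Int.castRingHom ℚ) Z) :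
    (∃ P₀ : Polynomial ℤ, P₀.map (Int.castRingHom ℚ) = P) ∧
      ∃ Q₀ : Polynomial ℤ, Q₀.map (Int.castRingHom ℚ) = Q := by
  classical
  obtain ⟨ι, hι⟩ : ∃ ι : PowerSeries ℤ →+* PowerSeries ℚ, ι = PowerSeries.map (Int.castRingHom ℚ) :=
    ⟨_, rfl⟩
  have hZ' : (P : PowerSeries ℚ) = (Q : PowerSeries ℚ) * ι Z := by
    rw [hι]; exact hZ
  have hιinj : Function.Injective ι := by
    intro f g h
    ext n
    have h1 := congrArg (PowerSeries.coeff n) h
    rw [hι, PowerSeries.coeff_map, PowerSeries.coeff_map] at h1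
    exact Int.cast_injective h1
  have hrange : ∀ f : PowerSeries ℚ, (∀ n, ∃ z : ℤ, (z : ℚ) = PowerSeries.coeff n f) →
      ∃ g, ι g = f := by
    intro f hf
    choose z hz using hf
    refine ⟨PowerSeries.mk z, ?_⟩
    ext n
    rw [hι, PowerSeries.coeff_map, PowerSeries.coeff_mk]
    exact hz n
  have hιC : ∀ a : ℤ, ι (PowerSeries.C a) = PowerSeries.C (a : ℚ) := by
    intro a
    rw [hι, PowerSeries.map_C]
    rfl
  obtain ⟨u, v, huv⟩ := hPQ
  have huv' : (u : PowerSeries ℚ) * (P : PowerSeries ℚ) + (v : PowerSeries ℚ) * (Q : PowerSeries ℚ)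
      = 1 := by
    rw [← Polynomial.coe_mul, ← Polynomial.coe_mul, ← Polynomial.coe_add, huv, Polynomial.coe_one]
  obtain ⟨W, hW⟩ : ∃ W : PowerSeries ℚ, W = (u : PowerSeries ℚ) * ι Z + (v : PowerSeries ℚ) :=
    ⟨_, rfl⟩
  have hQW : (Q : PowerSeries ℚ) * W = 1 := by
    rw [hZ'] at huv'
    rw [hW]
    linear_combination huv'
  obtain ⟨bu, hbu, hu⟩ := exists_int_mul_coeff u
  obtain ⟨bv, hbv, hv⟩ := exists_int_mul_coeff v
  obtain ⟨U, hU⟩ := hrange (PowerSeries.C (bu : ℚ) * (u : PowerSeries ℚ)) (by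
    intro n
    rw [PowerSeries.coeff_C_mul, Polynomial.coeff_coe]
    exact hu n)
  obtain ⟨V, hV⟩ := hrange (PowerSeries.C (bv : ℚ) * (v : PowerSeries ℚ)) (by
    intro n
    rw [PowerSeries.coeff_C_mul, Polynomial.coeff_coe]
    exact hv n)
  obtain ⟨N, hN⟩ : ∃ N : ℤ, N = bu * bv := ⟨_, rfl⟩
  have hN0 : N ≠ 0 := by
    rw [hN]; exact mul_ne_zero hbu hbv
  obtain ⟨W₀, hW₀⟩ : ∃ W₀ : PowerSeries ℤ, ι W₀ = PowerSeries.C (N : ℚ) * W := by
    refine ⟨PowerSeries.C bv * U * Z + PowerSeries.C bu * V, ?_⟩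
    have h1 : (PowerSeries.C (N : ℚ) : PowerSeries ℚ)
        = PowerSeries.C (bu : ℚ) * PowerSeries.C (bv : ℚ) := by
      rw [← map_mul, hN, Int.cast_mul]
    rw [map_add, map_mul, map_mul, map_mul, hιC, hιC, hU, hV, hW, h1]
    ring
  have hex : ∃ c : ℕ, 0 < c ∧
      (Polynomial.C (c : ℚ) * Q) ∈ Polynomial.lifts (Int.castRingHom ℚ) := by
    obtain ⟨b, hb, hq⟩ := exists_int_mul_coeff Q
    refine ⟨(b * b).toNat, ?_, ?_⟩
    · have h1 : 0 < b * b := mul_self_pos.mpr hb
      omega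
    · rw [Polynomial.lifts_iff_coeff_lifts]
      intro n
      obtain ⟨z, hz⟩ := hq n
      refine ⟨b * z, ?_⟩
      rw [Polynomial.coeff_C_mul]
      have h1 : (((b * b).toNat : ℕ) : ℚ) = (b : ℚ) * (b : ℚ) := by
        have h2 : (((b * b).toNat : ℕ) : ℤ) = b * b := Int.toNat_of_nonneg (mul_self_nonneg b)
        exact_mod_cast h2
      rw [h1]
      simp only [eq_intCast, Int.cast_mul]
      rw [hz]
      ring
  obtain ⟨c, hcdef⟩ : ∃ c : ℕ, c = Nat.find hex := ⟨_, rfl⟩
  have hcspec : 0 < c ∧ (Polynomial.C (c : ℚ) * Q) ∈ Polynomial.lifts (Int.castRingHom ℚ) := by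
    rw [hcdef]; exact Nat.find_spec hex
  obtain ⟨hc0, hcl⟩ := hcspec
  have hmin : ∀ c' : ℕ, c' < c → ¬ (0 < c' ∧
      (Polynomial.C (c' : ℚ) * Q) ∈ Polynomial.lifts (Int.castRingHom ℚ)) := by
    intro c' h
    rw [hcdef] at h
    exact Nat.find_min hex h
  have hc1 : c = 1 := by
    by_contra hne
    obtain ⟨p, hp, hpc⟩ := Nat.exists_prime_and_dvd hne
    haveI : Fact p.Prime := ⟨hp⟩
    obtain ⟨c', hc'⟩ := hpc
    have hcz : (c : ℤ) = (p : ℤ) * (c' : ℤ) := by
      rw [hc']; push_cast; rfl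
    have hcq : (c : ℚ) = (p : ℚ) * (c' : ℚ) := by
      rw [hc']; push_cast; rfl
    obtain ⟨Q₀, hQ₀⟩ := (Polynomial.mem_lifts _).mp hcl
    have hQ₀coeff : ∀ n, ((Q₀.coeff n : ℤ) : ℚ) = (c : ℚ) * Q.coeff n := by
      intro n
      have h1 := congrArg (fun f : Polynomial ℚ => f.coeff n) hQ₀
      simpa [Polynomial.coeff_map, Polynomial.coeff_C_mul] using h1
    have hA : ∃ i, ¬ (p : ℤ) ∣ Q₀.coeff i := by
      by_contra hall
      have hall' : ∀ i, (p : ℤ) ∣ Q₀.coeff i := by
        intro i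
        by_contra h
        exact hall ⟨i, h⟩
      have hc'pos : 0 < c' := by
        rcases Nat.eq_zero_or_pos c' with h | h
        · rw [h, mul_zero] at hc'; omega
        · exact h
      have hc'lt : c' < c := by
        rw [hc']
        have := hp.two_le
        nlinarith
      apply hmin c' hc'lt
      refine ⟨hc'pos, ?_⟩
      rw [Polynomial.lifts_iff_coeff_lifts]
      intro n
      obtain ⟨z, hz⟩ := hall' n
      refine ⟨z, ?_⟩
      rw [Polynomial.coeff_C_mul]
      have h1 := hQ₀coeff n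
      rw [hz, hcq] at h1
      push_cast at h1
      have hp0 : (p : ℚ) ≠ 0 := Nat.cast_ne_zero.mpr hp.ne_zero
      have h2 : (p : ℚ) * (z : ℚ) = (p : ℚ) * ((c' : ℚ) * Q.coeff n) := by
        rw [h1]; ring
      simpa using mul_left_cancel₀ hp0 h2
    have hprod : (Q₀ : PowerSeries ℤ) * W₀ = PowerSeries.C ((c : ℤ) * N) := by
      apply hιinj
      rw [map_mul, hW₀, hιC]
      have h1 : ι (Q₀ : PowerSeries ℤ) = PowerSeries.C (c : ℚ) * (Q : PowerSeries ℚ) := by
        rw [hι, ← Polynomial.polynomial_map_coe, hQ₀, Polynomial.coe_mul, Polynomial.coe_C]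
      rw [h1, show (((c : ℤ) * N : ℤ) : ℚ) = (c : ℚ) * (N : ℚ) by push_cast; ring, map_mul]
      linear_combination (PowerSeries.C (c : ℚ) * PowerSeries.C (N : ℚ)) * hQW
    have hB : ∀ k : ℕ, ((p : ℤ) ^ k ∣ (c : ℤ) * N) →
        ∀ n, (p : ℤ) ^ k ∣ PowerSeries.coeff n W₀ := by
      intro k
      induction k with
      | zero =>
        intro _ n
        simp
      | succ k ih =>
        intro hk n
        have hk' : (p : ℤ) ^ k ∣ (c : ℤ) * N :=
          dvd_trans (pow_dvd_pow _ (Nat.le_succ k)) hk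
        have ihk := ih hk'
        obtain ⟨Wk, hWk⟩ : ∃ Wk : PowerSeries ℤ, W₀ = PowerSeries.C ((p : ℤ) ^ k) * Wk := by
          refine ⟨PowerSeries.mk (fun n => PowerSeries.coeff n W₀ / (p : ℤ) ^ k), ?_⟩
          ext n
          rw [PowerSeries.coeff_C_mul, PowerSeries.coeff_mk, Int.mul_ediv_cancel' (ihk n)]
        obtain ⟨m, hm⟩ := hk
        have hQWk : (Q₀ : PowerSeries ℤ) * Wk = PowerSeries.C ((p : ℤ) * m) := by
          have h3 : (p : ℤ) ^ k * ((p : ℤ) * m) = (c : ℤ) * N := by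
            rw [hm, pow_succ]; ring
          have h2 : PowerSeries.C ((p : ℤ) ^ k) * ((Q₀ : PowerSeries ℤ) * Wk)
              = PowerSeries.C ((p : ℤ) ^ k) * PowerSeries.C ((p : ℤ) * m) := by
            rw [← map_mul, h3, ← hprod, hWk]
            ring
          ext n
          have h4 := congrArg (PowerSeries.coeff n) h2
          rw [PowerSeries.coeff_C_mul, PowerSeries.coeff_C_mul] at h4
          exact mul_left_cancel₀ (pow_ne_zero k (by exact_mod_cast hp.ne_zero)) h4
        obtain ⟨π, hπ⟩ : ∃ π : PowerSeries ℤ →+* PowerSeries (ZMod p),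
            π = PowerSeries.map (Int.castRingHom (ZMod p)) := ⟨_, rfl⟩
        have h5 : π (Q₀ : PowerSeries ℤ) * π Wk = 0 := by
          rw [← map_mul, hQWk, hπ, PowerSeries.map_C]
          have h6 : (Int.castRingHom (ZMod p)) ((p : ℤ) * m) = 0 := by
            rw [map_mul]
            simp
          rw [h6, map_zero]
        have h6 : π (Q₀ : PowerSeries ℤ) ≠ 0 := by
          obtain ⟨i, hi⟩ := hA
          intro h0
          have h7 := congrArg (PowerSeries.coeff i) h0
          rw [hπ, PowerSeries.coeff_map, Polynomial.coeff_coe, map_zero] at h7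
          exact hi ((ZMod.intCast_zmod_eq_zero_iff_dvd _ p).mp h7)
        have h8 : π Wk = 0 := (mul_eq_zero.mp h5).resolve_left h6
        have h9 : (p : ℤ) ∣ PowerSeries.coeff n Wk := by
          have h10 := congrArg (PowerSeries.coeff n) h8
          rw [hπ, PowerSeries.coeff_map, map_zero] at h10
          exact (ZMod.intCast_zmod_eq_zero_iff_dvd _ p).mp h10
        rw [hWk, PowerSeries.coeff_C_mul, pow_succ]
        exact mul_dvd_mul_left _ h9
    have hW0 : PowerSeries.coeff 0 W₀ = N := by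
      have h1 := congrArg (PowerSeries.coeff 0) hprod
      rw [PowerSeries.coeff_zero_C, PowerSeries.coeff_zero_eq_constantCoeff_apply, map_mul,
        Polynomial.constantCoeff_coe, ← PowerSeries.coeff_zero_eq_constantCoeff_apply] at h1
      have h2 : Q₀.coeff 0 = (c : ℤ) := by
        have h3 := hQ₀coeff 0
        rw [hQ, mul_one] at h3
        exact_mod_cast h3
      rw [h2] at h1
      exact mul_left_cancel₀ (by exact_mod_cast hc0.ne') h1
    have hpow : ∀ k : ℕ, (p : ℤ) ^ k ∣ N := by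
      intro k
      induction k with
      | zero => simp
      | succ k ih =>
        have h1 : (p : ℤ) ^ (k + 1) ∣ (c : ℤ) * N := by
          obtain ⟨m, hm⟩ := ih
          refine ⟨(c' : ℤ) * m, ?_⟩
          rw [hcz, hm, pow_succ]
          ring
        have h2 := hB (k + 1) h1 0
        rwa [hW0] at h2
    have habs : p ^ N.natAbs ∣ N.natAbs := by
      have h3 := Int.natAbs_dvd_natAbs.mpr (hpow N.natAbs)
      simpa [Int.natAbs_pow] using h3
    have hpos : 0 < N.natAbs := Int.natAbs_pos.mpr hN0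
    have hle := Nat.le_of_dvd hpos habs
    have hlt : N.natAbs < p ^ N.natAbs := Nat.lt_pow_self hp.one_lt
    omega
  rw [hc1] at hcl
  have hQl : Q ∈ Polynomial.lifts (Int.castRingHom ℚ) := by
    simpa using hcl
  obtain ⟨Q₀, hQ₀⟩ := (Polynomial.mem_lifts _).mp hQl
  refine ⟨?_, ⟨Q₀, hQ₀⟩⟩
  rw [← Polynomial.mem_lifts, Polynomial.lifts_iff_coeff_lifts]
  intro n
  refine ⟨PowerSeries.coeff n ((Q₀ : PowerSeries ℤ) * Z), ?_⟩
  have h1 : (P : PowerSeries ℚ) = ι ((Q₀ : PowerSeries ℤ) * Z) := by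
    rw [map_mul, hι, ← Polynomial.polynomial_map_coe, hQ₀]
    exact hZ
  have h2 := congrArg (PowerSeries.coeff n) h1
  rw [Polynomial.coeff_coe, hι, PowerSeries.coeff_map] at h2
  exact h2.symm

end Groth.Agent.S8630
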