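import Groth.Statements.S8637

set_option autoImplicit false
open Zeta

namespace Groth.Agent.S8637

theorem prod_aux {ι : Type} [DecidableEq ι] (f : ι → PowerSeries ℝ) (t : Finset ι) :
    (∀ j ∈ t, PowerSeries.constantCoeff (f j) = 1) →
    (∀ j ∈ t, ∀ n : ℕ, 0 ≤ PowerSeries.coeff n (f j)) →
      PowerSeries.constantCoeff (∏ j ∈ t, f j) = 1 ∧
        ∀ n : ℕ, 0 ≤ PowerSeries.coeff n (∏ j ∈ t, f j) := by
  induction t using Finset.induction_on with
  | empty =>
    intro _ _
    refine ⟨by simp, fun n => ?_⟩
    rw [Finset.prod_empty, PowerSeries.coeff_one]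
    split_ifs <;> norm_num
  | insert a t ha ih =>
    intro h0 hpos
    have h := ih (fun j hj => h0 j (Finset.mem_insert_of_mem hj))
      (fun j hj => hpos j (Finset.mem_insert_of_mem hj))
    rw [Finset.prod_insert ha]
    refine ⟨by simp [h.1, h0 a (Finset.mem_insert_self _ _)], fun n => ?_⟩
    rw [PowerSeries.coeff_mul]
    exact Finset.sum_nonneg fun p _ =>
      mul_nonneg (hpos a (Finset.mem_insert_self _ _) _) (h.2 _)

/-- First assertion, for a finite family: let (f_i) be finitely many formal power series with real
coefficients, each with constant term 1 and all coefficients ≥ 0, and let f be their product. Then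
for every i and every n the n-th coefficient of f_i is at most the n-th coefficient of f (so the
radius of absolute convergence of f_i is at least that of f). (Stated for a finite family; for an
infinite product whose factors f_i - 1 have orders tending to infinity each coefficient is that of a
finite sub-product, so the same inequality holds.) -/
theorem result {ι : Type} (s : Finset ι) (f : ι → PowerSeries ℝ)
    (h0 : ∀ i ∈ s, PowerSeries.constantCoeff (f i) = 1)
    (hpos : ∀ i ∈ s, ∀ n : ℕ, 0 ≤ PowerSeries.coeff n (f i)) (i : ι) (hi : i ∈ s) (n : ℕ) :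
    PowerSeries.coeff n (f i) ≤ PowerSeries.coeff n (∏ j ∈ s, f j) := by
  classical
  obtain ⟨hc, hp⟩ := prod_aux f (s.erase i) (fun j hj => h0 j (Finset.mem_of_mem_erase hj))
    (fun j hj => hpos j (Finset.mem_of_mem_erase hj))
  rw [← Finset.mul_prod_erase s f hi, PowerSeries.coeff_mul]
  have hmem : (n, 0) ∈ Finset.antidiagonal n := by simp
  have hle := Finset.single_le_sum
    (f := fun p : ℕ × ℕ => PowerSeries.coeff p.1 (f i) * PowerSeries.coeff p.2 (∏ j ∈ s.erase i, f j))
    (fun p _ => mul_nonneg (hpos i hi _) (hp _)) hmem
  simp only [PowerSeries.coeff_zero_eq_constantCoeff_apply, hc, mul_one] at hle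
  exact hle

end Groth.Agent.S8637
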