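import Groth.Statements.S8650
import Groth.Agent.H43.LambdaBasic

set_option autoImplicit false
universe u
open Finset
open LambdaRing

namespace Groth.Agent.S8650

open Groth.Agent.H43 in
theorem aux (K : Type u) [CommRing K] [LambdaRing.LambdaOps K]
    (h1 : ∀ k : ℕ, 2 ≤ k → LambdaRing.LambdaOps.lam k (1 : K) = 0) (n : ℕ) (y : K) :
    LambdaRing.LambdaOps.lam n (y - 1) =
      (-1 : K) ^ n * ∑ i ∈ range (n + 1), (-1 : K) ^ i * LambdaRing.LambdaOps.lam i y := by
  induction n with
  | zero => simp [LambdaOps.lam_zero]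
  | succ n ih =>
    have h := lam_add_one h1 n (y - 1)
    rw [sub_add_cancel] at h
    have h' : LambdaOps.lam (n + 1) (y - 1) = LambdaOps.lam (n + 1) y - LambdaOps.lam n (y - 1) := by
      rw [h]; ring
    rw [h', ih, Finset.sum_range_succ _ (n + 1)]
    have e : (-1 : K) ^ (n + 1) * (-1 : K) ^ (n + 1) = 1 := by
      rw [← mul_pow]; simp
    calc LambdaOps.lam (n + 1) y - (-1 : K) ^ n * ∑ i ∈ range (n + 1), (-1 : K) ^ i * LambdaOps.lam i y
        = (-1 : K) ^ (n + 1) * ∑ i ∈ range (n + 1), (-1 : K) ^ i * LambdaOps.lam i y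
            + ((-1 : K) ^ (n + 1) * (-1 : K) ^ (n + 1)) * LambdaOps.lam (n + 1) y := by
          rw [e, pow_succ]; ring
      _ = _ := by ring

/-- Let K be a pre-λ-ring (λ^0 = 1, λ^1 = id, additive formula) in which λ^k(1) = 0 for all k ≥ 2. Then
for every x ∈ K and every n, λ^n(x + n − 1) = (−1)^n Σ_{i=0}^{n} (−1)^i λ^i(x + n). (The published
statement is for a λ-ring; its proof uses only additivity and λ_t(1) = 1 + t, the hypotheses taken
here.) -/
theorem result (K : Type u) [CommRing K] [LambdaRing.LambdaOps K]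
    (h1 : ∀ k : ℕ, 2 ≤ k → LambdaRing.LambdaOps.lam k (1 : K) = 0) (n : ℕ) (x : K) :
    LambdaRing.LambdaOps.lam n (x + (n : K) - 1) =
      (-1 : K) ^ n * ∑ i ∈ range (n + 1), (-1 : K) ^ i * LambdaRing.LambdaOps.lam i (x + (n : K)) :=
  aux K h1 n (x + (n : K))

end Groth.Agent.S8650
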