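import Groth.Statements.S8661
import Groth.Agent.H56.LciSch2
-- import your own Groth.Agent.* helpers here

set_option autoImplicit false
universe u
open CategoryTheory CategoryTheory.Limits AlgebraicGeometry
open Synt

namespace Groth.Agent.S8661

/-- Let f : X ⟶ Y and g : Y ⟶ Z be local complete intersection morphisms in the factorisation sense
(around each point, locally of finite type and factoring as a Koszul-regular immersion followed by a
smooth morphism). Then f ≫ g is a local complete intersection morphism in the same sense. -/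
theorem result {X Y Z : Scheme.{u}} (f : X ⟶ Y) (g : Y ⟶ Z)
    (hf : ∀ x : X, Synt.IsKoszulAt f x) (hg : ∀ y : Y, Synt.IsKoszulAt g y) : ∀ x : X, Synt.IsKoszulAt (f ≫ g) x := by
  intro x
  have hfg : Groth.Agent.H56.LciMor.IsLCIMor (f ≫ g) :=
    Groth.Agent.H56.LciMor.lci_comp Groth.Agent.H56.LciSch.hloc f g
      (Groth.Agent.H56.LciSch.isLCIMor_of_isKoszulAt f hf)
      (Groth.Agent.H56.LciSch.isLCIMor_of_isKoszulAt g hg)
  obtain ⟨W, hW, hxW, -⟩ :=
    exists_isAffineOpen_mem_and_subset (x := (f ≫ g) x) (U := ⊤) trivial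
  obtain ⟨U, hU, hxU, hUW⟩ :=
    exists_isAffineOpen_mem_and_subset (x := x) (U := (f ≫ g) ⁻¹ᵁ W) hxW
  exact Groth.Agent.H56.LciSch.isKoszulAt_of_isLCI (f ≫ g) x hU hW hUW hxU (hfg U W hU hW hUW)

end Groth.Agent.S8661
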