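import Groth.Statements.S8663
import Groth.Agent.H56.SmoothPerf
-- import your own Groth.Agent.* helpers here

set_option autoImplicit false
universe u
open CategoryTheory CategoryTheory.Limits AlgebraicGeometry
open Synt

namespace Groth.Agent.S8663

/-- Let f : X ⟶ Y be a local complete intersection morphism in the factorisation sense (around each
point of X, f is locally of finite type and factors as a Koszul-regular immersion followed by a
smooth morphism). Then f is a perfect morphism: for all affine opens U ⊆ f⁻¹(V), the ring map O_Y(V)
→ O_X(U) is pseudo-coherent and of finite tor-dimension. -/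
theorem result {X Y : Scheme.{u}} (f : X ⟶ Y) (hf : ∀ x : X, Synt.IsKoszulAt f x) :
    MoreMor.IsPerfectMor f := by
  rw [Groth.Agent.H56.PcMor.isPerfectMor_iff]
  haveI := HasRingHomProperty.stableUnderComposition (P := Groth.Agent.H56.PcMor.PP)
    Groth.Agent.H56.PcMor.qp_stableUnderComposition
  choose U P i π hxU hlft hi hπ hcomm using hf
  rw [IsZariskiLocalAtSource.iff_of_iSup_eq_top (P := Groth.Agent.H56.PcMor.PP) U
    (eq_top_iff.2 (fun x _ => TopologicalSpace.Opens.mem_iSup.2 ⟨x, hxU x⟩))]
  intro x
  rw [← hcomm x]
  haveI := hπ x
  exact MorphismProperty.comp_mem _ _ _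
    (Groth.Agent.H56.PcMor.pp_of_koszulRegularImmersion (i x) (hi x))
    (Groth.Agent.H56.PcMor.pp_of_smooth (π x))

end Groth.Agent.S8663
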