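import Groth.Statements.S8666
import Mathlib
-- import your own Groth.Agent.* helpers here

set_option autoImplicit false
universe u
open CAlg

namespace Groth.Agent.S8666

/-- Let A be a Noetherian ring, M an invertible A-module and p_1, …, p_k finitely many primes of A
(points of Spec A). Then there is a single element s ∈ M whose image generates M_{p_i} as an
A_{p_i}-module for every i, i.e. s is a basis of the stalk of M at each of the given points. -/
theorem result (A : Type u) [CommRing A] [IsNoetherianRing A]
    (M : Type u) [AddCommGroup M] [Module A M] [Module.Invertible A M] (ι : Type) [Finite ι] (p : ι → PrimeSpectrum A) :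
    ∃ s : M, ∀ i : ι, Submodule.span (Localization.AtPrime (p i).asIdeal)
      {LocalizedModule.mkLinearMap (p i).asIdeal.primeCompl M s} = ⊤ := by
  classical
  rcases isEmpty_or_nonempty ι with hι | hι
  · exact ⟨0, fun i => isEmptyElim i⟩
  -- the multiplicative set: complement of the union of the primes
  let T : Submonoid A := ⨅ i, (p i).asIdeal.primeCompl
  let B := Localization T
  have hTle : ∀ i, T ≤ (p i).asIdeal.primeCompl := fun i => iInf_le _ i
  have hdisj : ∀ i, Disjoint (T : Set A) ((p i).asIdeal : Set A) := by
    intro i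
    rw [Set.disjoint_left]
    intro x hxT hxp
    exact (hTle i hxT) hxp
  -- B is semilocal
  have hfin : Finite (MaximalSpectrum B) := by
    have hsub : ∀ m : MaximalSpectrum B,
        ∃ i, m.asIdeal = Ideal.map (algebraMap A B) (p i).asIdeal := by
      intro m
      have hmp : m.asIdeal.IsPrime := m.isMaximal.isPrime
      have hd : Disjoint (T : Set A) ((m.asIdeal.under A : Ideal A) : Set A) :=
        ((IsLocalization.isPrime_iff_isPrime_disjoint T B m.asIdeal).mp hmp).2
      have hsubset : ((m.asIdeal.under A : Ideal A) : Set A) ⊆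
          ⋃ i ∈ (Set.univ : Set ι), ((p i).asIdeal : Set A) := by
        intro x hx
        by_contra hcon
        have hxT : x ∈ T := by
          rw [Submonoid.mem_iInf]
          intro i hxi
          exact hcon (Set.mem_biUnion (Set.mem_univ i) hxi)
        exact Set.disjoint_left.mp hd hxT hx
      obtain ⟨i, -, hi⟩ := (Ideal.subset_union_prime_finite Set.finite_univ
        (Classical.arbitrary ι) (Classical.arbitrary ι)
        (fun i _ _ _ => (p i).isPrime)).mp hsubset
      refine ⟨i, ?_⟩
      have h1 : m.asIdeal ≤ Ideal.map (algebraMap A B) (p i).asIdeal := by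
        rw [← IsLocalization.map_under T B m.asIdeal]
        exact Ideal.map_mono hi
      have h2 : Ideal.map (algebraMap A B) (p i).asIdeal ≠ ⊤ :=
        (IsLocalization.isPrime_of_isPrime_disjoint T B _ (p i).isPrime (hdisj i)).ne_top
      exact m.isMaximal.eq_of_le h2 h1
    choose σ hσ using hsub
    exact Finite.of_injective σ (fun m m' h => MaximalSpectrum.ext (by rw [hσ m, hσ m', h]))
  -- the localized module is free of rank one
  have hfree : Module.Free B (LocalizedModule T M) := inferInstance
  obtain ⟨e⟩ := (Module.Invertible.free_iff_linearEquiv (R := B) (M := LocalizedModule T M)).mp hfree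
  have hgen : Submodule.span B {e.symm 1} = ⊤ := by
    rw [eq_top_iff]
    intro y _
    rw [Submodule.mem_span_singleton]
    refine ⟨e y, ?_⟩
    rw [← map_smul, smul_eq_mul, mul_one, e.symm_apply_apply]
  obtain ⟨m, t, hmt⟩ : ∃ (m : M) (t : T), e.symm 1 = LocalizedModule.mk m t := by
    induction e.symm 1 using LocalizedModule.induction_on with
    | h m t => exact ⟨m, t, rfl⟩
  -- key property of m
  have key : ∀ n : M, ∃ (a : A) (t' : T), (t' : A) • n = a • m := by
    intro n
    have hn : (LocalizedModule.mk n 1 : LocalizedModule T M) ∈ Submodule.span B {e.symm 1} := by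
      rw [hgen]; trivial
    rw [Submodule.mem_span_singleton] at hn
    obtain ⟨b, hb⟩ := hn
    obtain ⟨a, t₁, rfl⟩ := IsLocalization.exists_mk'_eq T b
    rw [hmt, ← Localization.mk_eq_mk', LocalizedModule.mk_smul_mk, LocalizedModule.mk_eq] at hb
    obtain ⟨u, hu⟩ := hb
    -- hu : u • 1 • a • m = u • (t₁ * t) • n
    refine ⟨(u : A) * a, u * (t₁ * t), ?_⟩
    rw [one_smul] at hu
    simp only [Submonoid.smul_def, Submonoid.coe_mul] at hu ⊢
    rw [mul_smul, ← hu, mul_smul]
  refine ⟨m, fun i => ?_⟩
  rw [eq_top_iff]
  intro y _
  induction y using LocalizedModule.induction_on with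
  | h n w =>
    obtain ⟨a, t', ht'⟩ := key n
    rw [Submodule.mem_span_singleton]
    refine ⟨Localization.mk a (⟨(t' : A), hTle i t'.2⟩ * w), ?_⟩
    rw [LocalizedModule.mkLinearMap_apply, LocalizedModule.mk_smul_mk, LocalizedModule.mk_eq]
    refine ⟨1, ?_⟩
    simp only [Submonoid.smul_def, Submonoid.coe_mul, Submonoid.coe_one, one_smul, mul_one]
    rw [mul_smul, smul_comm (t' : A) (w : A) n, ht']

end Groth.Agent.S8666
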