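import Groth.Statements.S8674
import Groth.Agent.H18.FinPtsTwist

open Groth.Agent.H18 Groth.Agent.H18.TensorGen Groth.Agent.H18.TensorPowIso

set_option autoImplicit false
universe v u
open CategoryTheory CategoryTheory.Limits AlgebraicGeometry
attribute [local instance] HasDerivedCategory.standard
open KRR

namespace Groth.Agent.S8674

/-- Let X be a Noetherian scheme with an ample invertible O_X-module L, E an invertible O_X-module and
x_1, …, x_k finitely many points of X. Then there is an integer n such that for every k ≥ 1 there is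
a global section s : O_X ⟶ E ⊗ L^{⊗ kn} which is a basis of E ⊗ L^{⊗ kn} at every x_i (each x_i lies
in the largest open over which s is an isomorphism). -/
theorem result (X : Scheme.{u}) [IsNoetherian X] (L : X.Modules) (hL : CohB1.IsAmple L)
    (E : X.Modules) (hE : PicF.IsInvertible E) (ι : Type) [Finite ι] (x : ι → ↥X) :
    ∃ n : ℕ, ∀ k : ℕ, 1 ≤ k → ∃ s : Coh.structureModule X ⟶ CohB1.tensorMod E (CohB1.tensorPow L (k * n)),
      ∀ i : ι, x i ∈ CohB1.genLocus (CohB1.tensorMod E (CohB1.tensorPow L (k * n))) s := by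
  have hinv := hL.1
  have hc : CompactSpace X := hL.2.1
  have hqs := AmpleBasis.quasiSeparatedSpace_of_isAmple hL
  obtain ⟨n₁, t, hPt, -, haff⟩ := FinPtsAmple.exists_pow_section_affine_of_finite hL ⊤
    (Set.range x) (Set.finite_range x) (fun _ _ => trivial)
  obtain ⟨N, hN⟩ := FinPtsTwist.exists_sections_twists (isInvertible_tensorPow hinv (n₁ + 1)) t
    haff hE (Set.range x) (Set.finite_range x) hPt
  refine ⟨(n₁ + 1) * (N + 1), fun k hk => ?_⟩
  obtain ⟨σ, hσ⟩ := hN (k * (N + 1))
    ((Nat.le_succ N).trans (Nat.le_mul_of_pos_left (N + 1) hk))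
  obtain ⟨e₁⟩ := nonempty_tensorPow_tensorPow hinv (n₁ + 1) (k * (N + 1))
  obtain ⟨c₁⟩ := nonempty_tensorPow_congr L
    (show (n₁ + 1) * (k * (N + 1)) = k * ((n₁ + 1) * (N + 1)) by ring)
  obtain ⟨φ⟩ := TensorModIso.nonempty_tensorMod_congr (Iso.refl E) (e₁ ≪≫ c₁)
  refine ⟨σ ≫ φ.hom, fun i => ?_⟩
  rw [TwistAmple.genLocus_comp_iso]
  exact hσ ⟨i, rfl⟩

end Groth.Agent.S8674
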