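import Groth.Statements.S8678
import Groth.Agent.H43.LambdaBasic

set_option autoImplicit false
universe u
open Finset
open LambdaRing

namespace Groth.Agent.S8678

open Groth.Agent.H43 PowerSeries

variable {K : Type u} [CommRing K]

theorem lamSeries_line [LambdaRing.LambdaOps K] (y : K)
    (hy : ∀ j : ℕ, 2 ≤ j → LambdaOps.lam j y = 0) :
    lamSeries y = 1 + PowerSeries.C y * PowerSeries.X := by
  ext k
  rw [coeff_lamSeries, map_add, PowerSeries.coeff_one]
  rcases k with _ | _ | k
  · simp [LambdaOps.lam_zero]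
  · simp [LambdaOps.lam_one]
  · rw [hy _ (by omega), if_neg (by omega), zero_add, show k + 1 + 1 = (k + 1) + 1 by rfl,
      PowerSeries.coeff_succ_mul_X, PowerSeries.coeff_C, if_neg (Nat.succ_ne_zero k)]

theorem telescope (R : PowerSeries K) (m : ℕ) :
    ∑ i ∈ range (m + 1), (-1 : K) ^ i * PowerSeries.coeff i (R * (1 + PowerSeries.X)) =
      (-1 : K) ^ m * PowerSeries.coeff m R := by
  induction m with
  | zero => simp
  | succ m ih =>
    rw [Finset.sum_range_succ, ih, mul_add, mul_one, map_add, PowerSeries.coeff_succ_mul_X, pow_succ]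
    ring

/-- As the identity it proves in the pre-λ-ring K(Y') of the exceptional divisor: let K be a pre-λ-ring
(λ^0 = 1, λ^1 = id, additive formula) with λ^k(1) = 0 for all k ≥ 2, let d ≥ 2, and let F, L, N' ∈ K
satisfy λ^j(L) = 0 for j ≥ 2 (L is the class of an invertible module), λ^i(N') = 0 for i ≥ d − 1 (N'
is the class of a bundle of rank d − 2) and F + L = N' + 2 (for the blowing up of a regular
immersion of codimension d: on the exceptional divisor the pulled-back conormal class is F + L, and
N = N' + 2). Then 1 − L divides λ_{−1}(F) = Σ_{i<d} (−1)^i λ^i(F). (The published proof uses only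
additivity of λ_t and λ_t(1) = 1 + t, the hypotheses taken here.) -/
theorem result (K : Type u) [CommRing K] [LambdaRing.LambdaOps K]
    (h1 : ∀ k : ℕ, 2 ≤ k → LambdaRing.LambdaOps.lam k (1 : K) = 0) (d : ℕ) (hd : 2 ≤ d) (F L N' : K)
    (hL : ∀ j : ℕ, 2 ≤ j → LambdaRing.LambdaOps.lam j L = 0) (hN' : ∀ i : ℕ, d - 1 ≤ i → LambdaRing.LambdaOps.lam i N' = 0)
    (hrel : F + L = N' + 2) :
    (1 - L) ∣ ∑ i ∈ range d, (-1 : K) ^ i * LambdaRing.LambdaOps.lam i F := by
  have hFL : lamSeries F * lamSeries L =
      lamSeries N' * ((1 + PowerSeries.X) * (1 + PowerSeries.X)) := by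
    rw [← lamSeries_add, hrel, lamSeries_add, show (2 : K) = 1 + 1 by norm_num, lamSeries_add,
      lamSeries_one h1]
  set U : PowerSeries K := (1 + PowerSeries.C L * PowerSeries.X).invOfUnit 1 with hUdef
  have hU : (1 + PowerSeries.C L * PowerSeries.X) * U = 1 :=
    PowerSeries.mul_invOfUnit _ 1 (by simp)
  have h2 : (1 + PowerSeries.X) * U = 1 + PowerSeries.C (1 - L) * PowerSeries.X * U := by
    have : (1 + PowerSeries.X : PowerSeries K) =
        (1 + PowerSeries.C L * PowerSeries.X) + PowerSeries.C (1 - L) * PowerSeries.X := by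
      rw [map_sub, map_one]; ring
    rw [this, add_mul, hU]
  have hΛ : lamSeries F = lamSeries N' * (1 + PowerSeries.X) +
      PowerSeries.C (1 - L) * (PowerSeries.X * U * (lamSeries N' * (1 + PowerSeries.X))) := by
    have e : lamSeries F = lamSeries F * ((1 + PowerSeries.C L * PowerSeries.X) * U) := by
      rw [hU, mul_one]
    rw [e, ← mul_assoc, ← lamSeries_line L hL, hFL]
    calc lamSeries N' * ((1 + PowerSeries.X) * (1 + PowerSeries.X)) * U
        = lamSeries N' * (1 + PowerSeries.X) * ((1 + PowerSeries.X) * U) := by ring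
      _ = _ := by rw [h2]; ring
  set G : PowerSeries K := PowerSeries.X * U * (lamSeries N' * (1 + PowerSeries.X)) with hG
  have hcoef : ∀ i : ℕ, LambdaOps.lam i F =
      PowerSeries.coeff i (lamSeries N' * (1 + PowerSeries.X)) + (1 - L) * PowerSeries.coeff i G := by
    intro i
    rw [← coeff_lamSeries, hΛ, map_add, PowerSeries.coeff_C_mul]
  obtain ⟨m, rfl⟩ : ∃ m, d = m + 1 := ⟨d - 1, by omega⟩
  have ht := telescope (lamSeries N') m
  rw [coeff_lamSeries, hN' m (by omega), mul_zero] at ht
  refine ⟨∑ i ∈ range (m + 1), (-1 : K) ^ i * PowerSeries.coeff i G, ?_⟩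
  calc ∑ i ∈ range (m + 1), (-1 : K) ^ i * LambdaOps.lam i F
      = ∑ i ∈ range (m + 1), (-1 : K) ^ i * PowerSeries.coeff i (lamSeries N' * (1 + PowerSeries.X))
        + (1 - L) * ∑ i ∈ range (m + 1), (-1 : K) ^ i * PowerSeries.coeff i G := by
        rw [Finset.mul_sum, ← Finset.sum_add_distrib]
        apply Finset.sum_congr rfl
        intro i _
        rw [hcoef i]; ring
    _ = _ := by rw [ht, zero_add]

end Groth.Agent.S8678
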