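import Groth.Statements.S8687
import Groth.Agent.H43.UnivPoly

set_option autoImplicit false
universe u
open LambdaRing

namespace Groth.Agent.S8687

open Groth.Agent.H43 PowerSeries Finset

/-- Let K be a λ-ring in the strict sense (λ_t(1) = 1 + t and the identities λ^n(xy) = P_n(λ^1 x, …; λ^1
y, …), λ^j(λ^i x) = Q_{i,j}(λ^1 x, …) for the universal polynomials). Then for every k ≥ 1 the Adams
operation ψ^k is multiplicative: ψ^k(xy) = ψ^k(x) ψ^k(y). The hypothesis hP, that a universal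
polynomial P_n exists for every n, is a true statement carried here so that the product identities
of K can be used at every n. -/
theorem result (K : Type u) [CommRing K] [LambdaRing.LambdaOps K]
    (hK : LambdaRing.IsSpecial K)
    (hP : ∀ n : ℕ, ∃ P : MvPolynomial (Fin n ⊕ Fin n) ℤ, LambdaRing.IsMulPoly n P)
    (k : ℕ) (hk : 1 ≤ k) (x y : K) :
    LambdaRing.adamsOp k (x * y) = LambdaRing.adamsOp k x * LambdaRing.adamsOp k y := by
  obtain ⟨r, rfl⟩ : ∃ r, k = r + 1 := ⟨k - 1, by omega⟩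
  choose Pm hPm using hP
  let ρ : ∀ m : Fin (r + 1), Fin ((m : ℕ) + 1) → Fin (r + 1) :=
    fun m => Fin.castLE (Nat.succ_le_of_lt m.isLt)
  let c : Fin (r + 1) → MvPolynomial (Fin (r + 1) ⊕ Fin (r + 1)) ℤ :=
    fun m => MvPolynomial.rename (Sum.map (ρ m) (ρ m)) (Pm ((m : ℕ) + 1))
  set EX : PowerSeries (MvPolynomial (Fin (r + 1) ⊕ Fin (r + 1)) ℤ) :=
    tser (r + 1) (fun i => MvPolynomial.X (Sum.inl i)) with hEX
  set EY : PowerSeries (MvPolynomial (Fin (r + 1) ⊕ Fin (r + 1)) ℤ) :=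
    tser (r + 1) (fun i => MvPolynomial.X (Sum.inr i)) with hEY
  set EXY : PowerSeries (MvPolynomial (Fin (r + 1) ⊕ Fin (r + 1)) ℤ) := tser (r + 1) c with hEXY
  set φ : MvPolynomial (Fin (r + 1) ⊕ Fin (r + 1)) ℤ →ₐ[ℤ] K :=
    MvPolynomial.aeval (Sum.elim (fun i : Fin (r + 1) => LambdaOps.lam ((i : ℕ) + 1) x)
      (fun i : Fin (r + 1) => LambdaOps.lam ((i : ℕ) + 1) y)) with hφ
  set ι := iota2 ℤ (r + 1) (r + 1) with hι
  have cEX : constantCoeff EX = 1 := constantCoeff_tser _ _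
  have cEY : constantCoeff EY = 1 := constantCoeff_tser _ _
  have cEXY : constantCoeff EXY = 1 := constantCoeff_tser _ _
  -- the side of `K`
  have hφc : ∀ m : Fin (r + 1), φ (c m) = LambdaOps.lam ((m : ℕ) + 1) (x * y) := by
    intro m
    have hfun : (Sum.elim (fun i : Fin (r + 1) => LambdaOps.lam ((i : ℕ) + 1) x)
        (fun i : Fin (r + 1) => LambdaOps.lam ((i : ℕ) + 1) y)) ∘ Sum.map (ρ m) (ρ m) =
        Sum.elim (fun i : Fin ((m : ℕ) + 1) => LambdaOps.lam ((i : ℕ) + 1) x)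
          (fun i : Fin ((m : ℕ) + 1) => LambdaOps.lam ((i : ℕ) + 1) y) := by
      funext i
      cases i with
      | inl i => simp [ρ]
      | inr i => simp [ρ]
    rw [hK.lam_mul ((m : ℕ) + 1) (Pm _) (hPm _) x y]
    show MvPolynomial.aeval _ (MvPolynomial.rename _ _) = _
    rw [MvPolynomial.aeval_rename, hfun]
  have hXY : ∀ i ≤ r + 1, coeff i (PowerSeries.map
      (φ : MvPolynomial (Fin (r + 1) ⊕ Fin (r + 1)) ℤ →+* K) EXY) =
      coeff i (lamSeries (x * y)) := by
    rw [hEXY, map_tser]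
    apply tser_congr (constantCoeff_lamSeries _)
    intro m
    rw [coeff_lamSeries]
    exact (hφc m).symm
  have hX : ∀ i ≤ r + 1, coeff i (PowerSeries.map
      (φ : MvPolynomial (Fin (r + 1) ⊕ Fin (r + 1)) ℤ →+* K) EX) = coeff i (lamSeries x) := by
    rw [hEX, map_tser]
    apply tser_congr (constantCoeff_lamSeries _)
    intro m
    rw [coeff_lamSeries]
    simp [hφ]
  have hY : ∀ i ≤ r + 1, coeff i (PowerSeries.map
      (φ : MvPolynomial (Fin (r + 1) ⊕ Fin (r + 1)) ℤ →+* K) EY) = coeff i (lamSeries y) := by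
    rw [hEY, map_tser]
    apply tser_congr (constantCoeff_lamSeries _)
    intro m
    rw [coeff_lamSeries]
    simp [hφ]
  have aXY : adamsOp (r + 1) (x * y) = φ (psiS EXY r) := by
    rw [adamsOp_succ_eq_psiS,
      ← psiS_congr (constantCoeff_map_eq_one _ cEXY) (constantCoeff_lamSeries _) (r + 1) hXY r
        (by omega)]
    exact psiS_map _ cEXY r
  have aX : adamsOp (r + 1) x = φ (psiS EX r) := by
    rw [adamsOp_succ_eq_psiS,
      ← psiS_congr (constantCoeff_map_eq_one _ cEX) (constantCoeff_lamSeries _) (r + 1) hX r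
        (by omega)]
    exact psiS_map _ cEX r
  have aY : adamsOp (r + 1) y = φ (psiS EY r) := by
    rw [adamsOp_succ_eq_psiS,
      ← psiS_congr (constantCoeff_map_eq_one _ cEY) (constantCoeff_lamSeries _) (r + 1) hY r
        (by omega)]
    exact psiS_map _ cEY r
  -- the universal side
  have hιX : PowerSeries.map (ι : MvPolynomial (Fin (r + 1) ⊕ Fin (r + 1)) ℤ →+* _) EX =
      lineProd univ (fun a : Fin (r + 1) => (MvPolynomial.X (Sum.inl a) :
        MvPolynomial (Fin (r + 1) ⊕ Fin (r + 1)) ℤ)) := by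
    rw [hEX, map_tser, ← tser_eq_lineProd]
    congr 1
    funext k
    simp [hι, iota2, rename_esymm_eq_sum]
  have hιY : PowerSeries.map (ι : MvPolynomial (Fin (r + 1) ⊕ Fin (r + 1)) ℤ →+* _) EY =
      lineProd univ (fun a : Fin (r + 1) => (MvPolynomial.X (Sum.inr a) :
        MvPolynomial (Fin (r + 1) ⊕ Fin (r + 1)) ℤ)) := by
    rw [hEY, map_tser, ← tser_eq_lineProd]
    congr 1
    funext k
    simp [hι, iota2, rename_esymm_eq_sum]
  have hιc : ∀ m : Fin (r + 1), ι (c m) = mulGenR ℤ (r + 1) ((m : ℕ) + 1) := by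
    intro m
    have hfun : (Sum.elim
        (fun k : Fin (r + 1) => MvPolynomial.rename (Sum.inl : Fin (r + 1) → Fin (r + 1) ⊕ Fin (r + 1))
          (MvPolynomial.esymm (Fin (r + 1)) ℤ ((k : ℕ) + 1)))
        (fun k : Fin (r + 1) => MvPolynomial.rename (Sum.inr : Fin (r + 1) → Fin (r + 1) ⊕ Fin (r + 1))
          (MvPolynomial.esymm (Fin (r + 1)) ℤ ((k : ℕ) + 1)))) ∘ Sum.map (ρ m) (ρ m) =
        Sum.elim
        (fun k : Fin ((m : ℕ) + 1) => MvPolynomial.rename (Sum.inl : Fin (r + 1) → Fin (r + 1) ⊕ Fin (r + 1))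
          (MvPolynomial.esymm (Fin (r + 1)) ℤ ((k : ℕ) + 1)))
        (fun k : Fin ((m : ℕ) + 1) => MvPolynomial.rename (Sum.inr : Fin (r + 1) → Fin (r + 1) ⊕ Fin (r + 1))
          (MvPolynomial.esymm (Fin (r + 1)) ℤ ((k : ℕ) + 1))) := by
      funext i
      cases i with
      | inl i => simp [ρ]
      | inr i => simp [ρ]
    rw [← mulPoly_many (hPm ((m : ℕ) + 1)) (r + 1)]
    show MvPolynomial.aeval _ (MvPolynomial.rename _ _) = MvPolynomial.aeval _ _
    rw [MvPolynomial.aeval_rename, hfun]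
  have hιXY : ∀ i ≤ r + 1, coeff i (PowerSeries.map
      (ι : MvPolynomial (Fin (r + 1) ⊕ Fin (r + 1)) ℤ →+* _) EXY) =
      coeff i (lineProd ((univ : Finset (Fin (r + 1))) ×ˢ (univ : Finset (Fin (r + 1))))
        (fun p => (MvPolynomial.X (Sum.inl p.1) * MvPolynomial.X (Sum.inr p.2) :
          MvPolynomial (Fin (r + 1) ⊕ Fin (r + 1)) ℤ))) := by
    rw [hEXY, map_tser]
    apply tser_congr (constantCoeff_lineProd _ _)
    intro m
    rw [coeff_lineProd_mul]
    exact (hιc m).symm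
  have key : psiS EXY r = psiS EX r * psiS EY r := by
    apply iota2_inj ℤ (r + 1) (r + 1) le_rfl
    have h1 : ι (psiS EXY r) = psiS (PowerSeries.map
        (ι : MvPolynomial (Fin (r + 1) ⊕ Fin (r + 1)) ℤ →+* _) EXY) r := (psiS_map _ cEXY r).symm
    have h2 : ι (psiS EX r) = psiS (PowerSeries.map
        (ι : MvPolynomial (Fin (r + 1) ⊕ Fin (r + 1)) ℤ →+* _) EX) r := (psiS_map _ cEX r).symm
    have h3 : ι (psiS EY r) = psiS (PowerSeries.map
        (ι : MvPolynomial (Fin (r + 1) ⊕ Fin (r + 1)) ℤ →+* _) EY) r := (psiS_map _ cEY r).symm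
    rw [map_mul]
    show ι (psiS EXY r) = ι (psiS EX r) * ι (psiS EY r)
    rw [h1, h2, h3, hιX, hιY,
      psiS_congr (constantCoeff_map_eq_one _ cEXY) (constantCoeff_lineProd _ _) (r + 1) hιXY r
        (by omega),
      psiS_lineProd, psiS_lineProd, psiS_lineProd, Finset.sum_product, Finset.sum_mul_sum]
    apply Finset.sum_congr rfl
    intro a _
    apply Finset.sum_congr rfl
    intro b _
    rw [mul_pow]
  rw [aXY, aX, aY, key, map_mul]

end Groth.Agent.S8687
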