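import Groth.Statements.S8688
import Groth.Agent.H43.UnivPoly
import Groth.Agent.S8686
import Groth.Agent.S8687

set_option autoImplicit false
universe u
open LambdaRing

namespace Groth.Agent.S8688

open Groth.Agent.H43 PowerSeries Finset

/-- Let K be a λ-ring in the strict sense (λ_t(1) = 1 + t and the identities with the universal
polynomials P_n, Q_{i,j}). Then the Adams operations satisfy ψ^k ∘ ψ^{k'} = ψ^{kk'} for all k, k' ≥
1. The hypotheses hP and hQ, that the universal polynomials exist for all indices, are true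
statements carried here so that the identities of K can be used at every index. -/
theorem result (K : Type u) [CommRing K] [LambdaRing.LambdaOps K]
    (hK : LambdaRing.IsSpecial K)
    (hP : ∀ n : ℕ, ∃ P : MvPolynomial (Fin n ⊕ Fin n) ℤ, LambdaRing.IsMulPoly n P)
    (hQ : ∀ i j : ℕ, ∃ Q : MvPolynomial (Fin (i * j)) ℤ, LambdaRing.IsCompPoly i j Q)
    (k k' : ℕ) (hk : 1 ≤ k) (hk' : 1 ≤ k') (x : K) :
    LambdaRing.adamsOp k (LambdaRing.adamsOp k' x) = LambdaRing.adamsOp (k * k') x := by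
  obtain ⟨r, rfl⟩ : ∃ r, k = r + 1 := ⟨k - 1, by omega⟩
  obtain ⟨r', rfl⟩ : ∃ r', k' = r' + 1 := ⟨k' - 1, by omega⟩
  choose Qm hQm using hQ
  have hzero : adamsOp (r + 1) (0 : K) = 0 := by
    have h := adamsOp_add (r + 1) (0 : K) 0
    rw [add_zero] at h
    exact left_eq_add.mp h
  let Ψ : K →+* K :=
    { toFun := adamsOp (r + 1)
      map_one' := Groth.Agent.S8686.result K hK.lam_one_eq_zero (r + 1) (by omega)
      map_mul' := Groth.Agent.S8687.result K hK hP (r + 1) (by omega)
      map_zero' := hzero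
      map_add' := adamsOp_add (r + 1) }
  have hΨ : ∀ z : K, Ψ z = adamsOp (r + 1) z := fun _ => rfl
  set n := (r + 1) * (r' + 1) with hn
  have hle : ∀ (j : Fin (r' + 1)) (m : Fin (r + 1)), ((j : ℕ) + 1) * ((m : ℕ) + 1) ≤ n := by
    intro j m
    rw [hn, mul_comm]
    exact Nat.mul_le_mul (Nat.succ_le_of_lt m.isLt) (Nat.succ_le_of_lt j.isLt)
  let d : Fin (r' + 1) → Fin (r + 1) → MvPolynomial (Fin n) ℤ :=
    fun j m => MvPolynomial.rename (Fin.castLE (hle j m)) (Qm ((j : ℕ) + 1) ((m : ℕ) + 1))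
  let D : Fin (r' + 1) → PowerSeries (MvPolynomial (Fin n) ℤ) := fun j => tser (r + 1) (d j)
  let ξ : Fin (r' + 1) → MvPolynomial (Fin n) ℤ := fun j => psiS (D j) r
  set G : PowerSeries (MvPolynomial (Fin n) ℤ) := tser (r' + 1) ξ with hG
  set E : PowerSeries (MvPolynomial (Fin n) ℤ) := tser n (fun i => MvPolynomial.X i) with hE
  set φ : MvPolynomial (Fin n) ℤ →ₐ[ℤ] K :=
    MvPolynomial.aeval (fun i : Fin n => LambdaOps.lam ((i : ℕ) + 1) x) with hφ
  set ι := iota1 ℤ n n with hι
  have cD : ∀ j, constantCoeff (D j) = 1 := fun j => constantCoeff_tser _ _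
  have cG : constantCoeff G = 1 := constantCoeff_tser _ _
  have cE : constantCoeff E = 1 := constantCoeff_tser _ _
  -- the side of `K`
  have hφd : ∀ (j : Fin (r' + 1)) (m : Fin (r + 1)),
      φ (d j m) = LambdaOps.lam ((m : ℕ) + 1) (LambdaOps.lam ((j : ℕ) + 1) x) := by
    intro j m
    have hfun : (fun i : Fin n => LambdaOps.lam ((i : ℕ) + 1) x) ∘ Fin.castLE (hle j m) =
        fun i : Fin (((j : ℕ) + 1) * ((m : ℕ) + 1)) => LambdaOps.lam ((i : ℕ) + 1) x := by
      funext i
      simp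
    rw [hK.lam_lam ((j : ℕ) + 1) ((m : ℕ) + 1) (Qm _ _) (hQm _ _) x]
    show MvPolynomial.aeval _ (MvPolynomial.rename _ _) = _
    rw [MvPolynomial.aeval_rename, hfun]
  have hD : ∀ j : Fin (r' + 1), ∀ i ≤ r + 1, coeff i (PowerSeries.map
      (φ : MvPolynomial (Fin n) ℤ →+* K) (D j)) =
      coeff i (lamSeries (LambdaOps.lam ((j : ℕ) + 1) x)) := by
    intro j
    show ∀ i ≤ r + 1, coeff i (PowerSeries.map
      (φ : MvPolynomial (Fin n) ℤ →+* K) (tser (r + 1) (d j))) = _
    rw [map_tser]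
    apply tser_congr (constantCoeff_lamSeries _)
    intro m
    rw [coeff_lamSeries]
    exact (hφd j m).symm
  have hφξ : ∀ j : Fin (r' + 1), φ (ξ j) = adamsOp (r + 1) (LambdaOps.lam ((j : ℕ) + 1) x) := by
    intro j
    rw [adamsOp_succ_eq_psiS,
      ← psiS_congr (constantCoeff_map_eq_one _ (cD j)) (constantCoeff_lamSeries _) (r + 1)
        (hD j) r (by omega)]
    exact (psiS_map _ (cD j) r).symm
  have hGK : ∀ i ≤ r' + 1, coeff i (PowerSeries.map
      (φ : MvPolynomial (Fin n) ℤ →+* K) G) = coeff i (PowerSeries.map Ψ (lamSeries x)) := by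
    rw [hG, map_tser]
    apply tser_congr (constantCoeff_map_eq_one Ψ (constantCoeff_lamSeries x))
    intro j
    rw [coeff_map, coeff_lamSeries, hΨ]
    exact (hφξ j).symm
  have hEK : ∀ i ≤ n, coeff i (PowerSeries.map
      (φ : MvPolynomial (Fin n) ℤ →+* K) E) = coeff i (lamSeries x) := by
    rw [hE, map_tser]
    apply tser_congr (constantCoeff_lamSeries _)
    intro m
    rw [coeff_lamSeries]
    simp [hφ]
  have hnpos : n = (r * r' + r + r') + 1 := by rw [hn]; ring
  have a1 : adamsOp (r + 1) (adamsOp (r' + 1) x) = φ (psiS G r') := by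
    rw [adamsOp_succ_eq_psiS (r') x, ← hΨ, ← psiS_map Ψ (constantCoeff_lamSeries x) r',
      ← psiS_congr (constantCoeff_map_eq_one _ cG)
        (constantCoeff_map_eq_one Ψ (constantCoeff_lamSeries x)) (r' + 1) hGK r' (by omega)]
    exact psiS_map _ cG r'
  have hlt : r * r' + r + r' < n := by
    rw [hnpos]
    exact Nat.lt_succ_self _
  have a2 : adamsOp ((r + 1) * (r' + 1)) x = φ (psiS E (r * r' + r + r')) := by
    have e0 : adamsOp n x = adamsOp ((r * r' + r + r') + 1) x :=
      congrArg (fun t => adamsOp t x) hnpos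
    show adamsOp n x = _
    rw [e0, adamsOp_succ_eq_psiS,
      ← psiS_congr (constantCoeff_map_eq_one _ cE) (constantCoeff_lamSeries _) n hEK
        (r * r' + r + r') hlt]
    exact psiS_map _ cE _
  -- the universal side
  have hιE : PowerSeries.map (ι : MvPolynomial (Fin n) ℤ →+* MvPolynomial (Fin n) ℤ) E =
      lineProd univ (fun a : Fin n => (MvPolynomial.X a : MvPolynomial (Fin n) ℤ)) := by
    rw [hE, map_tser, ← tser_eq_lineProd]
    congr 1
    funext k
    simp [hι, iota1, esymm_eq_sum]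
  have hιd : ∀ (j : Fin (r' + 1)) (m : Fin (r + 1)),
      ι (d j m) = compGenR ℤ n ((j : ℕ) + 1) ((m : ℕ) + 1) := by
    intro j m
    have hfun : (fun k : Fin n => MvPolynomial.esymm (Fin n) ℤ ((k : ℕ) + 1)) ∘
        Fin.castLE (hle j m) =
        fun k : Fin (((j : ℕ) + 1) * ((m : ℕ) + 1)) =>
          MvPolynomial.esymm (Fin n) ℤ ((k : ℕ) + 1) := by
      funext i
      simp
    rw [← compPoly_many (hQm ((j : ℕ) + 1) ((m : ℕ) + 1)) n]
    show MvPolynomial.aeval _ (MvPolynomial.rename _ _) = MvPolynomial.aeval _ _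
    rw [MvPolynomial.aeval_rename, hfun]
  have hιD : ∀ j : Fin (r' + 1), ∀ i ≤ r + 1, coeff i (PowerSeries.map
      (ι : MvPolynomial (Fin n) ℤ →+* MvPolynomial (Fin n) ℤ) (D j)) =
      coeff i (lineProd (powersetCard ((j : ℕ) + 1) (univ : Finset (Fin n)))
        (fun t => ∏ a ∈ t, (MvPolynomial.X a : MvPolynomial (Fin n) ℤ))) := by
    intro j
    show ∀ i ≤ r + 1, coeff i (PowerSeries.map
      (ι : MvPolynomial (Fin n) ℤ →+* MvPolynomial (Fin n) ℤ) (tser (r + 1) (d j))) = _
    rw [map_tser]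
    apply tser_congr (constantCoeff_lineProd _ _)
    intro m
    rw [coeff_lineProd_comp]
    exact (hιd j m).symm
  have hιξ : ∀ j : Fin (r' + 1), ι (ξ j) =
      ∑ t ∈ powersetCard ((j : ℕ) + 1) (univ : Finset (Fin n)),
        ∏ a ∈ t, (MvPolynomial.X a : MvPolynomial (Fin n) ℤ) ^ (r + 1) := by
    intro j
    have h1 : ι (ξ j) = psiS (PowerSeries.map (ι : MvPolynomial (Fin n) ℤ →+* MvPolynomial (Fin n) ℤ) (D j)) r :=
      (psiS_map _ (cD j) r).symm
    rw [h1, psiS_congr (constantCoeff_map_eq_one _ (cD j)) (constantCoeff_lineProd _ _) (r + 1)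
      (hιD j) r (by omega), psiS_lineProd]
    apply Finset.sum_congr rfl
    intro t _
    rw [Finset.prod_pow]
  have hιG : ∀ i ≤ r' + 1, coeff i (PowerSeries.map (ι : MvPolynomial (Fin n) ℤ →+* MvPolynomial (Fin n) ℤ) G) =
      coeff i (lineProd univ
        (fun a : Fin n => (MvPolynomial.X a : MvPolynomial (Fin n) ℤ) ^ (r + 1))) := by
    rw [hG, map_tser]
    have h2 : (fun j : Fin (r' + 1) => (ι : MvPolynomial (Fin n) ℤ →+* MvPolynomial (Fin n) ℤ) (ξ j)) =
        fun j : Fin (r' + 1) => ∑ t ∈ powersetCard ((j : ℕ) + 1) (univ : Finset (Fin n)),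
          ∏ a ∈ t, (MvPolynomial.X a : MvPolynomial (Fin n) ℤ) ^ (r + 1) := by
      funext j
      exact hιξ j
    rw [h2]
    exact tser_congr_lineProd (r' + 1) n _
  have key : psiS G r' = psiS E (r * r' + r + r') := by
    apply iota1_inj ℤ n n le_rfl
    have h1 : ι (psiS G r') = psiS (PowerSeries.map (ι : MvPolynomial (Fin n) ℤ →+* MvPolynomial (Fin n) ℤ) G) r' :=
      (psiS_map _ cG r').symm
    have h2 : ι (psiS E (r * r' + r + r')) =
        psiS (PowerSeries.map (ι : MvPolynomial (Fin n) ℤ →+* MvPolynomial (Fin n) ℤ) E) (r * r' + r + r') :=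
      (psiS_map _ cE _).symm
    show ι (psiS G r') = ι (psiS E (r * r' + r + r'))
    rw [h1, h2, hιE,
      psiS_congr (constantCoeff_map_eq_one _ cG) (constantCoeff_lineProd _ _) (r' + 1) hιG r'
        (by omega), psiS_lineProd, psiS_lineProd]
    apply Finset.sum_congr rfl
    intro a _
    rw [← pow_mul]
    congr 1
  rw [a1, a2, key]

end Groth.Agent.S8688
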