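import Groth.Statements.S8691
import Groth.Agent.H43.DivPrinciple

set_option autoImplicit false
universe u
open Finset
open LambdaRing

namespace Groth.Agent.S8691

open Groth.Agent.H43

/-- Let K be a λ-ring in the strict sense, d a natural number and N ∈ K with λ^i(N) = 0 for every i > d;
put λ_{−1}(N) = Σ_{i=0}^{d} (−1)^i λ^i(N). Then for every p ≥ 1 and every x ∈ K the element λ^p(x ·
λ_{−1}(N)) is divisible by λ_{−1}(N). (The published statement is for the λ-ring generated over the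
integers by N and x subject to λ^i(N) = 0 for i > d, a polynomial ring; the divisibility passes to
any λ-ring along the λ-homomorphism sending the generators to N and x, which is the substituted form
stated here.) The hypotheses hP and hQ, existence of the universal polynomials, are true statements
carried so that the identities of K can be used at every index. -/
theorem result (K : Type u) [CommRing K] [LambdaRing.LambdaOps K]
    (hK : LambdaRing.IsSpecial K)
    (hP : ∀ n : ℕ, ∃ P : MvPolynomial (Fin n ⊕ Fin n) ℤ, LambdaRing.IsMulPoly n P)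
    (hQ : ∀ i j : ℕ, ∃ Q : MvPolynomial (Fin (i * j)) ℤ, LambdaRing.IsCompPoly i j Q)
    (d : ℕ) (N : K) (hN : ∀ i : ℕ, d < i → LambdaRing.LambdaOps.lam i N = 0)
    (p : ℕ) (hp : 1 ≤ p) (x : K) :
    (∑ i ∈ range (d + 1), (-1 : K) ^ i * LambdaRing.LambdaOps.lam i N) ∣
      LambdaRing.LambdaOps.lam p (x * ∑ i ∈ range (d + 1), (-1 : K) ^ i * LambdaRing.LambdaOps.lam i N) := by
  have h1 := hK.lam_one_eq_zero
  generalize hΛ : (∑ i ∈ range (d + 1), (-1 : K) ^ i * LambdaOps.lam i N) = Λ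
  rcases Nat.eq_zero_or_pos d with rfl | hd
  · have hone : Λ = 1 := by
      rw [← hΛ]
      simp [LambdaOps.lam_zero]
    rw [hone]
    exact one_dvd _
  obtain ⟨d', rfl⟩ : ∃ d', d = d' + 1 := ⟨d - 1, by omega⟩
  letI : LambdaOps ℤ := binomialLambdaOps ℤ
  have hKbZ : IsBinomial ℤ := fun n x => rfl
  have hAlg : IsLambdaAlg ℤ K := isLambdaAlg_int h1
  obtain ⟨yv, hyt, hyf⟩ : ∃ yv : Bool → K, yv true = x ∧ yv false = N - ((d' + 1 : ℕ) : K) :=
    ⟨fun b => cond b x (N - ((d' + 1 : ℕ) : K)), rfl, rfl⟩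
  have hvan : ∀ k, d' < k → gamma (k + 1) (yv false) = 0 := by
    intro k hk
    rw [hyf]
    exact gamma_rank_eq_zero h1 (d' + 1) N hN (k + 1) (by omega)
  obtain ⟨r, hr⟩ := lam_mul_core.{0, u} hKbZ hK hAlg false yv d' hvan
    (MvPolynomial.C ((-1 : ℤ) ^ (d' + 1)) * MvPolynomial.X (true, 0)) p hp
  have hΛ' : gamma (d' + 1) (yv false) = (-1) ^ (d' + 1) * Λ := by
    rw [hyf, gamma_rank_top h1, hΛ]
  have hg : evG ℤ yv (MvPolynomial.C ((-1 : ℤ) ^ (d' + 1)) * MvPolynomial.X (true, 0)) =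
      (-1) ^ (d' + 1) * x := by
    rw [map_mul, evG_C, evG_X]
    show algebraMap ℤ K ((-1) ^ (d' + 1)) * gamma (0 + 1) (yv true) = _
    rw [hyt, zero_add, gamma_one']
    simp
  have hsq : ((-1 : K) ^ (d' + 1)) * (-1) ^ (d' + 1) = 1 := by
    rw [← mul_pow]
    simp
  have hprod : gamma (d' + 1) (yv false) *
      evG ℤ yv (MvPolynomial.C ((-1 : ℤ) ^ (d' + 1)) * MvPolynomial.X (true, 0)) = x * Λ := by
    rw [hΛ', hg]
    linear_combination (x * Λ) * hsq
  rw [hprod, hΛ'] at hr
  rw [hr]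
  exact ⟨(-1) ^ (d' + 1) * r, by ring⟩

end Groth.Agent.S8691
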