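import Groth.Statements.S8695
import Groth.Agent.H43.DivPrinciple

set_option autoImplicit false
universe u v
open Finset nonZeroDivisors
open LambdaRing

namespace Groth.Agent.S8695

open Groth.Agent.H43

/-- In the case where λ_{−1}(N) is a non-zero-divisor: let K be a binomial ring with its binomial
λ-structure, A a λ-ring in the strict sense which is an augmented K-λ-algebra with augmentation ε,
and Fil^n A the γ-filtration (the ideal generated by products of γ^{i}(z) with ε(z) = 0 of total
weight ≥ n; all of A for n = 0). Let d ≥ 1 and N ∈ A be of rank d, that is λ^k(N) = 0 for all k > d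
and ε(N) = d; put λ_{−1}(N) = Σ_{i ≤ d} (−1)^i λ^i(N), and suppose λ_{−1}(N) is a non-zero-divisor.
Then for p ≥ 1 and x ∈ A, the unique y with y · λ_{−1}(N) = γ^p(x · λ_{−1}(N)) — when it exists —
lies in Fil^{p−d} A. (The published statement is γ^p(N, x) ∈ Fil^{p−d} A for the element γ^p(N, x)
defined by substitution from the universal λ-ring, where it is characterised by γ^p(N, x) ·
λ_{−1}(N) = γ^p(x · λ_{−1}(N)); this row covers the case in which that identity determines the
element, λ_{−1}(N) being a non-zero-divisor. The published statement also omits the condition ε(N) =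
d, which its proof uses when it maps the universal generator to N − d compatibly with the
augmentations; without it N = 0, d = 1, x = 1, p = 2 in the integers gives γ^2(1) = 1 outside Fil^1
= 0, so ε(N) = d is assumed here, as is the standing assumption d ≥ 1.) The hypotheses hP and hQ,
existence of the universal polynomials, are true statements carried so that the identities of A can
be used at every index. -/
theorem result
    (K : Type u) [CommRing K] [LambdaRing.LambdaOps K] [BinomialRing K] (hKb : LambdaRing.IsBinomial K)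
    (hK : LambdaRing.IsSpecial K)
    (A : Type v) [CommRing A] [LambdaRing.LambdaOps A] [Algebra K A] (hA : LambdaRing.IsSpecial A)
    (hP : ∀ n : ℕ, ∃ P : MvPolynomial (Fin n ⊕ Fin n) ℤ, LambdaRing.IsMulPoly n P)
    (hQ : ∀ i j : ℕ, ∃ Q : MvPolynomial (Fin (i * j)) ℤ, LambdaRing.IsCompPoly i j Q)
    (ε : A →ₐ[K] K) (hε : LambdaRing.IsAugLambdaAlg K A ε)
    (d : ℕ) (hd : 1 ≤ d) (N : A) (hN : ∀ k : ℕ, d < k → LambdaRing.LambdaOps.lam k N = 0) (hNε : ε N = (d : K))
    (hnzd : (∑ j ∈ range (d + 1), (-1 : A) ^ j * LambdaRing.LambdaOps.lam j N) ∈ A⁰)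
    (p : ℕ) (hp : 1 ≤ p) (x y : A)
    (hy : y * (∑ j ∈ range (d + 1), (-1 : A) ^ j * LambdaRing.LambdaOps.lam j N) = LambdaRing.gamma p (x * (∑ j ∈ range (d + 1), (-1 : A) ^ j * LambdaRing.LambdaOps.lam j N))) :
    y ∈ LambdaRing.gammaFil (ε : A →+* K) (p - d) := by
  obtain ⟨d', rfl⟩ : ∃ d', d = d' + 1 := ⟨d - 1, by omega⟩
  have h1 := hA.lam_one_eq_zero
  generalize hΛ : (∑ j ∈ range (d' + 1 + 1), (-1 : A) ^ j * LambdaOps.lam j N) = Λ at hnzd hy
  obtain ⟨yv, hyt, hyf⟩ : ∃ yv : Bool → A, yv true = x - algebraMap K A (ε x) ∧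
      yv false = N - ((d' + 1 : ℕ) : A) :=
    ⟨fun b => cond b (x - algebraMap K A (ε x)) (N - ((d' + 1 : ℕ) : A)), rfl, rfl⟩
  have hyv : ∀ b, ε (yv b) = 0 := by
    intro b
    cases b
    · rw [hyf, map_sub, map_natCast, hNε, sub_self]
    · rw [hyt, map_sub, AlgHom.commutes]
      simp
  have hvan : ∀ k, d' < k → gamma (k + 1) (yv false) = 0 := by
    intro k hk
    rw [hyf]
    exact gamma_rank_eq_zero h1 (d' + 1) N hN (k + 1) (by omega)
  obtain ⟨⟨r, hr, he⟩, -⟩ := gamma_mul_core.{u, v} hKb hA hε.isLambdaAlg ε false yv hyv d' hvan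
    (MvPolynomial.C ((-1 : K) ^ (d' + 1)) * (MvPolynomial.C (ε x) + MvPolynomial.X (true, 0)))
    0 (wtGe_zero _) p hp
  have hΛ' : gamma (d' + 1) (yv false) = (-1) ^ (d' + 1) * Λ := by
    rw [hyf, gamma_rank_top h1, hΛ]
  have hg : evG K yv (MvPolynomial.C ((-1 : K) ^ (d' + 1)) *
      (MvPolynomial.C (ε x) + MvPolynomial.X (true, 0))) = (-1) ^ (d' + 1) * x := by
    rw [map_mul, evG_C, map_add, evG_C, evG_X]
    show algebraMap K A ((-1) ^ (d' + 1)) * (algebraMap K A (ε x) + gamma (0 + 1) (yv true)) = _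
    rw [hyt, zero_add, gamma_one']
    simp
  have hsq : ((-1 : A) ^ (d' + 1)) * (-1) ^ (d' + 1) = 1 := by
    rw [← mul_pow]
    simp
  have hprod : gamma (d' + 1) (yv false) * evG K yv (MvPolynomial.C ((-1 : K) ^ (d' + 1)) *
      (MvPolynomial.C (ε x) + MvPolynomial.X (true, 0))) = x * Λ := by
    rw [hΛ', hg]
    linear_combination (x * Λ) * hsq
  rw [hprod, hΛ'] at he
  have hyr : y = (-1) ^ (d' + 1) * r := by
    apply (mul_cancel_right_mem_nonZeroDivisors hnzd).mp
    rw [hy, he]
    ring
  rw [hyr]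
  apply Ideal.mul_mem_left
  exact gammaFil_anti _ (by omega) hr

end Groth.Agent.S8695
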