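import Groth.Statements.S8696
import Groth.Agent.H43.DivPrinciple

set_option autoImplicit false
universe u v
open Finset nonZeroDivisors
open LambdaRing

namespace Groth.Agent.S8696

open Groth.Agent.H43

/-- In the case where λ_{−1}(N) is a non-zero-divisor: let K be a binomial ring with its binomial
λ-structure, R a λ-ring in the strict sense which is an augmented K-λ-algebra with augmentation ε
and γ-filtration Fil^n R, d ≥ 1, N ∈ R of rank d (λ^k(N) = 0 for all k > d and ε(N) = d), λ_{−1}(N)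
= Σ_{i ≤ d} (−1)^i λ^i(N) a non-zero-divisor, i a natural number and x ∈ Fil^i R. If y ∈ R satisfies
y · λ_{−1}(N) = γ^{d+i}(x · λ_{−1}(N)), then y − (−1)^{d+i−1} (d+i−1)! · x ∈ Fil^{i+1} R. (The
published statement is about the element γ^{d+i}(N, x) defined by substitution from the universal
λ-ring, characterised there by γ^{q}(N, x) · λ_{−1}(N) = γ^{q}(x · λ_{−1}(N)); this row covers the
case in which that identity determines the element. The published statement also omits ε(N) = d,
which its proof uses when it maps the universal generator to N − d compatibly with the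
augmentations; it is assumed here, together with the standing assumption d ≥ 1.) The hypotheses hP
and hQ, existence of the universal polynomials, are true statements carried so that the identities
of R can be used at every index. -/
theorem result
    (K : Type u) [CommRing K] [LambdaRing.LambdaOps K] [BinomialRing K] (hKb : LambdaRing.IsBinomial K)
    (hK : LambdaRing.IsSpecial K)
    (A : Type v) [CommRing A] [LambdaRing.LambdaOps A] [Algebra K A] (hA : LambdaRing.IsSpecial A)
    (hP : ∀ n : ℕ, ∃ P : MvPolynomial (Fin n ⊕ Fin n) ℤ, LambdaRing.IsMulPoly n P)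
    (hQ : ∀ i j : ℕ, ∃ Q : MvPolynomial (Fin (i * j)) ℤ, LambdaRing.IsCompPoly i j Q)
    (ε : A →ₐ[K] K) (hε : LambdaRing.IsAugLambdaAlg K A ε)
    (d : ℕ) (hd : 1 ≤ d) (N : A) (hN : ∀ k : ℕ, d < k → LambdaRing.LambdaOps.lam k N = 0) (hNε : ε N = (d : K))
    (hnzd : (∑ j ∈ range (d + 1), (-1 : A) ^ j * LambdaRing.LambdaOps.lam j N) ∈ A⁰)
    (i : ℕ) (x : A) (hx : x ∈ LambdaRing.gammaFil (ε : A →+* K) i) (y : A)
    (hy : y * (∑ j ∈ range (d + 1), (-1 : A) ^ j * LambdaRing.LambdaOps.lam j N) = LambdaRing.gamma (d + i) (x * (∑ j ∈ range (d + 1), (-1 : A) ^ j * LambdaRing.LambdaOps.lam j N))) :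
    y - (-1 : A) ^ (d + i - 1) * ((d + i - 1).factorial : A) * x ∈ LambdaRing.gammaFil (ε : A →+* K) (i + 1) := by
  obtain ⟨d', rfl⟩ : ∃ d', d = d' + 1 := ⟨d - 1, by omega⟩
  have h1 := hA.lam_one_eq_zero
  generalize hΛ : (∑ j ∈ range (d' + 1 + 1), (-1 : A) ^ j * LambdaOps.lam j N) = Λ at hnzd hy
  obtain ⟨κ, x₀, p', hx₀, hp'w, hp'e⟩ := rp_of_mem_gammaFil ε i x hx
  obtain ⟨yv, hyn, hys⟩ : ∃ yv : Option κ → A, yv none = N - ((d' + 1 : ℕ) : A) ∧
      (yv ∘ some) = x₀ :=
    ⟨fun o => Option.elim o (N - ((d' + 1 : ℕ) : A)) x₀, rfl, rfl⟩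
  have hyv : ∀ o, ε (yv o) = 0 := by
    intro o
    cases o with
    | none => rw [hyn, map_sub, map_natCast, hNε, sub_self]
    | some l =>
      have hl : yv (some l) = x₀ l := congrFun hys l
      rw [hl]
      exact hx₀ l
  have hvan : ∀ k, d' < k → gamma (k + 1) (yv none) = 0 := by
    intro k hk
    rw [hyn]
    exact gamma_rank_eq_zero h1 (d' + 1) N hN (k + 1) (by omega)
  have hgw : WtGe i (MvPolynomial.C ((-1 : K) ^ (d' + 1)) *
      MvPolynomial.rename (Prod.map some id) p' : MvPolynomial (Option κ × ℕ) K) := by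
    have h := wtGe_mul
      (wtGe_zero (MvPolynomial.C ((-1 : K) ^ (d' + 1)) : MvPolynomial (Option κ × ℕ) K))
      (wtGe_rename some (Option.some_injective κ) hp'w)
    rwa [zero_add] at h
  obtain ⟨-, htop⟩ := gamma_mul_core.{u, v} hKb hA hε.isLambdaAlg ε none yv hyv d' hvan
    (MvPolynomial.C ((-1 : K) ^ (d' + 1)) * MvPolynomial.rename (Prod.map some id) p')
    i hgw (d' + 1 + i) (by omega)
  obtain ⟨r, hr, he⟩ := htop rfl
  have hΛ' : gamma (d' + 1) (yv none) = (-1) ^ (d' + 1) * Λ := by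
    rw [hyn, gamma_rank_top h1, hΛ]
  have hg : evG K yv (MvPolynomial.C ((-1 : K) ^ (d' + 1)) *
      MvPolynomial.rename (Prod.map some id) p') = (-1) ^ (d' + 1) * x := by
    rw [map_mul, evG_C, evG_rename, hys, hp'e]
    simp
  have hsq : ((-1 : A) ^ (d' + 1)) * (-1) ^ (d' + 1) = 1 := by
    rw [← mul_pow]
    simp
  have hprod : gamma (d' + 1) (yv none) * evG K yv (MvPolynomial.C ((-1 : K) ^ (d' + 1)) *
      MvPolynomial.rename (Prod.map some id) p') = x * Λ := by
    rw [hΛ', hg]
    linear_combination (x * Λ) * hsq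
  rw [hprod, hΛ', ← hy] at he
  have hc : algebraMap K A ((-1 : K) ^ (d' + 1 + i - 1) * ((d' + 1 + i - 1).factorial : K)) =
      (-1 : A) ^ (d' + 1 + i - 1) * ((d' + 1 + i - 1).factorial : A) := by
    simp
  rw [hc] at he
  have hyr : y - (-1 : A) ^ (d' + 1 + i - 1) * ((d' + 1 + i - 1).factorial : A) * x =
      (-1) ^ (d' + 1) * r := by
    apply (mul_cancel_right_mem_nonZeroDivisors hnzd).mp
    linear_combination he
  rw [hyr]
  exact Ideal.mul_mem_left _ _ hr

end Groth.Agent.S8696
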