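import Groth.Statements.S8697
import Groth.Agent.H43.GammaFil

set_option autoImplicit false
universe u v
open Finset
open LambdaRing

namespace Groth.Agent.S8697

open Groth.Agent.H43

section Helpers

variable {K : Type u} [CommRing K] {B : Type v} [CommRing B] [LambdaOps B] [Algebra K B]

/-- the ideal generated by the monomials of weight at least `k`. -/
def Wt (n : ℕ) (x : B) (k : ℕ) : Ideal B :=
  Ideal.span {m : B | ∃ e : Fin n → ℕ, k ≤ ∑ j : Fin n, ((j : ℕ) + 1) * e j ∧
    m = ∏ j : Fin n, LambdaRing.gamma ((j : ℕ) + 1) x ^ e j}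

theorem Wt_anti (n : ℕ) (x : B) {i j : ℕ} (h : i ≤ j) : Wt n x j ≤ Wt n x i := by
  apply Ideal.span_mono
  rintro m ⟨e, h1, h2⟩
  exact ⟨e, le_trans h h1, h2⟩

theorem one_mem_Wt (n : ℕ) (x : B) : (1 : B) ∈ Wt n x 0 := by
  apply Ideal.subset_span
  exact ⟨0, by simp, by simp⟩

theorem mul_mem_Wt (n : ℕ) (x : B) (i j : ℕ) (a b : B) (ha : a ∈ Wt n x i) (hb : b ∈ Wt n x j) :
    a * b ∈ Wt n x (i + j) := by
  have h : Wt n x i * Wt n x j ≤ Wt n x (i + j) := by
    unfold Wt
    rw [Ideal.span_mul_span']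
    apply Ideal.span_mono
    rintro z ⟨u, ⟨e, h1, rfl⟩, u', ⟨e', h1', rfl⟩, rfl⟩
    refine ⟨e + e', ?_, ?_⟩
    · simp only [Pi.add_apply, mul_add, Finset.sum_add_distrib]
      omega
    · simp only [Pi.add_apply, pow_add, Finset.prod_mul_distrib]
  exact h (Ideal.mul_mem_mul ha hb)

theorem gamma_pow_mem_Wt (n : ℕ) (x : B) (hγ : ∀ k : ℕ, n < k → LambdaRing.gamma k x = 0)
    (j t : ℕ) : LambdaRing.gamma (j + 1) x ^ t ∈ Wt n x ((j + 1) * t) := by
  by_cases hj : j < n
  · apply Ideal.subset_span
    refine ⟨Pi.single (⟨j, hj⟩ : Fin n) t, ?_, ?_⟩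
    · have h : ∑ b : Fin n, ((b : ℕ) + 1) * (Pi.single (⟨j, hj⟩ : Fin n) t : Fin n → ℕ) b =
          (j + 1) * t := by
        rw [Finset.sum_eq_single (⟨j, hj⟩ : Fin n)]
        · simp
        · intro b _ hb
          simp [Pi.single_eq_of_ne hb]
        · intro h
          exact absurd (Finset.mem_univ _) h
      rw [h]
    · have h : ∏ b : Fin n, LambdaRing.gamma ((b : ℕ) + 1) x ^
          (Pi.single (⟨j, hj⟩ : Fin n) t : Fin n → ℕ) b = LambdaRing.gamma (j + 1) x ^ t := by
        rw [Finset.prod_eq_single (⟨j, hj⟩ : Fin n)]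
        · simp
        · intro b _ hb
          simp [Pi.single_eq_of_ne hb]
        · intro h
          exact absurd (Finset.mem_univ _) h
      rw [h]
  · rw [hγ (j + 1) (by omega)]
    cases t with
    | zero => simpa using one_mem_Wt n x
    | succ t =>
      rw [zero_pow (Nat.succ_ne_zero t)]
      exact Ideal.zero_mem _

theorem gamma_mem_Wt [LambdaRing.LambdaOps K] [BinomialRing K] (hKb : LambdaRing.IsBinomial K)
    (hB : LambdaRing.IsSpecial B) (ε : B →ₐ[K] K) (hε : LambdaRing.IsAugLambdaAlg K B ε)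
    (n : ℕ) (x : B) (hx : ε x = 0) (hγ : ∀ k : ℕ, n < k → LambdaRing.gamma k x = 0)
    (hgen : Algebra.adjoin K (Set.range fun j : Fin n => LambdaRing.gamma ((j : ℕ) + 1) x) = ⊤)
    (i : ℕ) (z : B) (hz : ε z = 0) : LambdaRing.gamma i z ∈ Wt n x i := by
  cases i with
  | zero =>
    rw [gamma_zero']
    exact one_mem_Wt n x
  | succ i =>
    have hzmem : z ∈ Algebra.adjoin K
        (Set.range fun j : Fin n => LambdaRing.gamma ((j : ℕ) + 1) x) := by
      rw [hgen]; trivial
    rw [Algebra.adjoin_range_eq_range_aeval] at hzmem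
    obtain ⟨q, hq0⟩ := hzmem
    have hq : MvPolynomial.aeval (fun j : Fin n => LambdaRing.gamma ((j : ℕ) + 1) x) q = z := hq0
    set p : MvPolynomial (Unit × ℕ) K :=
      MvPolynomial.rename (fun j : Fin n => ((), (j : ℕ))) q with hp
    have hev : evG K (fun _ : Unit => x) p = z := by
      unfold evG
      rw [hp, MvPolynomial.aeval_rename, ← hq]
      rfl
    have hεg : ∀ j : Fin n, ε (LambdaRing.gamma ((j : ℕ) + 1) x) = 0 := by
      intro j
      have h1 := map_gamma (ε : B →+* K) (fun n a => hε.map_lam n a) ((j : ℕ) + 1) x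
      have h2 : (ε : B →+* K) x = 0 := hx
      rw [h2, gamma_succ_zero] at h1
      exact h1
    have hc : MvPolynomial.constantCoeff q = 0 := by
      have h1 : ε (MvPolynomial.aeval (fun j : Fin n => LambdaRing.gamma ((j : ℕ) + 1) x) q) =
          MvPolynomial.aeval (fun j : Fin n => ε (LambdaRing.gamma ((j : ℕ) + 1) x)) q := by
        rw [← MvPolynomial.comp_aeval]
        rfl
      rw [hq, hz] at h1
      have h2 : (fun j : Fin n => ε (LambdaRing.gamma ((j : ℕ) + 1) x)) = 0 := funext hεg
      rw [h2, MvPolynomial.aeval_zero] at h1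
      simpa using h1.symm
    have hwt : WtGe 1 p :=
      wtGe_one_of_constantCoeff p (by rw [hp, MvPolynomial.constantCoeff_rename, hc])
    obtain ⟨h, hrep, hw, -⟩ := gamma_univ.{u, v} hKb p (i + 1) 1 (by omega) le_rfl hwt
    have h3 := hrep B hB hε.isLambdaAlg (fun _ => x)
    rw [hev] at h3
    rw [h3]
    apply evG_mem_filt (Wt n x) (one_mem_Wt n x) (mul_mem_Wt n x) (fun i j h => Wt_anti n x h)
      (fun _ => x)
    · intro p
      have := gamma_pow_mem_Wt n x hγ p.2 1
      simpa using this
    · intro m hm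
      exact le_trans (le_max_right 1 (i + 1)) (hw m hm)

end Helpers


/-- Let K be a binomial ring with its binomial λ-structure and B a λ-ring in the strict sense which is
an augmented K-λ-algebra with augmentation ε. Let x ∈ B satisfy ε(x) = 0 and γ^k(x) = 0 for every k
> n, and assume that γ^1(x), …, γ^n(x) are algebraically independent over K and generate B as a
K-algebra — so B is the K-λ-algebra generated by one element subject to the relations γ^k = 0 for k
> n, a polynomial ring K[γ^1 x, …, γ^n x]. Then for every k, the k-th ideal Fil^k B of the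
γ-filtration (generated by the products of γ^{i}(z), ε(z) = 0, of total weight ≥ k) is the ideal
generated by the monomials ∏_j (γ^j x)^{e_j} with Σ_j j·e_j ≥ k: the λ-ring filtration is the
filtration by the weight in the γ^j x. (With λ in place of γ — relations λ^k x = 0 for k > n and
weights in the λ^j x — the assertion fails already for n = 1, where γ^i(x) = x for all i ≥ 1 puts x
in every Fil^k while x is not in the ideal (x²); the form with γ stated here is the one the proof
establishes.) The hypotheses hP and hQ, existence of the universal polynomials, are true statements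
carried so that the identities of B can be used at every index. -/
theorem result
    (K : Type u) [CommRing K] [LambdaRing.LambdaOps K] [BinomialRing K] (hKb : LambdaRing.IsBinomial K)
    (hK : LambdaRing.IsSpecial K)
    (B : Type v) [CommRing B] [LambdaRing.LambdaOps B] [Algebra K B] (hB : LambdaRing.IsSpecial B)
    (hP : ∀ n : ℕ, ∃ P : MvPolynomial (Fin n ⊕ Fin n) ℤ, LambdaRing.IsMulPoly n P)
    (hQ : ∀ i j : ℕ, ∃ Q : MvPolynomial (Fin (i * j)) ℤ, LambdaRing.IsCompPoly i j Q)
    (ε : B →ₐ[K] K) (hε : LambdaRing.IsAugLambdaAlg K B ε)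
    (n : ℕ) (x : B) (hx : ε x = 0) (hγ : ∀ k : ℕ, n < k → LambdaRing.gamma k x = 0)
    (hind : AlgebraicIndependent K (fun j : Fin n => LambdaRing.gamma ((j : ℕ) + 1) x))
    (hgen : Algebra.adjoin K (Set.range fun j : Fin n => LambdaRing.gamma ((j : ℕ) + 1) x) = ⊤)
    (k : ℕ) :
    LambdaRing.gammaFil (ε : B →+* K) k =
      Ideal.span {m : B | ∃ e : Fin n → ℕ, k ≤ ∑ j : Fin n, ((j : ℕ) + 1) * e j ∧
        m = ∏ j : Fin n, LambdaRing.gamma ((j : ℕ) + 1) x ^ e j} := by
  show LambdaRing.gammaFil (ε : B →+* K) k = Wt n x k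
  apply le_antisymm
  · exact gammaFil_le_filt (ε : B →+* K) (Wt n x) (one_mem_Wt n x) (mul_mem_Wt n x)
      (fun i j h => Wt_anti n x h)
      (fun i z hz => gamma_mem_Wt hKb hB ε hε n x hx hγ hgen i z hz) k
  · unfold Wt
    rw [Ideal.span_le]
    rintro m ⟨e, h1, rfl⟩
    apply gammaFil_anti _ h1
    exact prod_mem_filt (LambdaRing.gammaFil (ε : B →+* K)) (one_mem_gammaFil_zero _)
      (mul_mem_gammaFil _) univ (fun j : Fin n => LambdaRing.gamma ((j : ℕ) + 1) x ^ e j)
      (fun j => ((j : ℕ) + 1) * e j)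
      (fun j _ => pow_mem_filt _ (one_mem_gammaFil_zero _) (mul_mem_gammaFil _)
        (gamma_mem_gammaFil _ _ x hx) (e j))

end Groth.Agent.S8697
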