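import Groth.Statements.S8698
import Groth.Agent.H43.GammaRep

set_option autoImplicit false
universe u v w
open Finset
open LambdaRing

namespace Groth.Agent.S8698

open Groth.Agent.H43

section Helpers

variable {K : Type u} [CommRing K] {A : Type v} [CommRing A] [LambdaRing.LambdaOps A] [Algebra K A]
  {B : Type w} [CommRing B] [LambdaRing.LambdaOps B] [Algebra K B] [Algebra A B]
  [IsScalarTower K A B]

/-- the ideal on the right-hand side. -/
def Vt (εA : A →ₐ[K] K) (x : B) (k : ℕ) : Ideal B :=
  Ideal.span {b : B | ∃ (e : ℕ →₀ ℕ) (a : A),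
    a ∈ LambdaRing.gammaFil (εA : A →+* K) (k - e.sum fun j n => (j + 1) * n) ∧
    b = algebraMap A B a * e.prod fun j n => LambdaRing.gamma (j + 1) x ^ n}

theorem Vt_anti (εA : A →ₐ[K] K) (x : B) {i j : ℕ} (h : i ≤ j) : Vt εA x j ≤ Vt εA x i := by
  apply Ideal.span_mono
  rintro b ⟨e, a, h1, h2⟩
  exact ⟨e, a, gammaFil_anti _ (Nat.sub_le_sub_right h _) h1, h2⟩

theorem map_mem_Vt (εA : A →ₐ[K] K) (x : B) {k : ℕ} {a : A}
    (ha : a ∈ LambdaRing.gammaFil (εA : A →+* K) k) : algebraMap A B a ∈ Vt εA x k := by
  apply Ideal.subset_span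
  refine ⟨0, a, ?_, ?_⟩
  · rw [Finsupp.sum_zero_index, Nat.sub_zero]
    exact ha
  · rw [Finsupp.prod_zero_index, mul_one]

theorem one_mem_Vt (εA : A →ₐ[K] K) (x : B) : (1 : B) ∈ Vt εA x 0 := by
  have h := map_mem_Vt (B := B) εA x (one_mem_gammaFil_zero (εA : A →+* K))
  rwa [map_one] at h

theorem mul_mem_Vt (εA : A →ₐ[K] K) (x : B) (i j : ℕ) (a b : B) (ha : a ∈ Vt εA x i)
    (hb : b ∈ Vt εA x j) : a * b ∈ Vt εA x (i + j) := by
  have h : Vt εA x i * Vt εA x j ≤ Vt εA x (i + j) := by
    unfold Vt
    rw [Ideal.span_mul_span']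
    apply Ideal.span_mono
    rintro z ⟨u, ⟨e, c, h1, rfl⟩, u', ⟨e', c', h1', rfl⟩, rfl⟩
    refine ⟨e + e', c * c', ?_, ?_⟩
    · have hs : ((e + e').sum fun j n => (j + 1) * n) =
          (e.sum fun j n => (j + 1) * n) + (e'.sum fun j n => (j + 1) * n) :=
        Finsupp.sum_add_index' (fun j => by simp) (fun j b₁ b₂ => by ring)
      rw [hs]
      have h2 := mul_mem_gammaFil (εA : A →+* K) _ _ c c' h1 h1'
      exact gammaFil_anti _ (by omega) h2
    · rw [Finsupp.prod_add_index' (fun j => pow_zero _) (fun j b₁ b₂ => pow_add _ _ _), map_mul]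
      ring
  exact h (Ideal.mul_mem_mul ha hb)

theorem gen_mem_Vt (εA : A →ₐ[K] K) (x : B) (j : ℕ) :
    LambdaRing.gamma (j + 1) x ∈ Vt εA x (j + 1) := by
  apply Ideal.subset_span
  refine ⟨Finsupp.single j 1, 1, ?_, ?_⟩
  · rw [Finsupp.sum_single_index (by simp), mul_one, Nat.sub_self]
    exact one_mem_gammaFil_zero _
  · rw [Finsupp.prod_single_index (h := fun j n => LambdaRing.gamma (j + 1) x ^ n) (pow_zero _),
      map_one, one_mul, pow_one]

theorem algebraMap_mem_gammaFil (hAB : LambdaRing.IsLambdaAlg A B) (εA : A →ₐ[K] K)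
    (εB : B →ₐ[K] K) (hεAB : ∀ a : A, εB (algebraMap A B a) = εA a) {s : ℕ} {a : A}
    (ha : a ∈ LambdaRing.gammaFil (εA : A →+* K) s) :
    algebraMap A B a ∈ LambdaRing.gammaFil (εB : B →+* K) s := by
  unfold LambdaRing.gammaFil at ha
  induction ha using Submodule.span_induction with
  | mem g hg =>
    obtain ⟨l, h1, h2, rfl⟩ := hg
    apply Ideal.subset_span
    refine ⟨l.map (fun p => (p.1, algebraMap A B p.2)), ?_, ?_, ?_⟩
    · intro q hq
      obtain ⟨p, hp, rfl⟩ := List.mem_map.mp hq
      show εB (algebraMap A B p.2) = 0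
      rw [hεAB]
      exact h1 p hp
    · rw [List.map_map]
      exact h2
    · rw [map_list_prod, List.map_map, List.map_map]
      congr 1
      apply List.map_congr_left
      intro p _
      exact map_gamma (algebraMap A B) (fun n a => hAB n a) p.1 p.2
  | zero =>
    rw [map_zero]
    exact Ideal.zero_mem _
  | add x y _ _ hx hy =>
    rw [map_add]
    exact Ideal.add_mem _ hx hy
  | smul c x _ hx =>
    rw [smul_eq_mul, map_mul]
    exact Ideal.mul_mem_left _ _ hx

theorem gamma_ctr_mem_Vt [LambdaRing.LambdaOps K] [BinomialRing K]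
    (hKb : LambdaRing.IsBinomial K) (hB : LambdaRing.IsSpecial B)
    (hAB : LambdaRing.IsLambdaAlg A B) (εA : A →ₐ[K] K) (εB : B →ₐ[K] K)
    (hεB : LambdaRing.IsAugLambdaAlg K B εB) (hεAB : ∀ a : A, εB (algebraMap A B a) = εA a)
    (x : B) (hx : εB x = 0) (q : MvPolynomial ℕ A) :
    ∀ i : ℕ, LambdaRing.gamma i
      (MvPolynomial.aeval (R := A) (fun j : ℕ => LambdaRing.gamma (j + 1) x) q -
        algebraMap K B (εB (MvPolynomial.aeval (R := A)
          (fun j : ℕ => LambdaRing.gamma (j + 1) x) q))) ∈ Vt εA x i := by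
  have hεg : ∀ j : ℕ, εB (LambdaRing.gamma (j + 1) x) = 0 := by
    intro j
    have h1 := map_gamma (εB : B →+* K) (fun n a => hεB.map_lam n a) (j + 1) x
    have h2 : (εB : B →+* K) x = 0 := hx
    rw [h2, gamma_succ_zero] at h1
    exact h1
  have hmapg : ∀ (i : ℕ) (c : A), LambdaRing.gamma i (algebraMap A B c) =
      algebraMap A B (LambdaRing.gamma i c) :=
    fun i c => (map_gamma (algebraMap A B) (fun n a => hAB n a) i c).symm
  induction q using MvPolynomial.induction_on' with
  | add p q hp hq =>
    intro i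
    have e : MvPolynomial.aeval (R := A) (fun j : ℕ => LambdaRing.gamma (j + 1) x) (p + q) -
        algebraMap K B (εB (MvPolynomial.aeval (R := A)
          (fun j : ℕ => LambdaRing.gamma (j + 1) x) (p + q))) =
        (MvPolynomial.aeval (R := A) (fun j : ℕ => LambdaRing.gamma (j + 1) x) p -
          algebraMap K B (εB (MvPolynomial.aeval (R := A)
            (fun j : ℕ => LambdaRing.gamma (j + 1) x) p))) +
        (MvPolynomial.aeval (R := A) (fun j : ℕ => LambdaRing.gamma (j + 1) x) q -
          algebraMap K B (εB (MvPolynomial.aeval (R := A)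
            (fun j : ℕ => LambdaRing.gamma (j + 1) x) q))) := by
      simp only [map_add]
      ring
    rw [e, Groth.Agent.S3289.result]
    apply Ideal.sum_mem
    intro c hc
    have hc' := Finset.mem_range.mp hc
    have h3 := mul_mem_Vt εA x _ _ _ _ (hp c) (hq (i - c))
    have e2 : c + (i - c) = i := by omega
    rw [e2] at h3
    exact h3
  | monomial α a =>
    intro i
    cases i with
    | zero =>
      rw [gamma_zero']
      exact one_mem_Vt εA x
    | succ i =>
    rw [MvPolynomial.aeval_monomial]
    set a' : A := a - algebraMap K A (εA a) with ha'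
    have hεa' : εA a' = 0 := by
      rw [ha', map_sub, AlgHom.commutes]
      simp
    have hsplit : algebraMap A B a = algebraMap K B (εA a) + algebraMap A B a' := by
      rw [ha', map_sub, ← IsScalarTower.algebraMap_apply K A B]
      ring
    by_cases hα : α = 0
    · subst hα
      rw [Finsupp.prod_zero_index, mul_one, hεAB]
      have e : algebraMap A B a - algebraMap K B (εA a) = algebraMap A B a' := by
        rw [hsplit]; ring
      rw [e, hmapg]
      exact map_mem_Vt εA x (gamma_mem_gammaFil (εA : A →+* K) (i + 1) a' hεa')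
    · obtain ⟨j0, hj0⟩ : ∃ j, α j ≠ 0 := by
        by_contra hcon
        push Not at hcon
        exact hα (Finsupp.ext hcon)
      have hε0 : εB (algebraMap A B a *
          α.prod fun j n => LambdaRing.gamma (j + 1) x ^ n) = 0 := by
        rw [map_mul, map_finsuppProd, Finsupp.prod]
        rw [Finset.prod_eq_zero (Finsupp.mem_support_iff.mpr hj0)
          (by rw [map_pow, hεg, zero_pow hj0]), mul_zero]
      rw [hε0, map_zero, sub_zero]
      set y : Bool → B := fun b => if b then algebraMap A B a' else x with hy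
      set p : MvPolynomial (Bool × ℕ) K :=
        (MvPolynomial.C (εA a) + MvPolynomial.X (true, 0)) *
          α.prod fun j n => MvPolynomial.X (false, j) ^ n with hp
      have hev : evG K y p = algebraMap A B a *
          α.prod fun j n => LambdaRing.gamma (j + 1) x ^ n := by
        rw [hp, map_mul, map_add, evG_C, evG_X, map_finsuppProd, hsplit]
        congr 1
        · simp [hy, gamma_one']
        · apply Finset.prod_congr rfl
          intro j _
          show evG K y (MvPolynomial.X (false, j) ^ α j) = LambdaRing.gamma (j + 1) x ^ α j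
          rw [map_pow, evG_X]
          simp [hy]
      have hwt : WtGe 1 p := by
        apply wtGe_one_of_constantCoeff
        rw [hp, map_mul, map_finsuppProd, Finsupp.prod]
        rw [Finset.prod_eq_zero (Finsupp.mem_support_iff.mpr hj0)
          (by rw [map_pow, MvPolynomial.constantCoeff_X, zero_pow hj0]), mul_zero]
      obtain ⟨h, hrep, hw, -⟩ := gamma_univ.{u, w} hKb p (i + 1) 1 (by omega) le_rfl hwt
      have h3 := hrep B hB hεB.isLambdaAlg y
      rw [hev] at h3
      rw [h3]
      apply evG_mem_filt (Vt εA x) (one_mem_Vt εA x) (mul_mem_Vt εA x)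
        (fun i j h => Vt_anti εA x h) y
      · rintro ⟨b, j⟩
        cases b with
        | false =>
          simp only [hy]
          exact gen_mem_Vt εA x j
        | true =>
          simp only [hy, if_true]
          rw [hmapg]
          exact map_mem_Vt εA x (gamma_mem_gammaFil (εA : A →+* K) (j + 1) a' hεa')
      · intro m hm
        exact le_trans (le_max_right 1 (i + 1)) (hw m hm)

end Helpers


/-- Let K be a binomial ring with its binomial λ-structure, A a λ-ring in the strict sense which is an
augmented K-λ-algebra with augmentation ε_A, and B a λ-ring in the strict sense which is at once an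
augmented K-λ-algebra with augmentation ε_B and an A-algebra compatibly with the K-structures, the
structure map A → B commuting with the λ^n and ε_B restricting to ε_A on A. Let x ∈ B with ε_B(x) =
0, and assume that the family (γ^{j+1} x)_{j ∈ ℕ} is algebraically independent over A and generates
B as an A-algebra: B is the free λ-ring A[X, γ^2 X, γ^3 X, …] on one generator over A, augmented by
X ↦ 0. Then for every k the k-th ideal Fil^k B of the γ-filtration of B is the ideal generated by
the products a · m where m = ∏_j (γ^{j+1} x)^{e_j} is a monomial of weight i = Σ_j (j+1) e_j and a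
lies in (the image of) Fil^{k−i} A, with Fil^s A = A for s ≤ 0; that is, Fil^k B = Fil^k A +
Fil^{k−1} A·M_1 + ⋯ + Fil^0 A·M_k + (monomials of weight > k), M_i denoting the monomials of weight
i. The hypotheses hP and hQ, existence of the universal polynomials, are true statements carried so
that the identities of A and B can be used at every index. -/
theorem result
    (K : Type u) [CommRing K] [LambdaRing.LambdaOps K] [BinomialRing K] (hKb : LambdaRing.IsBinomial K)
    (hK : LambdaRing.IsSpecial K)
    (A : Type v) [CommRing A] [LambdaRing.LambdaOps A] [Algebra K A] (hA : LambdaRing.IsSpecial A)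
    (εA : A →ₐ[K] K) (hεA : LambdaRing.IsAugLambdaAlg K A εA)
    (B : Type w) [CommRing B] [LambdaRing.LambdaOps B] [Algebra K B] [Algebra A B] [IsScalarTower K A B]
    (hB : LambdaRing.IsSpecial B) (hAB : LambdaRing.IsLambdaAlg A B)
    (εB : B →ₐ[K] K) (hεB : LambdaRing.IsAugLambdaAlg K B εB) (hεAB : ∀ a : A, εB (algebraMap A B a) = εA a)
    (hP : ∀ n : ℕ, ∃ P : MvPolynomial (Fin n ⊕ Fin n) ℤ, LambdaRing.IsMulPoly n P)
    (hQ : ∀ i j : ℕ, ∃ Q : MvPolynomial (Fin (i * j)) ℤ, LambdaRing.IsCompPoly i j Q)
    (x : B) (hx : εB x = 0)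
    (hind : AlgebraicIndependent A (fun j : ℕ => LambdaRing.gamma (j + 1) x))
    (hgen : Algebra.adjoin A (Set.range fun j : ℕ => LambdaRing.gamma (j + 1) x) = ⊤)
    (k : ℕ) :
    LambdaRing.gammaFil (εB : B →+* K) k =
      Ideal.span {b : B | ∃ (e : ℕ →₀ ℕ) (a : A),
        a ∈ LambdaRing.gammaFil (εA : A →+* K) (k - e.sum fun j n => (j + 1) * n) ∧
        b = algebraMap A B a * e.prod fun j n => LambdaRing.gamma (j + 1) x ^ n} := by
  show LambdaRing.gammaFil (εB : B →+* K) k = Vt εA x k
  apply le_antisymm
  · apply gammaFil_le_filt (εB : B →+* K) (Vt εA x) (one_mem_Vt εA x) (mul_mem_Vt εA x)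
      (fun i j h => Vt_anti εA x h)
    intro i z hz
    have hzmem : z ∈ Algebra.adjoin A (Set.range fun j : ℕ => LambdaRing.gamma (j + 1) x) := by
      rw [hgen]; trivial
    rw [Algebra.adjoin_range_eq_range_aeval] at hzmem
    obtain ⟨q, hq0⟩ := hzmem
    have hq : MvPolynomial.aeval (R := A) (fun j : ℕ => LambdaRing.gamma (j + 1) x) q = z := hq0
    have h1 := gamma_ctr_mem_Vt hKb hB hAB εA εB hεB hεAB x hx q i
    have hz' : εB z = 0 := hz
    rw [hq, hz', map_zero, sub_zero] at h1
    exact h1
  · unfold Vt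
    rw [Ideal.span_le]
    rintro b ⟨e, a, h1, rfl⟩
    have h2 := algebraMap_mem_gammaFil hAB εA εB hεAB h1
    have h3 : (e.prod fun j n => LambdaRing.gamma (j + 1) x ^ n) ∈
        LambdaRing.gammaFil (εB : B →+* K) (e.sum fun j n => (j + 1) * n) := by
      rw [Finsupp.prod, Finsupp.sum]
      exact prod_mem_filt (LambdaRing.gammaFil (εB : B →+* K)) (one_mem_gammaFil_zero _)
        (mul_mem_gammaFil _) e.support (fun j => LambdaRing.gamma (j + 1) x ^ e j)
        (fun j => (j + 1) * e j)
        (fun j _ => pow_mem_filt _ (one_mem_gammaFil_zero _) (mul_mem_gammaFil _)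
          (gamma_mem_gammaFil _ _ x hx) (e j))
    have h4 := mul_mem_gammaFil (εB : B →+* K) _ _ _ _ h2 h3
    exact gammaFil_anti _ (by omega) h4

end Groth.Agent.S8698
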