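import Groth.Statements.S8704
import Groth.Agent.S3289
import Groth.Agent.H43.LambdaBasic
import Mathlib.Algebra.Algebra.Operations

set_option autoImplicit false
universe u v
open LambdaRing

namespace Groth.Agent.S8704

open Groth.Agent.H43 Finset

variable {K : Type u} [CommRing K] {A : Type v} [CommRing A] [LambdaRing.LambdaOps A] [Algebra K A]

/-- the centred element `x - ε(x)`. -/
noncomputable def ctr (ε : A →ₐ[K] K) (x : A) : A := x - algebraMap K A (ε x)

/-- generators of weight at least `n`. -/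
def gen (ε : A →ₐ[K] K) (S : Set A) (n : ℕ) : Set A :=
  {y : A | ∃ l : List (ℕ × A), (∀ p ∈ l, p.2 ∈ S) ∧ n ≤ (l.map Prod.fst).sum ∧
    y = (l.map fun p => LambdaRing.gamma p.1 (p.2 - algebraMap K A (ε p.2))).prod}

/-- the `K`-span of the generators of weight at least `n`. -/
noncomputable def W (ε : A →ₐ[K] K) (S : Set A) (n : ℕ) : Submodule K A :=
  Submodule.span K (gen ε S n)

theorem W_mono (ε : A →ₐ[K] K) (S : Set A) {m n : ℕ} (h : n ≤ m) : W ε S m ≤ W ε S n := by
  apply Submodule.span_mono
  rintro y ⟨l, h1, h2, h3⟩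
  exact ⟨l, h1, le_trans h h2, h3⟩

theorem one_mem_W (ε : A →ₐ[K] K) (S : Set A) : (1 : A) ∈ W ε S 0 := by
  apply Submodule.subset_span
  exact ⟨[], by simp, by simp, by simp⟩

theorem mul_mem_W (ε : A →ₐ[K] K) (S : Set A) {a b : ℕ} {y y' : A} (hy : y ∈ W ε S a)
    (hy' : y' ∈ W ε S b) : y * y' ∈ W ε S (a + b) := by
  have h : W ε S a * W ε S b ≤ W ε S (a + b) := by
    unfold W
    rw [Submodule.span_mul_span]
    apply Submodule.span_mono
    rintro z ⟨u, ⟨l, h1, h2, h3⟩, u', ⟨l', h1', h2', h3'⟩, rfl⟩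
    refine ⟨l ++ l', ?_, ?_, ?_⟩
    · intro p hp
      rcases List.mem_append.mp hp with hp | hp
      · exact h1 p hp
      · exact h1' p hp
    · rw [List.map_append, List.sum_append]
      exact Nat.add_le_add h2 h2'
    · rw [List.map_append, List.prod_append, h3, h3']
  exact h (Submodule.mul_mem_mul hy hy')

theorem gamma_one_eq (u : A) : LambdaRing.gamma 1 u = u := by
  simp [LambdaRing.gamma, Finset.sum_range_succ, LambdaOps.lam_one]

theorem gamma_zero_eq (u : A) : LambdaRing.gamma 0 u = 1 := by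
  simp [LambdaRing.gamma]

theorem gamma_zero_arg (i : ℕ) (hi : 1 ≤ i) : LambdaRing.gamma i (0 : A) = 0 := by
  unfold LambdaRing.gamma
  rw [if_neg (by omega)]
  apply Finset.sum_eq_zero
  intro j _
  by_cases hj : j = 0
  · rw [if_pos hj, mul_zero]
  · rw [if_neg hj, lam_zero_arg, if_neg hj, mul_zero]

omit [LambdaRing.LambdaOps A] in
theorem ctr_add (ε : A →ₐ[K] K) (x y : A) : ctr ε (x + y) = ctr ε x + ctr ε y := by
  unfold ctr
  rw [map_add, map_add]
  ring

omit [LambdaRing.LambdaOps A] in
theorem ctr_neg (ε : A →ₐ[K] K) (x : A) : ctr ε (-x) = -ctr ε x := by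
  unfold ctr
  rw [map_neg, map_neg]
  ring

omit [LambdaRing.LambdaOps A] in
theorem ctr_zero (ε : A →ₐ[K] K) : ctr ε (0 : A) = 0 := by
  unfold ctr
  rw [map_zero, map_zero, sub_zero]

theorem gamma_neg_mem (ε : A →ₐ[K] K) (S : Set A) (u : A)
    (hu : ∀ a : ℕ, LambdaRing.gamma a u ∈ W ε S a) :
    ∀ i : ℕ, LambdaRing.gamma i (-u) ∈ W ε S i := by
  intro i
  induction i using Nat.strong_induction_on with
  | _ i ih =>
    cases i with
    | zero =>
      rw [gamma_zero_eq]
      exact one_mem_W ε S
    | succ i =>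
      have h := Groth.Agent.S3289.result A (i + 1) u (-u)
      rw [add_neg_cancel, gamma_zero_arg (i + 1) (by omega), Finset.sum_range_succ',
        gamma_zero_eq, one_mul, Nat.sub_zero] at h
      have h2 : LambdaRing.gamma (i + 1) (-u) =
          -∑ a ∈ range (i + 1), LambdaRing.gamma (a + 1) u *
            LambdaRing.gamma (i + 1 - (a + 1)) (-u) := by
        rw [eq_neg_iff_add_eq_zero, add_comm]
        exact h.symm
      rw [h2]
      apply Submodule.neg_mem
      apply Submodule.sum_mem
      intro a ha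
      have ha' := Finset.mem_range.mp ha
      have h3 := mul_mem_W ε S (hu (a + 1)) (ih (i + 1 - (a + 1)) (by omega))
      have e : a + 1 + (i + 1 - (a + 1)) = i + 1 := by omega
      rw [e] at h3
      exact h3

theorem gamma_ctr_mem (ε : A →ₐ[K] K) (S : Set A) (hS : AddSubgroup.closure S = ⊤) (x : A) :
    ∀ i : ℕ, LambdaRing.gamma i (ctr ε x) ∈ W ε S i := by
  have hx : x ∈ AddSubgroup.closure S := by rw [hS]; trivial
  induction hx using AddSubgroup.closure_induction with
  | mem s hs =>
    intro i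
    apply Submodule.subset_span
    refine ⟨[(i, s)], ?_, ?_, ?_⟩
    · intro p hp
      rw [List.mem_singleton] at hp
      rw [hp]
      exact hs
    · simp
    · simp [ctr]
  | zero =>
    intro i
    rw [ctr_zero]
    cases i with
    | zero =>
      rw [gamma_zero_eq]
      exact one_mem_W ε S
    | succ i =>
      rw [gamma_zero_arg (i + 1) (by omega)]
      exact Submodule.zero_mem _
  | add x y _ _ hx hy =>
    intro i
    rw [ctr_add, Groth.Agent.S3289.result A i (ctr ε x) (ctr ε y)]
    apply Submodule.sum_mem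
    intro a ha
    have ha' := Finset.mem_range.mp ha
    have h3 := mul_mem_W ε S (hx a) (hy (i - a))
    have e : a + (i - a) = i := by omega
    rw [e] at h3
    exact h3
  | neg x _ hx =>
    intro i
    rw [ctr_neg]
    exact gamma_neg_mem ε S (ctr ε x) hx i

theorem mem_W_zero (ε : A →ₐ[K] K) (S : Set A) (hS : AddSubgroup.closure S = ⊤) (a : A) :
    a ∈ W ε S 0 := by
  have h1 : a = (ε a) • (1 : A) + LambdaRing.gamma 1 (ctr ε a) := by
    rw [gamma_one_eq, ctr, Algebra.smul_def, mul_one]
    ring
  rw [h1]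
  apply Submodule.add_mem
  · exact Submodule.smul_mem _ _ (one_mem_W ε S)
  · exact W_mono ε S (Nat.zero_le 1) (gamma_ctr_mem ε S hS a 1)

theorem list_prod_mem (ε : A →ₐ[K] K) (S : Set A) (hS : AddSubgroup.closure S = ⊤)
    (l : List (ℕ × A)) (hl : ∀ p ∈ l, ε p.2 = 0) :
    (l.map fun p => LambdaRing.gamma p.1 p.2).prod ∈ W ε S (l.map Prod.fst).sum := by
  induction l with
  | nil =>
    simp only [List.map_nil, List.prod_nil, List.sum_nil]
    exact one_mem_W ε S
  | cons p l ih =>
    simp only [List.map_cons, List.prod_cons, List.sum_cons]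
    apply mul_mem_W
    · have h0 : ε p.2 = 0 := hl p List.mem_cons_self
      have h1 : ctr ε p.2 = p.2 := by
        rw [ctr, h0, map_zero, sub_zero]
      have h2 := gamma_ctr_mem ε S hS p.2 p.1
      rw [h1] at h2
      exact h2
    · exact ih (fun q hq => hl q (List.mem_cons_of_mem _ hq))

/-- Let K and A be λ-rings in the strict sense, A an augmented K-λ-algebra with augmentation ε : A → K,
and Fil^n A its γ-filtration, the ideal generated by the products γ^{i_1}(x_1) ⋯ γ^{i_k}(x_k) with
i_1 + ⋯ + i_k ≥ n and all ε(x_r) = 0. If a subset S generates A as an abelian group, then Fil^n A,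
as a K-submodule of A, is generated over K by the products γ^{i_1}(s_1 − ε(s_1)) ⋯ γ^{i_k}(s_k −
ε(s_k)) with s_r ∈ S and i_1 + ⋯ + i_k ≥ n. -/
theorem result
    (K : Type u) [CommRing K] [LambdaRing.LambdaOps K] (hK : LambdaRing.IsSpecial K)
    (A : Type v) [CommRing A] [LambdaRing.LambdaOps A] [Algebra K A] (hA : LambdaRing.IsSpecial A)
    (ε : A →ₐ[K] K) (hε : LambdaRing.IsAugLambdaAlg K A ε)
    (S : Set A) (hS : AddSubgroup.closure S = ⊤) (n : ℕ) :
    (LambdaRing.gammaFil (ε : A →+* K) n).restrictScalars K =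
      Submodule.span K {y : A | ∃ l : List (ℕ × A), (∀ p ∈ l, p.2 ∈ S) ∧ n ≤ (l.map Prod.fst).sum ∧
        y = (l.map fun p => LambdaRing.gamma p.1 (p.2 - algebraMap K A (ε p.2))).prod} := by
  apply le_antisymm
  · intro z hz
    rw [Submodule.restrictScalars_mem] at hz
    show z ∈ W ε S n
    unfold LambdaRing.gammaFil at hz
    induction hz using Submodule.span_induction with
    | mem g hg =>
      obtain ⟨l, h1, h2, h3⟩ := hg
      rw [h3]
      exact W_mono ε S h2 (list_prod_mem ε S hS l h1)
    | zero => exact Submodule.zero_mem _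
    | add x y _ _ hx hy => exact Submodule.add_mem _ hx hy
    | smul a x _ hx =>
      have h := mul_mem_W ε S (mem_W_zero ε S hS a) hx
      rw [zero_add] at h
      exact h
  · apply Submodule.span_le.mpr
    rintro y ⟨l, h1, h2, h3⟩
    rw [SetLike.mem_coe, Submodule.restrictScalars_mem]
    apply Ideal.subset_span
    refine ⟨l.map (fun p => (p.1, p.2 - algebraMap K A (ε p.2))), ?_, ?_, ?_⟩
    · intro q hq
      obtain ⟨p, _, rfl⟩ := List.mem_map.mp hq
      show ε (p.2 - algebraMap K A (ε p.2)) = 0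
      rw [map_sub, AlgHom.commutes]
      simp
    · rw [List.map_map]
      exact h2
    · rw [h3, List.map_map]
      rfl

end Groth.Agent.S8704
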