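import Groth.Statements.S8705
import Mathlib.Tactic
import Mathlib.Algebra.Group.MinimalAxioms
-- import your own Groth.Agent.* helpers here

set_option autoImplicit false
universe u
open SGA7

namespace Groth.Agent.S8705

lemma eq_of_sub_eq_sub {G : Type*} [AddCommGroup G] {a b x y : G} (h : x = y)
    (h2 : a - b = x - y) : a = b := by
  rw [← sub_eq_zero, h2, sub_eq_zero]; exact h

section TwExt
variable {P : Type u} [AddCommGroup P] {M : Type u} [AddCommGroup M]

structure SymCocycle (c : P → P → M) : Prop where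
  symm : ∀ p q, c p q = c q p
  cocycle : ∀ p q r, c (p + q) r + c p q = c p (q + r) + c q r

namespace SymCocycle
variable {c : P → P → M}

lemma zero_left (hc : SymCocycle c) (r : P) : c 0 r = c 0 0 := by
  have h := hc.cocycle 0 0 r
  simp only [zero_add] at h
  exact (add_left_cancel h).symm

lemma zero_right (hc : SymCocycle c) (p : P) : c p 0 = c 0 0 := by
  rw [hc.symm p 0]; exact hc.zero_left p

end SymCocycle

@[ext] structure TwExt (c : P → P → M) where
  fst : M
  snd : P

namespace TwExt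
variable {c : P → P → M}

/-- The twisted extension of `P` by `M` along a symmetric 2-cocycle is an abelian group. -/
def addCommGroup (hc : SymCocycle c) : AddCommGroup (TwExt c) :=
  letI : Add (TwExt c) := ⟨fun x y => ⟨x.fst + y.fst + c x.snd y.snd, x.snd + y.snd⟩⟩
  letI : Zero (TwExt c) := ⟨⟨-c 0 0, 0⟩⟩
  letI : Neg (TwExt c) := ⟨fun x => ⟨-x.fst - c x.snd (-x.snd) - c 0 0, -x.snd⟩⟩
  { AddGroup.ofLeftAxioms
      (fun x y z => by
        refine TwExt.ext ?_ ?_
        · show (x.fst + y.fst + c x.snd y.snd) + z.fst + c (x.snd + y.snd) z.snd =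
            x.fst + (y.fst + z.fst + c y.snd z.snd) + c x.snd (y.snd + z.snd)
          exact eq_of_sub_eq_sub (hc.cocycle x.snd y.snd z.snd) (by abel)
        · show x.snd + y.snd + z.snd = x.snd + (y.snd + z.snd)
          exact add_assoc _ _ _)
      (fun a => by
        refine TwExt.ext ?_ ?_
        · show -c 0 0 + a.fst + c 0 a.snd = a.fst
          rw [hc.zero_left a.snd]; abel
        · show 0 + a.snd = a.snd
          exact zero_add _)
      (fun a => by
        refine TwExt.ext ?_ ?_
        · show (-a.fst - c a.snd (-a.snd) - c 0 0) + a.fst + c (-a.snd) a.snd = -c 0 0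
          rw [hc.symm (-a.snd) a.snd]; abel
        · show -a.snd + a.snd = 0
          exact neg_add_cancel _) with
    add_comm := fun x y => by
      refine TwExt.ext ?_ ?_
      · show x.fst + y.fst + c x.snd y.snd = y.fst + x.fst + c y.snd x.snd
        rw [hc.symm x.snd y.snd]; abel
      · show x.snd + y.snd = y.snd + x.snd
        exact add_comm _ _ }

end TwExt
end TwExt

section main
variable (P : Type u) [AddCommGroup P]

noncomputable def eps : (P →₀ ℤ) →ₗ[ℤ] P := Finsupp.linearCombination ℤ (fun p : P => p)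
noncomputable def d0 : (P × P →₀ ℤ) →ₗ[ℤ] (P →₀ ℤ) := Finsupp.linearCombination ℤ
  (fun pq : P × P => Finsupp.single (pq.1 + pq.2) 1 - Finsupp.single pq.1 1 - Finsupp.single pq.2 1)
noncomputable def d1 : (P × P × P →₀ ℤ) →ₗ[ℤ] (P × P →₀ ℤ) := Finsupp.linearCombination ℤ
  (fun t : P × P × P => Finsupp.single (t.1 + t.2.1, t.2.2) 1 - Finsupp.single (t.1, t.2.1 + t.2.2) 1
    + Finsupp.single (t.1, t.2.1) 1 - Finsupp.single (t.2.1, t.2.2) 1)
noncomputable def d1' : (P × P →₀ ℤ) →ₗ[ℤ] (P × P →₀ ℤ) := Finsupp.linearCombination ℤ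
  (fun pq : P × P => Finsupp.single pq 1 - Finsupp.single (pq.2, pq.1) 1)

lemma eps_single (p : P) : eps P (Finsupp.single p 1) = p := by
  simp [eps, Finsupp.linearCombination_single]

lemma d0_single (p q : P) : d0 P (Finsupp.single (p, q) 1) =
    Finsupp.single (p + q) 1 - Finsupp.single p 1 - Finsupp.single q 1 := by
  simp [d0, Finsupp.linearCombination_single]

lemma d1_single (p q r : P) : d1 P (Finsupp.single (p, q, r) 1) =
    Finsupp.single (p + q, r) 1 - Finsupp.single (p, q + r) 1
      + Finsupp.single (p, q) 1 - Finsupp.single (q, r) 1 := by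
  simp [d1, Finsupp.linearCombination_single]

lemma d1'_single (p q : P) : d1' P (Finsupp.single (p, q) 1) =
    Finsupp.single (p, q) 1 - Finsupp.single (q, p) 1 := by
  simp [d1', Finsupp.linearCombination_single]

lemma eps_surjective : Function.Surjective (eps P) :=
  fun p => ⟨Finsupp.single p 1, eps_single P p⟩

lemma eps_comp_d0 : eps P ∘ₗ d0 P = 0 := by
  apply Finsupp.lhom_ext'
  rintro ⟨p, q⟩
  apply LinearMap.ext_ring
  rw [LinearMap.comp_apply, LinearMap.comp_apply, Finsupp.lsingle_apply, d0_single, map_sub,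
    map_sub, eps_single, eps_single, eps_single]
  simp

lemma d0_comp_d1 : d0 P ∘ₗ d1 P = 0 := by
  apply Finsupp.lhom_ext'
  rintro ⟨p, q, r⟩
  apply LinearMap.ext_ring
  rw [LinearMap.comp_apply, LinearMap.comp_apply, Finsupp.lsingle_apply, d1_single, map_sub,
    map_add, map_sub, d0_single, d0_single, d0_single, d0_single, add_assoc p q r]
  simp only [LinearMap.zero_comp, LinearMap.zero_apply]
  abel

lemma d0_comp_d1' : d0 P ∘ₗ d1' P = 0 := by
  apply Finsupp.lhom_ext'
  rintro ⟨p, q⟩
  apply LinearMap.ext_ring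
  rw [LinearMap.comp_apply, LinearMap.comp_apply, Finsupp.lsingle_apply, d1'_single, map_sub,
    d0_single, d0_single, add_comm q p]
  simp only [LinearMap.zero_comp, LinearMap.zero_apply]
  abel

lemma ker_eps : LinearMap.ker (eps P) = LinearMap.range (d0 P) := by
  apply le_antisymm
  · intro x hx
    rw [LinearMap.mem_ker] at hx
    let s : P →+ ((P →₀ ℤ) ⧸ LinearMap.range (d0 P)) :=
      AddMonoidHom.mk' (fun p => Submodule.Quotient.mk (Finsupp.single p 1)) (by
        intro p q
        rw [← Submodule.Quotient.mk_add]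
        refine (Submodule.Quotient.eq _).mpr ⟨Finsupp.single (p, q) 1, ?_⟩
        rw [d0_single]; abel)
    have key : s.toIntLinearMap ∘ₗ eps P = (LinearMap.range (d0 P)).mkQ := by
      apply Finsupp.lhom_ext'
      intro p
      apply LinearMap.ext_ring
      rw [LinearMap.comp_apply, LinearMap.comp_apply, Finsupp.lsingle_apply, eps_single]
      rfl
    have h := LinearMap.congr_fun key x
    rw [LinearMap.comp_apply, hx, map_zero] at h
    exact (Submodule.Quotient.mk_eq_zero _).mp h.symm
  · rintro _ ⟨y, rfl⟩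
    rw [LinearMap.mem_ker]
    exact LinearMap.congr_fun (eps_comp_d0 P) y

lemma ker_d0_le : LinearMap.ker (d0 P) ≤ LinearMap.range (d1 P) ⊔ LinearMap.range (d1' P) := by
  intro x hx
  rw [LinearMap.mem_ker] at hx
  set B : Submodule ℤ (P × P →₀ ℤ) := LinearMap.range (d1 P) ⊔ LinearMap.range (d1' P) with hB
  let c : P → P → ((P × P →₀ ℤ) ⧸ B) := fun p q => B.mkQ (Finsupp.single (p, q) 1)
  have hc : SymCocycle c := by
    constructor
    · intro p q
      show B.mkQ _ = B.mkQ _
      rw [← sub_eq_zero, ← map_sub, Submodule.mkQ_apply, Submodule.Quotient.mk_eq_zero]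
      exact Submodule.mem_sup_right ⟨Finsupp.single (p, q) 1, d1'_single P p q⟩
    · intro p q r
      show B.mkQ _ + B.mkQ _ = B.mkQ _ + B.mkQ _
      rw [← map_add, ← map_add, ← sub_eq_zero, ← map_sub, Submodule.mkQ_apply,
        Submodule.Quotient.mk_eq_zero]
      refine Submodule.mem_sup_left ⟨Finsupp.single (p, q, r) 1, ?_⟩
      rw [d1_single]; abel
  let _ : AddCommGroup (TwExt c) := TwExt.addCommGroup hc
  let σ : (P →₀ ℤ) →ₗ[ℤ] TwExt c := Finsupp.linearCombination ℤ (fun p => (⟨0, p⟩ : TwExt c))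
  have hσ : ∀ p, σ (Finsupp.single p 1) = ⟨0, p⟩ := fun p => by
    simp [σ, Finsupp.linearCombination_single]
  let j : ((P × P →₀ ℤ) ⧸ B) →+ TwExt c := AddMonoidHom.mk' (fun m => ⟨m - c 0 0, 0⟩) (by
    intro m m'
    refine TwExt.ext ?_ ?_
    · show m + m' - c 0 0 = (m - c 0 0) + (m' - c 0 0) + c 0 0
      abel
    · show (0 : P) = 0 + 0
      rw [add_zero])
  have key : σ ∘ₗ d0 P + j.toIntLinearMap ∘ₗ B.mkQ = 0 := by
    apply Finsupp.lhom_ext'
    rintro ⟨p, q⟩
    apply LinearMap.ext_ring
    have h1 : (⟨0, p + q⟩ : TwExt c) + ⟨c p q - c 0 0, 0⟩ = ⟨0, p⟩ + ⟨0, q⟩ := by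
      refine TwExt.ext ?_ ?_
      · show 0 + (c p q - c 0 0) + c (p + q) 0 = 0 + 0 + c p q
        rw [hc.zero_right (p + q)]; abel
      · show p + q + 0 = p + q
        rw [add_zero]
    rw [LinearMap.comp_apply, LinearMap.comp_apply, LinearMap.add_apply, LinearMap.comp_apply,
      LinearMap.comp_apply, Finsupp.lsingle_apply, d0_single, map_sub, map_sub, hσ, hσ, hσ]
    show (⟨0, p + q⟩ : TwExt c) - ⟨0, p⟩ - ⟨0, q⟩ + ⟨c p q - c 0 0, 0⟩ = 0
    rw [sub_sub, sub_add_eq_add_sub, sub_eq_zero]
    exact h1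
  have h2 : σ (d0 P x) + j (B.mkQ x) = 0 := LinearMap.congr_fun key x
  rw [hx, map_zero, zero_add] at h2
  have h3 : B.mkQ x - c 0 0 = - c 0 0 := congrArg TwExt.fst h2
  have h4 : B.mkQ x = 0 := by
    have := congrArg (· + c 0 0) h3
    simpa using this
  exact (Submodule.Quotient.mk_eq_zero _).mp h4

lemma ker_d0 : LinearMap.ker (d0 P) = LinearMap.range (d1 P) ⊔ LinearMap.range (d1' P) := by
  apply le_antisymm (ker_d0_le P)
  apply sup_le
  · rintro _ ⟨y, rfl⟩
    rw [LinearMap.mem_ker]
    exact LinearMap.congr_fun (d0_comp_d1 P) y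
  · rintro _ ⟨y, rfl⟩
    rw [LinearMap.mem_ker]
    exact LinearMap.congr_fun (d0_comp_d1' P) y

end main



/-- In the case of the punctual topos (ordinary abelian groups): let P be an abelian group and consider
the complex of free abelian groups Z[P × P × P] ⊕ Z[P × P] → Z[P × P] → Z[P], augmented to P by [p]
↦ p, with d₀[p, q] = [p + q] − [p] − [q], with d₁ on the first summand given by [p, q, r] ↦ [p + q,
r] − [p, q + r] + [p, q] − [q, r] and on the second summand by [p, q] ↦ [p, q] − [q, p]. Then the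
augmentation is surjective with kernel the image of d₀ (so H₀ is P), and the kernel of d₀ is the sum
of the images of the two components of d₁ (so H₁ vanishes). (The published statement is for abelian
sheaves on an arbitrary topos; this row is its case of a one-point space.) -/
theorem result (P : Type u) [AddCommGroup P] :
    letI ε : (P →₀ ℤ) →ₗ[ℤ] P := Finsupp.linearCombination ℤ (fun p : P => p)
    letI d₀ : (P × P →₀ ℤ) →ₗ[ℤ] (P →₀ ℤ) := Finsupp.linearCombination ℤ
      (fun pq : P × P => Finsupp.single (pq.1 + pq.2) 1 - Finsupp.single pq.1 1 - Finsupp.single pq.2 1)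
    letI d₁ : (P × P × P →₀ ℤ) →ₗ[ℤ] (P × P →₀ ℤ) := Finsupp.linearCombination ℤ
      (fun t : P × P × P => Finsupp.single (t.1 + t.2.1, t.2.2) 1 - Finsupp.single (t.1, t.2.1 + t.2.2) 1
        + Finsupp.single (t.1, t.2.1) 1 - Finsupp.single (t.2.1, t.2.2) 1)
    letI d₁' : (P × P →₀ ℤ) →ₗ[ℤ] (P × P →₀ ℤ) := Finsupp.linearCombination ℤ
      (fun pq : P × P => Finsupp.single pq 1 - Finsupp.single (pq.2, pq.1) 1)
    Function.Surjective ε ∧ LinearMap.ker ε = LinearMap.range d₀ ∧
      LinearMap.ker d₀ = LinearMap.range d₁ ⊔ LinearMap.range d₁' := by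
  exact ⟨eps_surjective P, ker_eps P, ker_d0 P⟩

end Groth.Agent.S8705
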