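import Groth.Statements.S8710
import Groth.Agent.H82.TorFlat

set_option autoImplicit false
universe u
open CategoryTheory CategoryTheory.Limits
open SGA7

namespace Groth.Agent.S8710

/-- Let f : B' → B be a surjective map of R-algebras with B' flat over R, g : C → B a map of R-algebras,
P = B' ×_B C their fibre product (the equalizer of f ∘ pr₁ and g ∘ pr₂ in B' × C), S an R-algebra
and n a natural number. If Tor_i^R(C, S) = 0 for 0 < i < n and Tor_i^R(B, S) = 0 for 0 < i ≤ n, then
Tor_i^R(P, S) = 0 for 0 < i < n. Here Tor_i^R(M, S) is the i-th left derived functor of M ⊗_R − on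
R-modules, evaluated at S. (The published statement asks the vanishing for B only in degrees 0 < i <
n; the published proof and the corollary following it use it in degrees 0 < i ≤ n, which this row
assumes.) -/
theorem result (R B' B C S : Type u) [CommRing R] [CommRing B'] [CommRing B]
    [CommRing C] [CommRing S] [Algebra R B'] [Algebra R B] [Algebra R C] [Algebra R S]
    (f : B' →ₐ[R] B) (hf : Function.Surjective f) (g : C →ₐ[R] B) [Module.Flat R B'] (n : ℕ)
    (hC : ∀ i : ℕ, 0 < i → i < n →
      IsZero (((Tor (ModuleCat.{u} R) i).obj (ModuleCat.of R C)).obj (ModuleCat.of R S)))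
    (hB : ∀ i : ℕ, 0 < i → i ≤ n →
      IsZero (((Tor (ModuleCat.{u} R) i).obj (ModuleCat.of R B)).obj (ModuleCat.of R S))) :
    letI P := AlgHom.equalizer (f.comp (AlgHom.fst R B' C)) (g.comp (AlgHom.snd R B' C))
    ∀ i : ℕ, 0 < i → i < n →
      IsZero (((Tor (ModuleCat.{u} R) i).obj (ModuleCat.of R ↥P)).obj (ModuleCat.of R S)) := by
  intro i hi hin
  have T := Groth.Agent.H82.TorLib.hasLES_tor_flip (ModuleCat.of R S)
  have hS1 := Groth.Agent.H82.TorFlat.shortExact_of (A := R) (LinearMap.inl R B' C)
    (LinearMap.snd R B' C) LinearMap.inl_injective LinearMap.snd_surjective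
    Function.Exact.inl_snd
  have z1 : IsZero (((Tor (ModuleCat.{u} R) i).obj (ModuleCat.of R (B' × C))).obj
      (ModuleCat.of R S)) := by
    obtain ⟨h0, h1, -⟩ := T _ hS1 i
    exact (h1 h0).isZero_of_both_isZero
      (Groth.Agent.S6314.result R B' (ModuleCat.of R S) i hi) (hC i hi hin)
  have hS2 := Groth.Agent.H82.TorFlat.shortExact_of (A := R)
    (AlgHom.equalizer (f.comp (AlgHom.fst R B' C)) (g.comp (AlgHom.snd R B' C))).val.toLinearMap
    (f.toLinearMap.comp (LinearMap.fst R B' C) - g.toLinearMap.comp (LinearMap.snd R B' C))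
    Subtype.val_injective
    (by
      intro b
      obtain ⟨b', rfl⟩ := hf b
      exact ⟨(b', 0), by simp⟩)
    (by
      intro x
      constructor
      · intro hx
        have hx' : f x.1 = g x.2 := by
          have : f x.1 - g x.2 = 0 := by simpa using hx
          exact sub_eq_zero.mp this
        exact ⟨⟨x, by simpa [AlgHom.mem_equalizer] using hx'⟩, rfl⟩
      · rintro ⟨y, rfl⟩
        have hy := y.2
        rw [AlgHom.mem_equalizer] at hy
        have hy' : f (y : B' × C).1 = g (y : B' × C).2 := by simpa using hy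
        simp [hy'])
  obtain ⟨-, -, δ, w₁, w₂, e1, e2⟩ := T _ hS2 i
  exact e2.isZero_of_both_isZero (hB (i+1) (Nat.succ_pos i) hin) z1

end Groth.Agent.S8710
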