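import Groth.Statements.S8716
import Groth.Agent.H40.ConstGrp

set_option autoImplicit false
universe u
open CategoryTheory CategoryTheory.Limits MonoidalCategory CartesianMonoidalCategory MonObj AlgebraicGeometry
open SGA7

namespace Groth.Agent.S8716

/-- Let k be a field, Z a commutative group without non-trivial elements of finite order, P a
commutative k-group scheme of finite type (so that its group of connected components is a finite,
hence torsion, group), G the constant k-group scheme Z_k (through the isomorphism eG), and u : G →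
E, v : E → P homomorphisms of commutative k-group schemes forming a sequence 1 → G → E → P → 1 exact
for the fppf topology. Then the extension is rigid: every automorphism of the k-group scheme E
compatible with u and v is the identity. (The published statement assumes only P locally of finite
type with torsion component group; this row takes P of finite type, the case it names.) -/
theorem result (k : Type u) [Field k]
    (Z : Type u) [CommGroup Z] (hZ : ∀ z : Z, IsOfFinOrder z → z = 1)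
    (P E G : Over (Spec (CommRingCat.of k))) [GrpObj P] [GrpObj E] [GrpObj G]
    [IsCommMonObj P] [IsCommMonObj E]
    [LocallyOfFiniteType P.hom] [QuasiCompact P.hom]
    (eG : G ≅ TwC.const (Spec (CommRingCat.of k)) Z) (hG : TwC.IsConstGrp Z G eG)
    (u : G ⟶ E) (v : E ⟶ P) (hex : NonAbH1.IsExactSeq Scheme.fppfPrecoverage u v)
    (φ : E ≅ E) [IsMonHom φ.hom] (hφu : u ≫ φ.hom = u) (hφv : φ.hom ≫ v = v) :
    φ.hom = 𝟙 E := by
  open Groth.Agent.H40.FpqcFam Groth.Agent.H40.ConstGrp CategoryTheory.Limits in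
  obtain ⟨hu, hv, huv, hpb, hloc0⟩ := hex
  have hloc := locTriv_fpqc_of_fppf hloc0
  have huv' : ∀ {T : Over (Spec (CommRingCat.of k))} (g : T ⟶ G), (g ≫ u) ≫ v = 1 := fun g => by
    rw [Category.assoc, huv, MonObj.comp_one]
  have hu_inj : ∀ {T : Over (Spec (CommRingCat.of k))} (g g' : T ⟶ G), g ≫ u = g' ≫ u → g = g' := by
    intro T g g' h
    exact (exact_lift hpb (g ≫ u) (huv' g)).unique rfl h.symm
  have hδv : (φ.hom * (𝟙 E)⁻¹) ≫ v = 1 := by
    rw [MonObj.mul_comp, GrpObj.inv_comp, hφv, Category.id_comp, mul_inv_cancel]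
  obtain ⟨d, hd, -⟩ := exact_lift hpb _ hδv
  have hdp : ∀ {T : Over (Spec (CommRingCat.of k))} (x : T ⟶ E),
      (x ≫ d) ≫ u = (x ≫ φ.hom) * x⁻¹ := by
    intro T x
    rw [Category.assoc, hd, MonObj.comp_mul, GrpObj.comp_inv, Category.comp_id]
  have hdmul : ∀ {T : Over (Spec (CommRingCat.of k))} (x y : T ⟶ E),
      (x * y) ≫ d = (x ≫ d) * (y ≫ d) := by
    intro T x y
    apply hu_inj
    rw [hdp, MonObj.mul_comp x y φ.hom, MonObj.mul_comp (x ≫ d) (y ≫ d) u, hdp, hdp]
    have hc : ∀ a b : T ⟶ E, a * b = b * a := fun a b => mul_comm a b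
    calc (x ≫ φ.hom) * (y ≫ φ.hom) * (x * y)⁻¹
        = (x ≫ φ.hom) * ((y ≫ φ.hom) * x⁻¹) * y⁻¹ := by rw [mul_inv_rev, hc y⁻¹ x⁻¹]; group
      _ = (x ≫ φ.hom) * (x⁻¹ * (y ≫ φ.hom)) * y⁻¹ := by rw [hc (y ≫ φ.hom) x⁻¹]
      _ = (x ≫ φ.hom) * x⁻¹ * ((y ≫ φ.hom) * y⁻¹) := by group
  have hdinv : ∀ (T : Over (Spec (CommRingCat.of k))) (g : T ⟶ G) (x : T ⟶ E),
      (x * (g ≫ u)) ≫ d = x ≫ d := by
    intro T g x
    rw [hdmul]
    have : (g ≫ u) ≫ d = 1 := by
      apply hu_inj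
      rw [hdp, Category.assoc, hφu, mul_inv_cancel, MonObj.one_comp]
    rw [this, _root_.mul_one]
  obtain ⟨f₀, hf₀⟩ := exact_desc hpb hloc (fst E (𝟙_ _) ≫ d) (by
    intro T g x y
    rw [lift_fst_assoc, lift_fst_assoc]
    exact hdinv T g x)
  obtain ⟨d', hd'def⟩ : ∃ d' : P ⟶ G, d' = lift (𝟙 P) (toUnit P) ≫ f₀ := ⟨_, rfl⟩
  have hvd' : v ≫ d' = d := by
    rw [hd'def, ← Category.assoc, comp_lift, Category.comp_id]
    have : lift v (v ≫ toUnit P) = lift (𝟙 E) (toUnit E) ≫ (v ▷ 𝟙_ _) := by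
      rw [lift_whiskerRight, Category.id_comp]
      congr 1
      exact toUnit_unique _ _
    rw [this, Category.assoc, hf₀, lift_fst_assoc, Category.id_comp]
  have hcompact : CompactSpace P.left := QuasiCompact.compactSpace_of_compactSpace P.hom
  have hfinP := finite_setOf_comp (S := Spec (CommRingCat.of k)) Z (d' ≫ eG.hom).left
  obtain ⟨I, hIdef⟩ : ∃ I : Set Z,
      I = {z | ∃ e : E.left, (d ≫ eG.hom).left.base e ∈ comp (S := Spec (CommRingCat.of k)) Z z} :=
    ⟨_, rfl⟩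
  have hIfin : I.Finite := by
    refine hfinP.subset ?_
    rw [hIdef]
    rintro z ⟨e, he⟩
    refine ⟨v.left.base e, ?_⟩
    rw [← hvd'] at he
    exact he
  have hImul : ∀ z w, z ∈ I → w ∈ I → z * w ∈ I := by
    intro z w hz hw
    rw [hIdef] at hz hw ⊢
    obtain ⟨e₁, he₁⟩ := hz
    obtain ⟨e₂, he₂⟩ := hw
    have hsubk : Subsingleton (Spec (CommRingCat.of k)) :=
      inferInstanceAs (Subsingleton (PrimeSpectrum k))
    have hsub : E.hom.base e₁ = E.hom.base e₂ := Subsingleton.elim _ _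
    obtain ⟨q, hq1, hq2⟩ :=
      Scheme.Pullback.exists_preimage_pullback (f := E.hom) (g := E.hom) e₁ e₂ hsub
    obtain ⟨ζ, hζdef⟩ : ∃ ζ, ζ = (E ⊗ E).left.fromSpecResidueField q := ⟨_, rfl⟩
    obtain ⟨t₀⟩ : Nonempty (Spec ((E ⊗ E).left.residueField q)) := inferInstance
    have hζt : ζ.base t₀ = q := by
      rw [hζdef]
      exact Scheme.fromSpecResidueField_apply _ _
    obtain ⟨ζ', hζ'l⟩ : ∃ ζ' : Over.mk (ζ ≫ (E ⊗ E).hom) ⟶ E ⊗ E, ζ'.left = ζ :=
      ⟨Over.homMk ζ rfl, rfl⟩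
    obtain ⟨x₁, hx₁⟩ : ∃ x₁, x₁ = ζ' ≫ fst E E := ⟨_, rfl⟩
    obtain ⟨x₂, hx₂⟩ : ∃ x₂, x₂ = ζ' ≫ snd E E := ⟨_, rfl⟩
    have hx₁t : x₁.left.base t₀ = e₁ := by
      rw [hx₁]
      show (fst E E).left.base (ζ'.left.base t₀) = e₁
      rw [hζ'l, hζt]
      exact hq1
    have hx₂t : x₂.left.base t₀ = e₂ := by
      rw [hx₂]
      show (snd E E).left.base (ζ'.left.base t₀) = e₂
      rw [hζ'l, hζt]
      exact hq2
    have hsubT : ∀ t : (Over.mk (ζ ≫ (E ⊗ E).hom)).left, t = t₀ := by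
      intro t
      have : Subsingleton (Over.mk (ζ ≫ (E ⊗ E).hom)).left := by
        rw [hζdef]
        exact inferInstanceAs (Subsingleton (Spec ((E ⊗ E).left.residueField q)))
      exact Subsingleton.elim _ _
    have h1 : x₁ ≫ d ≫ eG.hom = toUnit _ ≫ TwC.pt _ Z z := by
      apply eq_pt_of_range
      intro t
      rw [hsubT t]
      show (d ≫ eG.hom).left.base (x₁.left.base t₀) ∈ _
      rw [hx₁t]
      exact he₁
    have h2 : x₂ ≫ d ≫ eG.hom = toUnit _ ≫ TwC.pt _ Z w := by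
      apply eq_pt_of_range
      intro t
      rw [hsubT t]
      show (d ≫ eG.hom).left.base (x₂.left.base t₀) ∈ _
      rw [hx₂t]
      exact he₂
    have h1' : x₁ ≫ d = toUnit _ ≫ (TwC.pt _ Z z ≫ eG.inv) := by
      rw [← Category.assoc, ← h1]
      simp
    have h2' : x₂ ≫ d = toUnit _ ≫ (TwC.pt _ Z w ≫ eG.inv) := by
      rw [← Category.assoc, ← h2]
      simp
    have h3 : (x₁ * x₂) ≫ d = toUnit _ ≫ (TwC.pt _ Z (z * w) ≫ eG.inv) := by
      rw [hdmul, h1', h2', ← MonObj.comp_mul, hG z w]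
    have h4 : (x₁ * x₂) ≫ d ≫ eG.hom = toUnit _ ≫ TwC.pt _ Z (z * w) := by
      rw [← Category.assoc, h3]
      simp
    refine ⟨(x₁ * x₂).left.base t₀, ?_⟩
    show ((x₁ * x₂) ≫ d ≫ eG.hom).left.base t₀ ∈ comp Z (z * w)
    rw [h4]
    exact ⟨_, rfl⟩
  have hIone : ∀ z ∈ I, z = 1 := by
    intro z hz
    apply hZ
    have hpow : ∀ n : ℕ, z ^ (n + 1) ∈ I := by
      intro n
      induction n with
      | zero => simpa using hz
      | succ n ih =>
        rw [pow_succ]
        exact hImul _ _ ih hz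
    by_contra hnot
    have hinj : Function.Injective (fun n : ℕ => z ^ n) :=
      injective_pow_iff_not_isOfFinOrder.mpr hnot
    have hinj' : Function.Injective (fun n : ℕ => z ^ (n + 1)) :=
      fun a b h => Nat.succ_injective (hinj h)
    exact Set.infinite_of_injective_forall_mem hinj' hpow hIfin
  have hc : d ≫ eG.hom = toUnit E ≫ TwC.pt _ Z 1 := by
    apply eq_pt_of_range
    intro e
    obtain ⟨z, hz⟩ := exists_mem_comp Z ((d ≫ eG.hom).left.base e)
    have hzI : z ∈ I := by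
      rw [hIdef]
      exact ⟨e, hz⟩
    rw [← hIone z hzI]
    exact hz
  have hpt1 : TwC.pt _ Z (1 : Z) ≫ eG.inv = η[G] := by
    have h := hG 1 1
    rw [_root_.mul_one] at h
    have h1 : (TwC.pt _ Z (1 : Z) ≫ eG.inv) = 1 := by
      have := congrArg (· * (TwC.pt _ Z (1 : Z) ≫ eG.inv)⁻¹) h
      simpa using this
    rw [h1, Hom.one_def]
    have : toUnit (𝟙_ (Over (Spec (CommRingCat.of k)))) = 𝟙 _ := toUnit_unique _ _
    rw [this, Category.id_comp]
  have hd1 : d = 1 := by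
    have : d = (d ≫ eG.hom) ≫ eG.inv := by simp
    rw [this, hc, Category.assoc, hpt1]
    rfl
  have hδ1 : φ.hom * (𝟙 E)⁻¹ = 1 := by rw [← hd, hd1, MonObj.one_comp]
  exact mul_inv_eq_one.mp hδ1

end Groth.Agent.S8716
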