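import Groth.Statements.S8718
import Groth.Agent.H40.ExactDesc

set_option autoImplicit false
universe u
open CategoryTheory CategoryTheory.Limits MonoidalCategory CartesianMonoidalCategory MonObj AlgebraicGeometry
open SGA7

namespace Groth.Agent.S8718

/-- For group schemes over a base scheme S (the representable case on the fppf site): let P and G be
S-group schemes with G commutative, and u : G → E, v : E → P homomorphisms of S-group schemes
forming a sequence 1 → G → E → P → 1 exact for the fppf topology. Suppose every morphism of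
S-schemes P ×_S G → G whose restrictions to P × e_G and to e_P × G are trivial is trivial. Then u(G)
is central in E: for all points g of G and x of E with values in any S-scheme, u(g) x = x u(g). If
moreover P is commutative and every morphism of S-schemes P ×_S P → G trivial on P × e_P and on e_P
× P is trivial, then E is commutative. (The published statement is for sheaves of groups on an
arbitrary topos; this row is its case of representable sheaves on the fppf site of S. Morphisms to G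
form a group; trivial means equal to its unit.) -/
theorem result (S : Scheme.{u})
    (P G E : Over S) [GrpObj P] [GrpObj G] [GrpObj E] [IsCommMonObj G]
    (u : G ⟶ E) (v : E ⟶ P) (hex : NonAbH1.IsExactSeq Scheme.fppfPrecoverage u v)
    (hPG : ∀ f : P ⊗ G ⟶ G, lift (𝟙 P) (toUnit P ≫ η[G]) ≫ f = 1 → lift (toUnit G ≫ η[P]) (𝟙 G) ≫ f = 1 → f = 1) :
    (∀ (T : Over S) (g : T ⟶ G) (x : T ⟶ E), (g ≫ u) * x = x * (g ≫ u)) ∧
      (IsCommMonObj P →
        (∀ f : P ⊗ P ⟶ G, lift (𝟙 P) (toUnit P ≫ η[P]) ≫ f = 1 → lift (toUnit P ≫ η[P]) (𝟙 P) ≫ f = 1 → f = 1) →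
          IsCommMonObj E) := by
  open Groth.Agent.H40.FpqcFam in
  obtain ⟨hu, hv, huv, hpb, hloc0⟩ := hex
  have hloc := locTriv_fpqc_of_fppf hloc0
  have huv' : ∀ {T : Over S} (g : T ⟶ G), (g ≫ u) ≫ v = 1 := fun g => by
    rw [Category.assoc, huv, MonObj.comp_one]
  have hu_inj : ∀ {T : Over S} (g g' : T ⟶ G), g ≫ u = g' ≫ u → g = g' := by
    intro T g g' h
    exact (exact_lift hpb (g ≫ u) (huv' g)).unique rfl h.symm
  have hcomm_u : ∀ {T : Over S} (g g' : T ⟶ G), (g' ≫ u) * (g ≫ u) = (g ≫ u) * (g' ≫ u) := by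
    intro T g g'
    rw [← MonObj.mul_comp, ← MonObj.mul_comp, mul_comm]
  -- conjugation
  have hd : ((fst E G) * (snd E G ≫ u) * (fst E G)⁻¹) ≫ v = 1 := by
    rw [MonObj.mul_comp, MonObj.mul_comp, GrpObj.inv_comp, huv', _root_.mul_one, mul_inv_cancel]
  obtain ⟨c, hc, -⟩ := exact_lift hpb _ hd
  have hcp : ∀ {T : Over S} (x : T ⟶ E) (g : T ⟶ G),
      (lift x g ≫ c) ≫ u = x * (g ≫ u) * x⁻¹ := by
    intro T x g
    rw [Category.assoc, hc, MonObj.comp_mul, MonObj.comp_mul, GrpObj.comp_inv, lift_fst,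
      lift_snd_assoc]
  have hc1 : ∀ {T : Over S} (x : T ⟶ E), lift x (1 : T ⟶ G) ≫ c = 1 := by
    intro T x
    apply hu_inj
    rw [hcp, MonObj.one_comp, _root_.mul_one, mul_inv_cancel]
  have hc2 : ∀ {T : Over S} (g : T ⟶ G), lift (1 : T ⟶ E) g ≫ c = g := by
    intro T g
    apply hu_inj
    rw [hcp, _root_.one_mul, inv_one, _root_.mul_one]
  have hcinv : ∀ (T : Over S) (g' : T ⟶ G) (x : T ⟶ E) (g : T ⟶ G),
      lift (x * (g' ≫ u)) g ≫ (c * (snd E G)⁻¹) = lift x g ≫ (c * (snd E G)⁻¹) := by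
    intro T g' x g
    rw [MonObj.comp_mul, MonObj.comp_mul, GrpObj.comp_inv, GrpObj.comp_inv, lift_snd, lift_snd]
    congr 1
    apply hu_inj
    rw [hcp, hcp]
    have h1 : (g' ≫ u) * (g ≫ u) * (g' ≫ u)⁻¹ = g ≫ u := by
      rw [hcomm_u, mul_inv_cancel_right]
    calc x * (g' ≫ u) * (g ≫ u) * (x * (g' ≫ u))⁻¹
        = x * ((g' ≫ u) * (g ≫ u) * (g' ≫ u)⁻¹) * x⁻¹ := by group
      _ = x * (g ≫ u) * x⁻¹ := by rw [h1]
  obtain ⟨f₁, hf₁⟩ := exact_desc hpb hloc (c * (snd E G)⁻¹) hcinv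
  have hf₁p : ∀ {T : Over S} (x : T ⟶ E) (g : T ⟶ G),
      lift (x ≫ v) g ≫ f₁ = (lift x g ≫ c) * g⁻¹ := by
    intro T x g
    rw [← lift_whiskerRight_assoc, hf₁, MonObj.comp_mul, GrpObj.comp_inv, lift_snd]
  have hf₁one : f₁ = 1 := by
    apply hPG
    · apply exact_cancel' hloc
      rw [MonObj.comp_one, ← Category.assoc, comp_lift, Category.comp_id, ← Category.assoc,
        toUnit_unique (v ≫ toUnit P) (toUnit E), ← Hom.one_def]
      have := hf₁p (𝟙 E) (1 : E ⟶ G)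
      rw [Category.id_comp] at this
      rw [this, hc1, inv_one, _root_.mul_one]
    · have h1 : (toUnit G ≫ η[P] : G ⟶ P) = (1 : G ⟶ E) ≫ v := by
        rw [MonObj.one_comp]
        rfl
      rw [h1, hf₁p, hc2, mul_inv_cancel]
  have hcent : ∀ (T : Over S) (g : T ⟶ G) (x : T ⟶ E), (g ≫ u) * x = x * (g ≫ u) := by
    intro T g x
    have h1 := hf₁p x g
    rw [hf₁one, MonObj.comp_one] at h1
    have h2 : lift x g ≫ c = g := by
      rw [← mul_inv_eq_one]
      exact h1.symm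
    have h3 := hcp x g
    rw [h2] at h3
    have h4 : (g ≫ u) * x = x * (g ≫ u) * x⁻¹ * x := congrArg (· * x) h3
    rw [h4]
    group
  refine ⟨hcent, ?_⟩
  intro hPcomm hPP
  have := hPcomm
  have hdκ : (fst E E * snd E E * (fst E E)⁻¹ * (snd E E)⁻¹) ≫ v = 1 := by
    rw [MonObj.mul_comp, MonObj.mul_comp, MonObj.mul_comp, GrpObj.inv_comp, GrpObj.inv_comp,
      mul_comm (fst E E ≫ v) (snd E E ≫ v), mul_inv_cancel_right, mul_inv_cancel]
  obtain ⟨κ, hκ, -⟩ := exact_lift hpb _ hdκ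
  have hκp : ∀ {T : Over S} (x y : T ⟶ E), (lift x y ≫ κ) ≫ u = x * y * x⁻¹ * y⁻¹ := by
    intro T x y
    rw [Category.assoc, hκ, MonObj.comp_mul, MonObj.comp_mul, MonObj.comp_mul, GrpObj.comp_inv,
      GrpObj.comp_inv, lift_fst, lift_snd]
  have hκ1 : ∀ {T : Over S} (x : T ⟶ E), lift x (1 : T ⟶ E) ≫ κ = 1 := by
    intro T x
    apply hu_inj
    rw [hκp, MonObj.one_comp]
    group
  have hκ2 : ∀ {T : Over S} (y : T ⟶ E), lift (1 : T ⟶ E) y ≫ κ = 1 := by
    intro T y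
    apply hu_inj
    rw [hκp, MonObj.one_comp]
    group
  have hκx : ∀ (T : Over S) (g : T ⟶ G) (x y : T ⟶ E),
      lift (x * (g ≫ u)) y ≫ κ = lift x y ≫ κ := by
    intro T g x y
    apply hu_inj
    rw [hκp, hκp]
    calc x * (g ≫ u) * y * (x * (g ≫ u))⁻¹ * y⁻¹
        = x * ((g ≫ u) * y) * (g ≫ u)⁻¹ * x⁻¹ * y⁻¹ := by group
      _ = x * (y * (g ≫ u)) * (g ≫ u)⁻¹ * x⁻¹ * y⁻¹ := by rw [hcent T g y]
      _ = x * y * x⁻¹ * y⁻¹ := by group
  have hκy : ∀ (T : Over S) (g : T ⟶ G) (x y : T ⟶ E),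
      lift x (y * (g ≫ u)) ≫ κ = lift x y ≫ κ := by
    intro T g x y
    apply hu_inj
    rw [hκp, hκp]
    calc x * (y * (g ≫ u)) * x⁻¹ * (y * (g ≫ u))⁻¹
        = x * y * ((g ≫ u) * x⁻¹) * (g ≫ u)⁻¹ * y⁻¹ := by group
      _ = x * y * (x⁻¹ * (g ≫ u)) * (g ≫ u)⁻¹ * y⁻¹ := by rw [hcent T g x⁻¹]
      _ = x * y * x⁻¹ * y⁻¹ := by group
  obtain ⟨κ₁, hκ₁⟩ := exact_desc hpb hloc κ (fun T g x y => hκx T g x y)
  have hκ₁p : ∀ {T : Over S} (x y : T ⟶ E), lift (x ≫ v) y ≫ κ₁ = lift x y ≫ κ := by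
    intro T x y
    rw [← lift_whiskerRight_assoc, hκ₁]
  obtain ⟨κ₂, hκ₂⟩ := exact_desc hpb hloc (lift (snd E P) (fst E P) ≫ κ₁) (by
    intro T g y p
    obtain ⟨R', hR', hσ⟩ := exact_cover_sections hloc p
    refine over_hom_ext hR' _ _ fun T' π hπ => ?_
    obtain ⟨σ, hσv⟩ := hσ π hπ
    have key : ∀ (y' : T ⟶ E), ovHom T π ≫ lift y' p ≫ lift (snd E P) (fst E P) ≫ κ₁ =
        lift σ (ovHom T π ≫ y') ≫ κ := by
      intro y'
      rw [← hκ₁p, hσv, ← Category.assoc, comp_lift, ← Category.assoc, comp_lift, lift_snd,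
        lift_fst]
    rw [key, key, MonObj.comp_mul, ← Category.assoc, hκy])
  have hκ₂p : ∀ {T : Over S} (x y : T ⟶ E), lift (y ≫ v) (x ≫ v) ≫ κ₂ = lift x y ≫ κ := by
    intro T x y
    rw [← lift_whiskerRight_assoc, hκ₂, ← Category.assoc, comp_lift, lift_snd, lift_fst, hκ₁p]
  have hone : ∀ {T : Over S}, (toUnit T ≫ η[P] : T ⟶ P) = (1 : T ⟶ E) ≫ v := by
    intro T
    rw [MonObj.one_comp]
    rfl
  have hκ₂one : κ₂ = 1 := by
    apply hPP
    · apply exact_cancel' hloc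
      rw [MonObj.comp_one, ← Category.assoc, comp_lift, Category.comp_id, ← Category.assoc,
        toUnit_unique (v ≫ toUnit P) (toUnit E), hone]
      have := hκ₂p (1 : E ⟶ E) (𝟙 E)
      rw [Category.id_comp] at this
      rw [this, hκ2]
    · apply exact_cancel' hloc
      rw [MonObj.comp_one, ← Category.assoc, comp_lift, Category.comp_id, ← Category.assoc,
        toUnit_unique (v ≫ toUnit P) (toUnit E), hone]
      have := hκ₂p (𝟙 E) (1 : E ⟶ E)
      rw [Category.id_comp] at this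
      rw [this, hκ1]
  have hcommE : ∀ {T : Over S} (x y : T ⟶ E), x * y = y * x := by
    intro T x y
    have h1 := hκ₂p x y
    rw [hκ₂one, MonObj.comp_one] at h1
    have h2 := hκp x y
    rw [← h1, MonObj.one_comp] at h2
    have h3 : x * y * x⁻¹ * y⁻¹ = 1 := h2.symm
    calc x * y = (x * y * x⁻¹ * y⁻¹) * (y * x) := by group
      _ = y * x := by rw [h3, _root_.one_mul]
  refine ⟨?_⟩
  have hβ : (β_ E E).hom = lift (snd E E) (fst E E) := by
    apply CartesianMonoidalCategory.hom_ext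
    · rw [braiding_hom_fst, lift_fst]
    · rw [braiding_hom_snd, lift_snd]
  have h := hcommE (snd E E) (fst E E)
  rw [Hom.mul_def, Hom.mul_def, lift_fst_snd, Category.id_comp] at h
  rw [hβ, h]

end Groth.Agent.S8718
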