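import Groth.Statements.S8719
import Mathlib

set_option autoImplicit false
universe u

namespace Groth.Agent.S8719

open MvPowerSeries

section aux
variable {k : Type u} [Field k] {σ : Type} [DecidableEq σ]

theorem span_of_coeff (s : Finset σ) :
    ∀ φ : MvPowerSeries σ k, (∀ m : σ →₀ ℕ, (∀ i ∈ s, m i = 0) → coeff m φ = 0) →
      φ ∈ Ideal.span ((X : σ → MvPowerSeries σ k) '' (s : Set σ)) := by
  induction s using Finset.induction_on with
  | empty =>
    intro φ h
    have : φ = 0 := by
      ext m
      rw [h m (by simp)]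
      simp
    rw [this]; exact zero_mem _
  | insert a s ha ih =>
    intro φ h
    let φ₁ : MvPowerSeries σ k := fun m => if m a = 0 then coeff m φ else 0
    have c1 : ∀ m, coeff m φ₁ = if m a = 0 then coeff m φ else 0 := fun m => rfl
    have h1 : φ₁ ∈ Ideal.span ((X : σ → MvPowerSeries σ k) '' (s : Set σ)) := by
      apply ih
      intro m hm
      rw [c1]
      split_ifs with h0
      · apply h m
        intro i hi
        rcases Finset.mem_insert.mp hi with rfl | hi
        · exact h0
        · exact hm i hi
      · rfl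
    have h2 : (X a : MvPowerSeries σ k) ∣ φ - φ₁ :=
      X_dvd_iff.mpr (fun m hm => by rw [map_sub, c1, if_pos hm, sub_self])
    obtain ⟨c, hc⟩ := h2
    have e : φ = φ₁ + X a * c := by rw [← hc]; ring
    rw [e]
    refine add_mem (Ideal.span_mono (Set.image_mono ?_) h1)
      (Ideal.mul_mem_right _ _ (Ideal.subset_span ⟨a, ?_, rfl⟩))
    · exact Finset.coe_subset.mpr (Finset.subset_insert a s)
    · exact Finset.mem_coe.mpr (Finset.mem_insert_self a s)

theorem mem_span_X [Fintype σ] (φ : MvPowerSeries σ k) (h : constantCoeff φ = 0) :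
    φ ∈ Ideal.span (Set.range (X : σ → MvPowerSeries σ k)) := by
  have := span_of_coeff (k := k) (Finset.univ : Finset σ) φ (by
    intro m hm
    have : m = 0 := by ext i; simpa using hm i (Finset.mem_univ i)
    rw [this]; exact h)
  simpa using this

theorem coeff_single_mul_X (c : MvPowerSeries σ k) (j l : σ) :
    coeff (Finsupp.single l 1) (c * X j) = if l = j then constantCoeff c else 0 := by
  rw [X, coeff_mul_monomial]
  by_cases h : l = j
  · subst h
    rw [if_pos le_rfl, if_pos rfl, tsub_self, mul_one]
    rfl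
  · rw [if_neg h, if_neg]
    intro hle
    have := hle j
    simp [h] at this

theorem mem_sq_of_coeff [Fintype σ] (g : MvPowerSeries σ k) (h0 : constantCoeff g = 0)
    (h1 : ∀ l : σ, coeff (Finsupp.single l 1) g = 0) :
    g ∈ Ideal.span (Set.range (X : σ → MvPowerSeries σ k)) *
      Ideal.span (Set.range (X : σ → MvPowerSeries σ k)) := by
  have hg := mem_span_X g h0
  rw [Ideal.span, Submodule.mem_span_range_iff_exists_fun] at hg
  obtain ⟨c, hc⟩ := hg
  have hcl : ∀ l, constantCoeff (c l) = 0 := by
    intro l
    have := h1 l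
    rw [← hc, map_sum] at this
    simp only [smul_eq_mul, coeff_single_mul_X] at this
    simpa using this
  rw [← hc]
  refine Ideal.sum_mem _ (fun j _ => ?_)
  rw [smul_eq_mul]
  exact Ideal.mul_mem_mul (mem_span_X _ (hcl j)) (Ideal.subset_span ⟨j, rfl⟩)

end aux

theorem result (k : Type u) [Field k] (n : ℕ)
    (f : MvPowerSeries (Fin (n + 1)) k) (hf : VanCyc.NondegQuadSeries f) :
    Ideal.span (Set.range fun i : Fin (n + 1) => MvPowerSeries.pderiv k i f) =
      IsLocalRing.maximalIdeal (MvPowerSeries (Fin (n + 1)) k) := by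
  classical
  have hmem : ∀ φ : MvPowerSeries (Fin (n + 1)) k,
      φ ∈ IsLocalRing.maximalIdeal (MvPowerSeries (Fin (n + 1)) k) ↔ constantCoeff φ = 0 := by
    intro φ
    rw [IsLocalRing.mem_maximalIdeal, mem_nonunits_iff, MvPowerSeries.isUnit_iff_constantCoeff,
      isUnit_iff_ne_zero, not_not]
  have hTm : Ideal.span (Set.range (X : Fin (n + 1) → MvPowerSeries (Fin (n + 1)) k)) =
      IsLocalRing.maximalIdeal (MvPowerSeries (Fin (n + 1)) k) := by
    apply le_antisymm
    · rw [Ideal.span_le]; rintro _ ⟨i, rfl⟩; exact (hmem _).mpr (constantCoeff_X i)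
    · intro φ hφ; exact mem_span_X φ ((hmem φ).mp hφ)
  obtain ⟨⟨h0, h1⟩, hdet⟩ := hf
  set B := VanCyc.polarMatrix (VanCyc.quadPart f) with hB
  have hconst : ∀ i, constantCoeff (pderiv k i f) = 0 := by
    intro i
    rw [← coeff_zero_eq_constantCoeff_apply, coeff_pderiv]
    simp [h1 i]
  have hlin : ∀ i m, coeff (Finsupp.single m 1) (pderiv k i f) = B i m := by
    intro i m
    rw [coeff_pderiv, hB]
    unfold VanCyc.polarMatrix VanCyc.quadPart
    rcases lt_trichotomy i m with h | h | h
    · rw [if_neg h.ne, if_pos h, if_neg h.ne, if_pos h, Finsupp.single_apply, if_neg h.ne',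
        add_comm (Finsupp.single m 1)]
      simp
    · subst h
      rw [if_pos rfl, if_pos rfl, Finsupp.single_apply, if_pos rfl, ← Finsupp.single_add]
      push_cast
      ring
    · rw [if_neg h.ne', if_neg (not_lt.mpr h.le), if_neg h.ne, if_pos h, Finsupp.single_apply,
        if_neg h.ne]
      simp
  have hJT : Ideal.span (Set.range fun i : Fin (n + 1) => pderiv k i f) ≤
      Ideal.span (Set.range (X : Fin (n + 1) → MvPowerSeries (Fin (n + 1)) k)) := by
    rw [Ideal.span_le]; rintro _ ⟨i, rfl⟩
    rw [SetLike.mem_coe, hTm, hmem]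
    exact hconst i
  have hBu : IsUnit B.det := hdet
  have hBinv : B⁻¹ * B = 1 := Matrix.nonsing_inv_mul B hBu
  rw [← hTm]
  apply le_antisymm hJT
  apply Submodule.le_of_le_smul_of_le_jacobson_bot (I := Ideal.span (Set.range (X : Fin (n + 1) → MvPowerSeries (Fin (n + 1)) k)))
  · exact Submodule.fg_span (Set.finite_range _)
  · rw [hTm]; exact IsLocalRing.maximalIdeal_le_jacobson ⊥
  · rw [smul_eq_mul]
    conv_lhs => rw [Ideal.span]
    rw [Submodule.span_le]
    rintro _ ⟨l, rfl⟩
    have key : (X l : MvPowerSeries (Fin (n + 1)) k) - ∑ i, C (B⁻¹ l i) * pderiv k i f ∈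
        Ideal.span (Set.range (X : Fin (n + 1) → MvPowerSeries (Fin (n + 1)) k)) *
        Ideal.span (Set.range (X : Fin (n + 1) → MvPowerSeries (Fin (n + 1)) k)) := by
      apply mem_sq_of_coeff
      · rw [map_sub, map_sum, constantCoeff_X]
        simp [hconst]
      · intro m
        rw [map_sub, map_sum]
        simp only [coeff_C_mul, hlin]
        have : ∑ i, B⁻¹ l i * B i m = (B⁻¹ * B) l m := by rw [Matrix.mul_apply]
        rw [this, hBinv, coeff_X, Matrix.one_apply]
        by_cases hlm : l = m
        · subst hlm; simp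
        · rw [if_neg hlm, if_neg]
          · simp
          · intro h
            apply hlm
            have := congrArg (fun v => v l) h
            simp only [Finsupp.single_apply] at this
            simp at this
            exact this.symm
    have e : (X l : MvPowerSeries (Fin (n + 1)) k) = ∑ i, C (B⁻¹ l i) * pderiv k i f +
        (X l - ∑ i, C (B⁻¹ l i) * pderiv k i f) := by ring
    rw [SetLike.mem_coe, e]
    refine Submodule.add_mem_sup ?_ key
    exact Ideal.sum_mem _ (fun i _ => Ideal.mul_mem_left _ _ (Ideal.subset_span ⟨i, rfl⟩))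

end Groth.Agent.S8719
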