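import Groth.Statements.S8720
import Mathlib
-- import your own Groth.Agent.* helpers here

set_option autoImplicit false
universe u
open VanCyc

namespace Groth.Agent.S8720

section gen
variable {σ : Type*} {k : Type*} [CommRing k]

/-- the "divided by `X a`" part -/
noncomputable def auxDv (a : σ) (g : MvPowerSeries σ k) : MvPowerSeries σ k :=
  fun d => MvPowerSeries.coeff (d + Finsupp.single a 1) g

/-- the "`a`-free" part -/
noncomputable def auxRv (a : σ) (g : MvPowerSeries σ k) : MvPowerSeries σ k :=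
  fun d => if d a = 0 then MvPowerSeries.coeff d g else 0

theorem coeff_auxDv (a : σ) (g : MvPowerSeries σ k) (d : σ →₀ ℕ) :
    MvPowerSeries.coeff d (auxDv a g) = MvPowerSeries.coeff (d + Finsupp.single a 1) g := rfl

theorem coeff_auxRv (a : σ) (g : MvPowerSeries σ k) (d : σ →₀ ℕ) :
    MvPowerSeries.coeff d (auxRv a g) = if d a = 0 then MvPowerSeries.coeff d g else 0 := rfl

theorem aux_split (a : σ) (g : MvPowerSeries σ k) :
    g = MvPowerSeries.X a * auxDv a g + auxRv a g := by
  classical
  ext d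
  rw [map_add, MvPowerSeries.X_def, MvPowerSeries.coeff_monomial_mul, coeff_auxRv]
  by_cases hd : d a = 0
  · have hle : ¬ (Finsupp.single a 1 ≤ d) := by
      rw [Finsupp.single_le_iff, hd]; norm_num
    rw [if_neg hle, if_pos hd, zero_add]
  · have hle : Finsupp.single a 1 ≤ d :=
      Finsupp.single_le_iff.mpr (Nat.one_le_iff_ne_zero.mpr hd)
    rw [if_pos hle, if_neg hd, one_mul, add_zero, coeff_auxDv, tsub_add_cancel_of_le hle]

theorem auxA [DecidableEq σ] (s : Finset σ) :
    ∀ g : MvPowerSeries σ k,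
      (∀ d : σ →₀ ℕ, (∀ j ∈ s, d j = 0) → MvPowerSeries.coeff d g = 0) →
      ∃ h : σ → MvPowerSeries σ k, g = ∑ j ∈ s, MvPowerSeries.X j * h j ∧
        ∀ j ∈ s, ∀ e : σ →₀ ℕ, MvPowerSeries.coeff e (h j) ≠ 0 →
          MvPowerSeries.coeff (e + Finsupp.single j 1) g ≠ 0 := by
  induction s using Finset.induction_on with
  | empty =>
    intro g hg
    refine ⟨fun _ => 0, ?_, fun j hj => by simp at hj⟩
    rw [Finset.sum_empty]
    ext d
    rw [hg d (fun j hj => by simp at hj), map_zero]
  | insert a s ha ih =>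
    intro g hg
    obtain ⟨h, hh, hh2⟩ := ih (auxRv a g) (by
      intro d hd
      rw [coeff_auxRv]
      split_ifs with hda
      · exact hg d (by
          intro j hj
          rcases Finset.mem_insert.mp hj with rfl | hj
          · exact hda
          · exact hd j hj)
      · rfl)
    refine ⟨Function.update h a (auxDv a g), ?_, ?_⟩
    · have hsum : ∑ j ∈ s, MvPowerSeries.X j * Function.update h a (auxDv a g) j
          = ∑ j ∈ s, MvPowerSeries.X j * h j :=
        Finset.sum_congr rfl (fun j hj => by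
          rw [Function.update_of_ne (ne_of_mem_of_not_mem hj ha)])
      rw [Finset.sum_insert ha, Function.update_self, hsum, ← hh]
      exact aux_split a g
    · intro j hj e he
      rcases Finset.mem_insert.mp hj with rfl | hj
      · rw [Function.update_self, coeff_auxDv] at he
        exact he
      · rw [Function.update_of_ne (ne_of_mem_of_not_mem hj ha)] at he
        have h3 := hh2 j hj e he
        rw [coeff_auxRv] at h3
        split_ifs at h3 with h1
        · exact h3
        · exact absurd rfl h3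

end gen

section spec
variable {τ : Type*} [Fintype τ] [DecidableEq τ] {k : Type*}

/-- the target ideal -/
noncomputable abbrev auxII (τ : Type*) (k : Type*) [CommRing k] :
    Ideal (MvPowerSeries (Option τ) k) :=
  Ideal.span ({MvPowerSeries.X none ^ 2} ∪
    Set.range fun j : τ => (MvPowerSeries.X (some j) : MvPowerSeries (Option τ) k))

theorem aux_dec [CommRing k] (g : MvPowerSeries (Option τ) k)
    (h0 : MvPowerSeries.coeff 0 g = 0)
    (h1 : MvPowerSeries.coeff (Finsupp.single none 1) g = 0) :
    ∃ (u v : τ → MvPowerSeries (Option τ) k) (w : MvPowerSeries (Option τ) k),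
      g = ∑ j : τ, MvPowerSeries.X (some j) * u j
          + MvPowerSeries.X none * ∑ j : τ, MvPowerSeries.X (some j) * v j
          + MvPowerSeries.X none ^ 2 * w ∧
      (∀ j, MvPowerSeries.coeff 0 (u j) ≠ 0 →
          MvPowerSeries.coeff (Finsupp.single (some j) 1) g ≠ 0) ∧
      (MvPowerSeries.coeff 0 w ≠ 0 →
          MvPowerSeries.coeff (Finsupp.single none 2) g ≠ 0) := by
  have key : ∀ g' : MvPowerSeries (Option τ) k, MvPowerSeries.coeff 0 g' = 0 →
      ∀ d : Option τ →₀ ℕ, (∀ j ∈ (Finset.univ : Finset (Option τ)), d j = 0) →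
        MvPowerSeries.coeff d g' = 0 := by
    intro g' hg' d hd
    have hd0 : d = 0 := Finsupp.ext (fun j => hd j (Finset.mem_univ j))
    rw [hd0, hg']
  obtain ⟨h, hg, htr⟩ := auxA (Finset.univ : Finset (Option τ)) g (key g h0)
  have hn0 : MvPowerSeries.coeff 0 (h none) = 0 := by
    by_contra hne
    have h3 := htr none (Finset.mem_univ _) 0 hne
    rw [zero_add] at h3
    exact h3 h1
  obtain ⟨h', hg', htr'⟩ := auxA (Finset.univ : Finset (Option τ)) (h none) (key _ hn0)
  have e2 : (Finsupp.single none 1 + Finsupp.single none 1 : Option τ →₀ ℕ)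
      = Finsupp.single none 2 := by
    rw [← Finsupp.single_add]
  refine ⟨fun j => h (some j), fun j => h' (some j), h' none, ?_, ?_, ?_⟩
  · rw [Fintype.sum_option] at hg hg'
    rw [hg'] at hg
    rw [hg]
    ring
  · intro j hj
    have h3 := htr (some j) (Finset.mem_univ _) 0 hj
    rwa [zero_add] at h3
  · intro hw
    have h2 := htr' none (Finset.mem_univ _) 0 hw
    rw [zero_add] at h2
    have h3 := htr none (Finset.mem_univ _) _ h2
    rwa [e2] at h3

theorem auxD [CommRing k] (g : MvPowerSeries (Option τ) k)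
    (h0 : MvPowerSeries.coeff 0 g = 0)
    (h1 : MvPowerSeries.coeff (Finsupp.single none 1) g = 0) :
    g ∈ auxII τ k := by
  obtain ⟨u, v, w, hg, -, -⟩ := aux_dec g h0 h1
  have hX : ∀ j : τ, (MvPowerSeries.X (some j) : MvPowerSeries (Option τ) k) ∈ auxII τ k :=
    fun j => Ideal.subset_span (Set.mem_union_right _ (Set.mem_range_self j))
  rw [hg]
  refine Ideal.add_mem _ (Ideal.add_mem _ ?_ ?_) ?_
  · exact Ideal.sum_mem _ (fun j _ => Ideal.mul_mem_right _ _ (hX j))
  · exact Ideal.mul_mem_left _ _ (Ideal.sum_mem _ (fun j _ => Ideal.mul_mem_right _ _ (hX j)))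
  · exact Ideal.mul_mem_right _ _
      (Ideal.subset_span (Set.mem_union_left _ (Set.mem_singleton _)))

theorem aux_mem_max {σ : Type*} [Field k] (h : MvPowerSeries σ k)
    (h0 : MvPowerSeries.coeff 0 h = 0) :
    h ∈ IsLocalRing.maximalIdeal (MvPowerSeries σ k) := by
  rw [IsLocalRing.mem_maximalIdeal, mem_nonunits_iff, MvPowerSeries.isUnit_iff_constantCoeff,
    ← MvPowerSeries.coeff_zero_eq_constantCoeff_apply, h0]
  exact not_isUnit_zero

theorem auxE [Field k] (g : MvPowerSeries (Option τ) k)
    (hlow : ∀ d : Option τ →₀ ℕ, d.degree < 2 → MvPowerSeries.coeff d g = 0)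
    (h2 : MvPowerSeries.coeff (Finsupp.single none 2) g = 0) :
    g ∈ IsLocalRing.maximalIdeal (MvPowerSeries (Option τ) k) * auxII τ k := by
  have hdeg1 : ∀ a : Option τ, (Finsupp.single a 1 : Option τ →₀ ℕ).degree < 2 := by
    intro a
    rw [Finsupp.degree_single]; norm_num
  have h0 : MvPowerSeries.coeff 0 g = 0 := hlow 0 (by simp)
  have h1 : MvPowerSeries.coeff (Finsupp.single none 1) g = 0 := hlow _ (hdeg1 none)
  obtain ⟨u, v, w, hg, hu, hw⟩ := aux_dec g h0 h1
  have hum : ∀ j, u j ∈ IsLocalRing.maximalIdeal (MvPowerSeries (Option τ) k) := fun j =>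
    aux_mem_max _ (by
      by_contra hne
      exact hu j hne (hlow _ (hdeg1 (some j))))
  have hwm : w ∈ IsLocalRing.maximalIdeal (MvPowerSeries (Option τ) k) :=
    aux_mem_max _ (by
      by_contra hne
      exact hw hne h2)
  have hXm : (MvPowerSeries.X none : MvPowerSeries (Option τ) k)
      ∈ IsLocalRing.maximalIdeal (MvPowerSeries (Option τ) k) :=
    aux_mem_max _ (MvPowerSeries.coeff_zero_X none)
  have hX : ∀ j : τ, (MvPowerSeries.X (some j) : MvPowerSeries (Option τ) k) ∈ auxII τ k :=
    fun j => Ideal.subset_span (Set.mem_union_right _ (Set.mem_range_self j))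
  rw [hg]
  refine Ideal.add_mem _ (Ideal.add_mem _ ?_ ?_) ?_
  · refine Ideal.sum_mem _ (fun j _ => ?_)
    rw [mul_comm (MvPowerSeries.X (some j)) (u j)]
    exact Ideal.mul_mem_mul (hum j) (hX j)
  · exact Ideal.mul_mem_mul hXm
      (Ideal.sum_mem _ (fun j _ => Ideal.mul_mem_right _ _ (hX j)))
  · rw [mul_comm (MvPowerSeries.X none ^ 2) w]
    exact Ideal.mul_mem_mul hwm
      (Ideal.subset_span (Set.mem_union_left _ (Set.mem_singleton _)))

theorem aux_mem_iff [CommRing k] (g : MvPowerSeries (Option τ) k) :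
    g ∈ auxII τ k ↔ MvPowerSeries.coeff 0 g = 0 ∧
      MvPowerSeries.coeff (Finsupp.single none 1) g = 0 := by
  classical
  constructor
  · intro hg
    have hg' : g ∈ Submodule.span (MvPowerSeries (Option τ) k)
        ({MvPowerSeries.X none ^ 2} ∪
          Set.range fun j : τ => (MvPowerSeries.X (some j) : MvPowerSeries (Option τ) k)) := hg
    have key : ∀ a : MvPowerSeries (Option τ) k, MvPowerSeries.coeff 0 (a * g) = 0 ∧
        MvPowerSeries.coeff (Finsupp.single none 1) (a * g) = 0 := by
      refine Submodule.span_induction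
        (p := fun x _ => ∀ a : MvPowerSeries (Option τ) k, MvPowerSeries.coeff 0 (a * x) = 0 ∧
          MvPowerSeries.coeff (Finsupp.single none 1) (a * x) = 0) ?_ ?_ ?_ ?_ hg'
      · intro x hx a
        rcases hx with hx | ⟨j, hj⟩
        · rw [Set.mem_singleton_iff] at hx
          have hn1 : ¬ (Finsupp.single (none : Option τ) 2 ≤ 0) := by
            rw [Finsupp.single_le_iff]; simp
          have hn2 : ¬ (Finsupp.single (none : Option τ) 2 ≤ Finsupp.single none 1) := by
            rw [Finsupp.single_le_iff]; simp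
          rw [hx, MvPowerSeries.X_pow_eq, MvPowerSeries.coeff_mul_monomial,
            MvPowerSeries.coeff_mul_monomial, if_neg hn1, if_neg hn2]
          exact ⟨rfl, rfl⟩
        · have hj' : (MvPowerSeries.X (some j) : MvPowerSeries (Option τ) k) = x := hj
          have hn1 : ¬ (Finsupp.single (some j : Option τ) 1 ≤ 0) := by
            rw [Finsupp.single_le_iff]; simp
          have hn2 : ¬ (Finsupp.single (some j : Option τ) 1 ≤ Finsupp.single none 1) := by
            rw [Finsupp.single_le_iff]; simp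
          rw [← hj', MvPowerSeries.X_def, MvPowerSeries.coeff_mul_monomial,
            MvPowerSeries.coeff_mul_monomial, if_neg hn1, if_neg hn2]
          exact ⟨rfl, rfl⟩
      · intro a
        rw [mul_zero]
        exact ⟨map_zero _, map_zero _⟩
      · intro x y _ _ hx hy a
        rw [mul_add, map_add, map_add, (hx a).1, (hx a).2, (hy a).1, (hy a).2, add_zero]
        exact ⟨rfl, rfl⟩
      · intro c x _ hx a
        rw [smul_eq_mul, ← mul_assoc]
        exact hx (a * c)
    have h3 := key 1
    rwa [one_mul] at h3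
  · intro hg
    exact auxD g hg.1 hg.2

theorem aux_main2 [Field k] :
    Module.finrank k (MvPowerSeries (Option τ) k ⧸ auxII τ k) = 2 := by
  classical
  obtain ⟨T, hT⟩ : ∃ T : MvPowerSeries (Option τ) k →ₗ[k] k × k,
      T = LinearMap.prod (MvPowerSeries.coeff (R := k) (0 : Option τ →₀ ℕ))
        (MvPowerSeries.coeff (R := k) (Finsupp.single (none : Option τ) 1)) := ⟨_, rfl⟩
  have hTa : ∀ g, T g = (MvPowerSeries.coeff 0 g,
      MvPowerSeries.coeff (Finsupp.single none 1) g) := by
    intro g; rw [hT]; rfl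
  have h01 : (Finsupp.single none 1 : Option τ →₀ ℕ) ≠ 0 := by simp
  have hsurj : Function.Surjective T := by
    rintro ⟨a, b⟩
    refine ⟨MvPowerSeries.monomial 0 a + MvPowerSeries.monomial (Finsupp.single none 1) b, ?_⟩
    rw [hTa]
    refine Prod.ext ?_ ?_
    · show MvPowerSeries.coeff 0 (MvPowerSeries.monomial 0 a +
        MvPowerSeries.monomial (Finsupp.single none 1) b) = a
      rw [map_add, MvPowerSeries.coeff_monomial, MvPowerSeries.coeff_monomial, if_pos rfl,
        if_neg h01.symm, add_zero]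
    · show MvPowerSeries.coeff (Finsupp.single none 1) (MvPowerSeries.monomial 0 a +
        MvPowerSeries.monomial (Finsupp.single none 1) b) = b
      rw [map_add, MvPowerSeries.coeff_monomial, MvPowerSeries.coeff_monomial, if_neg h01,
        if_pos rfl, zero_add]
  have hker' : (auxII τ k).restrictScalars k = LinearMap.ker T := by
    ext g
    rw [Submodule.restrictScalars_mem, LinearMap.mem_ker, hTa, aux_mem_iff, Prod.mk_eq_zero]
  have e := (Submodule.Quotient.restrictScalarsEquiv k (auxII τ k)).symm ≪≫ₗ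
    (Submodule.quotEquivOfEq _ _ hker') ≪≫ₗ (T.quotKerEquivOfSurjective hsurj)
  have h2 : Module.finrank k (k × k) = 2 := by
    simp [Module.finrank_prod, Module.finrank_self]
  exact e.finrank_eq.trans h2

end spec

set_option maxHeartbeats 1600000 in
theorem aux_main1 (k : Type u) [Field k] [CharP k 2] (m : ℕ)
    (f : MvPowerSeries (Option (Fin m ⊕ Fin m)) k)
    (hf : ∀ d : Option (Fin m ⊕ Fin m) →₀ ℕ, d.degree < 3 →
      MvPowerSeries.coeff d f = MvPowerSeries.coeff d
        (MvPowerSeries.X none ^ 2 +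
          ∑ i : Fin m, MvPowerSeries.X (some (Sum.inl i)) * MvPowerSeries.X (some (Sum.inr i)))) :
    Ideal.span ({f} ∪ Set.range fun i : Option (Fin m ⊕ Fin m) => MvPowerSeries.pderiv k i f) =
      auxII (Fin m ⊕ Fin m) k := by
  classical
  obtain ⟨q, hq⟩ : ∃ q : MvPowerSeries (Option (Fin m ⊕ Fin m)) k,
      q = MvPowerSeries.X none ^ 2 +
        ∑ i : Fin m, MvPowerSeries.X (some (Sum.inl i)) * MvPowerSeries.X (some (Sum.inr i)) :=
    ⟨_, rfl⟩
  rw [← hq] at hf
  obtain ⟨r, hr⟩ : ∃ r : MvPowerSeries (Option (Fin m ⊕ Fin m)) k, r = f - q := ⟨_, rfl⟩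
  have hfr : f = q + r := by rw [hr]; ring
  obtain ⟨J, hJ⟩ : ∃ J : Ideal (MvPowerSeries (Option (Fin m ⊕ Fin m)) k),
      J = Ideal.span ({f} ∪ Set.range fun i : Option (Fin m ⊕ Fin m) =>
        MvPowerSeries.pderiv k i f) := ⟨_, rfl⟩
  rw [← hJ]
  have hfJ : f ∈ J := by
    rw [hJ]; exact Ideal.subset_span (Set.mem_union_left _ (Set.mem_singleton _))
  have hdJ : ∀ j, MvPowerSeries.pderiv k j f ∈ J := fun j => by
    rw [hJ]; exact Ideal.subset_span (Set.mem_union_right _ (Set.mem_range_self j))
  have hdeg1 : ∀ a : Option (Fin m ⊕ Fin m),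
      (Finsupp.single a 1 : Option (Fin m ⊕ Fin m) →₀ ℕ).degree < 2 := by
    intro a
    rw [Finsupp.degree_single]; norm_num
  have hr3 : ∀ d : Option (Fin m ⊕ Fin m) →₀ ℕ, d.degree < 3 →
      MvPowerSeries.coeff d r = 0 := by
    intro d hd
    rw [hr, map_sub, hf d hd, sub_self]
  have hdr : ∀ (j : Option (Fin m ⊕ Fin m)) (d : Option (Fin m ⊕ Fin m) →₀ ℕ),
      d.degree < 2 → MvPowerSeries.coeff d (MvPowerSeries.pderiv k j r) = 0 := by
    intro j d hd
    have h3 : (d + Finsupp.single j 1).degree < 3 := by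
      rw [map_add, Finsupp.degree_single]; omega
    rw [MvPowerSeries.coeff_pderiv, hr3 _ h3, zero_mul]
  have hX : ∀ j : Fin m ⊕ Fin m,
      (MvPowerSeries.X (some j) : MvPowerSeries (Option (Fin m ⊕ Fin m)) k)
        ∈ auxII (Fin m ⊕ Fin m) k :=
    fun j => Ideal.subset_span (Set.mem_union_right _ (Set.mem_range_self j))
  have hX2 : (MvPowerSeries.X none ^ 2 : MvPowerSeries (Option (Fin m ⊕ Fin m)) k)
      ∈ auxII (Fin m ⊕ Fin m) k :=
    Ideal.subset_span (Set.mem_union_left _ (Set.mem_singleton _))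
  have two0 : ∀ y : MvPowerSeries (Option (Fin m ⊕ Fin m)) k, (2 : ℕ) • y = 0 := by
    intro y
    ext d
    rw [map_nsmul, two_nsmul, CharTwo.add_self_eq_zero, map_zero]
  have hdq : ∀ j : Option (Fin m ⊕ Fin m), MvPowerSeries.pderiv k j q =
      ∑ i : Fin m, (MvPowerSeries.X (some (Sum.inl i)) *
          MvPowerSeries.pderiv k j (MvPowerSeries.X (some (Sum.inr i))) +
        MvPowerSeries.X (some (Sum.inr i)) *
          MvPowerSeries.pderiv k j (MvPowerSeries.X (some (Sum.inl i)))) := by
    intro j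
    rw [hq, map_add, Derivation.leibniz_pow, two0, zero_add, map_sum]
    refine Finset.sum_congr rfl (fun i _ => ?_)
    rw [Derivation.leibniz, smul_eq_mul, smul_eq_mul]
  have hq_inl : ∀ i0 : Fin m, MvPowerSeries.pderiv k (some (Sum.inl i0)) q =
      MvPowerSeries.X (some (Sum.inr i0)) := by
    intro i0
    rw [hdq, Finset.sum_eq_single i0]
    · have h1 : (some (Sum.inr i0) : Option (Fin m ⊕ Fin m)) ≠ some (Sum.inl i0) := by simp
      rw [MvPowerSeries.pderiv_X_of_ne h1, MvPowerSeries.pderiv_X_self, mul_zero, zero_add,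
        mul_one]
    · intro i _ hi
      have h1 : (some (Sum.inr i) : Option (Fin m ⊕ Fin m)) ≠ some (Sum.inl i0) := by simp
      have h2 : (some (Sum.inl i) : Option (Fin m ⊕ Fin m)) ≠ some (Sum.inl i0) := by
        simpa using hi
      rw [MvPowerSeries.pderiv_X_of_ne h1, MvPowerSeries.pderiv_X_of_ne h2, mul_zero, mul_zero,
        add_zero]
    · intro h; exact absurd (Finset.mem_univ _) h
  have hq_inr : ∀ i0 : Fin m, MvPowerSeries.pderiv k (some (Sum.inr i0)) q =
      MvPowerSeries.X (some (Sum.inl i0)) := by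
    intro i0
    rw [hdq, Finset.sum_eq_single i0]
    · have h1 : (some (Sum.inl i0) : Option (Fin m ⊕ Fin m)) ≠ some (Sum.inr i0) := by simp
      rw [MvPowerSeries.pderiv_X_self, MvPowerSeries.pderiv_X_of_ne h1, mul_one, mul_zero,
        add_zero]
    · intro i _ hi
      have h1 : (some (Sum.inl i) : Option (Fin m ⊕ Fin m)) ≠ some (Sum.inr i0) := by simp
      have h2 : (some (Sum.inr i) : Option (Fin m ⊕ Fin m)) ≠ some (Sum.inr i0) := by
        simpa using hi
      rw [MvPowerSeries.pderiv_X_of_ne h2, MvPowerSeries.pderiv_X_of_ne h1, mul_zero, mul_zero,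
        add_zero]
    · intro h; exact absurd (Finset.mem_univ _) h
  have hrI : r ∈ auxII (Fin m ⊕ Fin m) k :=
    auxD r (hr3 0 (by simp)) (hr3 _ ((hdeg1 none).trans (by norm_num)))
  have hqI : q ∈ auxII (Fin m ⊕ Fin m) k := by
    rw [hq]
    exact Ideal.add_mem _ hX2 (Ideal.sum_mem _ (fun i _ => Ideal.mul_mem_left _ _ (hX _)))
  have hdqI : ∀ j, MvPowerSeries.pderiv k j q ∈ auxII (Fin m ⊕ Fin m) k := by
    intro j
    rw [hdq]
    exact Ideal.sum_mem _ (fun i _ => Ideal.add_mem _ (Ideal.mul_mem_right _ _ (hX _))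
      (Ideal.mul_mem_right _ _ (hX _)))
  have hdrI : ∀ j, MvPowerSeries.pderiv k j r ∈ auxII (Fin m ⊕ Fin m) k := fun j =>
    auxD _ (hdr j 0 (by simp)) (hdr j _ (hdeg1 none))
  have hJI : J ≤ auxII (Fin m ⊕ Fin m) k := by
    rw [hJ, Ideal.span_le]
    rintro x (hx | ⟨j, hj⟩)
    · rw [Set.mem_singleton_iff] at hx
      rw [hx, hfr]
      exact Ideal.add_mem _ hqI hrI
    · have hj' : MvPowerSeries.pderiv k j f = x := hj
      rw [← hj', hfr, map_add]
      exact Ideal.add_mem _ (hdqI j) (hdrI j)
  have hIJ : auxII (Fin m ⊕ Fin m) k ≤ J := by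
    refine Submodule.le_of_le_smul_of_le_jacobson_bot
      (I := IsLocalRing.maximalIdeal (MvPowerSeries (Option (Fin m ⊕ Fin m)) k)) ?_ ?_ ?_
    · exact Submodule.fg_span ((Set.finite_singleton _).union (Set.finite_range _))
    · exact (IsLocalRing.jacobson_eq_maximalIdeal ⊥ bot_ne_top).ge
    · obtain ⟨K, hK⟩ : ∃ K : Ideal (MvPowerSeries (Option (Fin m ⊕ Fin m)) k),
          K = J ⊔ IsLocalRing.maximalIdeal (MvPowerSeries (Option (Fin m ⊕ Fin m)) k) *
            auxII (Fin m ⊕ Fin m) k := ⟨_, rfl⟩
      have hJK : J ≤ K := by rw [hK]; exact le_sup_left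
      have hmK : IsLocalRing.maximalIdeal (MvPowerSeries (Option (Fin m ⊕ Fin m)) k) *
            auxII (Fin m ⊕ Fin m) k ≤ K := by rw [hK]; exact le_sup_right
      show auxII (Fin m ⊕ Fin m) k ≤
        J ⊔ IsLocalRing.maximalIdeal (MvPowerSeries (Option (Fin m ⊕ Fin m)) k) *
            auxII (Fin m ⊕ Fin m) k
      rw [← hK]
      have hX2K : (MvPowerSeries.X none ^ 2 : MvPowerSeries (Option (Fin m ⊕ Fin m)) k) ∈ K := by
        have e : (MvPowerSeries.X none ^ 2 : MvPowerSeries (Option (Fin m ⊕ Fin m)) k) =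
            f - (∑ i : Fin m, MvPowerSeries.X (some (Sum.inl i)) *
              MvPowerSeries.X (some (Sum.inr i))) - r := by
          rw [hfr, hq]; ring
        rw [e]
        refine Submodule.sub_mem K (Submodule.sub_mem K (hJK hfJ) (hmK ?_)) (hmK ?_)
        · exact Ideal.sum_mem _ (fun i _ => Ideal.mul_mem_mul
            (aux_mem_max _ (MvPowerSeries.coeff_zero_X _)) (hX _))
        · exact auxE r (fun d hd => hr3 d (hd.trans (by norm_num)))
            (hr3 _ (by rw [Finsupp.degree_single]; norm_num))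
      have gen : ∀ (jj : Option (Fin m ⊕ Fin m)) (j : Fin m ⊕ Fin m),
          MvPowerSeries.pderiv k jj q = MvPowerSeries.X (some j) →
          (MvPowerSeries.X (some j) : MvPowerSeries (Option (Fin m ⊕ Fin m)) k) ∈ K := by
        intro jj j hjj
        obtain ⟨c, hc⟩ : ∃ c : k, c = MvPowerSeries.coeff (Finsupp.single none 2)
            (MvPowerSeries.pderiv k jj r) := ⟨_, rfl⟩
        have e : (MvPowerSeries.X (some j) : MvPowerSeries (Option (Fin m ⊕ Fin m)) k) =
            MvPowerSeries.pderiv k jj f - c • MvPowerSeries.X none ^ 2 -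
              (MvPowerSeries.pderiv k jj r - c • MvPowerSeries.X none ^ 2) := by
          rw [hfr, map_add, hjj]; abel
        rw [e]
        refine Submodule.sub_mem K (Submodule.sub_mem K (hJK (hdJ jj))
          (Submodule.smul_of_tower_mem K c hX2K)) (hmK ?_)
        have hne : ∀ d : Option (Fin m ⊕ Fin m) →₀ ℕ, d.degree < 2 →
            d ≠ Finsupp.single none 2 := by
          rintro d hd rfl
          rw [Finsupp.degree_single] at hd
          exact absurd hd (by norm_num)
        apply auxE
        · intro d hd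
          rw [map_sub, hdr jj d hd, map_smul, MvPowerSeries.coeff_X_pow, if_neg (hne d hd),
            smul_zero, sub_zero]
        · rw [map_sub, map_smul, MvPowerSeries.coeff_X_pow, if_pos rfl, smul_eq_mul, mul_one,
            ← hc, sub_self]
      refine Ideal.span_le.mpr ?_
      rintro x (hx | ⟨j, hj⟩)
      · rw [Set.mem_singleton_iff] at hx
        rw [hx]; exact hX2K
      · have hj' : (MvPowerSeries.X (some j) : MvPowerSeries (Option (Fin m ⊕ Fin m)) k) = x := hj
        rw [← hj']
        rcases j with i | i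
        · exact gen (some (Sum.inr i)) (Sum.inl i) (hq_inr i)
        · exact gen (some (Sum.inl i)) (Sum.inr i) (hq_inl i)
  exact le_antisymm hJI hIJ


/-- The formal computation carried out in its proof: let k be a field of characteristic 2, m a natural
number, and f a power series over k in the variables x_0 and x_i, x_i' (i = 1, ..., m) whose terms
of degree less than 3 are exactly those of x_0^2 + x_1 x_1' + ... + x_m x_m'. Then the ideal
generated by f and all its partial derivatives is the ideal generated by x_0^2 and the x_i, x_i',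
and the quotient of the power series ring by this ideal is two-dimensional over k. (Characteristic 2
is what makes the derivative in x_0 lose its linear term.) -/
theorem result (k : Type u) [Field k] [CharP k 2] (m : ℕ)
    (f : MvPowerSeries (Option (Fin m ⊕ Fin m)) k)
    (hf : ∀ d : Option (Fin m ⊕ Fin m) →₀ ℕ, d.degree < 3 →
      MvPowerSeries.coeff d f = MvPowerSeries.coeff d
        (MvPowerSeries.X none ^ 2 +
          ∑ i : Fin m, MvPowerSeries.X (some (Sum.inl i)) * MvPowerSeries.X (some (Sum.inr i)))) :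
    Ideal.span ({f} ∪ Set.range fun i : Option (Fin m ⊕ Fin m) => MvPowerSeries.pderiv k i f) =
      Ideal.span ({MvPowerSeries.X none ^ 2} ∪
        Set.range fun j : Fin m ⊕ Fin m => (MvPowerSeries.X (some j) : MvPowerSeries (Option (Fin m ⊕ Fin m)) k)) ∧
    Module.finrank k (MvPowerSeries (Option (Fin m ⊕ Fin m)) k ⧸
      Ideal.span ({MvPowerSeries.X none ^ 2} ∪
        Set.range fun j : Fin m ⊕ Fin m => (MvPowerSeries.X (some j) : MvPowerSeries (Option (Fin m ⊕ Fin m)) k))) = 2 := by
  exact ⟨aux_main1 k m f hf, aux_main2⟩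

end Groth.Agent.S8720
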