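import Groth.Statements.S8721
import Groth.Agent.H96.QLin

set_option autoImplicit false
universe u v
open SGA7II

namespace Groth.Agent.S8721

/-- Let k be a separably closed field of characteristic p > 0, q = p^r with r >= 1, V a
finite-dimensional k-vector space and phi : V -> V additive with phi(c v) = c^q phi(v). Let V_ss be
the intersection, over n >= 1, of the k-subspaces spanned by the images of the iterates phi^n (the
semisimple part of V). Then V_ss has a k-basis consisting of phi-fixed vectors, and every phi-fixed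
vector of V is a linear combination of this basis with coefficients c satisfying c^q = c; that is,
V_ss is obtained from the F_q-space of fixed vectors by extension of scalars. -/
theorem result (k : Type u) [Field k] [IsSepClosed k] (p : ℕ)
    [Fact p.Prime] [CharP k p] (r : ℕ) (hr : 0 < r) (V : Type v) [AddCommGroup V] [Module k V]
    [FiniteDimensional k V] (φ : V →+ V) (hφ : ∀ (c : k) (v : V), φ (c • v) = c ^ (p ^ r) • φ v) :
    let Vss : Submodule k V := ⨅ n : ℕ, Submodule.span k (Set.range (φ^[n + 1]))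
    ∃ b : Module.Basis (Fin (Module.finrank k ↥Vss)) k ↥Vss, (∀ i, φ (b i : V) = (b i : V)) ∧
      ∀ v : V, φ v = v → ∃ c : Fin (Module.finrank k ↥Vss) → k,
        (∀ i, c i ^ (p ^ r) = c i) ∧ v = ∑ i, c i • (b i : V) := by
  have hp2 : 2 ≤ p := (Fact.out : p.Prime).two_le
  have hq : 2 ≤ p ^ r := le_trans hp2 (Nat.le_self_pow hr.ne' p)
  have hqk : ((p ^ r : ℕ) : k) = 0 := by
    rw [Nat.cast_pow, CharP.cast_eq_zero k p, zero_pow hr.ne']
  intro Vss
  obtain ⟨M, hM, hstab, hss⟩ := Groth.Agent.H96.QLin.exists_ss (k := k) φ hφ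
  have hV : Vss = Groth.Agent.H96.QLin.rangeSpan k φ M := Groth.Agent.H96.QLin.iInf_eq φ M hM
  have hstab' : ∀ x ∈ Vss, φ x ∈ Vss := by rw [hV]; exact hstab
  have hss' : Vss ≤ Submodule.span k (φ '' (Vss : Set V)) := by rw [hV]; exact hss
  obtain ⟨b, hb1, hb2, -⟩ := Groth.Agent.H96.QLin.submodule_main φ hφ hq hqk Vss hstab' hss'
  refine ⟨b, hb1, fun v hv => ?_⟩
  have hvS : v ∈ Vss := by
    rw [hV]; exact Groth.Agent.H96.QLin.fixed_mem_rangeSpan φ M hv
  exact hb2 v hvS hv

end Groth.Agent.S8721
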