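import Groth.Statements.S8722
import Groth.Agent.H96.QLin

set_option autoImplicit false
universe u v
open SGA7II

namespace Groth.Agent.S8722

/-- Let k be a separably closed field of characteristic p > 0, q = p^r with r >= 1, V a
finite-dimensional k-vector space and phi : V -> V additive with phi(c v) = c^q phi(v), semisimple
in the sense that its image spans V. Then for n >= 1 the fixed vectors of the n-th iterate of phi
are exactly the finite linear combinations of phi-fixed vectors with coefficients c satisfying
c^(q^n) = c; that is, the fixed space of phi^n is obtained from the F_q-space of phi-fixed vectors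
by extending scalars to F_{q^n}. -/
theorem result (k : Type u) [Field k] [IsSepClosed k] (p : ℕ)
    [Fact p.Prime] [CharP k p] (r : ℕ) (hr : 0 < r) (V : Type v) [AddCommGroup V] [Module k V]
    [FiniteDimensional k V] (φ : V →+ V) (hφ : ∀ (c : k) (v : V), φ (c • v) = c ^ (p ^ r) • φ v)
    (hss : Submodule.span k (Set.range φ) = ⊤) (n : ℕ) (hn : 0 < n) (v : V) :
    φ^[n] v = v ↔ ∃ (s : Finset V) (c : V → k), (∀ w ∈ s, φ w = w) ∧
      (∀ w ∈ s, c w ^ ((p ^ r) ^ n) = c w) ∧ v = ∑ w ∈ s, c w • w := by
  have hp2 : 2 ≤ p := (Fact.out : p.Prime).two_le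
  have hq : 2 ≤ p ^ r := le_trans hp2 (Nat.le_self_pow hr.ne' p)
  have hqk : ((p ^ r : ℕ) : k) = 0 := by
    rw [Nat.cast_pow, CharP.cast_eq_zero k p, zero_pow hr.ne']
  classical
  constructor
  · intro hv
    obtain ⟨b, hb⟩ := Groth.Agent.H96.QLin.exists_basis_fixed φ hφ hq hqk hss
    let c : V → k := fun w => if h : ∃ i, b i = w then b.repr v h.choose else 0
    have hcb : ∀ i, c (b i) = b.repr v i := by
      intro i
      have hex : ∃ j, b j = b i := ⟨i, rfl⟩
      have hch : hex.choose = i := b.injective hex.choose_spec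
      show (if h : ∃ j, b j = b i then b.repr v h.choose else 0) = _
      rw [dif_pos hex, hch]
    refine ⟨Finset.univ.image b, c, ?_, ?_, ?_⟩
    · intro w hw
      obtain ⟨i, -, rfl⟩ := Finset.mem_image.mp hw
      exact hb i
    · intro w hw
      obtain ⟨i, -, rfl⟩ := Finset.mem_image.mp hw
      rw [hcb]
      have h1 := Groth.Agent.H96.QLin.repr_iterate φ hφ b hb n v i
      rw [hv] at h1
      exact h1.symm
    · rw [Finset.sum_image (fun i _ j _ h => b.injective h)]
      conv_lhs => rw [← b.sum_repr v]
      exact Finset.sum_congr rfl fun i _ => by rw [hcb]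
  · rintro ⟨s, c, hs, hc, rfl⟩
    rw [Groth.Agent.H96.QLin.iterate_sum]
    refine Finset.sum_congr rfl fun w hw => ?_
    rw [Groth.Agent.H96.QLin.iterate_smul φ hφ, hc w hw, Function.iterate_fixed (hs w hw)]

end Groth.Agent.S8722
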