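import Groth.Statements.S8724
import Mathlib.Algebra.Ring.GeomSum
import Mathlib.Algebra.BigOperators.Intervals
import Mathlib.Data.Nat.Choose.Sum
import Mathlib.Tactic.Ring
import Mathlib.Tactic.LinearCombination

set_option autoImplicit false
open LefPen

namespace Groth.Agent.S8724

open Finset in
theorem tri_sum {R : Type*} [AddCommMonoid R] (n N : ℕ) (h : n ≤ N) (F : ℕ → ℕ → R) :
    ∑ i ∈ range N, ∑ j ∈ range N, (if i + j + 1 ≤ n then F i j else 0) =
      ∑ m ∈ range n, ∑ k ∈ range (m + 1), F k (m - k) := by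
  rw [sum_range_diag_flip]
  have h1 : ∀ i ∈ range N, ∑ j ∈ range N, (if i + j + 1 ≤ n then F i j else 0) =
      ∑ j ∈ range (n - i), F i j := by
    intro i hi
    rw [← sum_filter]
    congr 1
    ext j
    simp only [mem_filter, mem_range]
    omega
  rw [sum_congr rfl h1]
  obtain ⟨d, rfl⟩ := Nat.exists_eq_add_of_le h
  rw [sum_range_add]
  have h2 : ∀ x ∈ range d, ∑ j ∈ range (n - (n + x)), F (n + x) j = 0 := by
    intro x _
    have : n - (n + x) = 0 := by omega
    rw [this, sum_range_zero]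
  rw [sum_eq_zero h2, add_zero]

open Finset in
theorem key1 {R : Type*} [CommRing R] (y z : R) (n N : ℕ) (h : n ≤ N) :
    (1 + y) ^ n - (1 + z) ^ n =
      (y - z) * ∑ i ∈ range N, ∑ j ∈ range N,
        if i + j + 1 ≤ n then ((n.choose (i + j + 1) : ℕ) : R) * y ^ i * z ^ j else 0 := by
  rw [tri_sum n N h (fun i j => ((n.choose (i + j + 1) : ℕ) : R) * y ^ i * z ^ j)]
  have h3 : ∀ m ∈ range n, ∑ k ∈ range (m + 1), ((n.choose (k + (m - k) + 1) : ℕ) : R) * y ^ k * z ^ (m - k) =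
      ((n.choose (m + 1) : ℕ) : R) * ∑ k ∈ range (m + 1), y ^ k * z ^ (m + 1 - 1 - k) := by
    intro m _
    rw [mul_sum]
    refine sum_congr rfl fun k hk => ?_
    have hk' : k ≤ m := Nat.lt_succ_iff.mp (mem_range.mp hk)
    have e1 : k + (m - k) + 1 = m + 1 := by omega
    have e2 : m + 1 - 1 - k = m - k := by omega
    rw [e1, e2, mul_assoc]
  rw [sum_congr rfl h3, mul_sum]
  have h4 : ∀ m ∈ range n, (y - z) * (((n.choose (m + 1) : ℕ) : R) * ∑ k ∈ range (m + 1), y ^ k * z ^ (m + 1 - 1 - k)) =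
      ((n.choose (m + 1) : ℕ) : R) * (y ^ (m + 1) - z ^ (m + 1)) := by
    intro m _
    rw [← (Commute.all y z).mul_geom_sum₂ (m + 1)]
    ring
  rw [sum_congr rfl h4]
  rw [add_comm 1 y, add_comm 1 z, add_pow, add_pow, sum_range_succ', sum_range_succ' (fun m => z ^ m * 1 ^ (n - m) * ((n.choose m : ℕ) : R))]
  simp only [one_pow, mul_one, pow_zero, Nat.choose_zero_right, Nat.cast_one]
  rw [add_sub_add_right_eq_sub, ← sum_sub_distrib]
  refine sum_congr rfl fun m _ => ?_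
  ring

open Finset in
theorem key2 {R : Type*} [CommRing R] (y z : R) (b : ℕ) :
    (1 + y) ^ (b + 1) * z - (1 + z) ^ (b + 1) * y =
      (y - z) * (-1 + ∑ i ∈ range (b + 1 + 1), ∑ j ∈ range (b + 1 + 1),
        if 1 ≤ i ∧ 1 ≤ j ∧ i + j ≤ b + 1 then
          (((b + 1).choose (i + j) : ℕ) : R) * y ^ i * z ^ j else 0) := by
  have hG : ∑ i ∈ range (b + 1 + 1), ∑ j ∈ range (b + 1 + 1),
        (if 1 ≤ i ∧ 1 ≤ j ∧ i + j ≤ b + 1 then
          (((b + 1).choose (i + j) : ℕ) : R) * y ^ i * z ^ j else 0) =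
      ∑ i ∈ range (b + 1), ∑ j ∈ range (b + 1),
        (if i + j + 1 ≤ b then
          (((b + 1).choose (i + j + 2) : ℕ) : R) * y ^ (i + 1) * z ^ (j + 1) else 0) := by
    rw [sum_range_succ']
    have h0 : ∑ j ∈ range (b + 1 + 1), (if 1 ≤ 0 ∧ 1 ≤ j ∧ 0 + j ≤ b + 1 then
          (((b + 1).choose (0 + j) : ℕ) : R) * y ^ 0 * z ^ j else 0) = 0 := by
      refine sum_eq_zero fun j _ => ?_
      rw [if_neg]
      omega
    rw [h0, add_zero]
    refine sum_congr rfl fun i _ => ?_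
    rw [sum_range_succ']
    rw [if_neg (by omega), add_zero]
    refine sum_congr rfl fun j _ => ?_
    have e : i + 1 + (j + 1) = i + j + 2 := by omega
    by_cases hc : i + j + 1 ≤ b
    · rw [if_pos hc, if_pos (by omega), e]
    · rw [if_neg hc, if_neg (by omega)]
  rw [hG, tri_sum b (b + 1) (Nat.le_succ b)
    (fun i j => (((b + 1).choose (i + j + 2) : ℕ) : R) * y ^ (i + 1) * z ^ (j + 1))]
  have h3 : ∀ m ∈ range b, ∑ k ∈ range (m + 1),
      (((b + 1).choose (k + (m - k) + 2) : ℕ) : R) * y ^ (k + 1) * z ^ (m - k + 1) =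
      (((b + 1).choose (m + 2) : ℕ) : R) * y * z *
        ∑ k ∈ range (m + 1), y ^ k * z ^ (m + 1 - 1 - k) := by
    intro m _
    rw [mul_sum]
    refine sum_congr rfl fun k hk => ?_
    have hk' : k ≤ m := Nat.lt_succ_iff.mp (mem_range.mp hk)
    have e1 : k + (m - k) + 2 = m + 2 := by omega
    have e2 : m + 1 - 1 - k = m - k := by omega
    rw [e1, e2]
    ring
  rw [sum_congr rfl h3, mul_add, mul_sum]
  have h4 : ∀ m ∈ range b, (y - z) * ((((b + 1).choose (m + 2) : ℕ) : R) * y * z *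
        ∑ k ∈ range (m + 1), y ^ k * z ^ (m + 1 - 1 - k)) =
      (((b + 1).choose (m + 2) : ℕ) : R) * y * z * (y ^ (m + 1) - z ^ (m + 1)) := by
    intro m _
    rw [← (Commute.all y z).mul_geom_sum₂ (m + 1)]
    ring
  rw [sum_congr rfl h4]
  rw [add_comm 1 y, add_comm 1 z, add_pow, add_pow, sum_range_succ', sum_range_succ',
    sum_range_succ' (fun m => z ^ m * 1 ^ (b + 1 - m) * (((b + 1).choose m : ℕ) : R)),
    sum_range_succ' (fun m => z ^ (m + 1) * 1 ^ (b + 1 - (m + 1)) * (((b + 1).choose (m + 1) : ℕ) : R))]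
  simp only [one_pow, mul_one, pow_zero, Nat.choose_zero_right, Nat.cast_one, zero_add, pow_one,
    Nat.choose_one_right]
  rw [add_mul, add_mul, add_mul, add_mul, sum_mul, sum_mul]
  have h5 : ∑ m ∈ range b, y ^ (m + 1 + 1) * (((b + 1).choose (m + 1 + 1) : ℕ) : R) * z -
      ∑ m ∈ range b, z ^ (m + 1 + 1) * (((b + 1).choose (m + 1 + 1) : ℕ) : R) * y =
      ∑ m ∈ range b, (((b + 1).choose (m + 2) : ℕ) : R) * y * z * (y ^ (m + 1) - z ^ (m + 1)) := by
    rw [← sum_sub_distrib]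
    refine sum_congr rfl fun m _ => ?_
    ring
  rw [← h5]
  ring

/-- The algebraic identity established in its proof: let a >= 1 and work in Z[y, z]. Then (1+y)^(a-1) -
(1+z)^(a-1) = (y - z) * (sum over i, j >= 0 with i + j + 1 <= a - 1 of C(a-1, i+j+1) y^i z^j), and
(1+y)^a z - (1+z)^a y = (y - z) * (-1 + sum over i, j >= 1 with i + j <= a of C(a, i+j) y^i z^j).
Consequently the rational function -((1+y)^(a-1) - (1+z)^(a-1)) / ((1+y)^a z - (1+z)^a y), the
generating series of the primitive middle Hodge numbers of smooth hypersurfaces of degree a, equals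
(sum_{i,j >= 0} C(a-1, i+j+1) y^i z^j) / (1 - sum_{i,j >= 1} C(a, i+j) y^i z^j). -/
theorem result (a : ℕ) (ha : 1 ≤ a) :
    let y : MvPolynomial (Fin 2) ℤ := MvPolynomial.X 0
    let z : MvPolynomial (Fin 2) ℤ := MvPolynomial.X 1
    ((1 + y) ^ (a - 1) - (1 + z) ^ (a - 1) =
      (y - z) * ∑ i ∈ Finset.range a, ∑ j ∈ Finset.range a,
        if i + j + 1 ≤ a - 1 then ((a - 1).choose (i + j + 1) : MvPolynomial (Fin 2) ℤ) * y ^ i * z ^ j else 0) ∧
    ((1 + y) ^ a * z - (1 + z) ^ a * y =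
      (y - z) * (-1 + ∑ i ∈ Finset.range (a + 1), ∑ j ∈ Finset.range (a + 1),
        if 1 ≤ i ∧ 1 ≤ j ∧ i + j ≤ a then (a.choose (i + j) : MvPolynomial (Fin 2) ℤ) * y ^ i * z ^ j else 0)) := by
  intro y z
  obtain ⟨b, rfl⟩ : ∃ b, a = b + 1 := ⟨a - 1, by omega⟩
  refine ⟨?_, ?_⟩
  · have := key1 y z (b + 1 - 1) (b + 1) (by omega)
    simpa using this
  · have := key2 y z b
    simpa using this

end Groth.Agent.S8724
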