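import Groth.Statements.S8736
import Mathlib
import Groth.Agent.H46.HodgeMain

set_option autoImplicit false
set_option linter.style.haveILetI false
open LefPen

namespace Groth.Agent.S8736

/-- For the generating series of a multidegree: let a_1, ..., a_d (d >= 1) be degrees, H_i and H = sum
h^{p,q} y^p z^q the series built from them as follows — H_i is determined by (1 - sum_{u, v >= 1, u
+ v <= a_i} C(a_i, u+v) y^u z^v) H_i = sum_{u, v >= 0, u + v + 1 <= a_i - 1} C(a_i - 1, u+v+1) y^u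
z^v and H = sum over nonempty P ⊆ {1..d} of ((1+y)(1+z))^(|P|-1) prod_{i in P} H_i — let i₀ be an
index with a_{i₀} = max_i a_i, and let 0 <= l < n be integers with l ≡ n mod 2. Then the Hodge level
of degree n is at most l, i.e. h^{p,q} = 0 for all p <= q with p + q = n and q - p > l, if and only
if 2 · sum_{i ≠ i₀} (a_i - 1) + (a_{i₀} - 2)(n - l) <= 2 (l + 1). -/
theorem result (d : ℕ) (hd : 1 ≤ d) (a : Fin d → ℕ) (ha : ∀ i, 1 ≤ a i)
    (i₀ : Fin d) (hi₀ : ∀ i, a i ≤ a i₀)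
    (Hs : Fin d → MvPowerSeries (Fin 2) ℤ) (n l : ℕ) (hl : l < n) (hpar : l % 2 = n % 2) :
    let y : MvPowerSeries (Fin 2) ℤ := MvPowerSeries.X 0
    let z : MvPowerSeries (Fin 2) ℤ := MvPowerSeries.X 1
    let Pser : ℕ → MvPowerSeries (Fin 2) ℤ := fun b => ∑ u ∈ Finset.range (b + 1), ∑ v ∈ Finset.range (b + 1),
      if 1 ≤ u ∧ 1 ≤ v ∧ u + v ≤ b then (b.choose (u + v) : MvPowerSeries (Fin 2) ℤ) * y ^ u * z ^ v else 0
    let Nser : ℕ → MvPowerSeries (Fin 2) ℤ := fun b => ∑ u ∈ Finset.range b, ∑ v ∈ Finset.range b,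
      if u + v + 1 ≤ b - 1 then ((b - 1).choose (u + v + 1) : MvPowerSeries (Fin 2) ℤ) * y ^ u * z ^ v else 0
    (∀ i, (1 - Pser (a i)) * Hs i = Nser (a i)) →
    let H : MvPowerSeries (Fin 2) ℤ := ∑ P ∈ (Finset.univ : Finset (Fin d)).powerset with P.Nonempty,
      ((1 + y) * (1 + z)) ^ (P.card - 1) * ∏ i ∈ P, Hs i
    (∀ p q : ℕ, p + q = n → p ≤ q → l < q - p →
        MvPowerSeries.coeff (Finsupp.single 0 p + Finsupp.single 1 q) H = 0) ↔
      2 * (∑ i ∈ Finset.univ.erase i₀, ((a i : ℤ) - 1)) + ((a i₀ : ℤ) - 2) * ((n : ℤ) - l) ≤ 2 * ((l : ℤ) + 1) := by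
  intro y z Pser Nser hH H
  have hmain := fun p q hpq => Groth.Agent.H46.PS.hodge_main d a ha Hs hH p q hpq
  have hzero : ∀ p q : ℕ, p ≤ q →
      (MvPowerSeries.coeff (Finsupp.single 0 p + Finsupp.single 1 q) H = 0 ↔
        p * Finset.univ.sup a + ∑ i, a i ≤ p + q + d) := by
    intro p q hpq
    have := hmain p q hpq
    constructor
    · intro h0
      by_contra hcon
      push Not at hcon
      exact (this.mpr hcon) h0
    · intro hle
      by_contra hcon
      have := this.mp hcon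
      omega
  -- the sup is a i₀
  have hA : Finset.univ.sup a = a i₀ :=
    le_antisymm (Finset.sup_le (fun i _ => hi₀ i)) (Finset.le_sup (Finset.mem_univ i₀))
  rw [hA] at hzero
  set A := a i₀ with hAdef
  set S := ∑ i, a i with hS
  -- parity
  obtain ⟨k, hk⟩ : ∃ k, n = l + 2 * k := ⟨(n - l) / 2, by omega⟩
  have hk1 : 1 ≤ k := by omega
  -- the sum over the other indices
  have hsumZ : ∑ i ∈ Finset.univ.erase i₀, ((a i : ℤ) - 1) = (S : ℤ) - d - ((A : ℤ) - 1) := by
    have h1 : ((a i₀ : ℤ) - 1) + ∑ i ∈ Finset.univ.erase i₀, ((a i : ℤ) - 1) =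
        ∑ i, ((a i : ℤ) - 1) :=
      Finset.add_sum_erase Finset.univ (fun i => ((a i : ℤ) - 1)) (Finset.mem_univ i₀)
    have h2 : ∑ i, ((a i : ℤ) - 1) = (S : ℤ) - d := by
      rw [Finset.sum_sub_distrib, hS, Nat.cast_sum]
      simp
    rw [h2] at h1
    linarith
  have hAk : (A : ℤ) * k = (((k - 1) * A : ℕ) : ℤ) + A := by
    obtain ⟨k', rfl⟩ : ∃ k', k = k' + 1 := ⟨k - 1, by omega⟩
    have hkk : (k' + 1 - 1) * A = k' * A := by rw [Nat.add_sub_cancel]
    rw [hkk]
    push_cast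
    ring
  have hnl : (n : ℤ) - l = 2 * k := by
    rw [hk]; push_cast; ring
  have e : ((A : ℤ) - 2) * ((n : ℤ) - l) = 2 * ((((k - 1) * A : ℕ) : ℤ) + A) - 4 * k := by
    rw [hnl]; linear_combination 2 * hAk
  rw [hsumZ, e]
  constructor
  · intro h
    have h1 := h (k - 1) (n - (k - 1)) (by omega) (by omega) (by omega)
    rw [hzero (k - 1) (n - (k - 1)) (by omega)] at h1
    omega
  · intro h p q hpqn hpq hlt
    rw [hzero p q hpq]
    have hp : p ≤ k - 1 := by omega
    have : p * A ≤ (k - 1) * A := Nat.mul_le_mul_right _ hp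
    omega

end Groth.Agent.S8736
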