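import Groth.Statements.S8738
import Groth.Agent.H87.Seidenberg

set_option autoImplicit false
set_option maxHeartbeats 400000
universe u
open SGA7II

namespace Groth.Agent.S8738

/-- Let k be a field of characteristic zero and A a reduced Noetherian local k-algebra of Krull
dimension one, essentially of finite type over k (the local ring of a reduced curve over k at one of
its points), and let A' be the integral closure of A in its total ring of fractions (the
normalization). Then every k-derivation D of A extends to a k-derivation D' of A', i.e. D' agrees
with D on the image of A. -/
theorem result (k : Type u) [Field k] [CharZero k] (A : Type u) [CommRing A]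
    [Algebra k A] [IsReduced A] [IsNoetherianRing A] [IsLocalRing A] [Algebra.EssFiniteType k A]
    (hdim : ringKrullDim A = 1) (D : Derivation k A A) :
    ∃ D' : Derivation k ↥(integralClosure A (FractionRing A)) ↥(integralClosure A (FractionRing A)),
      ∀ a : A, (D' (algebraMap A ↥(integralClosure A (FractionRing A)) a) : FractionRing A) =
        algebraMap A (FractionRing A) (D a) := by
  classical
  obtain ⟨DK, hDK⟩ := Groth.Agent.H87.Seidenberg.exists_extension (k := k) (A := A)
    (K := FractionRing A) (nonZeroDivisors A) D
  have hint : ∀ x : FractionRing A, IsIntegral A x → IsIntegral A (DK x) := fun x hx =>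
    Groth.Agent.H87.Seidenberg.isIntegral_map (nonZeroDivisors A) D DK hDK x hx
  refine ⟨{ toFun := fun y => ⟨DK y.1, hint y.1 y.2⟩
            map_add' := fun x y => Subtype.ext (by simp)
            map_smul' := fun c x => Subtype.ext (by simp)
            map_one_eq_zero' := Subtype.ext (by simp)
            leibniz' := fun x y => Subtype.ext (by simp [Derivation.leibniz]) }, fun a => ?_⟩
  exact hDK a

end Groth.Agent.S8738
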