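import Groth.Statements.S8746
import Groth.Agent.H92.AdeqBase

set_option autoImplicit false
universe u
open CategoryTheory Limits
open Adeq

namespace Groth.Agent.S8746

open Polynomial in
/-- the quadratic extension `B[u]/(u² - b u + 1)` -/
lemma exists_units_sum (B : Type u) [CommRing B] (b : B) :
    ∃ (B' : Type u) (_ : CommRing B') (ι : B →+* B'), ι.Flat ∧
      (∀ (M : Type (u+1)) [AddCommGroup M] [Module B M],
        letI := ι.toAlgebra
        Function.Injective (TensorProduct.mk B B' M 1)) ∧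
      ∃ U V : B'ˣ, (U : B') + (V : B') = ι b := by
  classical
  by_cases hB : Subsingleton B
  · refine ⟨B, inferInstance, RingHom.id B, RingHom.Flat.id B, ?_, 1, 1, Subsingleton.elim _ _⟩
    intro M _ _
    have : Subsingleton M := Module.subsingleton B M
    intro x y _
    exact Subsingleton.elim _ _
  rw [not_subsingleton_iff_nontrivial] at hB
  let g : B[X] := X ^ 2 - C b * X + 1
  have hg : g.Monic := by
    have : g = X ^ 2 + (-(C b * X) + 1) := by ring
    rw [this]
    apply monic_X_pow_add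
    refine lt_of_le_of_lt (degree_add_le _ _) ?_
    rw [max_lt_iff]
    constructor
    · rw [degree_neg]
      refine lt_of_le_of_lt (degree_C_mul_X_le b) ?_
      norm_num
    · rw [degree_one]; norm_num
  have hdeg : g.natDegree = 2 := by
    have : g = X ^ 2 + (-(C b * X) + 1) := by ring
    rw [this, natDegree_add_eq_left_of_degree_lt, natDegree_X_pow]
    rw [degree_X_pow]
    refine lt_of_le_of_lt (degree_add_le _ _) ?_
    rw [max_lt_iff]
    constructor
    · rw [degree_neg]
      refine lt_of_le_of_lt (degree_C_mul_X_le b) ?_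
      norm_num
    · rw [degree_one]; norm_num
  let ι : B →+* AdjoinRoot g := AdjoinRoot.of g
  have e : ι.toAlgebra = (inferInstance : Algebra B (AdjoinRoot g)) :=
    Algebra.algebra_ext _ _ (fun r => by
      rw [RingHom.algebraMap_toAlgebra, AdjoinRoot.algebraMap_eq])
  have hfree : Module.Free B (AdjoinRoot g) := hg.free_adjoinRoot
  have hnu : ¬ IsUnit g := by
    intro hu
    have h1 := hg.eq_one_of_isUnit hu
    rw [h1, natDegree_one] at hdeg
    exact absurd hdeg (by norm_num)
  have hnt : Nontrivial (AdjoinRoot g) :=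
    Ideal.Quotient.nontrivial_iff.mpr (by simpa [Ideal.span_singleton_eq_top] using hnu)
  have hff : Module.FaithfullyFlat B (AdjoinRoot g) := inferInstance
  refine ⟨AdjoinRoot g, inferInstance, ι, ?_, ?_, ?_⟩
  · show @Module.Flat B (AdjoinRoot g) _ _ ι.toAlgebra.toModule
    rw [e]; infer_instance
  · intro M _ _
    show Function.Injective (@TensorProduct.mk B _ (AdjoinRoot g) M _ _ ι.toAlgebra.toModule _ 1)
    rw [e]
    exact Module.FaithfullyFlat.tensorProduct_mk_injective M
  · have hroot : (AdjoinRoot.root g) ^ 2 - ι b * AdjoinRoot.root g + 1 = 0 := by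
      have := AdjoinRoot.eval₂_root g
      simpa [g, eval₂_add, eval₂_sub, eval₂_mul, eval₂_pow] using this
    have hu : AdjoinRoot.root g * (ι b - AdjoinRoot.root g) = 1 := by
      linear_combination (-1 : AdjoinRoot g) * hroot
    refine ⟨⟨AdjoinRoot.root g, ι b - AdjoinRoot.root g, hu, by rw [mul_comm]; exact hu⟩,
      ⟨ι b - AdjoinRoot.root g, AdjoinRoot.root g, by rw [mul_comm]; exact hu, hu⟩, ?_⟩
    simp

open ChangeOfRings


/-- Let `F`, `G` be module-valued functors on `A`-algebras and `φ` a transformation of the underlying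
set-valued functors which is additive and satisfies `φ(uξ) = uφ(ξ)` for units `u`. If `B' ⊗_B G(B) →
G(B')` is an isomorphism for every flat `B → B'`, then `φ` is `B`-linear for every `B`, i.e. a
morphism of module-valued functors. -/
theorem result (A : Type u) [CommRing A] (F G : Adeq.MVF A)
    (φ : ∀ B : Adeq.Alg A, F.obj (Adeq.pt B) → G.obj (Adeq.pt B))
    (hnat : ∀ ⦃B B' : Adeq.Alg A⦄ (f : B ⟶ B') (x : F.obj (Adeq.pt B)),
      φ B' (F.map (Adeq.ptHom f) x) = G.map (Adeq.ptHom f) (φ B x))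
    (hadd : ∀ (B : Adeq.Alg A) (x y : F.obj (Adeq.pt B)), φ B (x + y) = φ B x + φ B y)
    (hunit : ∀ (B : Adeq.Alg A) (v : (B : Type u)ˣ) (x : F.obj (Adeq.pt B)), φ B ((v : B) • x) = (v : B) • φ B x)
    (hG : ∀ ⦃B B' : Adeq.Alg A⦄ (f : B ⟶ B'), f.hom.toRingHom.Flat → IsIso (G.bc f))
    (B : Adeq.Alg A) (b : B) (x : F.obj (Adeq.pt B)) : φ B (b • x) = b • φ B x := by
  obtain ⟨B'r, instR, ι, hflat, hinj, U, V, hUV⟩ := exists_units_sum (B : Type u) b
  let _ := instR
  let algA : Algebra A B'r := (ι.comp (algebraMap A B)).toAlgebra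
  let B' : Adeq.Alg A := CommAlgCat.of A B'r
  let f : B ⟶ B' := CommAlgCat.ofHom { ι with commutes' := fun a => rfl }
  have hf : f.hom.toRingHom = ι := rfl
  have hiso : IsIso (G.bc f) := hG f (by rw [hf]; exact hflat)
  have key : ∀ y : G.obj (Adeq.pt B), (G.map (Adeq.ptHom f)) y =
      (G.bc f) ((1 : B'r) ⊗ₜ[(B : Type u), f.hom.toRingHom] y) := by
    intro y
    have hmap : G.map (Adeq.ptHom f) =
        (ModuleCat.extendRestrictScalarsAdj.{u + 1, u, u} f.hom.toRingHom).homEquiv _ _ (G.bc f) := by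
      unfold Adeq.MVF.bc
      rw [Equiv.apply_symm_apply]
    rw [hmap]
    rfl
  have hGinj : Function.Injective (G.map (Adeq.ptHom f)) := by
    intro y z hyz
    rw [key, key] at hyz
    have hbij : Function.Injective (G.bc f) := by
      have : Mono (G.bc f) := inferInstance
      exact (ModuleCat.mono_iff_injective _).mp this
    have h2 := hbij hyz
    exact hinj (G.obj (Adeq.pt B)) h2
  apply hGinj
  let x' : F.obj (Adeq.pt B') := F.map (Adeq.ptHom f) x
  have hFs : (F.map (Adeq.ptHom f) (b • x) : F.obj (Adeq.pt B')) = (ι b : B'r) • x' :=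
    PresheafOfModules.map_smul F (Adeq.ptHom f) b x
  have hGs : (G.map (Adeq.ptHom f) (b • φ B x) : G.obj (Adeq.pt B')) =
      (ι b : B'r) • (G.map (Adeq.ptHom f) (φ B x) : G.obj (Adeq.pt B')) :=
    PresheafOfModules.map_smul G (Adeq.ptHom f) b (φ B x)
  have h1 : (ι b : B'r) • x' = (U : B'r) • x' + (V : B'r) • x' := by
    rw [← add_smul, hUV]
  have hx' : φ B' x' = (G.map (Adeq.ptHom f) (φ B x) : G.obj (Adeq.pt B')) := hnat f x
  have e1 : @Eq (G.obj (Adeq.pt B')) (G.map (Adeq.ptHom f) (φ B (b • x)))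
      (φ B' (F.map (Adeq.ptHom f) (b • x))) := (hnat f (b • x)).symm
  have e2 : @Eq (G.obj (Adeq.pt B')) (φ B' (F.map (Adeq.ptHom f) (b • x)))
      (φ B' ((ι b : B'r) • x')) := congrArg (φ B') hFs
  have e3 : @Eq (G.obj (Adeq.pt B')) (φ B' ((ι b : B'r) • x'))
      (φ B' ((U : B'r) • x' + (V : B'r) • x')) := congrArg (φ B') h1
  have e4 : @Eq (G.obj (Adeq.pt B')) (φ B' ((U : B'r) • x' + (V : B'r) • x'))
      (φ B' ((U : B'r) • x') + φ B' ((V : B'r) • x')) := hadd B' _ _
  have e5 : @Eq (G.obj (Adeq.pt B')) (φ B' ((U : B'r) • x') + φ B' ((V : B'r) • x'))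
      ((U : B'r) • φ B' x' + (V : B'r) • φ B' x') := by rw [hunit B' U, hunit B' V]
  have e6 : @Eq (G.obj (Adeq.pt B')) ((U : B'r) • φ B' x' + (V : B'r) • φ B' x')
      ((ι b : B'r) • φ B' x') := by rw [← add_smul, hUV]
  have e7 : @Eq (G.obj (Adeq.pt B')) ((ι b : B'r) • φ B' x')
      ((ι b : B'r) • (G.map (Adeq.ptHom f) (φ B x) : G.obj (Adeq.pt B'))) :=
    congrArg (fun z : G.obj (Adeq.pt B') => (ι b : B'r) • z) hx'
  exact e1.trans (e2.trans (e3.trans (e4.trans (e5.trans (e6.trans (e7.trans hGs.symm))))))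

end Groth.Agent.S8746
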