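import Groth.Statements.S8753
import Groth.Agent.H92.AdeqAdj

set_option autoImplicit false
universe u
open CategoryTheory Limits
open Adeq

namespace Groth.Agent.S8753

/-- The category of adequate functors on `A`-algebras has enough injectives. -/
theorem result (A : Type u) [CommRing A] : EnoughInjectives (Adeq.Adequate A) := by
  exact Groth.Agent.H92.AdeqAdj.enoughInjectives A

end Groth.Agent.S8753
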