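import Groth.Statements.S8780
import Groth.Agent.H44.PshModFreeRep

set_option autoImplicit false
universe u
open CategoryTheory Limits
open AdeqTF

namespace Groth.Agent.S8780

open Groth.Agent.H44

section General

variable {C : Type (u + 1)} [Category.{u} C] {R : Cᵒᵖ ⥤ RingCat.{u}}

/-- the map `freeRep R X ⟶ freeRep R X'` induced by `f : X ⟶ X'`. -/
noncomputable def freeRepMapHom {X X' : C} (f : X ⟶ X') : freeRep R X ⟶ freeRep R X' :=
  freeRepDesc (freeRep R X') X
    (Finsupp.single (ULift.up f) (1 : R.obj (Opposite.op X)) : FreeRepCarrier R X' (Opposite.op X))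

set_option backward.isDefEq.respectTransparency false in
lemma freeRepMapHom_app_single {X X' : C} (f : X ⟶ X') (Y : Cᵒᵖ)
    (g : ULift.{u + 1} (Y.unop ⟶ X)) (r : R.obj Y) :
    ((freeRepMapHom (R := R) f).app Y (Finsupp.single g r : FreeRepCarrier R X Y) :
        FreeRepCarrier R X' Y) =
      Finsupp.single (ULift.up (g.down ≫ f)) r := by
  change freeRepDescApp (freeRep R X') X _ Y (Finsupp.single g r) = _
  rw [freeRepDescApp_single]
  change r • freeRepMap R X' g.down.op (Finsupp.single (ULift.up f) 1) = _
  rw [freeRepMap_single, map_one, Finsupp.smul_single, smul_eq_mul, mul_one]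
  rfl

set_option backward.isDefEq.respectTransparency false in
lemma freeRepMapHom_app_eq {X X' : C} (f : X ⟶ X') (Y : Cᵒᵖ) (x : FreeRepCarrier R X Y) :
    ((freeRepMapHom (R := R) f).app Y x : FreeRepCarrier R X' Y) =
      Finsupp.mapDomain (fun g : ULift.{u + 1} (Y.unop ⟶ X) =>
        (ULift.up (g.down ≫ f) : ULift.{u + 1} (Y.unop ⟶ X'))) x := by
  refine Finsupp.induction_linear x ?_ ?_ ?_
  · rw [Finsupp.mapDomain_zero]
    exact map_zero ((freeRepMapHom (R := R) f).app Y).hom
  · intro a b ha hb
    rw [Finsupp.mapDomain_add, ← ha, ← hb]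
    exact map_add ((freeRepMapHom (R := R) f).app Y).hom a b
  · intro g r
    rw [Finsupp.mapDomain_single]
    exact freeRepMapHom_app_single f Y g r

set_option backward.isDefEq.respectTransparency false in
lemma freeRepMapHom_mono {X X' : C} (f : X ⟶ X') [Mono f] : Mono (freeRepMapHom (R := R) f) := by
  apply PresheafOfModules.mono_of_injective
  intro Y a b hab
  have hinj : Function.Injective (fun g : ULift.{u + 1} (Y.unop ⟶ X) =>
      (ULift.up (g.down ≫ f) : ULift.{u + 1} (Y.unop ⟶ X'))) := by
    intro g g' h
    have h' : g.down ≫ f = g'.down ≫ f := congrArg ULift.down h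
    exact ULift.ext _ _ ((cancel_mono f).mp h')
  have h1 := freeRepMapHom_app_eq (R := R) f Y a
  have h2 := freeRepMapHom_app_eq (R := R) f Y b
  exact Finsupp.mapDomain_injective hinj (h1.symm.trans (hab.trans h2))

set_option backward.isDefEq.respectTransparency false in
lemma freeRep_map_gen {X X' : C} (f : X ⟶ X') :
    ((freeRep R X').map f.op (freeRepGen X') : FreeRepCarrier R X' (Opposite.op X)) =
      Finsupp.single (ULift.up f) 1 := by
  change freeRepMap R X' f.op (Finsupp.single (ULift.up (𝟙 X')) 1) = _
  rw [freeRepMap_single, map_one]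
  simp

set_option backward.isDefEq.respectTransparency false in
/-- sections of an injective presheaf of modules lift along monomorphisms of the index category. -/
lemma exists_lift_of_injective {X X' : C} (f : X ⟶ X') [Mono f]
    (I : PresheafOfModules.{u + 1} R) [Injective I] (y : I.obj (Opposite.op X)) :
    ∃ x : I.obj (Opposite.op X'), I.map f.op x = y := by
  have := freeRepMapHom_mono (R := R) f
  let φ : freeRep R X ⟶ I := freeRepDesc I X y
  let ψ : freeRep R X' ⟶ I := Injective.factorThru φ (freeRepMapHom (R := R) f)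
  have hψ : freeRepMapHom (R := R) f ≫ ψ = φ := Injective.comp_factorThru φ _
  refine ⟨ψ.app (Opposite.op X') (freeRepGen X'), ?_⟩
  rw [← PresheafOfModules.naturality_apply]
  have h1 : (freeRep R X').map f.op (freeRepGen X') =
      (freeRepMapHom (R := R) f).app (Opposite.op X) (freeRepGen X) := by
    have e1 := freeRep_map_gen (R := R) f
    have e2 := freeRepDesc_app_gen (freeRep R X') X
      (Finsupp.single (ULift.up f) (1 : R.obj (Opposite.op X)) : FreeRepCarrier R X' (Opposite.op X))
    exact e1.trans e2.symm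
  rw [h1]
  have h2 : ψ.app (Opposite.op X) ((freeRepMapHom (R := R) f).app (Opposite.op X) (freeRepGen X)) =
      φ.app (Opposite.op X) (freeRepGen X) := by
    rw [← hψ]
    rfl
  rw [h2]
  exact freeRepDesc_app_gen I X y

end General

/-- Take `I` injective in the category of module-valued functors on `A`-algebras. For every `A`-algebra
`B` and every short exact sequence `0 → N₁ → N → N₂ → 0` of `B`-modules, the induced map of tangent
modules `TI(B, N) → TI(B, N₂)` is surjective (`TI(B, N)` is the kernel of `I(B[N]) → I(B)`, `B[N]`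
the trivial square-zero extension). (The published statement asserts that `TI(B, N₁) → TI(B, N) →
TI(B, N₂) → 0` is exact; exactness at the middle term is false: for `A = B = ℚ`, the split sequence
`0 → ℚ → ℚ² → ℚ → 0` and the injective functor `D ↦ Map(Hom(D, ℚ[ε]/(ε²)), E)` with `E` an injective
hull of `ℚ[ε]/(ε²)`, the indicator function of the first coordinate form lies in the kernel of
`TI(B, ℚ²) → TI(B, ℚ)` and not in the image of `TI(B, ℚ) → TI(B, ℚ²)`. This row keeps the
surjectivity, which the published argument does establish.) -/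
theorem result (A : Type u) [CommRing A] (I : Adeq.MVF A) [Injective I]
    (B : Adeq.Alg A) (S : ShortComplex (ModuleCat.{u} B)) (hS : S.ShortExact) :
    Function.Surjective (AdeqTF.tangentMap B I S.g) := by
  rintro ⟨y, hy⟩
  have hg : Function.Surjective S.g := (ModuleCat.epi_iff_surjective S.g).mp hS.epi_g
  have hsurj : Function.Surjective (AdeqTF.map B S.g) := by
    intro z
    obtain ⟨n, hn⟩ := hg (TrivSqZeroExt.snd z)
    refine ⟨(TrivSqZeroExt.inl (TrivSqZeroExt.fst z) + TrivSqZeroExt.inr n :
      TrivSqZeroExt (B : Type u) S.X₂), ?_⟩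
    show TrivSqZeroExt.map S.g.hom _ = z
    refine TrivSqZeroExt.ext ?_ ?_
    · rw [TrivSqZeroExt.fst_map]
      simp
    · rw [TrivSqZeroExt.snd_map]
      simpa using hn
  have : Epi (AdeqTF.map B S.g) := ConcreteCategory.epi_of_surjective _ hsurj
  obtain ⟨x, hx⟩ := exists_lift_of_injective (R := Adeq.ringOf A) (AdeqTF.map B S.g).op I y
  have hxt : x ∈ AdeqTF.tangent B S.X₂ I := by
    show I.map (Adeq.ptHom (AdeqTF.fst B S.X₂)) x = 0
    have e : Adeq.ptHom (AdeqTF.map B S.g) ≫ Adeq.ptHom (AdeqTF.fst B S.X₃) =
        Adeq.ptHom (AdeqTF.fst B S.X₂) := congrArg Adeq.ptHom (AdeqTF.map_fst B S.g)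
    rw [← I.congr_map_apply e, I.map_comp_apply]
    have hx' : I.map (Adeq.ptHom (AdeqTF.map B S.g)) x = y := hx
    rw [hx']
    exact hy
  refine ⟨⟨x, hxt⟩, Subtype.ext ?_⟩
  exact hx

end Groth.Agent.S8780
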