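import Groth.Statements.S8781
import Groth.Agent.H16.AdeqTF

set_option autoImplicit false
universe u
open CategoryTheory Limits
open AdeqTF

namespace Groth.Agent.S8781
open Groth.Agent.H16.AdeqTFLib

/-- Say a module-valued functor `F` on `A`-algebras has right exact tangent functors if for every
`A`-algebra `B` and every short exact sequence `0 → N₁ → N → N₂ → 0` of `B`-modules the sequence
`TF(B, N₁) → TF(B, N) → TF(B, N₂) → 0` is exact. If `0 → F → G → H → 0` is a short exact sequence of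
module-valued functors and `F`, `G` have right exact tangent functors, so does `H`. -/
theorem result (A : Type u) [CommRing A] (C : ShortComplex (Adeq.MVF A))
    (hC : C.ShortExact)
    (h₁ : (∀ (B : Adeq.Alg A) (S : ShortComplex (ModuleCat.{u} B)), S.ShortExact →
        Function.Surjective (AdeqTF.tangentMap B C.X₁ S.g) ∧
          (AdeqTF.tangentMap B C.X₁ S.g).ker = (AdeqTF.tangentMap B C.X₁ S.f).range))
    (h₂ : (∀ (B : Adeq.Alg A) (S : ShortComplex (ModuleCat.{u} B)), S.ShortExact →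
        Function.Surjective (AdeqTF.tangentMap B C.X₂ S.g) ∧
          (AdeqTF.tangentMap B C.X₂ S.g).ker = (AdeqTF.tangentMap B C.X₂ S.f).range)) :
    (∀ (B : Adeq.Alg A) (S : ShortComplex (ModuleCat.{u} B)), S.ShortExact →
        Function.Surjective (AdeqTF.tangentMap B C.X₃ S.g) ∧
          (AdeqTF.tangentMap B C.X₃ S.g).ker = (AdeqTF.tangentMap B C.X₃ S.f).range) := by
  intro B S hS
  obtain ⟨hg₁, hk₁⟩ := h₁ B S hS
  obtain ⟨hg₂, hk₂⟩ := h₂ B S hS
  exact bottom_row
    (AdeqTF.tangentMap B C.X₁ S.g)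
    (AdeqTF.tangentMap B C.X₂ S.f) (AdeqTF.tangentMap B C.X₂ S.g)
    (AdeqTF.tangentMap B C.X₃ S.f) (AdeqTF.tangentMap B C.X₃ S.g)
    (tmap C.f S.X₂) (tmap C.f S.X₃)
    (tmap C.g S.X₁) (tmap C.g S.X₂) (tmap C.g S.X₃)
    (fun y => tmap_tangentMap C.g S.f y)
    (fun y => tmap_tangentMap C.g S.g y)
    (fun x => tmap_tangentMap C.f S.g x)
    (tmap_surjective hC _) (tmap_surjective hC _) (tmap_surjective hC _)
    (tmap_zero C _) (tmap_exact hC _)
    hg₁ hg₂ hk₂

end Groth.Agent.S8781
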