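import Groth.Statements.S8783
import Groth.Agent.H16.AdeqTF

set_option autoImplicit false
universe u
open CategoryTheory Limits
open AdeqTF

namespace Groth.Agent.S8783

/-- Let `F` be a module-valued functor on `A`-algebras with right exact tangent functors (for every
`A`-algebra `B` and short exact `0 → N₁ → N → N₂ → 0` of `B`-modules, `TF(B, N₁) → TF(B, N) → TF(B,
N₂) → 0` is exact). Then `TF(B, N₁ ⊕ N₂) = TF(B, N₁) ⊕ TF(B, N₂)`: the map from the product induced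
by the two inclusions is bijective. -/
theorem result (A : Type u) [CommRing A] (F : Adeq.MVF A)
    (hF : (∀ (B : Adeq.Alg A) (S : ShortComplex (ModuleCat.{u} B)), S.ShortExact →
        Function.Surjective (AdeqTF.tangentMap B F S.g) ∧
          (AdeqTF.tangentMap B F S.g).ker = (AdeqTF.tangentMap B F S.f).range))
    (B : Adeq.Alg A) (N₁ N₂ : ModuleCat.{u} B) :
    Function.Bijective ((AdeqTF.tangentMap B F (biprod.inl : N₁ ⟶ N₁ ⊞ N₂)).coprod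
      (AdeqTF.tangentMap B F (biprod.inr : N₂ ⟶ N₁ ⊞ N₂))) := by
  have hS : (ShortComplex.mk (biprod.inl : N₁ ⟶ N₁ ⊞ N₂) (biprod.snd : N₁ ⊞ N₂ ⟶ N₂)
      (by simp)).ShortExact :=
    (ShortComplex.Splitting.ofHasBinaryBiproduct N₁ N₂).shortExact
  obtain ⟨-, hker⟩ := hF B _ hS
  dsimp only at hker
  have h11 : ∀ a, AdeqTF.tangentMap B F (biprod.fst : N₁ ⊞ N₂ ⟶ N₁)
      (AdeqTF.tangentMap B F (biprod.inl : N₁ ⟶ N₁ ⊞ N₂) a) = a := by
    intro a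
    rw [← H16.AdeqTFLib.tangentMap_comp, biprod.inl_fst, H16.AdeqTFLib.tangentMap_id]
  have h12 : ∀ a, AdeqTF.tangentMap B F (biprod.snd : N₁ ⊞ N₂ ⟶ N₂)
      (AdeqTF.tangentMap B F (biprod.inl : N₁ ⟶ N₁ ⊞ N₂) a) = 0 := by
    intro a
    rw [← H16.AdeqTFLib.tangentMap_comp, biprod.inl_snd, H16.AdeqTFLib.tangentMap_zero]
  have h21 : ∀ b, AdeqTF.tangentMap B F (biprod.fst : N₁ ⊞ N₂ ⟶ N₁)
      (AdeqTF.tangentMap B F (biprod.inr : N₂ ⟶ N₁ ⊞ N₂) b) = 0 := by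
    intro b
    rw [← H16.AdeqTFLib.tangentMap_comp, biprod.inr_fst, H16.AdeqTFLib.tangentMap_zero]
  have h22 : ∀ b, AdeqTF.tangentMap B F (biprod.snd : N₁ ⊞ N₂ ⟶ N₂)
      (AdeqTF.tangentMap B F (biprod.inr : N₂ ⟶ N₁ ⊞ N₂) b) = b := by
    intro b
    rw [← H16.AdeqTFLib.tangentMap_comp, biprod.inr_snd, H16.AdeqTFLib.tangentMap_id]
  constructor
  · rintro ⟨a, b⟩ ⟨a', b'⟩ h
    rw [AddMonoidHom.coprod_apply, AddMonoidHom.coprod_apply] at h
    have e1 := congrArg (AdeqTF.tangentMap B F (biprod.fst : N₁ ⊞ N₂ ⟶ N₁)) h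
    have e2 := congrArg (AdeqTF.tangentMap B F (biprod.snd : N₁ ⊞ N₂ ⟶ N₂)) h
    simp only [map_add, h11, h12, h21, h22, add_zero, zero_add] at e1 e2
    rw [e1, e2]
  · intro y
    set b := AdeqTF.tangentMap B F (biprod.snd : N₁ ⊞ N₂ ⟶ N₂) y with hb
    have hy' : y - AdeqTF.tangentMap B F (biprod.inr : N₂ ⟶ N₁ ⊞ N₂) b ∈
        (AdeqTF.tangentMap B F (biprod.snd : N₁ ⊞ N₂ ⟶ N₂)).ker := by
      rw [AddMonoidHom.mem_ker, map_sub, h22, ← hb, sub_self]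
    rw [hker, AddMonoidHom.mem_range] at hy'
    obtain ⟨a, ha⟩ := hy'
    refine ⟨(a, b), ?_⟩
    rw [AddMonoidHom.coprod_apply, ha, sub_add_cancel]

end Groth.Agent.S8783
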