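import Groth.Statements.S8784
import Mathlib
import Groth.Agent.H64.ToSheafEpi

set_option autoImplicit false
universe u
open CategoryTheory Limits AlgebraicGeometry
open Adeq Opposite

namespace Groth.Agent.S8784

/-- The parasitic adequate `O`-modules form a Serre subcategory of the category of adequate `O`-modules
on the big fppf site of a scheme `S`; concretely, if `M₁ → M₂ → M₃` is a complex of adequate
`O`-modules, exact at `M₂` (exactness taken in the category of all `O`-modules, which agrees with
exactness among adequate modules), and `M₁`, `M₃` are parasitic, then `M₂` is parasitic. (The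
published statement also identifies the quotient by this Serre subcategory with the category of
quasi-coherent modules on `S`; that part is not included here.) -/
theorem result (S : Scheme.{u}) (C : ShortComplex (BigSite.Mod Scheme.fppfPrecoverage S))
    (hC : C.Exact) (h₁ : Adeq.adequateMod Scheme.fppfPrecoverage S C.X₁) (h₂ : Adeq.adequateMod Scheme.fppfPrecoverage S C.X₂)
    (h₃ : Adeq.adequateMod Scheme.fppfPrecoverage S C.X₃) (p₁ : Adeq.parasitic Scheme.fppfPrecoverage S C.X₁)
    (p₃ : Adeq.parasitic Scheme.fppfPrecoverage S C.X₃) :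
    Adeq.parasitic Scheme.fppfPrecoverage S C.X₂ := by
  intro U hU
  suffices h : ∀ x : BigSite.sectMod Scheme.fppfPrecoverage C.X₂ U, x = 0 from
    ⟨fun x y => (h x).trans (h y).symm⟩
  intro x
  haveI := p₃ U hU
  have hx : C.g.val.app (op U) x = 0 := Subsingleton.elim _ _
  obtain ⟨T, hT, h⟩ := Groth.Agent.H64.ToSheafEpi.locally_of_exact
    (BigSite.ORing Scheme.fppfPrecoverage S) C hC U x hx
  -- the sieve of arrows on which x vanishes
  let T'' : Sieve U :=
    { arrows := fun V i => C.X₂.val.map i.op x = 0
      downward_closed := by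
        intro V W i hi j
        have e : C.X₂.val.map (j ≫ i).op x = C.X₂.val.map j.op (C.X₂.val.map i.op x) :=
          congrArg (fun φ : C.X₂.val.presheaf.obj (op U) ⟶ C.X₂.val.presheaf.obj (op W) => φ.hom x)
            (C.X₂.val.presheaf.map_comp i.op j.op)
        show C.X₂.val.map (j ≫ i).op x = 0
        rw [e, hi]
        exact map_zero (C.X₂.val.presheaf.map j.op).hom }
  have hT'' : T'' ∈ QuotSh.J Scheme.fppfPrecoverage S U := by
    haveI : Scheme.fppfPrecoverage.{u}.HasIsos := ⟨fun {X Y} f _ => by
      unfold Scheme.fppfPrecoverage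
      rw [Scheme.singleton_mem_precoverage_iff]
      exact ⟨(inferInstance : Surjective f).surj, inferInstance, inferInstance⟩⟩
    rw [GrothendieckTopology.mem_over_iff]
    obtain ⟨R, hR, hle⟩ := (Precoverage.mem_toGrothendieck_iff_of_isStableUnderComposition).1
      ((GrothendieckTopology.mem_over_iff _ _).1 hT)
    refine (Precoverage.mem_toGrothendieck_iff_of_isStableUnderComposition).2 ⟨R, hR, ?_⟩
    intro W g hg
    have hgT : T (Over.homMk g : Over.mk (g ≫ U.hom) ⟶ U) := (Sieve.overEquiv_iff _ _).1 (hle _ _ hg)
    obtain ⟨r, hr⟩ := h _ hgT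
    have hflat : Flat (Over.mk (g ≫ U.hom)).hom := by
      have hg' : Flat g := (hR.2 hg).1
      have : Flat U.hom := hU
      show Flat (g ≫ U.hom)
      infer_instance
    haveI := p₁ _ hflat
    have hr0 : r = 0 := Subsingleton.elim _ _
    refine (Sieve.overEquiv_iff _ _).2 ?_
    show C.X₂.val.map (Over.homMk g : Over.mk (g ≫ U.hom) ⟶ U).op x = 0
    rw [← hr, hr0]
    exact map_zero (C.f.val.app (op (Over.mk (g ≫ U.hom)))).hom
  exact C.X₂.isSheaf.isSeparated U T'' hT'' x 0 (fun V i hi => by
    have hi' : C.X₂.val.map i.op x = 0 := hi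
    show C.X₂.val.map i.op x = C.X₂.val.map i.op 0
    rw [hi']
    exact (map_zero (C.X₂.val.presheaf.map i.op).hom).symm)


end Groth.Agent.S8784
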