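import Groth.Statements.S8786
import Groth.Agent.H92.AdeqFpqc

set_option autoImplicit false
universe u
open CategoryTheory Limits AlgebraicGeometry
open Adeq

namespace Groth.Agent.S8786

/-- An adequate `O`-module `M` on the big Zariski site of a scheme `S` is a sheaf for the fpqc topology:
the presheaf of abelian groups underlying `M`, on schemes over `S`, satisfies the sheaf property for
every fpqc covering. (The published statement also asserts the exactness of the whole extended Cech
complex of every faithfully flat map of affine objects; that clause is not part of this row.) -/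
theorem result (S : Scheme.{u}) (M : BigSite.Mod Scheme.zariskiPrecoverage S)
    (hM : Adeq.adequateMod Scheme.zariskiPrecoverage S M) :
    Presheaf.IsSheaf (QuotSh.J Scheme.fpqcPrecoverage S) ((BigSite.toAbMod Scheme.zariskiPrecoverage S).obj M).obj := by
  refine Groth.Agent.H92.AdeqFpqc.isSheaf_fpqc Scheme.zariskiPrecoverage le_rfl M (fun R a => ?_)
  refine Groth.Agent.H92.AdeqBig.adequate_toMVF_of_adequateMod Scheme.zariskiPrecoverage
    (@IsOpenImmersion) ?_ ?_ le_rfl ?_ M hM R a
  · intro T ι X f
    exact Scheme.ofArrows_mem_precoverage_iff (@IsOpenImmersion)
  · intro T ι X f h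
    exact (Scheme.ofArrows_mem_precoverage_iff (@IsOpenImmersion)).2 h
  · intro X Y f hf
    have : IsOpenImmersion f := hf
    exact f.isOpenEmbedding.isOpenMap

end Groth.Agent.S8786
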