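import Groth.Statements.S8803
import Groth.Agent.H98.LCArt
import Groth.Agent.H43.ARImages

set_option autoImplicit false
universe u
open CategoryTheory
open LocCoh

namespace Groth.Agent.S8803

open CategoryTheory CategoryTheory.Limits Opposite ARSys

/-- a projective system of Artinian modules satisfies the Mittag-Leffler condition -/
theorem isML_of_isArtinian {A : Type u} [CommRing A] (X : ARSys.PS (ModuleCat.{u} A))
    (hX : ∀ n : ℕ, IsArtinian A (X.obj (op n))) : ARSys.IsML X := by
  intro n
  haveI := hX n
  let g : ℕ →o (Submodule A (X.obj (op n)))ᵒᵈ :=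
    { toFun := fun s => OrderDual.toDual
        (ModuleCat.subobjectModule (X.obj (op n)) (imageSubobject (shiftMap X s n)))
      monotone' := by
        intro s s' hss'
        show ModuleCat.subobjectModule (X.obj (op n)) (imageSubobject (shiftMap X s' n)) ≤
          ModuleCat.subobjectModule (X.obj (op n)) (imageSubobject (shiftMap X s n))
        rw [OrderIso.le_iff_le]
        have h1 : n + s ≤ n + s' := Nat.add_le_add_left hss' n
        have e : shiftMap X s' n = tr X h1 ≫ shiftMap X s n :=
          (Groth.Agent.H43.tr_comp X (Nat.le_add_right n s) h1).symm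
        rw [e]
        exact imageSubobject_comp_le _ _ }
  obtain ⟨r, hr⟩ := IsArtinian.monotone_stabilizes g
  refine ⟨r, fun s hs => ?_⟩
  have := hr s hs
  exact ((ModuleCat.subobjectModule (X.obj (op n))).injective
    (OrderDual.toDual.injective this)).symm

/-- Let (A, m) be a Noetherian local ring and (M_n) an inverse system of finite A-modules. Then for
every i the inverse system H^i_m(M_n) of local cohomology modules satisfies the Mittag-Leffler
condition. -/
theorem result (A : Type u) [CommRing A] [IsNoetherianRing A] [IsLocalRing A] (Msys : ℕᵒᵖ ⥤ ModuleCat.{u} A) (hfin : ∀ n : ℕᵒᵖ, Module.Finite A (Msys.obj n)) (i : ℕ) : ARSys.IsML (Msys ⋙ localCohomology (IsLocalRing.maximalIdeal A) i) := by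
  apply isML_of_isArtinian
  intro n
  haveI := hfin (op n)
  exact Groth.Agent.H98.LCArt.isArtinian_H (IsLocalRing.maximalIdeal A) i (Msys.obj (op n))

end Groth.Agent.S8803
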