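import Groth.Statements.S8812
import Groth.Agent.H44.DeltaZ
import Mathlib.Topology.Separation.Basic

set_option autoImplicit false
universe u
open CategoryTheory AlgebraicGeometry
open Algz

namespace Groth.Agent.S8812

open Groth.Agent.H44 in
lemma specializes_of_codimPt_eq_zero {Y : Type u} [TopologicalSpace Y] {w v : Y} (h : w ⤳ v)
    (h0 : Algz.codimPt w v h = 0) : v ⤳ w := by
  unfold Algz.codimPt at h0
  rw [Order.height_eq_zero] at h0
  have hb : (⟨Specialization.toEquiv v, Set.mem_Ici.mpr le_rfl⟩ :
      Set.Ici (Specialization.toEquiv v)) ≤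
      ⟨Specialization.toEquiv w, Specialization.toEquiv_le_toEquiv.mpr h⟩ :=
    Specialization.toEquiv_le_toEquiv.mpr h
  exact Specialization.toEquiv_le_toEquiv.mp (h0 hb)

/-- Let Y be a Noetherian scheme and Z ⊆ Y a closed subset. If y specializes to y' then δ_Z(y') ≤
δ_Z(y); equivalently each set {y | δ_Z(y) ≤ k} is stable under specialization. -/
theorem result (Y : Scheme.{u}) [IsNoetherian Y] (Z : Set Y) (hZ : IsClosed Z) (y y' : Y) (h : y ⤳ y') : Algz.deltaZ Z y' ≤ Algz.deltaZ Z y := by
  classical
  refine le_iInf₂ fun k S => ?_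
  by_cases hyy : y' ⤳ y
  · have e : y = y' := (h.antisymm hyy).eq
    subst e
    exact iInf₂_le k S
  by_cases hc0 : S.c (Fin.last k) = 0
  · -- Case A: replace the last pair by `(y', y')`
    have hvw : S.v (Fin.last k) ⤳ y :=
      (specializes_of_codimPt_eq_zero (S.spec (Fin.last k)) hc0).trans
        (specializes_of_eq S.last_eq)
    let v' : Fin (k + 1) → Y := fun i =>
      Fin.lastCases (motive := fun _ => Y) y' (fun j => S.v j.castSucc) i
    let w' : Fin (k + 1) → Y := fun i =>
      Fin.lastCases (motive := fun _ => Y) y' (fun j => S.w j.castSucc) i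
    have hv'_last : v' (Fin.last k) = y' := Fin.lastCases_last
    have hw'_last : w' (Fin.last k) = y' := Fin.lastCases_last
    have hv'_cast : ∀ j : Fin k, v' j.castSucc = S.v j.castSucc := fun j => Fin.lastCases_castSucc ..
    have hw'_cast : ∀ j : Fin k, w' j.castSucc = S.w j.castSucc := fun j => Fin.lastCases_castSucc ..
    have hvv' : ∀ j : Fin (k + 1), S.v j ⤳ v' j := by
      intro j
      refine Fin.lastCases ?_ (fun j₀ => ?_) j
      · exact (hvw.trans h).trans (specializes_of_eq hv'_last.symm)
      · exact specializes_of_eq (hv'_cast j₀).symm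
    let S' : Algz.DSystem Z y' k :=
      { v := v'
        w := w'
        spec := by
          intro i
          refine Fin.lastCases ?_ (fun j => ?_) i
          · exact specializes_of_eq (hw'_last.trans hv'_last.symm)
          · exact (specializes_of_eq (hw'_cast j)).trans
              ((S.spec j.castSucc).trans (specializes_of_eq (hv'_cast j).symm))
        spec_succ := fun i => (specializes_of_eq (hw'_cast i)).trans
          ((S.spec_succ i).trans (hvv' i.succ))
        start_mem := hZ.stableUnderSpecialization (hvv' 0) S.start_mem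
        last_eq := hw'_last }
    have hc' : ∀ j, S'.c j = S.c j := by
      intro j
      refine Fin.lastCases ?_ (fun j₀ => ?_) j
      · rw [hc0]
        exact (Groth.Agent.H44.codimPt_congr hw'_last hv'_last _ specializes_rfl).trans
          (Groth.Agent.H44.codimPt_eq_zero _ specializes_rfl)
      · exact Groth.Agent.H44.codimPt_congr (hw'_cast j₀) (hv'_cast j₀) _ _
    have hb' : ∀ j : Fin k, S.b j ≤ S'.b j := by
      intro j
      have e : S'.b j = Algz.codimPt (S.w j.castSucc) (v' j.succ)
          ((S.spec_succ j).trans (hvv' j.succ)) :=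
        Groth.Agent.H44.codimPt_congr (hw'_cast j) rfl _ _
      rw [e]
      exact Groth.Agent.H44.codimPt_mono_right (S.spec_succ j) (hvv' j.succ)
    refine (iInf₂_le k S').trans ?_
    unfold Algz.DSystem.delta
    exact add_le_add le_rfl (Finset.sup_mono_fun fun i _ =>
      tsub_le_tsub (le_of_eq (Finset.sum_congr rfl fun j _ => hc' j))
        (Finset.sum_le_sum fun j _ => hb' j))
  · -- Case B: append the pair `(y', y')`
    have hc1 : 1 ≤ S.c (Fin.last k) := Order.one_le_iff_ne_zero.mpr hc0
    let v' : Fin (k + 1 + 1) → Y := fun i =>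
      Fin.lastCases (motive := fun _ => Y) y' (fun j : Fin (k + 1) => S.v j) i
    let w' : Fin (k + 1 + 1) → Y := fun i =>
      Fin.lastCases (motive := fun _ => Y) y' (fun j : Fin (k + 1) => S.w j) i
    have hv'_last : v' (Fin.last (k + 1)) = y' := Fin.lastCases_last
    have hw'_last : w' (Fin.last (k + 1)) = y' := Fin.lastCases_last
    have hv'_cast : ∀ j : Fin (k + 1), v' j.castSucc = S.v j := fun j => Fin.lastCases_castSucc ..
    have hw'_cast : ∀ j : Fin (k + 1), w' j.castSucc = S.w j := fun j => Fin.lastCases_castSucc ..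
    have hv'_succ_last : v' (Fin.last k).succ = y' := by
      rw [Fin.succ_last]
      exact hv'_last
    have hv'_succ_cast : ∀ j : Fin k, v' (j.castSucc).succ = S.v j.succ := by
      intro j
      rw [Fin.succ_castSucc]
      exact hv'_cast j.succ
    have hv'_zero : v' 0 = S.v 0 := by
      rw [← Fin.castSucc_zero]
      exact hv'_cast 0
    let S' : Algz.DSystem Z y' (k + 1) :=
      { v := v'
        w := w'
        spec := by
          intro i
          refine Fin.lastCases ?_ (fun j => ?_) i
          · exact specializes_of_eq (hw'_last.trans hv'_last.symm)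
          · exact (specializes_of_eq (hw'_cast j)).trans
              ((S.spec j).trans (specializes_of_eq (hv'_cast j).symm))
        spec_succ := by
          intro i
          refine (specializes_of_eq (hw'_cast i)).trans ?_
          refine Fin.lastCases ?_ (fun j => ?_) i
          · exact (specializes_of_eq S.last_eq).trans
              (h.trans (specializes_of_eq hv'_succ_last.symm))
          · exact (S.spec_succ j).trans (specializes_of_eq (hv'_succ_cast j).symm)
        start_mem := by
          rw [hv'_zero]
          exact S.start_mem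
        last_eq := hw'_last }
    have hc'_cast : ∀ j : Fin (k + 1), S'.c j.castSucc = S.c j := fun j =>
      Groth.Agent.H44.codimPt_congr (hw'_cast j) (hv'_cast j) _ _
    have hc'_last : S'.c (Fin.last (k + 1)) = 0 :=
      (Groth.Agent.H44.codimPt_congr hw'_last hv'_last _ specializes_rfl).trans
        (Groth.Agent.H44.codimPt_eq_zero _ specializes_rfl)
    have hb'_cast : ∀ j : Fin k, S'.b j.castSucc = S.b j := fun j =>
      Groth.Agent.H44.codimPt_congr (hw'_cast j.castSucc) (hv'_succ_cast j) _ _
    have hb'_last : 1 ≤ S'.b (Fin.last k) := by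
      have e : S'.b (Fin.last k) = Algz.codimPt y y' h :=
        Groth.Agent.H44.codimPt_congr ((hw'_cast (Fin.last k)).trans S.last_eq) hv'_succ_last _ _
      rw [e]
      exact Groth.Agent.H44.one_le_codimPt h hyy
    have hA : ∀ i₀ : Fin (k + 1),
        (∑ j ∈ Finset.univ.filter (fun j : Fin (k + 1 + 1) => i₀.castSucc ≤ j), S'.c j) =
          ∑ j ∈ Finset.univ.filter (fun j : Fin (k + 1) => i₀ ≤ j), S.c j := by
      intro i₀
      rw [Finset.sum_filter, Finset.sum_filter, Fin.sum_univ_castSucc, hc'_last]
      simp only [ite_self, add_zero]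
      refine Finset.sum_congr rfl fun j _ => ?_
      by_cases hij : i₀ ≤ j
      · rw [if_pos (show i₀.castSucc ≤ j.castSucc from hij), if_pos hij, hc'_cast j]
      · rw [if_neg (show ¬ i₀.castSucc ≤ j.castSucc from hij), if_neg hij]
    have hB : ∀ i₀ : Fin (k + 1),
        (∑ j ∈ Finset.univ.filter (fun j : Fin (k + 1) => (i₀.castSucc).val ≤ j.val), S'.b j) =
          (∑ j ∈ Finset.univ.filter (fun j : Fin k => (i₀).val ≤ j.val), S.b j) +
            S'.b (Fin.last k) := by
      intro i₀
      rw [Finset.sum_filter, Finset.sum_filter, Fin.sum_univ_castSucc]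
      rw [if_pos (show (i₀.castSucc).val ≤ (Fin.last k).val from Nat.le_of_lt_succ i₀.isLt)]
      congr 1
      refine Finset.sum_congr rfl fun j _ => ?_
      by_cases hij : i₀.val ≤ j.val
      · rw [if_pos (show (i₀.castSucc).val ≤ (j.castSucc).val from hij), if_pos hij, hb'_cast j]
      · rw [if_neg (show ¬ (i₀.castSucc).val ≤ (j.castSucc).val from hij), if_neg hij]
    have hT' : ∀ i₀ : Fin (k + 1),
        ((∑ j ∈ Finset.univ.filter (fun j : Fin (k + 1 + 1) => i₀.castSucc ≤ j), S'.c j) -
        ∑ j ∈ Finset.univ.filter (fun j : Fin (k + 1) => (i₀.castSucc).val ≤ j.val), S'.b j) ≤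
          ((∑ j ∈ Finset.univ.filter (fun j : Fin (k + 1) => i₀ ≤ j), S.c j) -
        ∑ j ∈ Finset.univ.filter (fun j : Fin k => (i₀).val ≤ j.val), S.b j) - 1 := by
      intro i₀
      rw [hA i₀, hB i₀, ← tsub_tsub]
      exact tsub_le_tsub_left hb'_last _
    have hAlast : (∑ j ∈ Finset.univ.filter (fun j : Fin (k + 1 + 1) => Fin.last (k + 1) ≤ j),
        S'.c j) = 0 := by
      refine Finset.sum_eq_zero fun j hj => ?_
      rw [Finset.mem_filter] at hj
      rw [Fin.last_le_iff.mp hj.2]
      exact hc'_last
    have hTlast : 1 ≤ ((∑ j ∈ Finset.univ.filter (fun j : Fin (k + 1) => Fin.last k ≤ j), S.c j) -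
        ∑ j ∈ Finset.univ.filter (fun j : Fin k => (Fin.last k).val ≤ j.val), S.b j) := by
      have h2 : (∑ j ∈ Finset.univ.filter (fun j : Fin k => (Fin.last k).val ≤ j.val), S.b j) = 0 := by
        refine Finset.sum_eq_zero fun j hj => ?_
        exfalso
        have h3 := (Finset.mem_filter.mp hj).2
        have h4 := j.isLt
        simp only [Fin.val_last] at h3
        omega
      rw [h2, tsub_zero]
      exact hc1.trans (Finset.single_le_sum (f := fun j => S.c j) (fun _ _ => zero_le)
        (Finset.mem_filter.mpr ⟨Finset.mem_univ _, le_rfl⟩))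
    have hM1 : 1 ≤ Finset.univ.sup (fun i : Fin (k + 1) => (∑ j ∈ Finset.univ.filter (fun j : Fin (k + 1) => i ≤ j), S.c j) -
        ∑ j ∈ Finset.univ.filter (fun j : Fin k => (i).val ≤ j.val), S.b j) :=
      hTlast.trans (Finset.le_sup (f := fun i : Fin (k + 1) => (∑ j ∈ Finset.univ.filter (fun j : Fin (k + 1) => i ≤ j), S.c j) -
        ∑ j ∈ Finset.univ.filter (fun j : Fin k => (i).val ≤ j.val), S.b j)
        (Finset.mem_univ (Fin.last k)))
    have hsup' : Finset.univ.sup (fun i : Fin (k + 1 + 1) => (∑ j ∈ Finset.univ.filter (fun j : Fin (k + 1 + 1) => i ≤ j), S'.c j) -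
        ∑ j ∈ Finset.univ.filter (fun j : Fin (k + 1) => (i).val ≤ j.val), S'.b j) ≤
        Finset.univ.sup (fun i : Fin (k + 1) => (∑ j ∈ Finset.univ.filter (fun j : Fin (k + 1) => i ≤ j), S.c j) -
        ∑ j ∈ Finset.univ.filter (fun j : Fin k => (i).val ≤ j.val), S.b j) - 1 := by
      refine Finset.sup_le fun i _ => ?_
      refine Fin.lastCases ?_ (fun i₀ => ?_) i
      · rw [hAlast, zero_tsub]
        exact zero_le
      · exact (hT' i₀).trans (tsub_le_tsub_right
          (Finset.le_sup (f := fun i : Fin (k + 1) => (∑ j ∈ Finset.univ.filter (fun j : Fin (k + 1) => i ≤ j), S.c j) -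
        ∑ j ∈ Finset.univ.filter (fun j : Fin k => (i).val ≤ j.val), S.b j) (Finset.mem_univ i₀)) 1)
    refine (iInf₂_le (k + 1) S').trans ?_
    unfold Algz.DSystem.delta
    refine (add_le_add le_rfl hsup').trans_eq ?_
    rw [Nat.cast_add, Nat.cast_one, add_assoc, add_tsub_cancel_of_le hM1]

end Groth.Agent.S8812
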