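import Groth.Statements.S8816
import Groth.Agent.H44.DeltaZ

set_option autoImplicit false
universe u
open CategoryTheory AlgebraicGeometry
open Algz

namespace Groth.Agent.S8816

/-- Let Y be a Noetherian scheme and Z ⊆ Y closed. Given points y_0, …, y_k and y'_0, …, y'_{k-1} of Y
with y_0 ∈ Z such that each y'_i specializes to y_{i+1} with y'_i ≠ y_{i+1}, and each y'_i ⤳ y_i is
an immediate specialization (y'_i ≠ y_i and no point strictly between), one has δ_Z(y_k) ≤ k. (The
published statement also allows y'_i = y_{i+1}. In that generality the bound needs catenarity: for a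
Noetherian local domain of dimension 3 having a saturated chain of primes (0) ⊂ 𝔭 ⊂ 𝔪 of length 2,
with Z the closed point and the pattern y_0 = 𝔪, y'_0 = y_1 = 𝔭, y'_1 = y_2 = (0), one has k = 2 but
δ_Z((0)) = 3. The published proof handles nontrivial specializations y'_i ⤳ y_{i+1}, for which the
closures of the y_i and y'_i form a system of value k, and reduces to that case by shortening the
chain, which does not preserve immediacy; this row states the case the proof establishes.) -/
theorem result (Y : Scheme.{u}) [IsNoetherian Y] (Z : Set Y) (hZ : IsClosed Z) (k : ℕ) (y : Fin (k + 1) → Y) (y' : Fin k → Y) (h0 : y 0 ∈ Z) (hdown : ∀ i : Fin k, y' i ⤳ y i.castSucc ∧ y' i ≠ y i.castSucc ∧ ∀ z : Y, y' i ⤳ z → z ⤳ y i.castSucc → z = y' i ∨ z = y i.castSucc) (hup : ∀ i : Fin k, y' i ⤳ y i.succ ∧ y' i ≠ y i.succ) : Algz.deltaZ Z (y (Fin.last k)) ≤ k := by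
  classical
  let w : Fin (k + 1) → Y := fun i =>
    Fin.lastCases (motive := fun _ => Y) (y (Fin.last k)) (fun j => y' j) i
  have hw_last : w (Fin.last k) = y (Fin.last k) := Fin.lastCases_last
  have hw_cast : ∀ j : Fin k, w j.castSucc = y' j := fun j => Fin.lastCases_castSucc ..
  let S : Algz.DSystem Z (y (Fin.last k)) k :=
    { v := y
      w := w
      spec := by
        intro i
        refine Fin.lastCases ?_ (fun j => ?_) i
        · exact specializes_of_eq hw_last
        · exact (specializes_of_eq (hw_cast j)).trans (hdown j).1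
      spec_succ := fun i => (specializes_of_eq (hw_cast i)).trans (hup i).1
      start_mem := h0
      last_eq := hw_last }
  have hle : Algz.deltaZ Z (y (Fin.last k)) ≤ S.delta := iInf₂_le k S
  refine hle.trans ?_
  have hc_last : S.c (Fin.last k) = 0 := by
    unfold Algz.DSystem.c
    exact (Groth.Agent.H44.codimPt_congr hw_last rfl _ specializes_rfl).trans
      (Groth.Agent.H44.codimPt_eq_zero _ specializes_rfl)
  have hc_cast : ∀ j : Fin k, S.c j.castSucc = 1 := by
    intro j
    unfold Algz.DSystem.c
    have hne : ¬ y j.castSucc ⤳ y' j := fun hh => (hdown j).2.1 ((hdown j).1.antisymm hh).eq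
    exact (Groth.Agent.H44.codimPt_congr (hw_cast j) rfl _ (hdown j).1).trans
      (Groth.Agent.H44.codimPt_eq_one (hdown j).1 hne (hdown j).2.2)
  have hb : ∀ j : Fin k, 1 ≤ S.b j := by
    intro j
    unfold Algz.DSystem.b
    have hne : ¬ y j.succ ⤳ y' j := fun hh => (hup j).2 ((hup j).1.antisymm hh).eq
    rw [Groth.Agent.H44.codimPt_congr (hw_cast j) rfl _ (hup j).1]
    exact Groth.Agent.H44.one_le_codimPt (hup j).1 hne
  have hterm : ∀ i : Fin (k + 1),
      (∑ j ∈ Finset.univ.filter (fun j : Fin (k + 1) => i ≤ j), S.c j) ≤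
        ∑ j ∈ Finset.univ.filter (fun j : Fin k => i.val ≤ j.val), S.b j := by
    intro i
    rw [Finset.sum_filter, Finset.sum_filter, Fin.sum_univ_castSucc, hc_last]
    simp only [ite_self, add_zero]
    refine Finset.sum_le_sum fun j _ => ?_
    by_cases hij : i.val ≤ j.val
    · rw [if_pos (show i ≤ j.castSucc from hij), if_pos hij, hc_cast j]
      exact hb j
    · rw [if_neg (show ¬ i ≤ j.castSucc from hij), if_neg hij]
  unfold Algz.DSystem.delta
  exact (add_le_add le_rfl (Finset.sup_le fun i _ => tsub_nonpos.mpr (hterm i))).trans_eq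
    (add_zero _)

end Groth.Agent.S8816
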