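import Groth.Statements.S8817


set_option autoImplicit false
universe u
open CategoryTheory AlgebraicGeometry
open Algz

namespace Groth.Agent.S8817

open TopologicalSpace Topology

section Top
variable {Y Y' : Type u} [TopologicalSpace Y] [TopologicalSpace Y']

def iciFun (ι : Y' → Y) (hι : Continuous ι) (v : Y') :
    Set.Ici (Specialization.toEquiv v) → Set.Ici (Specialization.toEquiv (ι v)) :=
  fun x => ⟨Specialization.toEquiv (ι (Specialization.ofEquiv x.1)),
      Specialization.toEquiv_le_toEquiv.mpr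
        ((Specialization.ofEquiv_specializes_ofEquiv.mpr x.2 :
          Specialization.ofEquiv x.1 ⤳ v).map hι)⟩

def iciEmb (ι : Y' → Y) (hι : IsOpenEmbedding ι) (v : Y') :
    Set.Ici (Specialization.toEquiv v) ↪o Set.Ici (Specialization.toEquiv (ι v)) where
  toFun := iciFun ι hι.continuous v
  inj' := fun a b hab => Subtype.ext (hι.injective (congrArg Subtype.val hab))
  map_rel_iff' := by
    intro a b
    show (Specialization.toEquiv (ι (Specialization.ofEquiv a.1)) ≤
        Specialization.toEquiv (ι (Specialization.ofEquiv b.1))) ↔ a.1 ≤ b.1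
    rw [Specialization.toEquiv_le_toEquiv, hι.isInducing.specializes_iff]
    exact Specialization.ofEquiv_specializes_ofEquiv

theorem iciEmb_surj (ι : Y' → Y) (hι : IsOpenEmbedding ι) (v : Y') :
    Function.Surjective (iciEmb ι hι v) := by
  intro z
  have hz : Specialization.ofEquiv z.1 ⤳ ι v := Specialization.ofEquiv_specializes_ofEquiv.mpr z.2
  obtain ⟨x, hx⟩ : Specialization.ofEquiv z.1 ∈ Set.range ι :=
    hz.mem_open hι.isOpen_range ⟨v, rfl⟩
  have hxv : x ⤳ v := by rw [← hι.isInducing.specializes_iff, hx]; exact hz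
  refine ⟨⟨Specialization.toEquiv x, Specialization.toEquiv_le_toEquiv.mpr hxv⟩, ?_⟩
  apply Subtype.ext
  exact hx

theorem codimPt_map (ι : Y' → Y) (hι : IsOpenEmbedding ι) {w v : Y'} (h : w ⤳ v)
    (h' : ι w ⤳ ι v) : Algz.codimPt (ι w) (ι v) h' = Algz.codimPt w v h := by
  unfold Algz.codimPt
  have e := Order.height_orderIso (RelIso.ofSurjective (iciEmb ι hι v) (iciEmb_surj ι hι v))
    ⟨Specialization.toEquiv w, Specialization.toEquiv_le_toEquiv.mpr h⟩
  rw [RelIso.ofSurjective_apply] at e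
  exact e

def mapSys (ι : Y' → Y) (hι : Continuous ι) {Z : Set Y} {y' : Y'} {k : ℕ}
    (S : Algz.DSystem (ι ⁻¹' Z) y' k) : Algz.DSystem Z (ι y') k where
  v i := ι (S.v i)
  w i := ι (S.w i)
  spec i := (S.spec i).map hι
  spec_succ i := (S.spec_succ i).map hι
  start_mem := S.start_mem
  last_eq := congrArg ι S.last_eq

theorem mapSys_delta (ι : Y' → Y) (hι : IsOpenEmbedding ι) {Z : Set Y} {y' : Y'} {k : ℕ}
    (S : Algz.DSystem (ι ⁻¹' Z) y' k) : (mapSys ι hι.continuous S).delta = S.delta := by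
  have hc : ∀ i, (mapSys ι hι.continuous S).c i = S.c i := fun i => codimPt_map ι hι _ _
  have hb : ∀ i, (mapSys ι hι.continuous S).b i = S.b i := fun i => codimPt_map ι hι _ _
  unfold Algz.DSystem.delta
  simp only [hc, hb]

theorem deltaZ_le (ι : Y' → Y) (hι : IsOpenEmbedding ι) (Z : Set Y) (y' : Y') :
    Algz.deltaZ Z (ι y') ≤ Algz.deltaZ (ι ⁻¹' Z) y' := by
  unfold Algz.deltaZ
  refine le_iInf₂ fun k S => ?_
  rw [← mapSys_delta ι hι S]
  exact iInf₂_le k (mapSys ι hι.continuous S)

end Top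

/-- Let Y be a Noetherian scheme, Z ⊆ Y a closed subset and Y' ⊆ Y an open subscheme. For a point y' of
Y' the distance function of Y' relative to Y' ∩ Z at y' is at least the distance function of Y
relative to Z at y'. -/
theorem result (Y : Scheme.{u}) [IsNoetherian Y] (Z : Set Y) (hZ : IsClosed Z) (Y' : Y.Opens) (y' : (↑Y' : Scheme.{u})) : Algz.deltaZ Z (Y'.ι.base y') ≤ Algz.deltaZ ((fun x : (↑Y' : Scheme.{u}) => Y'.ι.base x) ⁻¹' Z) y' := by
  exact deltaZ_le (fun x : (↑Y' : Scheme.{u}) => Y'.ι.base x) Y'.ι.isOpenEmbedding Z y'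

end Groth.Agent.S8817
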