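import Groth.Statements.S8821
import Groth.Prelude.Def_KLin
import Mathlib.CategoryTheory.Abelian.Refinements

set_option autoImplicit false
universe u
open CategoryTheory AlgebraicGeometry
open Formal2

namespace Groth.Agent.S8821

open CategoryTheory.Limits

section Abstract

variable {C : Type*} [Category C] [Abelian C]

theorem abstract_key {F Qa Qab Qb : C} (a b c : F ⟶ F) (hc : a ≫ b = c) [Mono b]
    (πa : F ⟶ Qa) (πab : F ⟶ Qab) (πb : F ⟶ Qb) [Epi πa] [Epi πab] [Epi πb]
    (wa : a ≫ πa = 0) (wab : c ≫ πab = 0) (wb : b ≫ πb = 0)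
    (ha : (ShortComplex.mk a πa wa).Exact) (hab : (ShortComplex.mk c πab wab).Exact)
    (hb : (ShortComplex.mk b πb wb).Exact)
    (i : Qa ⟶ Qab) (p : Qab ⟶ Qb) (hi : πa ≫ i = b ≫ πab) (hp : πab ≫ p = πb) :
    Mono i ∧ ∃ w : i ≫ p = 0, (ShortComplex.mk i p w).ShortExact := by
  have hmono : Mono i := by
    rw [Preadditive.mono_iff_cancel_zero]
    intro T t ht
    obtain ⟨T', π, hπ, x, hx⟩ := surjective_up_to_refinements_of_epi πa t
    have h1 : (x ≫ b) ≫ πab = 0 := by
      rw [Category.assoc, ← hi, ← Category.assoc, ← hx, Category.assoc, ht, comp_zero]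
    obtain ⟨T'', π', hπ', y, hy⟩ := hab.exact_up_to_refinements (x ≫ b) h1
    have hy' : π' ≫ x ≫ b = y ≫ a ≫ b := by rw [hc]; exact hy
    have h2 : π' ≫ x = y ≫ a := by
      rw [← cancel_mono b, Category.assoc, Category.assoc]; exact hy'
    have h3 : (π' ≫ π) ≫ t = 0 := by
      rw [Category.assoc, hx, ← Category.assoc, h2, Category.assoc, wa, comp_zero]
    have : Epi (π' ≫ π) := epi_comp _ _
    exact (cancel_epi (π' ≫ π)).1 (h3.trans comp_zero.symm)
  have hepi : Epi p := epi_of_epi_fac hp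
  have w : i ≫ p = 0 := by
    rw [← cancel_epi πa, ← Category.assoc, hi, Category.assoc, hp, wb, comp_zero]
  refine ⟨hmono, w, ?_⟩
  refine ShortComplex.ShortExact.mk' ?_ hmono hepi
  rw [ShortComplex.exact_iff_exact_up_to_refinements]
  intro T t ht
  obtain ⟨T', π, hπ, x, hx⟩ := surjective_up_to_refinements_of_epi πab t
  have h1 : x ≫ πb = 0 := by
    rw [← hp, ← Category.assoc, ← hx, Category.assoc]
    exact (congrArg (π ≫ ·) ht).trans comp_zero
  obtain ⟨T'', π', hπ', y, hy⟩ := hb.exact_up_to_refinements x h1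
  have hy' : π' ≫ x = y ≫ b := hy
  have : Epi (π' ≫ π) := epi_comp _ _
  refine ⟨T'', π' ≫ π, this, y ≫ πa, ?_⟩
  show (π' ≫ π) ≫ t = (y ≫ πa) ≫ i
  rw [Category.assoc, hx, ← Category.assoc, hy', Category.assoc, Category.assoc, hi]

end Abstract

section Concrete

variable {A : Type u} [CommRing A] {X : Scheme.{u}} [X.Over (Spec (CommRingCat.of A))]

theorem smulMod_comm {M N : X.Modules} (φ : M ⟶ N) (a : A) :
    φ ≫ Formal.smulMod A N a = Formal.smulMod A M a ≫ φ := KLin.comp_smulModΓ φ _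

theorem smulMod_one (M : X.Modules) : Formal.smulMod A M (1 : A) = 𝟙 M := by
  show Formal.smulModΓ M (Coh.toGlobal _ (1 : A)) = _
  rw [map_one]; exact KLin.smulModΓ_one M

theorem smulMod_mul (M : X.Modules) (a b : A) :
    Formal.smulMod A M (a * b) = Formal.smulMod A M a ≫ Formal.smulMod A M b := by
  show Formal.smulModΓ M (Coh.toGlobal _ (a * b)) = _
  rw [map_mul]; exact KLin.smulModΓ_mul M _ _

theorem mono_pow (M : X.Modules) (f : A) (hF : Mono (Formal.smulMod A M f)) (k : ℕ) :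
    Mono (Formal.smulMod A M (f ^ k)) := by
  induction k with
  | zero => rw [pow_zero, smulMod_one]; infer_instance
  | succ k ih => rw [pow_succ, smulMod_mul]; exact mono_comp _ _

instance epi_modPowπ (I : Ideal A) (k : ℕ) (M : X.Modules) : Epi (Formal.modPowπ I k M) :=
  show Epi (cokernel.π _) from inferInstance

theorem ι_smulFamily (J : Ideal A) (M : X.Modules) (a : J) :
    Sigma.ι (fun _ : J => M) a ≫ Formal.smulFamily J M = Formal.smulMod A M (a : A) :=
  Sigma.ι_desc _ _

theorem w_k (f : A) (k : ℕ) (M : X.Modules) :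
    Formal.smulMod A M (f ^ k) ≫ Formal.modPowπ (Ideal.span ({f} : Set A)) k M = 0 := by
  have hmem : f ^ k ∈ (Ideal.span ({f} : Set A)) ^ k :=
    Ideal.pow_mem_pow (Ideal.mem_span_singleton_self f) k
  rw [← ι_smulFamily ((Ideal.span ({f} : Set A)) ^ k) M ⟨f ^ k, hmem⟩, Category.assoc]
  show _ ≫ Formal.smulFamily _ M ≫ cokernel.π _ = 0
  rw [cokernel.condition, comp_zero]

theorem family_comp_zero (f : A) (k : ℕ) (M : X.Modules) {Z : X.Modules} (g : M ⟶ Z)
    (hg : Formal.smulMod A M (f ^ k) ≫ g = 0) :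
    Formal.smulFamily ((Ideal.span ({f} : Set A)) ^ k) M ≫ g = 0 := by
  apply Sigma.hom_ext
  intro a
  obtain ⟨c, hc⟩ : ∃ c, c * f ^ k = (a : A) := by
    have h : (a : A) ∈ Ideal.span ({f ^ k} : Set A) := by
      rw [← Ideal.span_singleton_pow]; exact a.2
    exact Ideal.mem_span_singleton'.1 h
  rw [comp_zero, ← Category.assoc, ι_smulFamily, ← hc, smulMod_mul, Category.assoc, hg, comp_zero]

theorem exact_k (f : A) (k : ℕ) (M : X.Modules) :
    (ShortComplex.mk _ _ (w_k f k M)).Exact := by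
  apply ShortComplex.exact_of_g_is_cokernel
  exact CokernelCofork.IsColimit.ofπ' (hp := epi_modPowπ _ k M) _ _
    (fun {Z} g hg => ⟨cokernel.desc _ g (family_comp_zero f k M g hg), cokernel.π_desc _ _ _⟩)

end Concrete

/-- Implication (4) ⇒ (2), for an O_X-module over a base ring A and f ∈ A. Let X be a scheme over Spec
A, f ∈ A and F an O_X-module on which multiplication by f is a monomorphism. Then for every n ≥ 1
there is a monomorphism i : F/fF → F/f^{n+1}F through which multiplication by f^n on F/f^{n+1}F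
factors (projection to F/fF followed by i), and F/fF → F/f^{n+1}F → F/f^nF, with second map the
transition map, is a short exact sequence. (Stated for schemes; the published statement is for
ringed spaces.) -/
theorem result (A : Type u) [CommRing A] (X : Scheme.{u}) [X.Over (Spec (CommRingCat.of A))] (f : A) (F : X.Modules) (hF : Mono (Formal.smulMod A F f)) (n : ℕ) (hn : 1 ≤ n) : ∃ i : Formal.modPow (Ideal.span ({f} : Set A)) 1 F ⟶ Formal.modPow (Ideal.span ({f} : Set A)) (n + 1) F, Mono i ∧ Formal2.modPowLE (Ideal.span ({f} : Set A)) (Nat.le_add_left 1 n) F ≫ i = Formal.smulMod A (Formal.modPow (Ideal.span ({f} : Set A)) (n + 1) F) (f ^ n) ∧ ∃ w : i ≫ Formal.modPowTrans (Ideal.span ({f} : Set A)) n F = 0, (ShortComplex.mk i (Formal.modPowTrans (Ideal.span ({f} : Set A)) n F) w).ShortExact := by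
  have hab_eq : Formal.smulMod A F (f ^ 1) ≫ Formal.smulMod A F (f ^ n) = Formal.smulMod A F (f ^ (n + 1)) := by
    rw [← smulMod_mul, ← pow_add, add_comm]
  have hb : Mono (Formal.smulMod A F (f ^ n)) := mono_pow F f hF n
  have hz : Formal.smulMod A F (f ^ 1) ≫
      (Formal.smulMod A F (f ^ n) ≫ Formal.modPowπ (Ideal.span ({f} : Set A)) (n + 1) F) = 0 := by
    rw [← Category.assoc, hab_eq, w_k]
  obtain ⟨i, hi⟩ : ∃ i : Formal.modPow (Ideal.span ({f} : Set A)) 1 F ⟶
      Formal.modPow (Ideal.span ({f} : Set A)) (n + 1) F,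
      Formal.modPowπ (Ideal.span ({f} : Set A)) 1 F ≫ i =
        Formal.smulMod A F (f ^ n) ≫ Formal.modPowπ (Ideal.span ({f} : Set A)) (n + 1) F :=
    ⟨cokernel.desc _ _ (family_comp_zero f 1 F _ hz), cokernel.π_desc _ _ _⟩
  obtain ⟨h1, w, h2⟩ := abstract_key (Formal.smulMod A F (f ^ 1)) (Formal.smulMod A F (f ^ n))
    (Formal.smulMod A F (f ^ (n + 1))) hab_eq
    (Formal.modPowπ (Ideal.span ({f} : Set A)) 1 F)
    (Formal.modPowπ (Ideal.span ({f} : Set A)) (n + 1) F)
    (Formal.modPowπ (Ideal.span ({f} : Set A)) n F)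
    (w_k f 1 F) (w_k f (n + 1) F) (w_k f n F) (exact_k f 1 F) (exact_k f (n + 1) F) (exact_k f n F)
    i (Formal.modPowTrans (Ideal.span ({f} : Set A)) n F) hi (Formal.modPowπ_trans _ n F)
  refine ⟨i, h1, ?_, w, h2⟩
  rw [← cancel_epi (Formal.modPowπ (Ideal.span ({f} : Set A)) (n + 1) F), ← Category.assoc,
    Formal2.modPowπ_modPowLE, hi]
  exact (smulMod_comm _ _).symm

end Groth.Agent.S8821
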