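import Groth.Statements.S8826
import Groth.Agent.H45.FPA_IND
import Groth.Agent.H66.FPA_UNR
import Groth.Agent.H96.FPA_CPL
import Groth.Agent.H29.FPA_P1
import Groth.Agent.H87.ComplFlat
import Groth.Agent.H3.PH15

set_option autoImplicit false
universe u
open AdicRing

namespace Groth.Agent.S8826

open MvPolynomial Groth.Agent.H15.FPA

/-- A finitely generated ideal is the span of the range of a finite family. -/
theorem exists_fin_span {P : Type u} [CommRing P] (K : Ideal P) (hK : K.FG) :
    ∃ (m : ℕ) (f : Fin m → P), K = Ideal.span (Set.range f) := by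
  obtain ⟨m, f, hf⟩ := Submodule.fg_iff_exists_fin_generating_family.mp hK
  exact ⟨m, f, hf.symm⟩

/-- The core: with the pair `(R, J)` Henselian Noetherian, `J = span (range t)`, a ring map
`Θ : A[x] → AdicCompletion J R` killing `f` comes from `R`. -/
theorem core {A : Type u} [CommRing A] {R : Type u} [CommRing R] [IsNoetherianRing R] [Algebra A R]
    {r : ℕ} (t : Fin r → A)
    [HenselianRing R (Ideal.span (Set.range fun i => algebraMap A R (t i)))]
    {n m : ℕ} (f : Fin m → MvPolynomial (Fin n) A) (hf : ∀ i, UnramAt f (t i))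
    (Θ : MvPolynomial (Fin n) A →+*
      AdicCompletion (Ideal.span (Set.range fun i => algebraMap A R (t i))) R)
    (hΘC : ∀ a : A, Θ (C a) = algebraMap R _ (algebraMap A R a))
    (hΘf : ∀ j, Θ (f j) = 0) :
    ∃ a : Fin n → R, (∀ p : MvPolynomial (Fin n) A,
        algebraMap R (AdicCompletion (Ideal.span (Set.range fun i => algebraMap A R (t i))) R)
          (aeval a p) = Θ p) := by
  classical
  obtain ⟨J, hJ⟩ : ∃ J : Ideal R, J = Ideal.span (Set.range fun i => algebraMap A R (t i)) :=
    ⟨_, rfl⟩
  have hH : HenselianRing R J := by rw [hJ]; infer_instance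
  obtain ⟨hN, hjac, hpure, happ, -⟩ := Groth.Agent.H96.FPA_CPL.completion_facts J hH.jac
  subst hJ
  haveI := hN
  have hf' : ∀ i, UnramAt (fun j => MvPolynomial.map (algebraMap A R) (f j))
      (algebraMap A R (t i)) := fun i => Groth.Agent.H45.FPA_UBC.unramAt_map (algebraMap A R) f (t i) (hf i)
  set S := AdicCompletion (Ideal.span (Set.range fun i => algebraMap A R (t i))) R with hS
  set ρ : R →+* S := algebraMap R S with hρ
  have hΘ : Θ = eval₂Hom (ρ.comp (algebraMap A R)) (fun k => Θ (X k)) := by
    apply MvPolynomial.ringHom_ext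
    · intro a
      rw [hΘC, eval₂Hom_C]; rfl
    · intro k
      rw [eval₂Hom_X']
  have hâ : ∀ j, eval₂ ρ (fun k => Θ (X k)) (MvPolynomial.map (algebraMap A R) (f j)) = 0 := by
    intro j
    rw [MvPolynomial.eval₂_map]
    have := hΘf j
    rw [hΘ] at this
    exact this
  obtain ⟨a, ha⟩ := Groth.Agent.H45.FPA_IND.formal_point_algebraic_of
    (fun {R S} _ _ _ ρ t _ ht hpure {n m} f hf â hâ happ =>
      Groth.Agent.H29.FPA_P1.principal_step ρ t ht hpure f hf â hâ happ) r ρ (fun i => algebraMap A R (t i)) hjac hpure happ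
    (fun j => MvPolynomial.map (algebraMap A R) (f j)) hf' (fun k => Θ (X k)) hâ
  refine ⟨a, fun p => ?_⟩
  have h2 : ρ.comp (aeval a : MvPolynomial (Fin n) A →ₐ[A] R).toRingHom = Θ := by
    apply MvPolynomial.ringHom_ext
    · intro a'
      rw [hΘC]
      simp
    · intro k
      simp [ha k]
  exact RingHom.congr_fun h2 p

/-- Let A be a Noetherian ring and I an ideal. Let B be an A-algebra of finite type such that Spec B →
Spec A is etale over the complement of V(I) (B_a etale over A for every a ∈ I), let C be a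
Noetherian A-algebra with a henselization Cʰ of the pair (C, IC), and let φ be an A-algebra map from
the IB-adic completion of B to the IC-adic completion of C. Then there is exactly one A-algebra map
ψ : B → Cʰ which induces φ on completions, in the sense that for every n and every b ∈ B there is c
∈ C with ψ(b) − c ∈ I^n Cʰ and with the n-th truncation of φ(b) in C/I^n C equal to the class of c
(recall C/I^n C = Cʰ/I^n Cʰ). (The second assertion, that such maps factor through an etale
neighbourhood, is not stated.) -/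
theorem result (A : Type u) [CommRing A] [IsNoetherianRing A] (I : Ideal A) (B : Type u) [CommRing B] [Algebra A B] [Algebra.FiniteType A B] (hB : ∀ a ∈ I, Algebra.Etale A (Localization.Away (algebraMap A B a))) (C : Type u) [CommRing C] [Algebra A C] [IsNoetherianRing C] (Ch : Type u) [CommRing Ch] [Algebra C Ch] [Algebra A Ch] [IsScalarTower A C Ch] (hCh : Hens2.IsPairHenselization C (I.map (algebraMap A C)) Ch) (φ : (AdicCompletion (I.map (algebraMap A B)) B) →ₐ[A] (AdicCompletion (I.map (algebraMap A C)) C)) : ∃! ψ : B →ₐ[A] Ch, ∀ (n : ℕ) (b : B), ∃ c : C, ψ b - algebraMap C Ch c ∈ (I.map (algebraMap A Ch)) ^ n ∧ AdicCompletion.eval (I.map (algebraMap A C)) C n (φ (AdicCompletion.of (I.map (algebraMap A B)) B b)) = Submodule.Quotient.mk c := by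
  classical
  -- generators of `I` and a presentation of `B`
  obtain ⟨r, t, hI⟩ := exists_fin_span I (IsNoetherian.noetherian I)
  obtain ⟨n, π, hπ⟩ :=
    Algebra.FiniteType.iff_quotient_mvPolynomial''.mp (inferInstance : Algebra.FiniteType A B)
  obtain ⟨m, f, hker⟩ := exists_fin_span (RingHom.ker π.toRingHom) (IsNoetherian.noetherian _)
  have hf : ∀ i, UnramAt f (t i) := by
    intro i
    haveI := hB (t i) (by rw [hI]; exact Ideal.subset_span ⟨i, rfl⟩)
    exact Groth.Agent.H66.FPA_UNR.unramAt_of_formallyUnramified_away π hπ f hker (t i)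
  -- the Henselian Noetherian pair
  haveI hChN : IsNoetherianRing Ch :=
    Groth.Agent.H3.PH.isNoetherianRing_of_isPairHenselization (I.map (algebraMap A C)) Ch hCh
  have hJeq' : I.map (algebraMap A Ch) =
      Ideal.span (Set.range fun i => algebraMap A Ch (t i)) := by
    rw [hI, Ideal.map_span, ← Set.range_comp]; rfl
  have hJeq : (I.map (algebraMap A C)).map (algebraMap C Ch) =
      Ideal.span (Set.range fun i => algebraMap A Ch (t i)) := by
    rw [Ideal.map_map, ← IsScalarTower.algebraMap_eq, hJeq']
  haveI hHens : HenselianRing Ch (Ideal.span (Set.range fun i => algebraMap A Ch (t i))) := by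
    rw [← hJeq]; exact hCh.1
  obtain ⟨-, -, hpure, -, heval⟩ :=
    Groth.Agent.H96.FPA_CPL.completion_facts
      (Ideal.span (Set.range fun i => algebraMap A Ch (t i))) hHens.jac
  set J := Ideal.span (Set.range fun i => algebraMap A Ch (t i)) with hJ
  have hρinj : Function.Injective (algebraMap Ch (AdicCompletion J Ch)) := by
    rw [injective_iff_map_eq_zero]
    intro x hx
    have := hpure ⊥ x (by rw [hx]; exact Ideal.zero_mem _)
    simpa using this
  -- the comparison map of completions
  let κ : AdicCompletion (I.map (algebraMap A C)) C →+* AdicCompletion J Ch :=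
    FSch.complMap (I.map (algebraMap A C)) J (algebraMap C Ch) hJeq.le
  let Θ : MvPolynomial (Fin n) A →+* AdicCompletion J Ch :=
    κ.comp (φ.toRingHom.comp ((algebraMap B (AdicCompletion (I.map (algebraMap A B)) B)).comp
      π.toRingHom))
  have hΘ : ∀ p, Θ p = κ (φ (AdicCompletion.of (I.map (algebraMap A B)) B (π p))) := fun _ => rfl
  have hΘC : ∀ a : A, Θ (MvPolynomial.C a) = algebraMap Ch (AdicCompletion J Ch) (algebraMap A Ch a) := by
    intro a
    rw [hΘ]
    have h1 : π (MvPolynomial.C a) = algebraMap A B a := by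
      rw [← MvPolynomial.algebraMap_eq]; exact π.commutes a
    have h2 : AdicCompletion.of (I.map (algebraMap A B)) B (algebraMap A B a) =
        algebraMap A (AdicCompletion (I.map (algebraMap A B)) B) a := rfl
    rw [h1, h2, φ.commutes]
    have h3 : algebraMap A (AdicCompletion (I.map (algebraMap A C)) C) a =
        algebraMap C (AdicCompletion (I.map (algebraMap A C)) C) (algebraMap A C a) := rfl
    rw [h3]
    show FSch.complMap (I.map (algebraMap A C)) J (algebraMap C Ch) hJeq.le _ = _
    rw [Groth.Agent.H87.ComplFlat.complMap_algebraMap, ← IsScalarTower.algebraMap_apply A C Ch a]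
  have hΘf : ∀ j, Θ (f j) = 0 := by
    intro j
    have h1 : π (f j) = 0 := by
      have : f j ∈ RingHom.ker π.toRingHom := by rw [hker]; exact Ideal.subset_span ⟨j, rfl⟩
      exact this
    rw [hΘ, h1, map_zero, map_zero, map_zero]
  obtain ⟨a, ha⟩ := core t f hf Θ hΘC hΘf
  -- the algebra map `ψ`
  have hkerle : RingHom.ker π.toRingHom ≤
      RingHom.ker (aeval a : MvPolynomial (Fin n) A →ₐ[A] Ch).toRingHom := by
    intro p hp
    have h1 : π p = 0 := hp
    have h2 : algebraMap Ch (AdicCompletion J Ch) (aeval a p) = 0 :=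
      (ha p).trans (by rw [hΘ, h1, map_zero, map_zero, map_zero])
    exact hρinj (h2.trans (map_zero _).symm)
  let ψ : B →ₐ[A] Ch := AlgHom.liftOfSurjective π hπ (aeval a) hkerle
  have hψπ : ∀ p, ψ (π p) = aeval a p := fun p =>
    AlgHom.liftOfSurjective_apply π hπ (aeval a) hkerle p
  have hρψ : ∀ b : B, algebraMap Ch (AdicCompletion J Ch) (ψ b) =
      κ (φ (AdicCompletion.of (I.map (algebraMap A B)) B b)) := by
    intro b
    obtain ⟨p, rfl⟩ := hπ b
    rw [hψπ]
    exact (ha p).trans (hΘ p)
  -- membership criterion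
  have hmem : ∀ (n' : ℕ) (b : B) (c : C) (ψ' : B →ₐ[A] Ch),
      (∀ b, algebraMap Ch (AdicCompletion J Ch) (ψ' b) =
        κ (φ (AdicCompletion.of (I.map (algebraMap A B)) B b))) →
      AdicCompletion.evalₐ (I.map (algebraMap A C)) n' (φ (AdicCompletion.of (I.map (algebraMap A B)) B b)) =
        Ideal.Quotient.mk ((I.map (algebraMap A C)) ^ n') c →
      ψ' b - algebraMap C Ch c ∈ J ^ n' := by
    intro n' b c ψ' hψ' hc
    apply heval
    rw [map_sub, map_sub, hψ']
    show AdicCompletion.evalₐ J n' (FSch.complMap (I.map (algebraMap A C)) J (algebraMap C Ch) hJeq.le _) - _ = 0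
    rw [Groth.Agent.H87.ComplFlat.evalₐ_complMap, hc, Ideal.quotientMap_mk, AlgHom.commutes,
      Ideal.Quotient.algebraMap_eq, sub_self]
  have hsmul : ∀ n' : ℕ, ((I.map (algebraMap A C)) ^ n' • ⊤ : Ideal C) = (I.map (algebraMap A C)) ^ n' := by
    intro n'; ext x; simp
  refine ⟨ψ, ?_, ?_⟩
  · intro n' b
    obtain ⟨c, hc⟩ := Ideal.Quotient.mk_surjective
      (AdicCompletion.evalₐ (I.map (algebraMap A C)) n' (φ (AdicCompletion.of (I.map (algebraMap A B)) B b)))
    refine ⟨c, ?_, ?_⟩
    · rw [hJeq']
      exact hmem n' b c ψ hρψ hc.symm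
    · rw [← AdicCompletion.factor_evalₐ_eq_eval (I.map (algebraMap A C)) _ (hsmul n').ge, ← hc]
      rfl
  · intro ψ' hψ'
    apply AlgHom.ext
    intro b
    -- `ψ' b - ψ b` lies in every power of `J`
    have hall : ∀ n' : ℕ, ψ' b - ψ b ∈ J ^ n' := by
      intro n'
      obtain ⟨c', hc'1, hc'2⟩ := hψ' n' b
      obtain ⟨c, hc⟩ := Ideal.Quotient.mk_surjective
        (AdicCompletion.evalₐ (I.map (algebraMap A C)) n' (φ (AdicCompletion.of (I.map (algebraMap A B)) B b)))
      have h1 : ψ b - algebraMap C Ch c ∈ J ^ n' := hmem n' b c ψ hρψ hc.symm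
      have h2 : AdicCompletion.evalₐ (I.map (algebraMap A C)) n' (φ (AdicCompletion.of (I.map (algebraMap A B)) B b)) =
          Ideal.Quotient.mk ((I.map (algebraMap A C)) ^ n') c' := by
        rw [← AdicCompletion.factor_eval_eq_evalₐ (I.map (algebraMap A C)) _ (hsmul n').le, hc'2]
        rfl
      have h3 : c - c' ∈ (I.map (algebraMap A C)) ^ n' := by
        rw [← Ideal.Quotient.eq, hc, h2]
      have h4 : algebraMap C Ch (c - c') ∈ J ^ n' := by
        have := Ideal.mem_map_of_mem (algebraMap C Ch) h3
        rw [Ideal.map_pow, hJeq] at this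
        exact this
      rw [hJeq'] at hc'1
      have : ψ' b - ψ b = (ψ' b - algebraMap C Ch c') - (ψ b - algebraMap C Ch c) -
          algebraMap C Ch (c - c') := by
        rw [map_sub]; ring
      rw [this]
      exact (J ^ n').sub_mem ((J ^ n').sub_mem hc'1 h1) h4
    have hzero : ψ' b - ψ b = 0 := by
      apply hρinj
      rw [map_zero]
      apply AdicCompletion.ext_evalₐ
      intro n'
      rw [map_zero, AlgHom.commutes, Ideal.Quotient.algebraMap_eq, Ideal.Quotient.eq_zero_iff_mem]
      exact hall n'
    exact sub_eq_zero.mp hzero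

end Groth.Agent.S8826
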