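import Groth.Statements.S8829
import Groth.Agent.H44.RigClosed

set_option autoImplicit false
universe u
open AdicRing

namespace Groth.Agent.S8829

/-- In the case of adic Noetherian topological rings: let A be a Noetherian ring complete for the adic
topology of an ideal I, and B a Noetherian A-algebra complete for the IB-adic topology with B/IB of
finite type over A (so A → B is an adic morphism, topologically of finite type). Let q be a
rig-closed prime of B (IB ⊄ q and q maximal among the primes not containing IB) and p its inverse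
image in A. Three conditions turn out to be equivalent: (1) whenever m is a maximal ideal of B with
m ⊇ q, the quotient B/m is finite as an A-module (that is, residue fields of B/q are finite over A);
(2) p is rig-closed in A (I ⊄ p and p maximal among the primes not containing I); (3) B/q is a
finite A-module, i.e. A/p ⊆ B/q is a finite extension of rings. -/
theorem result (A : Type u) [CommRing A] [IsNoetherianRing A] (I : Ideal A) [IsAdicComplete I A] (B : Type u) [CommRing B] [Algebra A B] [IsNoetherianRing B] [IsAdicComplete (I.map (algebraMap A B)) B] (hft : Algebra.FiniteType A (B ⧸ (I.map (algebraMap A B)))) (q : PrimeSpectrum B) (hq : (¬ (I.map (algebraMap A B)) ≤ q.asIdeal ∧ ∀ y : PrimeSpectrum B, q ≤ y → ¬ (I.map (algebraMap A B)) ≤ y.asIdeal → y = q)) : List.TFAE [∀ m : Ideal B, m.IsMaximal → q.asIdeal ≤ m → Module.Finite A (B ⧸ m), (¬ I ≤ (PrimeSpectrum.comap (algebraMap A B) q).asIdeal ∧ ∀ y : PrimeSpectrum A, (PrimeSpectrum.comap (algebraMap A B) q) ≤ y → ¬ I ≤ y.asIdeal → y = (PrimeSpectrum.comap (algebraMap A B) q)), Module.Finite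 A (B ⧸ q.asIdeal)] := by
  haveI := hft
  tfae_have 3 → 1 := by
    intro h3 m hm hqm
    haveI := h3
    exact Module.Finite.of_surjective (Ideal.Quotient.factorₐ A hqm).toLinearMap (fun y => by
      obtain ⟨b, rfl⟩ := Ideal.Quotient.mk_surjective y
      exact ⟨Ideal.Quotient.mk _ b, rfl⟩)
  tfae_have 1 → 3 := fun h1 => Groth.Agent.H44.finite_quotient_of_residue_finite A I B q hq h1
  tfae_have 3 → 2 := by
    intro h3
    haveI := h3
    exact Groth.Agent.H44.rigClosed_comap_of_finite A I B q hq
  tfae_have 2 → 1 := by
    intro h2 m hm hqm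
    have hmp := hm.isPrime
    have hIBm : I.map (algebraMap A B) ≤ m :=
      (IsAdicComplete.le_jacobson_bot _).trans (sInf_le ⟨bot_le, hm⟩)
    haveI : Algebra.FiniteType A (B ⧸ m) :=
      Algebra.FiniteType.of_surjective (Ideal.Quotient.factorₐ A hIBm) (fun y => by
        obtain ⟨b, rfl⟩ := Ideal.Quotient.mk_surjective y
        exact ⟨Ideal.Quotient.mk _ b, rfl⟩)
    obtain ⟨p, hp⟩ : ∃ p : PrimeSpectrum A, p = PrimeSpectrum.comap (algebraMap A B) q := ⟨_, rfl⟩
    rw [← hp] at h2
    have h5 := ((Groth.Agent.S8804.result A I p).out 0 1).mp h2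
    have hpp := p.isPrime
    have hmaxA := ((Groth.Agent.S8804.dim_eq_one_iff (A ⧸ p.asIdeal)).mp h5.1).2
    obtain ⟨n, hn⟩ : ∃ n : Ideal A, n = m.comap (algebraMap A B) := ⟨_, rfl⟩
    have hnprime : n.IsPrime := by
      rw [hn]
      exact Ideal.comap_isPrime _ _
    have hpn : p.asIdeal ≤ n := by
      rw [hn, hp]
      exact Ideal.comap_mono hqm
    have hIn : I ≤ n := by
      rw [hn]
      exact Ideal.map_le_iff_le_comap.mp hIBm
    have hn'prime : (n.map (Ideal.Quotient.mk p.asIdeal)).IsPrime :=
      Ideal.map_isPrime_of_surjective Ideal.Quotient.mk_surjective (by rw [Ideal.mk_ker]; exact hpn)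
    have hcm : (n.map (Ideal.Quotient.mk p.asIdeal)).comap (Ideal.Quotient.mk p.asIdeal) = n := by
      rw [Ideal.comap_map_of_surjective _ Ideal.Quotient.mk_surjective, ← RingHom.ker_eq_comap_bot,
        Ideal.mk_ker]
      exact sup_eq_left.mpr hpn
    have hn'0 : n.map (Ideal.Quotient.mk p.asIdeal) ≠ ⊥ := by
      intro h0
      apply h5.2
      have hnp : n ≤ p.asIdeal := by
        rw [← hcm, h0, ← RingHom.ker_eq_comap_bot, Ideal.mk_ker]
      exact hIn.trans hnp
    have hn'max := hmaxA _ hn'0 hn'prime
    have hnmax : n.IsMaximal := by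
      have h := Ideal.comap_isMaximal_of_surjective (Ideal.Quotient.mk p.asIdeal)
        Ideal.Quotient.mk_surjective (K := n.map (Ideal.Quotient.mk p.asIdeal)) (H := hn'max)
      rwa [hcm] at h
    let _ := Ideal.Quotient.field n
    exact Groth.Agent.H44.finite_quotient_maximal_of_isJacobsonRing n m hn.le
  tfae_finish

end Groth.Agent.S8829
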