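import Groth.Statements.S8833
import Groth.Agent.H2.GradedMap

set_option autoImplicit false
universe u
open scoped BigOperators TensorProduct
open LocCoh

namespace Groth.Agent.S8833

/-- Let A be a Noetherian ring, f_1, …, f_r ∈ A and I = (f_1, …, f_r) with cd(A, I) = 1; let c ≥ 1 and
φ_j : I^c → A be A-linear maps with x = Σ_j f_j φ_j(x) for all x ∈ I^c. Let B be a Noetherian
A-algebra and N a finite B-module. Then there is c' ≥ c with the following property. Write φ_j again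
for the restrictions of the φ_j to I^{c'} and let Φ be a graded A-algebra homomorphism from ⊕_{n ≥
0} I^{nc'} to A[T_1, …, T_r] with Φ(g) = Σ_j φ_j(g) T_j for g ∈ I^{c'} (there is exactly one; it is
encoded by functions Φ_n : A → A[T_1, …, T_r] whose values on I^{nc'} are additive, A-homogeneous,
homogeneous of degree n and multiplicative across degrees, with Φ_0 the structure map and Φ_1 as
prescribed). Then for every n there is a unique B-linear map Ψ_n from the submodule I^{nc'}N of N to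
N[T_1, …, T_r] = B[T_1, …, T_r] ⊗_B N with Ψ_n(g x) = Φ_n(g) ⊗ x for g ∈ I^{nc'} and x ∈ N; that is,
the Ψ_n form the unique graded B-module map from ⊕_n I^{nc'}N to N[T_1, …, T_r] with this property.
Moreover substituting T_j ↦ f_j after Ψ_n gives back the inclusion of I^{nc'}N into N. -/
theorem result (A : Type u) [CommRing A] [IsNoetherianRing A] (r : ℕ) (f : Fin r → A) (I : Ideal A) (hI : I = Ideal.span (Set.range f)) (h1 : LocCoh.CdLE A I 1) (h0 : ¬ LocCoh.CdLE A I 0) (c : ℕ) (hc : 1 ≤ c) (φ : Fin r → (↥(I ^ c) →ₗ[A] A)) (hφ : ∀ x : ↥(I ^ c), (x : A) = ∑ j, f j * φ j x) (B : Type u) [CommRing B] [Algebra A B] [IsNoetherianRing B] (N : Type u) [AddCommGroup N] [Module B N] [Module.Finite B N] : ∃ c' : ℕ, ∃ hcc' : c ≤ c', ∀ Φ : ℕ → A → MvPolynomial (Fin r) A, ((∀ n : ℕ, ∀ g ∈ I ^ (n * c'), ∀ h ∈ I ^ (n * c'), Φ n (g + h) = Φ n g + Φ n h) ∧ (∀ (n : ℕ) (a : A), ∀ g ∈ I ^ (n * c'), Φ n (a * g) = a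 • Φ n g) ∧ (∀ n : ℕ, ∀ g ∈ I ^ (n * c'), (Φ n g).IsHomogeneous n) ∧ (∀ n m : ℕ, ∀ g ∈ I ^ (n * c'), ∀ h ∈ I ^ (m * c'), Φ (n + m) (g * h) = Φ n g * Φ m h) ∧ (∀ a : A, Φ 0 a = MvPolynomial.C a) ∧ (∀ (g : A) (hg : g ∈ I ^ c'), Φ 1 g = ∑ j, MvPolynomial.C (φ j ⟨g, Ideal.pow_le_pow_right hcc' hg⟩) * MvPolynomial.X j)) → ∀ n : ℕ, ∃ Ψ : ↥(Submodule.span B {y : N | ∃ g ∈ I ^ (n * c'), ∃ x : N, y = algebraMap A B g • x}) →ₗ[B] (MvPolynomial (Fin r) B ⊗[B] N), (∀ (g : A) (hg : g ∈ I ^ (n * c')) (x : N), Ψ ⟨algebraMap A B g • x, Submodule.subset_span ⟨g, hg, x, rfl⟩⟩ = MvPolynomial.map (algebraMap A B) (Φ n g) ⊗ₜ[B] x) ∧ (∀ y : ↥(Submodule.span B {y : N | ∃ g ∈ I ^ (n * c'), ∃ x : N, y = algebraMap A B g • x}), TensorProduct.lift ((LinearMap.lsmul B N).comp (MvPolynomial.aeval (fun j ↦ algebraMap A B (f j))).toLinearMap) (Ψ y) = (y : N)) ∧ (∀ Ψ' : ↥(Submodule.span B {y : N | ∃ g ∈ I ^ (n * c'), ∃ x : N, y = algebraMap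 A B g • x}) →ₗ[B] (MvPolynomial (Fin r) B ⊗[B] N), (∀ (g : A) (hg : g ∈ I ^ (n * c')) (x : N), Ψ' ⟨algebraMap A B g • x, Submodule.subset_span ⟨g, hg, x, rfl⟩⟩ = MvPolynomial.map (algebraMap A B) (Φ n g) ⊗ₜ[B] x) → Ψ' = Ψ) := by
  obtain ⟨k₀, hk₀⟩ := Groth.Agent.H2.GradedMap.exists_AR
    (I.map (algebraMap A (MvPolynomial (Fin r) B))) (MvPolynomial (Fin r) B ⊗[B] N)
  refine ⟨c + k₀, Nat.le_add_right c k₀, ?_⟩
  rintro Φ ⟨hadd, hsmul, hhom, hmul, hzero, hone⟩ n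
  -- the restricted maps
  let φ' : Fin r → (↥(I ^ (c + k₀)) →ₗ[A] A) := fun j =>
    (φ j).comp (Submodule.inclusion (Ideal.pow_le_pow_right (Nat.le_add_right c k₀)))
  have hφ' : ∀ x : ↥(I ^ (c + k₀)), (x : A) = ∑ j, f j * φ' j x := fun x =>
    hφ ⟨x.1, Ideal.pow_le_pow_right (Nat.le_add_right c k₀) x.2⟩
  have hΦeq : ∀ n : ℕ, ∀ g ∈ I ^ (n * (c + k₀)), Φ n g = Groth.Agent.S8819.Φ I φ' n g :=
    Groth.Agent.S8819.Φ_unique I φ' Φ hadd hmul hzero (fun g hg => hone g hg)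
  -- the bound
  have H : ∀ (j : Fin r) (e : ℕ) (g : A), g ∈ I ^ (e + (c + k₀)) →
      Groth.Agent.S8819.ψ I φ' j g ∈ I ^ (e + k₀) := by
    intro j e g hg
    have hg' : g ∈ I ^ (c + k₀) := Ideal.pow_le_pow_right (Nat.le_add_left _ _) hg
    have hg'' : g ∈ I ^ ((e + k₀) + c) := by
      have : e + (c + k₀) = (e + k₀) + c := by ring
      rwa [this] at hg
    have h1 := Groth.Agent.H2.GradedMap.ψ_mem' I φ j (e + k₀) hg''
    rw [Groth.Agent.S8819.ψ_of_mem I φ j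
      (Ideal.pow_le_pow_right (Nat.le_add_right c k₀) hg')] at h1
    rw [Groth.Agent.S8819.ψ_of_mem I φ' j hg']
    exact h1
  have hcomp : (MvPolynomial.map (algebraMap A B)).comp
      (MvPolynomial.C : A →+* MvPolynomial (Fin r) A) =
      algebraMap A (MvPolynomial (Fin r) B) := by
    refine RingHom.ext fun a => ?_
    rw [RingHom.comp_apply, MvPolynomial.map_C, MvPolynomial.algebraMap_apply]
  have hval : ∀ g ∈ I ^ (n * (c + k₀)),
      MvPolynomial.map (algebraMap A B) (Groth.Agent.S8819.Φ I φ' n g) ∈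
        (I ^ (n * k₀)).map (algebraMap A (MvPolynomial (Fin r) B)) := by
    intro g hg
    have h1 := Groth.Agent.H2.GradedMap.Φ_mem_map I φ' k₀ H n 0 g (by rwa [Nat.add_zero])
    rw [Nat.zero_add] at h1
    have h2 := Ideal.mem_map_of_mem (MvPolynomial.map (algebraMap A B)) h1
    rwa [Ideal.map_map, hcomp] at h2
  have hker : ∀ t, Groth.Agent.H2.GradedMap.π I (n * (c + k₀)) B N t = 0 →
      Groth.Agent.H2.GradedMap.Θ I (n * (c + k₀)) B N (Groth.Agent.S8819.Φ I φ' n) t = 0 := by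
    refine Groth.Agent.H2.GradedMap.Θ_eq_zero I _ B N _
      (fun a g hg => Groth.Agent.S8819.Φ_smul I φ' n a g hg) ?_
    rcases Nat.eq_zero_or_pos n with rfl | hn
    · left
      rw [Nat.zero_mul, pow_zero, Ideal.one_eq_top]
      trivial
    · right
      exact ⟨n * k₀, hval, hk₀ (n * k₀) (Nat.le_mul_of_pos_left k₀ hn)⟩
  refine ⟨Groth.Agent.H2.GradedMap.Ψ I (n * (c + k₀)) B N (Groth.Agent.S8819.Φ I φ' n) hker,
    ?_, ?_, ?_⟩
  · intro g hg x
    rw [hΦeq n g hg]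
    exact Groth.Agent.H2.GradedMap.Ψ_gen I _ B N _ hker g hg x
  · intro y
    exact Groth.Agent.H2.GradedMap.Ψ_eval f I _ B N _ hker
      (Groth.Agent.S8819.Φ_aeval f I φ' hφ' n) y
  · intro Ψ' hΨ'
    refine Groth.Agent.H2.GradedMap.Ψ_unique I _ B N _ hker Ψ' (fun g hg x => ?_)
    exact (hΨ' g hg x).trans (by rw [hΦeq n g hg])

end Groth.Agent.S8833
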