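import Groth.Statements.S8834
import Mathlib.RingTheory.Finiteness.Ideal
import Mathlib.RingTheory.Adjoin.Basic
import Mathlib.Algebra.MvPolynomial.Rename

set_option autoImplicit false
universe u
open AdicRing

namespace Groth.Agent.S8834

/-- Key algebraic lemma: a subalgebra `S` which surjects onto `B ⧸ K` and contains generators
of `K` is dense for the `K`-adic topology. -/
theorem dense_of_subalgebra {A B : Type*} [CommRing A] [CommRing B] [Algebra A B]
    (S : Subalgebra A B) (K : Ideal B) (G : Set B) (hG : Ideal.span G = K) (hGS : G ⊆ S)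
    (h1 : ∀ y : B, ∃ a ∈ S, y - a ∈ K) :
    ∀ (k : ℕ) (y : B), ∃ a ∈ S, y - a ∈ K ^ k := by
  -- Q k : every element of K^k is in S + K^(k+1)
  have Q : ∀ k : ℕ, ∀ z ∈ K ^ k, ∃ a ∈ S, z - a ∈ K ^ (k + 1) := by
    intro k
    induction k with
    | zero =>
      intro z _
      obtain ⟨a, ha, hza⟩ := h1 z
      exact ⟨a, ha, by simpa using hza⟩
    | succ k ih =>
      intro z hz
      rw [pow_succ'] at hz
      -- z ∈ K * K^k
      have key : ∀ x ∈ K, ∀ w ∈ K ^ k, ∃ a ∈ S, x * w - a ∈ K ^ (k + 1 + 1) := by
        intro x hx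
        rw [← hG] at hx
        induction hx using Submodule.span_induction with
        | mem c hc =>
          intro w hw
          obtain ⟨a, ha, hwa⟩ := ih w hw
          refine ⟨c * a, S.mul_mem (hGS hc) ha, ?_⟩
          have : c * w - c * a = c * (w - a) := by ring
          rw [this, pow_succ' K (k + 1)]
          exact Ideal.mul_mem_mul (hG ▸ Ideal.subset_span hc) hwa
        | zero =>
          intro w _
          exact ⟨0, S.zero_mem, by simp⟩
        | add x₁ x₂ _ _ h₁ h₂ =>
          intro w hw
          obtain ⟨a₁, ha₁, e₁⟩ := h₁ w hw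
          obtain ⟨a₂, ha₂, e₂⟩ := h₂ w hw
          refine ⟨a₁ + a₂, S.add_mem ha₁ ha₂, ?_⟩
          have : (x₁ + x₂) * w - (a₁ + a₂) = (x₁ * w - a₁) + (x₂ * w - a₂) := by ring
          rw [this]
          exact Ideal.add_mem _ e₁ e₂
        | smul b x _ h =>
          intro w hw
          obtain ⟨a, ha, e⟩ := h (b * w) (Ideal.mul_mem_left _ b hw)
          refine ⟨a, ha, ?_⟩
          have : b • x * w - a = x * (b * w) - a := by rw [smul_eq_mul]; ring
          rw [this]
          exact e
      refine Submodule.mul_induction_on hz ?_ ?_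
      · intro x hx w hw
        exact key x hx w hw
      · intro z₁ z₂ h₁ h₂
        obtain ⟨a₁, ha₁, e₁⟩ := h₁
        obtain ⟨a₂, ha₂, e₂⟩ := h₂
        refine ⟨a₁ + a₂, S.add_mem ha₁ ha₂, ?_⟩
        have : z₁ + z₂ - (a₁ + a₂) = (z₁ - a₁) + (z₂ - a₂) := by ring
        rw [this]
        exact Ideal.add_mem _ e₁ e₂
  intro k
  induction k with
  | zero =>
    intro y
    exact ⟨0, S.zero_mem, by simp⟩
  | succ k ih =>
    intro y
    obtain ⟨a, ha, hya⟩ := ih y
    obtain ⟨a', ha', e⟩ := Q k (y - a) hya
    refine ⟨a + a', S.add_mem ha ha', ?_⟩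
    have : y - (a + a') = y - a - a' := by ring
    rw [this]
    exact e

/-- Let A be a Noetherian ring complete for the adic topology of an ideal I and B a Noetherian ring
complete for the adic topology of an ideal J, with an algebra map A → B sending I into the radical
of J (a continuous homomorphism of adic Noetherian topological rings; the radicals of I and J are
the ideals of topologically nilpotent elements). Assume B/√J is of finite type over A, equivalently
over A/√I. Then B is topologically of finite type over A: there are b_1, …, b_s ∈ B such that the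
A-algebra map A[x_1, …, x_s] → B with x_i ↦ b_i has dense image for the J-adic topology, that is,
for every y ∈ B and every n there is a polynomial whose value at b differs from y by an element of
J^n. -/
theorem result (A : Type u) [CommRing A] [IsNoetherianRing A] (I : Ideal A) [IsAdicComplete I A] (B : Type u) [CommRing B] [Algebra A B] [IsNoetherianRing B] (J : Ideal B) [IsAdicComplete J B] (hIJ : I.map (algebraMap A B) ≤ J.radical) (hft : Algebra.FiniteType A (B ⧸ J.radical)) : ∃ s : ℕ, ∃ b : Fin s → B, ∀ (y : B) (n : ℕ), ∃ p : MvPolynomial (Fin s) A, y - MvPolynomial.aeval b p ∈ J ^ n := by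
  obtain ⟨n, f, hf⟩ := Algebra.FiniteType.iff_quotient_mvPolynomial''.mp hft
  have hK : J.radical.FG := (isNoetherianRing_iff_ideal_fg B).mp inferInstance _
  obtain ⟨m, c, hc⟩ := Submodule.fg_iff_exists_fin_generating_family.mp hK
  obtain ⟨N, hN⟩ := Ideal.exists_radical_pow_le_of_fg J hK
  choose b₁ hb₁ using fun i : Fin n => Ideal.Quotient.mk_surjective (f (MvPolynomial.X i))
  refine ⟨n + m, Fin.append b₁ c, ?_⟩
  have hS1 : ∀ y : B, ∃ a ∈ (MvPolynomial.aeval (R := A) (Fin.append b₁ c)).range,
      y - a ∈ J.radical := by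
    intro y
    obtain ⟨p, hp⟩ := hf (Ideal.Quotient.mk _ y)
    refine ⟨MvPolynomial.aeval (Fin.append b₁ c) (MvPolynomial.rename (Fin.castAdd m) p),
      ⟨_, rfl⟩, ?_⟩
    rw [← Ideal.Quotient.eq, ← hp, MvPolynomial.aeval_rename]
    have h2 : (Ideal.Quotient.mkₐ A J.radical).comp
        (MvPolynomial.aeval (Fin.append b₁ c ∘ Fin.castAdd m)) = f := by
      apply MvPolynomial.algHom_ext
      intro i
      simp [hb₁]
    exact (AlgHom.congr_fun h2 p).symm
  have hGS : Set.range c ⊆ (MvPolynomial.aeval (R := A) (Fin.append b₁ c)).range := by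
    rintro _ ⟨j, rfl⟩
    exact ⟨MvPolynomial.X (Fin.natAdd n j), by simp⟩
  intro y k
  obtain ⟨a, ⟨p, hp⟩, hya⟩ := dense_of_subalgebra _ J.radical (Set.range c) hc hGS hS1 (N * k) y
  refine ⟨p, ?_⟩
  have hp' : MvPolynomial.aeval (Fin.append b₁ c) p = a := hp
  rw [hp']
  have h3 : J.radical ^ (N * k) ≤ J ^ k := by
    rw [pow_mul]
    exact Ideal.pow_right_mono hN k
  exact h3 hya

end Groth.Agent.S8834
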