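import Groth.Statements.S8836
import Groth.Agent.S8804

set_option autoImplicit false
universe u
open AdicRing

namespace Groth.Agent.S8836

/-- Let A be a Noetherian ring complete for the adic topology of an ideal I, and B a Noetherian
A-algebra complete for the IB-adic topology, flat over A, with B/IB of finite type over A (a flat
adic morphism, topologically of finite type, of adic Noetherian topological rings). Let p be a prime
of A which is rig-closed (I ⊄ p and p maximal among the primes not containing I). The following are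
equivalent: (1) the maximal ideal of the local ring A/p lies in the image of Spec(B/√(IB)) →
Spec(A/√I), stated as: some prime Q of B containing IB lies over a maximal ideal of A containing p;
(2) there is a rig-closed prime q of B (IB ⊄ q, q maximal among the primes not containing IB) whose
inverse image in A is p. (The published statement adds that, when these hold, A/p ⊆ B/q is a finite
extension of rings and the residue field of the local ring B/q is finite over A/√I; this is not
restated here.) -/
theorem result (A : Type u) [CommRing A] [IsNoetherianRing A] (I : Ideal A) [IsAdicComplete I A] (B : Type u) [CommRing B] [Algebra A B] [IsNoetherianRing B] [IsAdicComplete (I.map (algebraMap A B)) B] (hft : Algebra.FiniteType A (B ⧸ (I.map (algebraMap A B)))) [Module.Flat A B] (p : PrimeSpectrum A) (hp : (¬ I ≤ p.asIdeal ∧ ∀ y : PrimeSpectrum A, p ≤ y → ¬ I ≤ y.asIdeal → y = p)) : (∃ Q : PrimeSpectrum B, (I.map (algebraMap A B)) ≤ Q.asIdeal ∧ p.asIdeal ≤ (PrimeSpectrum.comap (algebraMap A B) Q).asIdeal ∧ (PrimeSpectrum.comap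 (algebraMap A B) Q).asIdeal.IsMaximal) ↔ (∃ q : PrimeSpectrum B, (¬ (I.map (algebraMap A B)) ≤ q.asIdeal ∧ ∀ y : PrimeSpectrum B, q ≤ y → ¬ (I.map (algebraMap A B)) ≤ y.asIdeal → y = q) ∧ PrimeSpectrum.comap (algebraMap A B) q = p) := by
  have hpp := p.isPrime
  constructor
  · rintro ⟨Q, hIQ, hpQ, hQmax⟩
    have hQp := Q.isPrime
    have hIm : I ≤ Q.asIdeal.comap (algebraMap A B) := Ideal.map_le_iff_le_comap.mp hIQ
    have hlt : p.asIdeal < Q.asIdeal.under A := by
      refine lt_of_le_of_ne hpQ (fun h => hp.1 ?_)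
      rw [h]
      exact hIm
    obtain ⟨P, hPQ, hPprime, hPlies⟩ :=
      Algebra.HasGoingDown.exists_ideal_le_liesOver_of_lt (p := p.asIdeal) Q.asIdeal hlt
    have hPnot : ¬ I.map (algebraMap A B) ≤ P := fun h => hp.1 (by
      rw [hPlies.over]
      exact Ideal.map_le_iff_le_comap.mp h)
    obtain ⟨q, ⟨hqprime, hPq, hqnot⟩, hqmax⟩ :=
      set_has_maximal_iff_noetherian.mpr (inferInstance : IsNoetherian B B)
        {J : Ideal B | J.IsPrime ∧ P ≤ J ∧ ¬ I.map (algebraMap A B) ≤ J}
        ⟨P, hPprime, le_rfl, hPnot⟩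
    refine ⟨⟨q, hqprime⟩, ⟨hqnot, fun y hqy hy => ?_⟩, ?_⟩
    · have hqy' : q ≤ y.asIdeal := hqy
      have hy' : y.asIdeal ∈ {J : Ideal B | J.IsPrime ∧ P ≤ J ∧ ¬ I.map (algebraMap A B) ≤ J} :=
        ⟨y.isPrime, hPq.trans hqy', hy⟩
      have hnlt := hqmax y.asIdeal hy'
      apply PrimeSpectrum.ext
      exact (eq_of_le_of_not_lt hqy' hnlt).symm
    · apply hp.2
      · show p.asIdeal ≤ Ideal.comap (algebraMap A B) q
        rw [hPlies.over]
        exact Ideal.comap_mono hPq
      · intro h
        exact hqnot (Ideal.map_le_iff_le_comap.mpr h)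
  · rintro ⟨q, hq, hqp⟩
    have hqprime := q.isPrime
    obtain ⟨M, hM, hqM⟩ := Ideal.exists_le_maximal q.asIdeal hqprime.ne_top
    have hIM : I.map (algebraMap A B) ≤ M :=
      (IsAdicComplete.le_jacobson_bot _).trans (sInf_le ⟨bot_le, hM⟩)
    have hMp := hM.isPrime
    have hpm : p.asIdeal ≤ Ideal.comap (algebraMap A B) M := by
      rw [← hqp]
      exact Ideal.comap_mono hqM
    refine ⟨⟨M, hMp⟩, hIM, hpm, ?_⟩
    show (Ideal.comap (algebraMap A B) M).IsMaximal
    have hIm : I ≤ Ideal.comap (algebraMap A B) M := Ideal.map_le_iff_le_comap.mp hIM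
    have h01 : (¬ I ≤ p.asIdeal ∧ ∀ q' : PrimeSpectrum A, p ≤ q' → ¬ I ≤ q'.asIdeal → q' = p) ↔
        (ringKrullDim (A ⧸ p.asIdeal) = 1 ∧ ¬ I ≤ p.asIdeal) :=
      (Groth.Agent.S8804.result A I p).out 0 1
    have hdim : ringKrullDim (A ⧸ p.asIdeal) = 1 := (h01.mp hp).1
    have hmaxall := ((Groth.Agent.S8804.dim_eq_one_iff (A ⧸ p.asIdeal)).mp hdim).2
    have hmk : Function.Surjective (Ideal.Quotient.mk p.asIdeal) := Ideal.Quotient.mk_surjective
    have hker : RingHom.ker (Ideal.Quotient.mk p.asIdeal) ≤ Ideal.comap (algebraMap A B) M := by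
      rw [Ideal.mk_ker]
      exact hpm
    have hmprime : (Ideal.comap (algebraMap A B) M).IsPrime := Ideal.comap_isPrime _ _
    have hP' : ((Ideal.comap (algebraMap A B) M).map (Ideal.Quotient.mk p.asIdeal)).IsPrime :=
      Ideal.map_isPrime_of_surjective hmk hker
    have hcm : ((Ideal.comap (algebraMap A B) M).map (Ideal.Quotient.mk p.asIdeal)).comap
        (Ideal.Quotient.mk p.asIdeal) = Ideal.comap (algebraMap A B) M := by
      rw [Ideal.comap_map_of_surjective _ hmk, ← RingHom.ker_eq_comap_bot, Ideal.mk_ker]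
      exact sup_eq_left.mpr hpm
    have hne : (Ideal.comap (algebraMap A B) M).map (Ideal.Quotient.mk p.asIdeal) ≠ ⊥ := by
      intro hbot
      obtain ⟨x, hxI, hxp⟩ := SetLike.not_le_iff_exists.mp hp.1
      have hx : Ideal.Quotient.mk p.asIdeal x ∈
          (Ideal.comap (algebraMap A B) M).map (Ideal.Quotient.mk p.asIdeal) :=
        Ideal.mem_map_of_mem _ (hIm hxI)
      rw [hbot, Ideal.mem_bot, Ideal.Quotient.eq_zero_iff_mem] at hx
      exact hxp hx
    have hP'max := hmaxall _ hne hP'
    have := Ideal.comap_isMaximal_of_surjective (Ideal.Quotient.mk p.asIdeal) hmk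
      (K := (Ideal.comap (algebraMap A B) M).map (Ideal.Quotient.mk p.asIdeal))
    rwa [hcm] at this

end Groth.Agent.S8836
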