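import Groth.Statements.S8837
import Groth.Agent.S8804
import Mathlib.RingTheory.AdicCompletion.AsTensorProduct
import Mathlib.RingTheory.AdicCompletion.Exactness
import Mathlib.LinearAlgebra.TensorProduct.Quotient
import Mathlib.RingTheory.Localization.Ideal

set_option autoImplicit false
universe u
open AdicRing

namespace Groth.Agent.S8837

open TensorProduct

/-- Membership in `J • ⊤` of a quotient ring, as a module over the ring. -/
lemma mk_mem_smul_top_iff {R : Type*} [CommRing R] (P J : Ideal R) (x : R) :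
    Ideal.Quotient.mk P x ∈ (J • ⊤ : Submodule R (R ⧸ P)) ↔ x ∈ P ⊔ J := by
  constructor
  · intro h
    have hle : (J • ⊤ : Submodule R (R ⧸ P)) ≤ Submodule.map (Submodule.mkQ P) (P ⊔ J) := by
      rw [Submodule.smul_le]
      intro r hr n _
      obtain ⟨y, rfl⟩ := Ideal.Quotient.mk_surjective n
      refine ⟨r * y, Ideal.mem_sup_right (J.mul_mem_right y hr), ?_⟩
      show Submodule.mkQ P (r • y) = r • Submodule.mkQ P y
      exact map_smul _ _ _
    obtain ⟨y, hy, hyx⟩ := hle h
    have hxy : x - y ∈ P := by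
      rw [← Ideal.Quotient.eq]
      exact hyx.symm
    have hx : x = y + (x - y) := by ring
    rw [hx]
    exact (P ⊔ J).add_mem hy (Ideal.mem_sup_left hxy)
  · intro h
    obtain ⟨s, hs, t, ht, rfl⟩ := Submodule.mem_sup.mp h
    have h1 : Ideal.Quotient.mk P (s + t) = t • (Ideal.Quotient.mk P 1) := by
      rw [map_add, Ideal.Quotient.eq_zero_iff_mem.mpr hs, zero_add, Algebra.smul_def,
        Ideal.Quotient.algebraMap_eq, ← map_mul, mul_one]
    rw [h1]
    exact Submodule.smul_mem_smul ht Submodule.mem_top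

lemma exists_mul_sub_one_mem {A : Type*} [CommRing A] (p : Ideal A) (f : A)
    (hf : IsUnit (Ideal.Quotient.mk p f)) : ∃ g : A, f * g - 1 ∈ p := by
  obtain ⟨u, hu⟩ := hf
  obtain ⟨g, hg⟩ := Ideal.Quotient.mk_surjective (u⁻¹ : (A ⧸ p)ˣ).val
  refine ⟨g, ?_⟩
  rw [← Ideal.Quotient.eq, map_mul, map_one, hg, ← hu]
  exact u.mul_inv

lemma mem_of_algebraMap_mem_map {A : Type*} [CommRing A] (f g : A) (B : Type*) [CommRing B]
    [Algebra A B] [IsLocalization.Away f B] (K : Ideal A) (hfg : f * g - 1 ∈ K) (a : A)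
    (h : algebraMap A B a ∈ K.map (algebraMap A B)) : a ∈ K := by
  obtain ⟨m, hmem, hm⟩ :=
    (IsLocalization.algebraMap_mem_map_algebraMap_iff (Submonoid.powers f) B K a).mp h
  obtain ⟨k, rfl⟩ := (Submonoid.mem_powers_iff _ _).mp hmem
  have h1 : Ideal.Quotient.mk K f * Ideal.Quotient.mk K g = 1 := by
    rw [← map_mul, ← map_one (Ideal.Quotient.mk K), Ideal.Quotient.eq]
    exact hfg
  have hu : IsUnit (Ideal.Quotient.mk K f ^ k) := (IsUnit.of_mul_eq_one _ h1).pow k
  rw [← Ideal.Quotient.eq_zero_iff_mem] at hm ⊢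
  rw [map_mul, map_pow] at hm
  exact hu.mul_right_eq_zero.mp hm

lemma exists_algebraMap_eq {A : Type*} [CommRing A] (f g : A) (B : Type*) [CommRing B]
    [Algebra A B] [IsLocalization.Away f B] (p : Ideal A) (hfg : f * g - 1 ∈ p) (b : B) :
    ∃ a : A, Ideal.Quotient.mk (p.map (algebraMap A B)) (algebraMap A B a) =
      Ideal.Quotient.mk (p.map (algebraMap A B)) b := by
  obtain ⟨⟨a, ⟨m, hmem⟩⟩, h⟩ := IsLocalization.surj (Submonoid.powers f) b
  obtain ⟨k, rfl⟩ := (Submonoid.mem_powers_iff _ _).mp hmem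
  refine ⟨a * g ^ k, ?_⟩
  let φ : A →+* B ⧸ p.map (algebraMap A B) :=
    (Ideal.Quotient.mk (p.map (algebraMap A B))).comp (algebraMap A B)
  have hφ : ∀ x ∈ p, φ x = 0 := fun x hx =>
    Ideal.Quotient.eq_zero_iff_mem.mpr (Ideal.mem_map_of_mem _ hx)
  have h1 : φ f * φ g = 1 := by
    have h0 := hφ _ hfg
    rw [map_sub, map_mul, map_one, sub_eq_zero] at h0
    exact h0
  have h2 : Ideal.Quotient.mk (p.map (algebraMap A B)) b * φ f ^ k = φ a := by
    rw [← map_pow]
    show Ideal.Quotient.mk (p.map (algebraMap A B)) b *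
      Ideal.Quotient.mk (p.map (algebraMap A B)) (algebraMap A B (f ^ k)) =
      Ideal.Quotient.mk (p.map (algebraMap A B)) (algebraMap A B a)
    rw [← map_mul]
    exact congrArg _ h
  show φ (a * g ^ k) = _
  calc φ (a * g ^ k) = φ a * φ g ^ k := by rw [map_mul, map_pow]
    _ = Ideal.Quotient.mk (p.map (algebraMap A B)) b * (φ f * φ g) ^ k := by
        rw [← h2, mul_pow, mul_assoc]
    _ = Ideal.Quotient.mk (p.map (algebraMap A B)) b := by rw [h1, one_pow, mul_one]

theorem main (A : Type u) [CommRing A] [IsNoetherianRing A] (I : Ideal A) [IsAdicComplete I A]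
    (p : Ideal A) [p.IsPrime] (f : A) (hf : IsUnit (Ideal.Quotient.mk p f))
    (B : Type u) [CommRing B] [Algebra A B] [IsLocalization.Away f B] (J : Ideal B)
    (hJ : J = I.map (algebraMap A B)) :
    (p.map (algebraMap A (AdicCompletion J B))).IsPrime ∧
      Function.Bijective (Ideal.quotientMap (p.map (algebraMap A (AdicCompletion J B)))
        (algebraMap A (AdicCompletion J B)) Ideal.le_comap_map) := by
  classical
  have hBnoeth : IsNoetherianRing B :=
    IsLocalization.isNoetherianRing (Submonoid.powers f) B inferInstance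
  obtain ⟨g, hfg⟩ := exists_mul_sub_one_mem p f hf
  set P : Ideal B := p.map (algebraMap A B) with hP
  let π : AdicCompletion J B →ₗ[AdicCompletion J B] AdicCompletion J (B ⧸ P) :=
    AdicCompletion.map J (Submodule.mkQ P)
  have hπalg : ∀ a : A, π (algebraMap A (AdicCompletion J B) a) =
      AdicCompletion.of J (B ⧸ P) (Ideal.Quotient.mk P (algebraMap A B a)) := fun a => rfl
  have hone : AdicCompletion.of J B (1 : B) = (1 : AdicCompletion J B) := by
    rw [← map_one (algebraMap B (AdicCompletion J B))]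
    rfl
  -- F1
  have hF1 : p.map (algebraMap A (AdicCompletion J B)) ≤ LinearMap.ker π := by
    rw [Ideal.map_le_iff_le_comap]
    intro a ha
    rw [Ideal.mem_comap, LinearMap.mem_ker, hπalg,
      Ideal.Quotient.eq_zero_iff_mem.mpr (Ideal.mem_map_of_mem _ ha), map_zero]
  -- F2
  have hF2 : ∀ c : AdicCompletion J B, π c = 0 →
      c ∈ p.map (algebraMap A (AdicCompletion J B)) := by
    intro c hc
    have hT := (AdicCompletion.ofTensorProduct_bijective_of_finite_of_isNoetherian J (B ⧸ P)).1
    have h1 : AdicCompletion.ofTensorProduct J (B ⧸ P) (c ⊗ₜ[B] (Ideal.Quotient.mk P 1)) = π c := by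
      rw [AdicCompletion.ofTensorProduct_tmul]
      have h0 : π c = π (c • (1 : AdicCompletion J B)) := by rw [smul_eq_mul, mul_one]
      rw [h0, map_smul, ← hone]
      rfl
    have h2 : c ⊗ₜ[B] (Ideal.Quotient.mk P (1 : B)) =
        (0 : (AdicCompletion J B) ⊗[B] (B ⧸ P)) := by
      apply hT
      rw [h1, hc, map_zero]
    have h3 := congrArg (TensorProduct.tensorQuotEquivQuotSMul (AdicCompletion J B) P) h2
    rw [TensorProduct.tensorQuotEquivQuotSMul_tmul_mk, map_zero, one_smul,
      Submodule.Quotient.mk_eq_zero, Ideal.smul_top_eq_map] at h3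
    have h4 : c ∈ P.map (algebraMap B (AdicCompletion J B)) := h3
    rw [hP, Ideal.map_map] at h4
    have hcomp : (algebraMap B (AdicCompletion J B)).comp (algebraMap A B) =
        algebraMap A (AdicCompletion J B) := RingHom.ext fun a => rfl
    rwa [hcomp] at h4
  -- completeness of A ⧸ p
  have hHaus : IsHausdorff I (A ⧸ p) :=
    IsHausdorff.of_le_jacobson I _ (IsAdicComplete.le_jacobson_bot I)
  have hPre : IsPrecomplete I (A ⧸ p) :=
    Groth.Agent.S8804.isPrecomplete_of_surjective I (Ideal.Quotient.mkₐ A p).toLinearMap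
      (Ideal.Quotient.mkₐ_surjective A p)
  have hH : ∀ (x : A) (n : ℕ),
      Ideal.Quotient.mk p x ∈ (I ^ n • ⊤ : Submodule A (A ⧸ p)) ↔ x ∈ p ⊔ I ^ n :=
    fun x n => mk_mem_smul_top_iff p (I ^ n) x
  have hG : ∀ (x : A) (n : ℕ),
      Ideal.Quotient.mk P (algebraMap A B x) ∈ (J ^ n • ⊤ : Submodule B (B ⧸ P)) ↔
        x ∈ p ⊔ I ^ n := by
    intro x n
    rw [mk_mem_smul_top_iff]
    have hmap : P ⊔ J ^ n = (p ⊔ I ^ n).map (algebraMap A B) := by
      rw [Ideal.map_sup, Ideal.map_pow, hJ]
    rw [hmap]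
    constructor
    · intro h
      exact mem_of_algebraMap_mem_map f g B (p ⊔ I ^ n) (Ideal.mem_sup_left hfg) x h
    · intro h
      exact Ideal.mem_map_of_mem _ h
  -- F3a
  have hF3a : ∀ a : A,
      AdicCompletion.of J (B ⧸ P) (Ideal.Quotient.mk P (algebraMap A B a)) = 0 → a ∈ p := by
    intro a ha
    have h1 : ∀ n, a ∈ p ⊔ I ^ n := by
      intro n
      rw [← hG]
      have h0 : Submodule.mkQ (J ^ n • ⊤ : Submodule B (B ⧸ P))
          (Ideal.Quotient.mk P (algebraMap A B a)) = 0 := congrArg (fun z => z.val n) ha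
      exact (Submodule.Quotient.mk_eq_zero _).mp h0
    have h2 : Ideal.Quotient.mk p a = 0 := by
      apply hHaus.haus'
      intro n
      rw [SModEq.zero]
      exact (hH a n).mpr (h1 n)
    exact Ideal.Quotient.eq_zero_iff_mem.mp h2
  -- F3b
  have hF3b : ∀ d : AdicCompletion J (B ⧸ P), ∃ a : A,
      AdicCompletion.of J (B ⧸ P) (Ideal.Quotient.mk P (algebraMap A B a)) = d := by
    intro d
    obtain ⟨b, rfl⟩ := AdicCompletion.mk_surjective J (B ⧸ P) d
    have hsurj : ∀ m : B ⧸ P, ∃ a : A, Ideal.Quotient.mk P (algebraMap A B a) = m := by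
      intro m
      obtain ⟨b', rfl⟩ := Ideal.Quotient.mk_surjective m
      exact exists_algebraMap_eq f g B p hfg b'
    choose a ha using fun n => hsurj (b n)
    have hc : ∀ {m n : ℕ}, m ≤ n → Ideal.Quotient.mk p (a m) ≡ Ideal.Quotient.mk p (a n)
        [SMOD (I ^ m • ⊤ : Submodule A (A ⧸ p))] := by
      intro m n hmn
      rw [SModEq.sub_mem, ← map_sub, hH, ← hG, map_sub, map_sub, ha, ha, ← SModEq.sub_mem]
      exact b.property hmn
    obtain ⟨L, hL⟩ := hPre.prec' (fun n => Ideal.Quotient.mk p (a n)) hc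
    obtain ⟨a', rfl⟩ := Ideal.Quotient.mk_surjective L
    refine ⟨a', ?_⟩
    apply AdicCompletion.ext
    intro n
    rw [AdicCompletion.of_apply, AdicCompletion.mk_apply_coe, Submodule.mkQ_apply,
      Submodule.mkQ_apply, Submodule.Quotient.eq, ← ha n, ← map_sub, ← map_sub, hG, ← hH,
      map_sub, ← SModEq.sub_mem]
    exact (hL n).symm
  have hbij : Function.Bijective (Ideal.quotientMap (p.map (algebraMap A (AdicCompletion J B)))
      (algebraMap A (AdicCompletion J B)) Ideal.le_comap_map) := by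
    constructor
    · rw [injective_iff_map_eq_zero]
      intro x hx
      obtain ⟨a, rfl⟩ := Ideal.Quotient.mk_surjective x
      rw [Ideal.quotientMap_mk, Ideal.Quotient.eq_zero_iff_mem] at hx
      rw [Ideal.Quotient.eq_zero_iff_mem]
      apply hF3a
      rw [← hπalg]
      exact LinearMap.mem_ker.mp (hF1 hx)
    · intro y
      obtain ⟨c, rfl⟩ := Ideal.Quotient.mk_surjective y
      obtain ⟨a, ha⟩ := hF3b (π c)
      refine ⟨Ideal.Quotient.mk p a, ?_⟩
      rw [Ideal.quotientMap_mk, Ideal.Quotient.eq]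
      apply hF2
      rw [map_sub, hπalg, ha, sub_self]
  refine ⟨?_, hbij⟩
  have e := RingEquiv.ofBijective _ hbij
  have hdom : IsDomain ((AdicCompletion J B) ⧸ p.map (algebraMap A (AdicCompletion J B))) :=
    e.symm.toMulEquiv.isDomain (A ⧸ p)
  exact (Ideal.Quotient.isDomain_iff_prime _).mp hdom


/-- Let A be a Noetherian ring complete for the adic topology of an ideal I (an adic Noetherian
topological ring), p a prime ideal of A, and f ∈ A an element mapping to a unit in A/p. Let A_{f}
denote the completed principal localization, i.e. the I-adic completion of A_f = A[1/f]. Then the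
ideal p A_{f} generated by p is prime, and the canonical map A/p → A_{f}/p A_{f} is bijective (so p
A_{f} = p ⊗_A A_{f} is the completion of p_f, with quotient A/p). -/
theorem result (A : Type u) [CommRing A] [IsNoetherianRing A] (I : Ideal A) [IsAdicComplete I A] (p : Ideal A) [p.IsPrime] (f : A) (hf : IsUnit (Ideal.Quotient.mk p f)) : (p.map (algebraMap A (AdicCompletion (I.map (algebraMap A (Localization.Away f))) (Localization.Away f)))).IsPrime ∧ Function.Bijective (Ideal.quotientMap (p.map (algebraMap A (AdicCompletion (I.map (algebraMap A (Localization.Away f))) (Localization.Away f)))) (algebraMap A (AdicCompletion (I.map (algebraMap A (Localization.Away f))) (Localization.Away f))) Ideal.le_comap_map) := by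
  exact main A I p f hf (Localization.Away f) _ rfl

end Groth.Agent.S8837
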