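import Groth.Statements.S8840
import Groth.Agent.S8837
import Groth.Agent.S8839
import Groth.Agent.H44.RigClosed
import Mathlib.RingTheory.Jacobson.Ring
import Mathlib.RingTheory.Localization.Integral
import Mathlib.RingTheory.Algebraic.Integral

set_option autoImplicit false
universe u
open AdicRing

namespace Groth.Agent.S8840

/-- **Artin–Tate**: a field of finite type over a ring `A` becomes integral over `A` after
inverting one element of `A` which is nonzero in the field. -/
lemma artin_tate (A : Type*) [CommRing A] (κ : Type*) [Field κ] [Algebra A κ]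
    [hft : Algebra.FiniteType A κ] :
    ∃ f : A, algebraMap A κ f ≠ 0 ∧ ∀ x : κ, ∃ k : ℕ, IsIntegral A (f ^ k • x) := by
  classical
  haveI hkp : (RingHom.ker (algebraMap A κ)).IsPrime := RingHom.ker_isPrime _
  letI algD : Algebra (A ⧸ RingHom.ker (algebraMap A κ)) κ :=
    (RingHom.kerLift (algebraMap A κ)).toAlgebra
  haveI tD : IsScalarTower A (A ⧸ RingHom.ker (algebraMap A κ)) κ :=
    IsScalarTower.of_algebraMap_eq (fun _ => rfl)
  have hinj : Function.Injective (algebraMap (A ⧸ RingHom.ker (algebraMap A κ)) κ) :=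
    RingHom.kerLift_injective _
  haveI hfs : FaithfulSMul (A ⧸ RingHom.ker (algebraMap A κ)) κ :=
    (faithfulSMul_iff_algebraMap_injective _ _).mpr hinj
  letI algK : Algebra (FractionRing (A ⧸ RingHom.ker (algebraMap A κ))) κ :=
    FractionRing.liftAlgebra _ κ
  haveI tK : IsScalarTower (A ⧸ RingHom.ker (algebraMap A κ))
      (FractionRing (A ⧸ RingHom.ker (algebraMap A κ))) κ :=
    FractionRing.isScalarTower_liftAlgebra _ κ
  haveI ftD : Algebra.FiniteType (A ⧸ RingHom.ker (algebraMap A κ)) κ :=
    Algebra.FiniteType.of_restrictScalars_finiteType A _ κ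
  haveI ftK : Algebra.FiniteType (FractionRing (A ⧸ RingHom.ker (algebraMap A κ))) κ :=
    Algebra.FiniteType.of_restrictScalars_finiteType (A ⧸ RingHom.ker (algebraMap A κ)) _ κ
  haveI finK : Module.Finite (FractionRing (A ⧸ RingHom.ker (algebraMap A κ))) κ :=
    finite_of_finite_type_of_isJacobsonRing _ κ
  haveI algK' : Algebra.IsAlgebraic (FractionRing (A ⧸ RingHom.ker (algebraMap A κ))) κ :=
    Algebra.IsAlgebraic.of_finite _ κ
  haveI algD' : Algebra.IsAlgebraic (A ⧸ RingHom.ker (algebraMap A κ)) κ :=
    (IsFractionRing.comap_isAlgebraic_iff (A := A ⧸ RingHom.ker (algebraMap A κ))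
      (K := FractionRing (A ⧸ RingHom.ker (algebraMap A κ))) (C := κ)).mpr algK'
  haveI intD : Algebra.IsIntegral A (A ⧸ RingHom.ker (algebraMap A κ)) :=
    Algebra.isIntegral_of_surjective Ideal.Quotient.mk_surjective
  obtain ⟨s, hs⟩ := hft.out
  obtain ⟨y, hy0, hy⟩ := Algebra.IsAlgebraic.exists_integral_multiples
    (A ⧸ RingHom.ker (algebraMap A κ)) s
  obtain ⟨f, rfl⟩ := Ideal.Quotient.mk_surjective y
  refine ⟨f, fun h0 => hy0 ?_, ?_⟩
  · exact Ideal.Quotient.eq_zero_iff_mem.mpr (RingHom.mem_ker.mpr h0)
  · have hall : ∀ x ∈ Algebra.adjoin A (s : Set κ), ∃ k : ℕ, IsIntegral A (f ^ k • x) := by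
      intro x hx
      induction hx using Algebra.adjoin_induction with
      | mem x hx =>
        refine ⟨1, ?_⟩
        have h1 := hy x hx
        have h2 : (Ideal.Quotient.mk (RingHom.ker (algebraMap A κ)) f) • x = f ^ 1 • x := by
          rw [pow_one]
          exact algebraMap_smul (A ⧸ RingHom.ker (algebraMap A κ)) f x
        rw [h2] at h1
        exact isIntegral_trans _ h1
      | algebraMap r => exact ⟨0, by rw [pow_zero, one_smul]; exact isIntegral_algebraMap⟩
      | add x y _ _ hx hy =>
        obtain ⟨k1, h1⟩ := hx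
        obtain ⟨k2, h2⟩ := hy
        refine ⟨k1 + k2, ?_⟩
        have e : f ^ (k1 + k2) • (x + y) = f ^ k2 • (f ^ k1 • x) + f ^ k1 • (f ^ k2 • y) := by
          rw [smul_add, smul_smul, smul_smul, ← pow_add, ← pow_add, add_comm k2 k1]
        rw [e]
        exact (h1.smul _).add (h2.smul _)
      | mul x y _ _ hx hy =>
        obtain ⟨k1, h1⟩ := hx
        obtain ⟨k2, h2⟩ := hy
        refine ⟨k1 + k2, ?_⟩
        have e : f ^ (k1 + k2) • (x * y) = (f ^ k1 • x) * (f ^ k2 • y) := by
          rw [smul_mul_smul_comm, pow_add]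
        rw [e]
        exact h1.mul h2
    intro x
    exact hall x (by rw [hs]; exact Algebra.mem_top)

section Main

variable (A : Type u) [CommRing A] [IsNoetherianRing A] (I : Ideal A) [IsAdicComplete I A]
  (B : Type u) [CommRing B] [Algebra A B] [IsNoetherianRing B]
  [IsAdicComplete (I.map (algebraMap A B)) B]

/-- `f` is a unit modulo `q` and the residue fields of `B ⧸ q` are integral over `A[1/f]`. -/
def Good (q : Ideal B) (f : A) : Prop :=
  IsUnit (Ideal.Quotient.mk q (algebraMap A B f)) ∧
    ∀ m : Ideal B, m.IsMaximal → q ≤ m → ∀ x : B ⧸ m, ∃ k : ℕ, IsIntegral A (f ^ k • x)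

theorem exists_good (hft : Algebra.FiniteType A (B ⧸ I.map (algebraMap A B)))
    (q : PrimeSpectrum B)
    (hq : ¬ (I.map (algebraMap A B)) ≤ q.asIdeal ∧ ∀ y : PrimeSpectrum B, q ≤ y →
      ¬ (I.map (algebraMap A B)) ≤ y.asIdeal → y = q) :
    ∃ f : A, Good A B q.asIdeal f := by
  classical
  have hqp := q.isPrime
  obtain ⟨hdim, hrad, hJ0⟩ := Groth.Agent.H44.rigClosed_quotient_structure A I B q hq
  have huniq : ∀ m : Ideal B, m.IsMaximal → q.asIdeal ≤ m →
      m = (((I.map (algebraMap A B)).map (Ideal.Quotient.mk q.asIdeal)).radical).comap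
        (Ideal.Quotient.mk q.asIdeal) := by
    intro m hm hqm
    have hcm : (m.map (Ideal.Quotient.mk q.asIdeal)).comap (Ideal.Quotient.mk q.asIdeal) = m := by
      rw [Ideal.comap_map_of_surjective' _ Ideal.Quotient.mk_surjective, Ideal.mk_ker,
        sup_eq_left.mpr hqm]
    rcases Ideal.map_eq_top_or_isMaximal_of_surjective (Ideal.Quotient.mk q.asIdeal)
      Ideal.Quotient.mk_surjective hm with htop | hmax
    · exfalso
      rw [htop, Ideal.comap_top] at hcm
      exact hm.ne_top hcm.symm
    · rw [← hrad _ hmax, hcm]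
  obtain ⟨m0, hm0, hqm0⟩ := Ideal.exists_le_maximal q.asIdeal hqp.ne_top
  have hall : ∀ m : Ideal B, m.IsMaximal → q.asIdeal ≤ m → m = m0 := fun m hm hqm =>
    (huniq m hm hqm).trans (huniq m0 hm0 hqm0).symm
  have hIm0 : I.map (algebraMap A B) ≤ m0 :=
    (IsAdicComplete.le_jacobson_bot (I.map (algebraMap A B))).trans (sInf_le ⟨bot_le, hm0⟩)
  letI := Ideal.Quotient.field m0
  haveI : Algebra.FiniteType A (B ⧸ m0) := by
    refine hft.of_surjective (Ideal.Quotient.factorₐ A hIm0) ?_
    intro y
    obtain ⟨b, rfl⟩ := Ideal.Quotient.mk_surjective y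
    exact ⟨Ideal.Quotient.mk _ b, rfl⟩
  obtain ⟨f, hf0, hf⟩ := artin_tate A (B ⧸ m0)
  refine ⟨f, ?_, ?_⟩
  · by_contra hnu
    obtain ⟨M, hM, hfM⟩ := exists_max_ideal_of_mem_nonunits (mem_nonunits_iff.mpr hnu)
    have hcM : (M.comap (Ideal.Quotient.mk q.asIdeal)).IsMaximal :=
      Ideal.comap_isMaximal_of_surjective _ Ideal.Quotient.mk_surjective
    have hqM : q.asIdeal ≤ M.comap (Ideal.Quotient.mk q.asIdeal) := by
      intro x hx
      rw [Ideal.mem_comap, Ideal.Quotient.eq_zero_iff_mem.mpr hx]
      exact M.zero_mem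
    have e1 := hall _ hcM hqM
    have hmem : algebraMap A B f ∈ m0 := by
      rw [← e1]
      exact hfM
    apply hf0
    rw [IsScalarTower.algebraMap_apply A B (B ⧸ m0)]
    exact Ideal.Quotient.eq_zero_iff_mem.mpr hmem
  · intro m hm hqm
    obtain rfl := hall m hm hqm
    exact hf

set_option maxHeartbeats 1000000 in
theorem finite_of_good (hft : Algebra.FiniteType A (B ⧸ I.map (algebraMap A B)))
    (q : PrimeSpectrum B)
    (hq : ¬ (I.map (algebraMap A B)) ≤ q.asIdeal ∧ ∀ y : PrimeSpectrum B, q ≤ y →
      ¬ (I.map (algebraMap A B)) ≤ y.asIdeal → y = q)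
    (f : A) (hgood : Good A B q.asIdeal f)
    (A1 : Type u) [CommRing A1] [Algebra A A1] [IsNoetherianRing A1]
    [IsAdicComplete (I.map (algebraMap A A1)) A1] (hf1 : IsUnit (algebraMap A A1 f))
    (B2 : Type u) [CommRing B2] [Algebra B B2] [IsNoetherianRing B2]
    [IsAdicComplete ((I.map (algebraMap A B)).map (algebraMap B B2)) B2]
    [hprime : (q.asIdeal.map (algebraMap B B2)).IsPrime]
    (hbij : Function.Bijective (Ideal.quotientMap (q.asIdeal.map (algebraMap B B2))
      (algebraMap B B2) Ideal.le_comap_map))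
    [Algebra A1 B2]
    (hψ : ∀ a : A, algebraMap A1 B2 (algebraMap A A1 a) = algebraMap B B2 (algebraMap A B a)) :
    (I.map (algebraMap A A1)).map (algebraMap A1 B2) =
        (I.map (algebraMap A B)).map (algebraMap B B2) ∧
    (q.asIdeal.map (algebraMap B B2)).comap (algebraMap B B2) = q.asIdeal ∧
    (¬ ((I.map (algebraMap A B)).map (algebraMap B B2)) ≤ q.asIdeal.map (algebraMap B B2) ∧
      ∀ y : PrimeSpectrum B2, q.asIdeal.map (algebraMap B B2) ≤ y.asIdeal →
        ¬ ((I.map (algebraMap A B)).map (algebraMap B B2)) ≤ y.asIdeal →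
          y.asIdeal = q.asIdeal.map (algebraMap B B2)) ∧
    Module.Finite A1 (B2 ⧸ q.asIdeal.map (algebraMap B B2)) ∧
    (¬ I.map (algebraMap A A1) ≤ (q.asIdeal.map (algebraMap B B2)).comap (algebraMap A1 B2) ∧
      ∀ y : PrimeSpectrum A1,
        (q.asIdeal.map (algebraMap B B2)).comap (algebraMap A1 B2) ≤ y.asIdeal →
        ¬ I.map (algebraMap A A1) ≤ y.asIdeal →
          y.asIdeal = (q.asIdeal.map (algebraMap B B2)).comap (algebraMap A1 B2)) := by
  classical
  have hqp := q.isPrime
  have hcomap : (q.asIdeal.map (algebraMap B B2)).comap (algebraMap B B2) = q.asIdeal := by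
    refine le_antisymm (fun x hx => ?_) Ideal.le_comap_map
    have h0 : Ideal.quotientMap (q.asIdeal.map (algebraMap B B2)) (algebraMap B B2)
        Ideal.le_comap_map (Ideal.Quotient.mk q.asIdeal x) = 0 := by
      rw [Ideal.quotientMap_mk]
      exact Ideal.Quotient.eq_zero_iff_mem.mpr hx
    have h1 := hbij.1 (h0.trans (map_zero _).symm)
    exact Ideal.Quotient.eq_zero_iff_mem.mp h1
  have hsurj : ∀ z : B2, ∃ b : B, z - algebraMap B B2 b ∈ q.asIdeal.map (algebraMap B B2) := by
    intro z
    obtain ⟨x, hx⟩ := hbij.2 (Ideal.Quotient.mk _ z)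
    obtain ⟨b, rfl⟩ := Ideal.Quotient.mk_surjective x
    refine ⟨b, ?_⟩
    rw [Ideal.quotientMap_mk] at hx
    exact Ideal.Quotient.eq.mp hx.symm
  letI algAB2 : Algebra A B2 := ((algebraMap B B2).comp (algebraMap A B)).toAlgebra
  haveI tABB2 : IsScalarTower A B B2 := IsScalarTower.of_algebraMap_eq (fun _ => rfl)
  haveI tAA1B2 : IsScalarTower A A1 B2 := IsScalarTower.of_algebraMap_eq (fun a => (hψ a).symm)
  have hJ : (I.map (algebraMap A A1)).map (algebraMap A1 B2) =
      (I.map (algebraMap A B)).map (algebraMap B B2) := by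
    have h1 : (I.map (algebraMap A A1)).map (algebraMap A1 B2) = I.map (algebraMap A B2) := by
      rw [IsScalarTower.algebraMap_eq A A1 B2]
      exact Ideal.map_map _ _
    have h2 : (I.map (algebraMap A B)).map (algebraMap B B2) = I.map (algebraMap A B2) := by
      rw [IsScalarTower.algebraMap_eq A B B2]
      exact Ideal.map_map _ _
    rw [h1, h2]
  have hrig2 : ¬ ((I.map (algebraMap A B)).map (algebraMap B B2)) ≤
        q.asIdeal.map (algebraMap B B2) ∧
      ∀ y : PrimeSpectrum B2, q.asIdeal.map (algebraMap B B2) ≤ y.asIdeal →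
        ¬ ((I.map (algebraMap A B)).map (algebraMap B B2)) ≤ y.asIdeal →
          y.asIdeal = q.asIdeal.map (algebraMap B B2) := by
    refine ⟨fun h => hq.1 ?_, fun y hy hIy => ?_⟩
    · rw [← hcomap]
      exact Ideal.le_comap_map.trans (Ideal.comap_mono h)
    · have hyp := y.isPrime
      have h1 : (PrimeSpectrum.comap (algebraMap B B2) y) = q := by
        apply hq.2
        · show q.asIdeal ≤ y.asIdeal.comap (algebraMap B B2)
          rw [← hcomap]
          exact Ideal.comap_mono hy
        · intro h
          have h' : I.map (algebraMap A B) ≤ y.asIdeal.comap (algebraMap B B2) := h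
          exact hIy ((Ideal.map_mono h').trans Ideal.map_comap_le)
      have h2 : y.asIdeal.comap (algebraMap B B2) = q.asIdeal :=
        congrArg PrimeSpectrum.asIdeal h1
      refine le_antisymm (fun z hz => ?_) hy
      obtain ⟨b, hb⟩ := hsurj z
      have hbz : algebraMap B B2 b ∈ y.asIdeal := by
        have := sub_mem hz (hy hb)
        rwa [sub_sub_cancel] at this
      have hbq : b ∈ q.asIdeal := by
        rw [← h2]
        exact hbz
      have := add_mem hb (Ideal.mem_map_of_mem (algebraMap B B2) hbq)
      rwa [sub_add_cancel] at this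
  have hres : ∀ m' : Ideal B2, m'.IsMaximal → q.asIdeal.map (algebraMap B B2) ≤ m' →
      Module.Finite A1 (B2 ⧸ m') := by
    intro m' hm' hqm'
    letI := Ideal.Quotient.field m'
    have hs : Function.Surjective (algebraMap B (B2 ⧸ m')) := by
      intro y
      obtain ⟨z, rfl⟩ := Ideal.Quotient.mk_surjective y
      obtain ⟨b, hb⟩ := hsurj z
      refine ⟨b, ?_⟩
      rw [IsScalarTower.algebraMap_apply B B2 (B2 ⧸ m')]
      exact (Ideal.Quotient.eq.mpr (hqm' hb)).symm
    have hker : RingHom.ker (algebraMap B (B2 ⧸ m')) = m'.comap (algebraMap B B2) := by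
      rw [IsScalarTower.algebraMap_eq B B2 (B2 ⧸ m'), ← RingHom.comap_ker]
      congr 1
      exact Ideal.mk_ker
    have hm : (m'.comap (algebraMap B B2)).IsMaximal := by
      rw [← hker]
      exact RingHom.ker_isMaximal_of_surjective _ hs
    have hqm : q.asIdeal ≤ m'.comap (algebraMap B B2) := by
      rw [← hcomap]
      exact Ideal.comap_mono hqm'
    have hint := hgood.2 _ hm hqm
    let φ : B ⧸ m'.comap (algebraMap B B2) →ₐ[A] B2 ⧸ m' :=
      Ideal.quotientMapₐ m' (IsScalarTower.toAlgHom A B B2) (by intro x hx; exact hx)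
    have hφs : Function.Surjective φ := by
      intro y
      obtain ⟨b, rfl⟩ := hs y
      exact ⟨Ideal.Quotient.mk _ b, rfl⟩
    have hint' : ∀ x' : B2 ⧸ m', IsIntegral A1 x' := by
      intro x'
      obtain ⟨x, rfl⟩ := hφs x'
      obtain ⟨k, hk⟩ := hint x
      have h1 : IsIntegral A (f ^ k • φ x) := by
        rw [← map_smul]
        exact hk.map φ
      have h2 : IsIntegral A1 (f ^ k • φ x) := h1.tower_top
      have h3 : f ^ k • φ x = (algebraMap A A1 f) ^ k • φ x := by
        rw [← map_pow, algebraMap_smul]
      rw [h3] at h2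
      have h4 : φ x = ((hf1.unit⁻¹ : A1ˣ) : A1) ^ k • ((algebraMap A A1 f) ^ k • φ x) := by
        rw [smul_smul, ← mul_pow, IsUnit.val_inv_mul, one_pow, one_smul]
      rw [h4]
      exact h2.smul _
    haveI : Algebra.IsIntegral A1 (B2 ⧸ m') := ⟨hint'⟩
    have ftm : Algebra.FiniteType A (B ⧸ m'.comap (algebraMap B B2)) := by
      have hIm : I.map (algebraMap A B) ≤ m'.comap (algebraMap B B2) :=
        (IsAdicComplete.le_jacobson_bot (I.map (algebraMap A B))).trans (sInf_le ⟨bot_le, hm⟩)
      refine hft.of_surjective (Ideal.Quotient.factorₐ A hIm) ?_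
      intro y
      obtain ⟨b, rfl⟩ := Ideal.Quotient.mk_surjective y
      exact ⟨Ideal.Quotient.mk _ b, rfl⟩
    haveI ft2 : Algebra.FiniteType A (B2 ⧸ m') := ftm.of_surjective φ hφs
    haveI ft3 : Algebra.FiniteType A1 (B2 ⧸ m') :=
      Algebra.FiniteType.of_restrictScalars_finiteType A A1 _
    exact Algebra.IsIntegral.finite
  haveI cψ : IsAdicComplete ((I.map (algebraMap A A1)).map (algebraMap A1 B2)) B2 := by
    rw [hJ]
    infer_instance
  have hq2' : ¬ ((I.map (algebraMap A A1)).map (algebraMap A1 B2)) ≤
        (⟨q.asIdeal.map (algebraMap B B2), hprime⟩ : PrimeSpectrum B2).asIdeal ∧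
      ∀ y : PrimeSpectrum B2,
        (⟨q.asIdeal.map (algebraMap B B2), hprime⟩ : PrimeSpectrum B2) ≤ y →
        ¬ ((I.map (algebraMap A A1)).map (algebraMap A1 B2)) ≤ y.asIdeal →
          y = ⟨q.asIdeal.map (algebraMap B B2), hprime⟩ := by
    rw [hJ]
    exact ⟨hrig2.1, fun y hy hIy => PrimeSpectrum.ext (hrig2.2 y hy hIy)⟩
  have hfin : Module.Finite A1 (B2 ⧸ q.asIdeal.map (algebraMap B B2)) :=
    Groth.Agent.H44.finite_quotient_of_residue_finite A1 (I.map (algebraMap A A1)) B2
      ⟨q.asIdeal.map (algebraMap B B2), hprime⟩ hq2' hres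
  have hp := Groth.Agent.H44.rigClosed_comap_of_finite A1 (I.map (algebraMap A A1)) B2
      ⟨q.asIdeal.map (algebraMap B B2), hprime⟩ hq2' (hfin := hfin)
  refine ⟨hJ, hcomap, hrig2, hfin, hp.1, fun y hy hIy => ?_⟩
  exact congrArg PrimeSpectrum.asIdeal (hp.2 y hy hIy)

end Main


/-- Let A be a Noetherian ring complete for the adic topology of an ideal I, and B a Noetherian
A-algebra complete for the IB-adic topology with B/IB of finite type over A (an adic morphism,
topologically of finite type, of adic Noetherian topological rings). Let q be a prime of B which is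
rig-closed (IB ⊄ q and q maximal among the primes not containing IB). Then there exists f ∈ A which
maps to a unit in B/q such that the following holds. Let A_{f} and B_{f} be the completed principal
localizations (the I-adic completions of A_f and B_f) and ψ : A_{f} → B_{f} the canonical map,
characterised here as any ring map compatible with A_f → B_f (there is exactly one). Then the
inverse image p' under ψ of the ideal q' = q B_{f} is a rig-closed prime of A_{f}: p' is prime, I
A_{f} ⊄ p', and p' is maximal among the primes of A_{f} not containing I A_{f}. (That q B_{f} is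
itself prime with quotient B/q holds because f is a unit modulo q; it is not restated.) -/
theorem result (A : Type u) [CommRing A] [IsNoetherianRing A] (I : Ideal A) [IsAdicComplete I A] (B : Type u) [CommRing B] [Algebra A B] [IsNoetherianRing B] [IsAdicComplete (I.map (algebraMap A B)) B] (hft : Algebra.FiniteType A (B ⧸ (I.map (algebraMap A B)))) (q : PrimeSpectrum B) (hq : (¬ (I.map (algebraMap A B)) ≤ q.asIdeal ∧ ∀ y : PrimeSpectrum B, q ≤ y → ¬ (I.map (algebraMap A B)) ≤ y.asIdeal → y = q)) : ∃ f : A, IsUnit (Ideal.Quotient.mk q.asIdeal (algebraMap A B f)) ∧ ∀ ψ : (AdicCompletion (I.map (algebraMap A (Localization.Away f))) (Localization.Away f)) →+* (AdicCompletion ((I.map (algebraMap A B)).map (algebraMap B (Localization.Away (algebraMap A B f)))) (Localization.Away (algebraMap A B f))), ψ.comp (algebraMap (Localization.Away f) (AdicCompletion (I.map (algebraMap A (Localization.Away f))) (Localization.Away f))) = (algebraMap (Localization.Away (algebraMap A B f)) (AdicCompletion ((I.map (algebraMap A B)).map (algebraMap B (Localization.Away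 (algebraMap A B f)))) (Localization.Away (algebraMap A B f)))).comp (Localization.awayMap (algebraMap A B) f) → (((q.asIdeal.map (algebraMap B (AdicCompletion ((I.map (algebraMap A B)).map (algebraMap B (Localization.Away (algebraMap A B f)))) (Localization.Away (algebraMap A B f))))).comap ψ).IsPrime ∧ ¬ (I.map (algebraMap A (AdicCompletion (I.map (algebraMap A (Localization.Away f))) (Localization.Away f)))) ≤ ((q.asIdeal.map (algebraMap B (AdicCompletion ((I.map (algebraMap A B)).map (algebraMap B (Localization.Away (algebraMap A B f)))) (Localization.Away (algebraMap A B f))))).comap ψ) ∧ ∀ y : PrimeSpectrum (AdicCompletion (I.map (algebraMap A (Localization.Away f))) (Localization.Away f)), ((q.asIdeal.map (algebraMap B (AdicCompletion ((I.map (algebraMap A B)).map (algebraMap B (Localization.Away (algebraMap A B f)))) (Localization.Away (algebraMap A B f))))).comap ψ) ≤ y.asIdeal → ¬ (I.map (algebraMap A (AdicCompletion (I.map (algebraMap A (Localization.Away f))) (Localization.Away f)))) ≤ y.asIdeal → y.asIdeal = ((q.asIdeal.map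 (algebraMap B (AdicCompletion ((I.map (algebraMap A B)).map (algebraMap B (Localization.Away (algebraMap A B f)))) (Localization.Away (algebraMap A B f))))).comap ψ)) := by
  obtain ⟨f, hgood⟩ := exists_good A I B hft q hq
  refine ⟨f, hgood.1, ?_⟩
  intro ψ hψ
  haveI hqp := q.isPrime
  haveI tA := Groth.Agent.S8839.tower A I (Localization.Away f)
  haveI nA := Groth.Agent.S8839.noeth A I (Localization.Away f)
  haveI cA := Groth.Agent.S8839.complete A I (Localization.Away f)
  haveI tB := Groth.Agent.S8839.tower B (I.map (algebraMap A B))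
    (Localization.Away (algebraMap A B f))
  haveI nB := Groth.Agent.S8839.noeth B (I.map (algebraMap A B))
    (Localization.Away (algebraMap A B f))
  haveI cB := Groth.Agent.S8839.complete B (I.map (algebraMap A B))
    (Localization.Away (algebraMap A B f))
  obtain ⟨hprime, hbij⟩ := Groth.Agent.S8837.result B (I.map (algebraMap A B)) q.asIdeal
    (algebraMap A B f) hgood.1
  haveI := hprime
  letI algψ : Algebra (AdicCompletion (I.map (algebraMap A (Localization.Away f)))
      (Localization.Away f))
      (AdicCompletion ((I.map (algebraMap A B)).map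
        (algebraMap B (Localization.Away (algebraMap A B f))))
        (Localization.Away (algebraMap A B f))) := ψ.toAlgebra
  have hψA : ∀ a : A, ψ (algebraMap A (AdicCompletion (I.map (algebraMap A (Localization.Away f)))
      (Localization.Away f)) a) =
      algebraMap B (AdicCompletion ((I.map (algebraMap A B)).map
        (algebraMap B (Localization.Away (algebraMap A B f))))
        (Localization.Away (algebraMap A B f))) (algebraMap A B a) := by
    intro a
    rw [IsScalarTower.algebraMap_apply A (Localization.Away f)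
        (AdicCompletion (I.map (algebraMap A (Localization.Away f))) (Localization.Away f)),
      IsScalarTower.algebraMap_apply B (Localization.Away (algebraMap A B f))
        (AdicCompletion ((I.map (algebraMap A B)).map
          (algebraMap B (Localization.Away (algebraMap A B f))))
          (Localization.Away (algebraMap A B f)))]
    have h := RingHom.congr_fun hψ (algebraMap A (Localization.Away f) a)
    rw [RingHom.comp_apply, RingHom.comp_apply] at h
    rw [h]
    congr 1
    exact IsLocalization.map_eq _ a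
  have hf1 : IsUnit (algebraMap A (AdicCompletion (I.map (algebraMap A (Localization.Away f)))
      (Localization.Away f)) f) := by
    rw [IsScalarTower.algebraMap_apply A (Localization.Away f)
      (AdicCompletion (I.map (algebraMap A (Localization.Away f))) (Localization.Away f))]
    exact (IsLocalization.Away.algebraMap_isUnit f).map _
  obtain ⟨-, -, -, -, h1, h2⟩ := finite_of_good A I B hft q hq f hgood _ hf1 _ hbij hψA
  exact ⟨Ideal.comap_isPrime _ _, h1, h2⟩

end Groth.Agent.S8840
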