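import Groth.Statements.S8841
import Groth.Agent.S8839
import Groth.Agent.S8835
import Groth.Agent.H2.LocalCriterionMain
import Mathlib.RingTheory.Localization.Away.AdjoinRoot
import Mathlib.RingTheory.Localization.Submodule
import Mathlib.RingTheory.RingHom.Flat
import Mathlib.RingTheory.Jacobson.Ring

set_option autoImplicit false
universe u
open AdicRing

namespace Groth.Agent.S8841

open TensorProduct

lemma ftquot (A : Type u) [CommRing A] [IsNoetherianRing A] (I : Ideal A) (P : Type u)
    [CommRing P] [Algebra A P] [IsNoetherianRing P] [Algebra.FiniteType A P] :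
    Algebra.FiniteType A (AdicCompletion (I.map (algebraMap A P)) P ⧸
      I.map (algebraMap A (AdicCompletion (I.map (algebraMap A P)) P))) := by
  haveI := Groth.Agent.S8839.tower A I P
  refine (inferInstance : Algebra.FiniteType A P).of_surjective
    ((Ideal.Quotient.mkₐ A _).comp
      (IsScalarTower.toAlgHom A P (AdicCompletion (I.map (algebraMap A P)) P))) ?_
  intro y
  obtain ⟨s, rfl⟩ := Ideal.Quotient.mk_surjective y
  obtain ⟨a, ha⟩ := Groth.Agent.S8839.dense A I P s
  refine ⟨a, ?_⟩
  show Ideal.Quotient.mk _ (algebraMap P _ a) = Ideal.Quotient.mk _ s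
  rw [eq_comm, Ideal.Quotient.eq]
  exact ha

lemma jacobson_quot (A : Type*) [CommRing A] (I : Ideal A) (S : Type*) [CommRing S] [Algebra A S]
    (h : Algebra.FiniteType A (S ⧸ I.map (algebraMap A S))) [IsJacobsonRing (A ⧸ I)] :
    IsJacobsonRing (S ⧸ I.map (algebraMap A S)) := by
  haveI := h
  haveI : Algebra.FiniteType (A ⧸ I) (S ⧸ I.map (algebraMap A S)) :=
    Algebra.FiniteType.of_restrictScalars_finiteType A (A ⧸ I) _
  exact isJacobsonRing_of_finiteType (A := A ⧸ I)

section Main

variable (A : Type u) [CommRing A] [IsNoetherianRing A] (I : Ideal A) [IsAdicComplete I A]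
  (B : Type u) [CommRing B] [Algebra A B] [IsNoetherianRing B]
  [IsAdicComplete (I.map (algebraMap A B)) B]
  (Pa : Type u) [CommRing Pa] [Algebra A Pa] [IsNoetherianRing Pa] [Algebra.FiniteType A Pa]
  (Pb : Type u) [CommRing Pb] [Algebra A Pb] [Algebra B Pb] [IsScalarTower A B Pb]
  [IsNoetherianRing Pb] [Algebra.FiniteType B Pb] [Module.Flat B Pb]

local notation "Ahat" => AdicCompletion (Ideal.map (algebraMap A Pa) I) Pa
local notation "JJ" => Ideal.map (algebraMap A B) I
local notation "Bhat" =>
  AdicCompletion (Ideal.map (algebraMap B Pb) (Ideal.map (algebraMap A B) I)) Pb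

set_option maxHeartbeats 1000000 in
theorem main (M : Submonoid A) [IsLocalization M Pa]
    (hft : Algebra.FiniteType A (B ⧸ JJ)) (hJ : IsJacobsonRing (A ⧸ I))
    (hnaive : ∀ q : PrimeSpectrum B, (¬ JJ ≤ q.asIdeal ∧ ∀ y : PrimeSpectrum B, q ≤ y →
      ¬ JJ ≤ y.asIdeal → y = q) → (algebraMap A (Localization.AtPrime q.asIdeal)).Flat)
    (φ : Pa →+* Pb) (hφ : ∀ a : A, φ (algebraMap A Pa a) = algebraMap A Pb a)
    (ψ : Ahat →+* Bhat)
    (hψ : ψ.comp (algebraMap Pa Ahat) = (algebraMap Pb Bhat).comp φ)
    (q' : PrimeSpectrum Bhat)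
    (hq' : ¬ (((JJ).map (algebraMap B Pb)).map (algebraMap Pb Bhat)) ≤ q'.asIdeal ∧
      ∀ y : PrimeSpectrum Bhat, q' ≤ y →
        ¬ (((JJ).map (algebraMap B Pb)).map (algebraMap Pb Bhat)) ≤ y.asIdeal → y = q') :
    ((algebraMap Bhat (Localization.AtPrime q'.asIdeal)).comp ψ).Flat := by
  classical
  haveI hq'prime : q'.asIdeal.IsPrime := q'.isPrime
  haveI tA := Groth.Agent.S8839.tower A I Pa
  haveI nA := Groth.Agent.S8839.noeth A I Pa
  haveI cA := Groth.Agent.S8839.complete A I Pa
  haveI tB := Groth.Agent.S8839.tower B JJ Pb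
  haveI nB := Groth.Agent.S8839.noeth B JJ Pb
  haveI cB := Groth.Agent.S8839.complete B JJ Pb
  haveI tAB : IsScalarTower A Pb Bhat := IsScalarTower.of_algebraMap_eq (fun _ => rfl)
  haveI tABB : IsScalarTower A B Bhat := IsScalarTower.of_algebraMap_eq (fun a => by
    rw [IsScalarTower.algebraMap_apply A Pb Bhat, IsScalarTower.algebraMap_apply A B Pb,
      IsScalarTower.algebraMap_apply B Pb Bhat])
  have hqrig := hq'
  rw [Groth.Agent.S8839.mapeq B JJ Pb] at hqrig
  have hftB : Algebra.FiniteType B (Bhat ⧸ (JJ).map (algebraMap B Bhat)) := ftquot B JJ Pb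
  haveI hJ' := hJ
  haveI hJB : IsJacobsonRing (B ⧸ JJ) := jacobson_quot A I B hft
  -- `q = q' ∩ B` is rig-closed, hence `A → B_q` is flat
  have hqB := Groth.Agent.S8835.result B JJ Bhat hftB q' hqrig hJB
  haveI hflatBq : Module.Flat A
      (Localization.AtPrime (q'.asIdeal.comap (algebraMap B Bhat))) :=
    RingHom.flat_algebraMap_iff.mp (hnaive (PrimeSpectrum.comap (algebraMap B Bhat) q') hqB)
  -- `T2` is flat over `A`
  haveI hPbBhat : Module.Flat Pb Bhat := inferInstance
  haveI hBBhat : Module.Flat B Bhat := Module.Flat.trans B Pb Bhat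
  haveI hlo1 : q'.asIdeal.LiesOver (q'.asIdeal.comap (algebraMap B Bhat)) := ⟨rfl⟩
  letI alg1 := Localization.AtPrime.algebraOfLiesOver
    (q'.asIdeal.comap (algebraMap B Bhat)) q'.asIdeal
  haveI hBqT2 : Module.Flat (Localization.AtPrime (q'.asIdeal.comap (algebraMap B Bhat)))
      (Localization.AtPrime q'.asIdeal) := inferInstance
  haveI hT2A : Module.Flat A (Localization.AtPrime q'.asIdeal) :=
    Module.Flat.trans A (Localization.AtPrime (q'.asIdeal.comap (algebraMap B Bhat)))
      (Localization.AtPrime q'.asIdeal)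
  -- the `A`-side
  have hψA : ∀ a : A, ψ (algebraMap A Ahat a) = algebraMap A Bhat a := by
    intro a
    rw [IsScalarTower.algebraMap_apply A Pa Ahat, IsScalarTower.algebraMap_apply A Pb Bhat, ← hφ a]
    exact RingHom.congr_fun hψ (algebraMap A Pa a)
  letI algψ : Algebra Ahat Bhat := ψ.toAlgebra
  haveI tψ : IsScalarTower A Ahat Bhat :=
    IsScalarTower.of_algebraMap_eq (fun a => (hψA a).symm)
  have hIeq : (I.map (algebraMap A Ahat)).map (algebraMap Ahat Bhat) =
      (JJ).map (algebraMap B Bhat) := by
    have h1 : (I.map (algebraMap A Ahat)).map (algebraMap Ahat Bhat) =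
        I.map (algebraMap A Bhat) := by
      rw [IsScalarTower.algebraMap_eq A Ahat Bhat]
      exact Ideal.map_map _ _
    have h2 : (JJ).map (algebraMap B Bhat) = I.map (algebraMap A Bhat) := by
      rw [IsScalarTower.algebraMap_eq A B Bhat]
      exact Ideal.map_map _ _
    rw [h1, h2]
  haveI cψ : IsAdicComplete ((I.map (algebraMap A Ahat)).map (algebraMap Ahat Bhat)) Bhat := by
    rw [hIeq]
    exact cB
  have hftA0 : Algebra.FiniteType A (Bhat ⧸ (JJ).map (algebraMap B Bhat)) := by
    haveI := hft
    haveI : Algebra.FiniteType (B ⧸ JJ) (Bhat ⧸ (JJ).map (algebraMap B Bhat)) := by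
      haveI := hftB
      exact Algebra.FiniteType.of_restrictScalars_finiteType B (B ⧸ JJ) _
    haveI : IsScalarTower A (B ⧸ JJ) (Bhat ⧸ (JJ).map (algebraMap B Bhat)) :=
      IsScalarTower.of_algebraMap_eq (fun a => by
        show Ideal.Quotient.mk _ (algebraMap A Bhat a) =
          Ideal.Quotient.mk _ (algebraMap B Bhat (algebraMap A B a))
        rw [← IsScalarTower.algebraMap_apply A B Bhat])
    exact Algebra.FiniteType.trans (inferInstance : Algebra.FiniteType A (B ⧸ JJ)) inferInstance
  have hftψ : Algebra.FiniteType Ahat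
      (Bhat ⧸ (I.map (algebraMap A Ahat)).map (algebraMap Ahat Bhat)) := by
    rw [hIeq]
    haveI := hftA0
    exact Algebra.FiniteType.of_restrictScalars_finiteType A Ahat _
  have hftAhat : Algebra.FiniteType A (Ahat ⧸ I.map (algebraMap A Ahat)) := ftquot A I Pa
  haveI hJAhat : IsJacobsonRing (Ahat ⧸ I.map (algebraMap A Ahat)) :=
    jacobson_quot A I Ahat hftAhat
  have hq'ψ : ¬ ((I.map (algebraMap A Ahat)).map (algebraMap Ahat Bhat)) ≤ q'.asIdeal ∧
      ∀ y : PrimeSpectrum Bhat, q' ≤ y →
        ¬ ((I.map (algebraMap A Ahat)).map (algebraMap Ahat Bhat)) ≤ y.asIdeal → y = q' := by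
    rw [hIeq]
    exact hqrig
  have hp' := Groth.Agent.S8835.result Ahat (I.map (algebraMap A Ahat)) Bhat hftψ q' hq'ψ hJAhat
  have hp0 := Groth.Agent.S8835.result A I Ahat hftAhat
    (PrimeSpectrum.comap (algebraMap Ahat Bhat) q') hp' hJ
  obtain ⟨hmap, -⟩ := Groth.Agent.S8839.key A I Pa Ahat (Groth.Agent.S8839.dense A I Pa)
    (PrimeSpectrum.comap (algebraMap Ahat Bhat) q') hp' hp0
  -- the local rings
  haveI hp'prime : (q'.asIdeal.comap (algebraMap Ahat Bhat)).IsPrime := Ideal.comap_isPrime _ _
  haveI hlo2 : q'.asIdeal.LiesOver (q'.asIdeal.comap (algebraMap Ahat Bhat)) := ⟨rfl⟩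
  letI alg2 := Localization.AtPrime.algebraOfLiesOver
    (q'.asIdeal.comap (algebraMap Ahat Bhat)) q'.asIdeal
  haveI hloc : IsLocalHom (algebraMap (Localization.AtPrime (q'.asIdeal.comap (algebraMap Ahat Bhat)))
      (Localization.AtPrime q'.asIdeal)) :=
    Localization.isLocalHom_localRingHom _ _ _ _
  have halg2 : ∀ x : Ahat, algebraMap (Localization.AtPrime (q'.asIdeal.comap (algebraMap Ahat Bhat)))
      (Localization.AtPrime q'.asIdeal)
      (algebraMap Ahat (Localization.AtPrime (q'.asIdeal.comap (algebraMap Ahat Bhat))) x) =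
      algebraMap Bhat (Localization.AtPrime q'.asIdeal) (ψ x) := fun x =>
    Localization.localRingHom_to_map _ _ _ rfl x
  letI algPa : Algebra Pa (Localization.AtPrime q'.asIdeal) :=
    ((algebraMap (Localization.AtPrime (q'.asIdeal.comap (algebraMap Ahat Bhat)))
      (Localization.AtPrime q'.asIdeal)).comp
      (algebraMap Pa (Localization.AtPrime (q'.asIdeal.comap (algebraMap Ahat Bhat))))).toAlgebra
  haveI tPa : IsScalarTower Pa (Localization.AtPrime (q'.asIdeal.comap (algebraMap Ahat Bhat)))
      (Localization.AtPrime q'.asIdeal) := IsScalarTower.of_algebraMap_eq (fun _ => rfl)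
  haveI tAPa : IsScalarTower A Pa (Localization.AtPrime q'.asIdeal) :=
    IsScalarTower.of_algebraMap_eq (fun a => by
      show algebraMap A (Localization.AtPrime q'.asIdeal) a =
        algebraMap (Localization.AtPrime (q'.asIdeal.comap (algebraMap Ahat Bhat)))
          (Localization.AtPrime q'.asIdeal)
          (algebraMap Pa (Localization.AtPrime (q'.asIdeal.comap (algebraMap Ahat Bhat)))
            (algebraMap A Pa a))
      rw [IsScalarTower.algebraMap_apply Pa Ahat
        (Localization.AtPrime (q'.asIdeal.comap (algebraMap Ahat Bhat))),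
        ← IsScalarTower.algebraMap_apply A Pa Ahat, halg2, hψA,
        ← IsScalarTower.algebraMap_apply A Bhat (Localization.AtPrime q'.asIdeal)])
  haveI hT2Pa : Module.Flat Pa (Localization.AtPrime q'.asIdeal) :=
    (Module.flat_iff_of_isLocalization Pa M (Localization.AtPrime q'.asIdeal)).mpr hT2A
  have hmax : (((q'.asIdeal.comap (algebraMap Ahat Bhat)).comap (algebraMap Pa Ahat)).map
      (algebraMap Pa (Localization.AtPrime (q'.asIdeal.comap (algebraMap Ahat Bhat))))) =
      IsLocalRing.maximalIdeal (Localization.AtPrime (q'.asIdeal.comap (algebraMap Ahat Bhat))) := by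
    rw [IsScalarTower.algebraMap_eq Pa Ahat
      (Localization.AtPrime (q'.asIdeal.comap (algebraMap Ahat Bhat))), ← Ideal.map_map]
    have hmap' : ((q'.asIdeal.comap (algebraMap Ahat Bhat)).comap (algebraMap Pa Ahat)).map
        (algebraMap Pa Ahat) = q'.asIdeal.comap (algebraMap Ahat Bhat) := hmap
    rw [hmap', Localization.AtPrime.map_eq_maximalIdeal]
  have h1 := Groth.Agent.H2.rTensor_subtype_map_injective (R := Pa)
    (S := Localization.AtPrime (q'.asIdeal.comap (algebraMap Ahat Bhat)))
    (M := Localization.AtPrime q'.asIdeal)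
    ((q'.asIdeal.comap (algebraMap Ahat Bhat)).comap (algebraMap Pa Ahat))
  haveI hismax : (((q'.asIdeal.comap (algebraMap Ahat Bhat)).comap (algebraMap Pa Ahat)).map
      (algebraMap Pa (Localization.AtPrime (q'.asIdeal.comap (algebraMap Ahat Bhat))))).IsMaximal := by
    rw [hmax]
    exact IsLocalRing.maximalIdeal.isMaximal _
  have hne := hismax.ne_top
  letI := Ideal.Quotient.field (((q'.asIdeal.comap (algebraMap Ahat Bhat)).comap
    (algebraMap Pa Ahat)).map
      (algebraMap Pa (Localization.AtPrime (q'.asIdeal.comap (algebraMap Ahat Bhat)))))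
  haveI hfree : Module.Free
      (Localization.AtPrime (q'.asIdeal.comap (algebraMap Ahat Bhat)) ⧸
        (((q'.asIdeal.comap (algebraMap Ahat Bhat)).comap (algebraMap Pa Ahat)).map
          (algebraMap Pa (Localization.AtPrime (q'.asIdeal.comap (algebraMap Ahat Bhat))))))
      ((Localization.AtPrime (q'.asIdeal.comap (algebraMap Ahat Bhat)) ⧸
        (((q'.asIdeal.comap (algebraMap Ahat Bhat)).comap (algebraMap Pa Ahat)).map
          (algebraMap Pa (Localization.AtPrime (q'.asIdeal.comap (algebraMap Ahat Bhat))))))
        ⊗[Localization.AtPrime (q'.asIdeal.comap (algebraMap Ahat Bhat))]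
          Localization.AtPrime q'.asIdeal) := Module.Free.of_divisionRing _ _
  haveI hflatq : Module.Flat
      (Localization.AtPrime (q'.asIdeal.comap (algebraMap Ahat Bhat)) ⧸
        (((q'.asIdeal.comap (algebraMap Ahat Bhat)).comap (algebraMap Pa Ahat)).map
          (algebraMap Pa (Localization.AtPrime (q'.asIdeal.comap (algebraMap Ahat Bhat))))))
      ((Localization.AtPrime (q'.asIdeal.comap (algebraMap Ahat Bhat)) ⧸
        (((q'.asIdeal.comap (algebraMap Ahat Bhat)).comap (algebraMap Pa Ahat)).map
          (algebraMap Pa (Localization.AtPrime (q'.asIdeal.comap (algebraMap Ahat Bhat))))))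
        ⊗[Localization.AtPrime (q'.asIdeal.comap (algebraMap Ahat Bhat))]
          Localization.AtPrime q'.asIdeal) := Module.Flat.of_free
  haveI hflatR2 : Module.Flat (Localization.AtPrime (q'.asIdeal.comap (algebraMap Ahat Bhat)))
      (Localization.AtPrime q'.asIdeal) :=
    Groth.Agent.H2.flat_of_local_criterion (S := Localization.AtPrime q'.asIdeal) _ hne h1
  -- conclusion
  have hcomp : (algebraMap Bhat (Localization.AtPrime q'.asIdeal)).comp ψ =
      algebraMap Ahat (Localization.AtPrime q'.asIdeal) :=
    (IsScalarTower.algebraMap_eq Ahat Bhat (Localization.AtPrime q'.asIdeal)).symm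
  rw [hcomp, RingHom.flat_algebraMap_iff]
  exact Module.Flat.trans Ahat (Localization.AtPrime (q'.asIdeal.comap (algebraMap Ahat Bhat)))
    (Localization.AtPrime q'.asIdeal)

end Main


/-- Let A be a Noetherian ring complete for the adic topology of an ideal I, and B a Noetherian
A-algebra complete for the IB-adic topology with B/IB of finite type over A (an adic morphism,
topologically of finite type, of adic Noetherian topological rings), and assume A/I is a Jacobson
ring. Suppose A → B is naively rig-flat: whenever q is a rig-closed prime of B (IB ⊄ q and q maximal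
among the primes not containing IB), the localization B_q is an A-flat ring. Then A → B is rig-flat:
for every f ∈ A, letting A_{f} and B_{f} be the completed principal localizations (the I-adic
completions of A_f and B_f) and ψ : A_{f} → B_{f} the canonical map, characterised here as any ring
map compatible with A_f → B_f (there is exactly one), the local ring (B_{f})_{q'} is flat over A_{f}
via ψ for every rig-closed prime q' of B_{f} (I B_{f} ⊄ q' and q' maximal among the primes not
containing I B_{f}). (That A_{f} → B_{f} is again adic and topologically of finite type is not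
restated.) -/
theorem result (A : Type u) [CommRing A] [IsNoetherianRing A] (I : Ideal A) [IsAdicComplete I A] (B : Type u) [CommRing B] [Algebra A B] [IsNoetherianRing B] [IsAdicComplete (I.map (algebraMap A B)) B] (hft : Algebra.FiniteType A (B ⧸ (I.map (algebraMap A B)))) (hJ : IsJacobsonRing (A ⧸ I)) (hnaive : ∀ q : PrimeSpectrum B, (¬ (I.map (algebraMap A B)) ≤ q.asIdeal ∧ ∀ y : PrimeSpectrum B, q ≤ y → ¬ (I.map (algebraMap A B)) ≤ y.asIdeal → y = q) → (algebraMap A (Localization.AtPrime q.asIdeal)).Flat) (f : A) (ψ : (AdicCompletion (I.map (algebraMap A (Localization.Away f))) (Localization.Away f)) →+* (AdicCompletion ((I.map (algebraMap A B)).map (algebraMap B (Localization.Away (algebraMap A B f)))) (Localization.Away (algebraMap A B f)))) (hψ : ψ.comp (algebraMap (Localization.Away f) (AdicCompletion (I.map (algebraMap A (Localization.Away f))) (Localization.Away f))) = (algebraMap (Localization.Away (algebraMap A B f)) (AdicCompletion ((I.map (algebraMap A B)).map (algebraMap B (Localization.Away (algebraMap A B f)))) (Localization.Away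 (algebraMap A B f)))).comp (Localization.awayMap (algebraMap A B) f)) (q' : PrimeSpectrum (AdicCompletion ((I.map (algebraMap A B)).map (algebraMap B (Localization.Away (algebraMap A B f)))) (Localization.Away (algebraMap A B f)))) (hq' : (¬ ((((I.map (algebraMap A B))).map (algebraMap B (Localization.Away (algebraMap A B f)))).map (algebraMap (Localization.Away (algebraMap A B f)) (AdicCompletion ((I.map (algebraMap A B)).map (algebraMap B (Localization.Away (algebraMap A B f)))) (Localization.Away (algebraMap A B f))))) ≤ q'.asIdeal ∧ ∀ y : PrimeSpectrum (AdicCompletion ((I.map (algebraMap A B)).map (algebraMap B (Localization.Away (algebraMap A B f)))) (Localization.Away (algebraMap A B f))), q' ≤ y → ¬ ((((I.map (algebraMap A B))).map (algebraMap B (Localization.Away (algebraMap A B f)))).map (algebraMap (Localization.Away (algebraMap A B f)) (AdicCompletion ((I.map (algebraMap A B)).map (algebraMap B (Localization.Away (algebraMap A B f)))) (Localization.Away (algebraMap A B f))))) ≤ y.asIdeal → y = q')) : ((algebraMap (AdicCompletion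 ((I.map (algebraMap A B)).map (algebraMap B (Localization.Away (algebraMap A B f)))) (Localization.Away (algebraMap A B f))) (Localization.AtPrime q'.asIdeal)).comp ψ).Flat := by
  refine main A I B (Localization.Away f)
    (Localization.Away (algebraMap A B f)) (Submonoid.powers f) hft hJ hnaive
    (Localization.awayMap (algebraMap A B) f) ?_ ψ hψ q' hq'
  intro a
  rw [IsScalarTower.algebraMap_apply A B (Localization.Away (algebraMap A B f))]
  exact IsLocalization.map_eq _ a

end Groth.Agent.S8841
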