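import Groth.Statements.S8845
import Groth.Agent.S8840
import Groth.Agent.H44.RigFlat

set_option autoImplicit false
universe u
open AdicRing

namespace Groth.Agent.S8845

open Groth.Agent.H44.RigFlat

section Core

variable (A : Type u) [CommRing A] [IsNoetherianRing A] (I : Ideal A) [IsAdicComplete I A]
  (B : Type u) [CommRing B] [Algebra A B] [IsNoetherianRing B]
  [IsAdicComplete (I.map (algebraMap A B)) B]
  (X : Type u) [CommRing X] [Algebra A X] [IsNoetherianRing X]
  [IsAdicComplete (I.map (algebraMap A X)) X]
  (Y : Type u) [CommRing Y] [Algebra A Y] [IsNoetherianRing Y]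
  [IsAdicComplete (I.map (algebraMap A Y)) Y]
  [Algebra X Y] [IsScalarTower A X Y] [Algebra B Y] [IsScalarTower A B Y]
  (f : A)

local notation "IB" => Ideal.map (algebraMap A B) I
local notation "IX" => Ideal.map (algebraMap A X) I
local notation "IY" => Ideal.map (algebraMap A Y) I
local notation "A1" =>
  AdicCompletion (Ideal.map (algebraMap A (Localization.Away f)) I) (Localization.Away f)
local notation "B1" =>
  AdicCompletion (Ideal.map (algebraMap B (Localization.Away (algebraMap A B f)))
    (Ideal.map (algebraMap A B) I)) (Localization.Away (algebraMap A B f))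
local notation "A2" =>
  AdicCompletion (Ideal.map (algebraMap X (Localization.Away (algebraMap A X f)))
    (Ideal.map (algebraMap A X) I)) (Localization.Away (algebraMap A X f))
local notation "B2" =>
  AdicCompletion (Ideal.map (algebraMap Y (Localization.Away (algebraMap A Y f)))
    (Ideal.map (algebraMap A Y) I)) (Localization.Away (algebraMap A Y f))

omit [IsNoetherianRing A] [IsAdicComplete I A] [IsNoetherianRing B]
  [IsAdicComplete (I.map (algebraMap A B)) B] in
/-- `A_{f} → B_{f}`. -/
noncomputable def ψ1 : A1 →+* B1 :=
  cmap (algebraMap A B) f (algebraMap A B f) rfl I (IB) le_rfl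

omit [IsNoetherianRing A] [IsAdicComplete I A] [IsNoetherianRing X]
  [IsAdicComplete (I.map (algebraMap A X)) X] in
/-- `A_{f} → X_{f}`. -/
noncomputable def α : A1 →+* A2 :=
  cmap (algebraMap A X) f (algebraMap A X f) rfl I (IX) le_rfl

omit [IsNoetherianRing A] [IsAdicComplete I A] [IsNoetherianRing B]
  [IsAdicComplete (I.map (algebraMap A B)) B] [IsNoetherianRing Y]
  [IsAdicComplete (I.map (algebraMap A Y)) Y] in
lemma hBY : (IB).map (algebraMap B Y) ≤ IY := by
  rw [Ideal.map_map, ← IsScalarTower.algebraMap_eq]

omit [IsNoetherianRing A] [IsAdicComplete I A] [IsNoetherianRing X]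
  [IsAdicComplete (I.map (algebraMap A X)) X] [IsNoetherianRing Y]
  [IsAdicComplete (I.map (algebraMap A Y)) Y] in
lemma hXY : (IX).map (algebraMap X Y) ≤ IY := by
  rw [Ideal.map_map, ← IsScalarTower.algebraMap_eq]

omit [IsNoetherianRing A] [IsAdicComplete I A] [IsNoetherianRing B]
  [IsAdicComplete (I.map (algebraMap A B)) B] [IsNoetherianRing Y]
  [IsAdicComplete (I.map (algebraMap A Y)) Y] in
/-- `B_{f} → Y_{f}`. -/
noncomputable def β : B1 →+* B2 :=
  cmap (algebraMap B Y) (algebraMap A B f) (algebraMap A Y f)
    (IsScalarTower.algebraMap_apply A B Y f).symm (IB) (IY) (hBY A I B Y)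

omit [IsNoetherianRing A] [IsAdicComplete I A] [IsNoetherianRing X]
  [IsAdicComplete (I.map (algebraMap A X)) X] [IsNoetherianRing Y]
  [IsAdicComplete (I.map (algebraMap A Y)) Y] in
/-- `X_{f} → Y_{f}`. -/
noncomputable def ψ2 : A2 →+* B2 :=
  cmap (algebraMap X Y) (algebraMap A X f) (algebraMap A Y f)
    (IsScalarTower.algebraMap_apply A X Y f).symm (IX) (IY) (hXY A I X Y)

omit [IsNoetherianRing A] [IsAdicComplete I A] [IsNoetherianRing B]
  [IsAdicComplete (I.map (algebraMap A B)) B] in
lemma ψ1_algebraMap (a : A) :
    ψ1 A I B f (algebraMap A A1 a) = algebraMap B B1 (algebraMap A B a) :=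
  cmap_algebraMap _ _ _ _ _ _ _ a

omit [IsNoetherianRing A] [IsAdicComplete I A] [IsNoetherianRing X]
  [IsAdicComplete (I.map (algebraMap A X)) X] in
lemma α_algebraMap (a : A) :
    α A I X f (algebraMap A A1 a) = algebraMap X A2 (algebraMap A X a) :=
  cmap_algebraMap _ _ _ _ _ _ _ a

omit [IsNoetherianRing A] [IsAdicComplete I A] [IsNoetherianRing B]
  [IsAdicComplete (I.map (algebraMap A B)) B] [IsNoetherianRing Y]
  [IsAdicComplete (I.map (algebraMap A Y)) Y] in
lemma β_algebraMap (b : B) :
    β A I B Y f (algebraMap B B1 b) = algebraMap Y B2 (algebraMap B Y b) :=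
  cmap_algebraMap _ _ _ _ _ _ _ b

omit [IsNoetherianRing A] [IsAdicComplete I A] [IsNoetherianRing X]
  [IsAdicComplete (I.map (algebraMap A X)) X] [IsNoetherianRing Y]
  [IsAdicComplete (I.map (algebraMap A Y)) Y] in
lemma ψ2_algebraMap (x : X) :
    ψ2 A I X Y f (algebraMap X A2 x) = algebraMap Y B2 (algebraMap X Y x) :=
  cmap_algebraMap _ _ _ _ _ _ _ x

omit [IsNoetherianRing A] [IsAdicComplete I A] [IsNoetherianRing B]
  [IsAdicComplete (I.map (algebraMap A B)) B] in
lemma compat : (ψ1 A I B f).comp (algebraMap (Localization.Away f) A1) =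
    (algebraMap (Localization.Away (algebraMap A B f)) B1).comp
      (Localization.awayMap (algebraMap A B) f) := by
  unfold ψ1
  rw [cmap_comp_algebraMap_away, locMap_eq_awayMap]

omit [IsNoetherianRing A] [IsAdicComplete I A] [IsNoetherianRing B]
  [IsAdicComplete (I.map (algebraMap A B)) B] [IsNoetherianRing X]
  [IsAdicComplete (I.map (algebraMap A X)) X] [IsNoetherianRing Y]
  [IsAdicComplete (I.map (algebraMap A Y)) Y] in
lemma square : (β A I B Y f).comp (ψ1 A I B f) = (ψ2 A I X Y f).comp (α A I X f) := by
  have heq : (algebraMap B Y).comp (algebraMap A B) = (algebraMap X Y).comp (algebraMap A X) := by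
    rw [← IsScalarTower.algebraMap_eq A B Y, ← IsScalarTower.algebraMap_eq A X Y]
  have hxz1 : ((algebraMap B Y).comp (algebraMap A B)) f = algebraMap A Y f :=
    (IsScalarTower.algebraMap_apply A B Y f).symm
  have hxz2 : ((algebraMap X Y).comp (algebraMap A X)) f = algebraMap A Y f :=
    (IsScalarTower.algebraMap_apply A X Y f).symm
  have hJL1 : I.map ((algebraMap B Y).comp (algebraMap A B)) ≤ IY :=
    le_of_eq (by rw [← IsScalarTower.algebraMap_eq A B Y])
  have hJL2 : I.map ((algebraMap X Y).comp (algebraMap A X)) ≤ IY :=
    le_of_eq (by rw [← IsScalarTower.algebraMap_eq A X Y])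
  refine RingHom.ext fun w => ?_
  rw [RingHom.comp_apply, RingHom.comp_apply]
  have e1 : β A I B Y f (ψ1 A I B f w) =
      cmap ((algebraMap B Y).comp (algebraMap A B)) f (algebraMap A Y f) hxz1 I (IY) hJL1 w :=
    cmap_comp (algebraMap A B) f (algebraMap A B f) rfl I (IB) le_rfl (algebraMap B Y)
      (algebraMap A Y f) (IsScalarTower.algebraMap_apply A B Y f).symm (IY) (hBY A I B Y)
      hxz1 hJL1 w
  have e2 : ψ2 A I X Y f (α A I X f w) =
      cmap ((algebraMap X Y).comp (algebraMap A X)) f (algebraMap A Y f) hxz2 I (IY) hJL2 w :=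
    cmap_comp (algebraMap A X) f (algebraMap A X f) rfl I (IX) le_rfl (algebraMap X Y)
      (algebraMap A Y f) (IsScalarTower.algebraMap_apply A X Y f).symm (IY) (hXY A I X Y)
      hxz2 hJL2 w
  rw [e1, e2, cmap_congr _ f (algebraMap A Y f) hxz1 I (IY) hJL1 _ heq hxz2 hJL2]

/-- towers for the four completed localizations. -/
lemma towerAX : IsScalarTower A X A2 :=
  IsScalarTower.of_algebraMap_eq (fun a => by
    rw [AdicCompletion.algebraMap_apply, AdicCompletion.algebraMap_apply,
      ← IsScalarTower.algebraMap_apply A X (Localization.Away (algebraMap A X f))])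

omit [IsNoetherianRing A] [IsAdicComplete I A] [IsNoetherianRing B]
  [IsAdicComplete (I.map (algebraMap A B)) B] [IsNoetherianRing Y]
  [IsAdicComplete (I.map (algebraMap A Y)) Y] in
lemma towerBY : IsScalarTower B Y B2 :=
  IsScalarTower.of_algebraMap_eq (fun b => by
    rw [AdicCompletion.algebraMap_apply, AdicCompletion.algebraMap_apply,
      ← IsScalarTower.algebraMap_apply B Y (Localization.Away (algebraMap A Y f))])

omit [IsNoetherianRing A] [IsAdicComplete I A] [IsNoetherianRing X]
  [IsAdicComplete (I.map (algebraMap A X)) X] [IsNoetherianRing Y]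
  [IsAdicComplete (I.map (algebraMap A Y)) Y] [IsScalarTower A X Y] in
lemma towerXY : IsScalarTower X Y B2 :=
  IsScalarTower.of_algebraMap_eq (fun b => by
    rw [AdicCompletion.algebraMap_apply, AdicCompletion.algebraMap_apply,
      ← IsScalarTower.algebraMap_apply X Y (Localization.Away (algebraMap A Y f))])

/-- ideal identities. -/
lemma hJβ : ((IB).map (algebraMap B B1)).map (β A I B Y f) = (IY).map (algebraMap Y B2) := by
  have h1 : (β A I B Y f).comp (algebraMap B B1) = (algebraMap Y B2).comp (algebraMap B Y) :=
    RingHom.ext fun b => β_algebraMap A I B Y f b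
  have h2 : ((IB).map (algebraMap B B1)).map (β A I B Y f) =
      (IB).map ((β A I B Y f).comp (algebraMap B B1)) := Ideal.map_map _ _
  have h3 : ((IB).map (algebraMap B Y)).map (algebraMap Y B2) =
      (IB).map ((algebraMap Y B2).comp (algebraMap B Y)) := Ideal.map_map _ _
  have h4 : (IB).map (algebraMap B Y) = IY := by
    rw [Ideal.map_map, ← IsScalarTower.algebraMap_eq]
  rw [h2, h1, ← h3, h4]

lemma hJψ2 : ((IX).map (algebraMap X A2)).map (ψ2 A I X Y f) = (IY).map (algebraMap Y B2) := by
  have h1 : (ψ2 A I X Y f).comp (algebraMap X A2) = (algebraMap Y B2).comp (algebraMap X Y) :=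
    RingHom.ext fun b => ψ2_algebraMap A I X Y f b
  have h2 : ((IX).map (algebraMap X A2)).map (ψ2 A I X Y f) =
      (IX).map ((ψ2 A I X Y f).comp (algebraMap X A2)) := Ideal.map_map _ _
  have h3 : ((IX).map (algebraMap X Y)).map (algebraMap Y B2) =
      (IX).map ((algebraMap Y B2).comp (algebraMap X Y)) := Ideal.map_map _ _
  have h4 : (IX).map (algebraMap X Y) = IY := by
    rw [Ideal.map_map, ← IsScalarTower.algebraMap_eq]
  rw [h2, h1, ← h3, h4]

lemma hJα : (I.map (algebraMap A A1)).map (α A I X f) = (IX).map (algebraMap X A2) := by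
  have h1 : (α A I X f).comp (algebraMap A A1) = (algebraMap X A2).comp (algebraMap A X) :=
    RingHom.ext fun b => α_algebraMap A I X f b
  have h2 : (I.map (algebraMap A A1)).map (α A I X f) =
      I.map ((α A I X f).comp (algebraMap A A1)) := Ideal.map_map _ _
  have h3 : (I.map (algebraMap A X)).map (algebraMap X A2) =
      I.map ((algebraMap X A2).comp (algebraMap A X)) := Ideal.map_map _ _
  rw [h2, h1, ← h3]

omit [IsAdicComplete (I.map (algebraMap A X)) X] in
set_option maxHeartbeats 1000000 in
theorem step5 (hYft : Algebra.FiniteType A (Y ⧸ IY)) (q : PrimeSpectrum Y)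
    (hq : ¬ (IY) ≤ q.asIdeal ∧ ∀ y : PrimeSpectrum Y, q ≤ y → ¬ (IY) ≤ y.asIdeal → y = q)
    (hgood : Groth.Agent.S8840.Good A Y q.asIdeal f) :
    (q.asIdeal.map (algebraMap Y B2)).IsPrime ∧
    (q.asIdeal.map (algebraMap Y B2)).comap (algebraMap Y B2) = q.asIdeal ∧
    (¬ ((IY).map (algebraMap Y B2)) ≤ q.asIdeal.map (algebraMap Y B2) ∧
      ∀ y : PrimeSpectrum B2, q.asIdeal.map (algebraMap Y B2) ≤ y.asIdeal →
        ¬ ((IY).map (algebraMap Y B2)) ≤ y.asIdeal →
          y.asIdeal = q.asIdeal.map (algebraMap Y B2)) ∧
    ((Ideal.Quotient.mk (q.asIdeal.map (algebraMap Y B2))).comp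
      ((ψ2 A I X Y f).comp (α A I X f))).Finite ∧
    (¬ I.map (algebraMap A A1) ≤
        ((q.asIdeal.map (algebraMap Y B2)).comap (ψ2 A I X Y f)).comap (α A I X f) ∧
      ∀ y : PrimeSpectrum A1,
        ((q.asIdeal.map (algebraMap Y B2)).comap (ψ2 A I X Y f)).comap (α A I X f) ≤ y.asIdeal →
        ¬ I.map (algebraMap A A1) ≤ y.asIdeal →
          y.asIdeal =
            ((q.asIdeal.map (algebraMap Y B2)).comap (ψ2 A I X Y f)).comap (α A I X f)) := by
  haveI hqp := q.isPrime
  haveI tA1 := Groth.Agent.S8839.tower A I (Localization.Away f)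
  haveI nA1 := Groth.Agent.S8839.noeth A I (Localization.Away f)
  haveI cA1 := Groth.Agent.S8839.complete A I (Localization.Away f)
  haveI nB2 := Groth.Agent.S8839.noeth Y (IY) (Localization.Away (algebraMap A Y f))
  haveI cB2 := Groth.Agent.S8839.complete Y (IY) (Localization.Away (algebraMap A Y f))
  obtain ⟨hprime, hbij⟩ := Groth.Agent.S8837.result Y (IY) q.asIdeal (algebraMap A Y f) hgood.1
  haveI := hprime
  letI algψ : Algebra A1 B2 := ((ψ2 A I X Y f).comp (α A I X f)).toAlgebra
  have hψA : ∀ a : A, algebraMap A1 B2 (algebraMap A A1 a) =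
      algebraMap Y B2 (algebraMap A Y a) := by
    intro a
    show ψ2 A I X Y f (α A I X f (algebraMap A A1 a)) = _
    rw [α_algebraMap, ψ2_algebraMap, ← IsScalarTower.algebraMap_apply A X Y]
  have hf1 : IsUnit (algebraMap A A1 f) := by
    rw [IsScalarTower.algebraMap_apply A (Localization.Away f) A1]
    exact (IsLocalization.Away.algebraMap_isUnit f).map _
  obtain ⟨-, h2, h3, h4, h5⟩ := Groth.Agent.S8840.finite_of_good A I Y hYft q hq f hgood
    A1 hf1 B2 hbij hψA
  exact ⟨hprime, h2, h3, RingHom.finite_algebraMap.mpr h4, h5⟩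

/-- rig-closedness of a contraction, `RingHom` form. -/
theorem rigClosed_comap' (R S : Type u) [CommRing R] [CommRing S] [IsNoetherianRing R]
    [IsNoetherianRing S] (φ : R →+* S) (JR : Ideal R) [IsAdicComplete JR R] (JS : Ideal S)
    [hc : IsAdicComplete JS S] (hJ : JR.map φ = JS) (q : Ideal S) [hq : q.IsPrime]
    (hrig : ¬ JS ≤ q ∧ ∀ y : PrimeSpectrum S, q ≤ y.asIdeal → ¬ JS ≤ y.asIdeal → y.asIdeal = q)
    (hfin : ((Ideal.Quotient.mk q).comp φ).Finite) :
    ¬ JR ≤ q.comap φ ∧ ∀ y : PrimeSpectrum R, q.comap φ ≤ y.asIdeal →
      ¬ JR ≤ y.asIdeal → y.asIdeal = q.comap φ := by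
  letI := φ.toAlgebra
  haveI : Module.Finite R (S ⧸ q) := RingHom.finite_algebraMap.mp hfin
  exact rigClosed_comap R S JR JS hJ q hrig

set_option maxHeartbeats 1000000 in
/-- `B_{f} → Y_{f}` is flat. -/
theorem beta_flat [Module.Flat B Y] : (β A I B Y f).Flat := by
  haveI nB1 := Groth.Agent.S8839.noeth B (IB) (Localization.Away (algebraMap A B f))
  haveI tB1 := Groth.Agent.S8839.tower B (IB) (Localization.Away (algebraMap A B f))
  haveI nB2 := Groth.Agent.S8839.noeth Y (IY) (Localization.Away (algebraMap A Y f))
  haveI cB2 := Groth.Agent.S8839.complete Y (IY) (Localization.Away (algebraMap A Y f))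
  haveI tY := Groth.Agent.S8839.tower Y (IY) (Localization.Away (algebraMap A Y f))
  haveI tBY := towerBY A I B Y f
  -- `Away g → B2` is flat
  have hflat0 : ((β A I B Y f).comp
      (algebraMap (Localization.Away (algebraMap A B f)) B1)).Flat := by
    haveI : Module.Flat Y B2 := Module.Flat.trans Y (Localization.Away (algebraMap A Y f)) B2
    haveI : Module.Flat B B2 := Module.Flat.trans B Y B2
    letI : Algebra (Localization.Away (algebraMap A B f)) B2 :=
      ((β A I B Y f).comp (algebraMap (Localization.Away (algebraMap A B f)) B1)).toAlgebra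
    haveI : IsScalarTower B (Localization.Away (algebraMap A B f)) B2 :=
      IsScalarTower.of_algebraMap_eq (fun b => by
        show algebraMap B B2 b = β A I B Y f
          (algebraMap (Localization.Away (algebraMap A B f)) B1
            (algebraMap B (Localization.Away (algebraMap A B f)) b))
        rw [← IsScalarTower.algebraMap_apply B (Localization.Away (algebraMap A B f)) B1,
          β_algebraMap, ← IsScalarTower.algebraMap_apply B Y B2])
    show Module.Flat (Localization.Away (algebraMap A B f)) B2
    exact (Module.flat_iff_of_isLocalization (Localization.Away (algebraMap A B f))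
      (Submonoid.powers (algebraMap A B f)) B2).mpr inferInstance
  refine flat_of_maximal_extended (algebraMap (Localization.Away (algebraMap A B f)) B1)
    (β A I B Y f) hflat0 ?_
  intro 𝔫 h𝔫
  refine ⟨(𝔫.comap (β A I B Y f)).comap (algebraMap (Localization.Away (algebraMap A B f)) B1), ?_⟩
  refine map_comap_eq_of_dense (algebraMap (Localization.Away (algebraMap A B f)) B1)
    ((IB).map (algebraMap B (Localization.Away (algebraMap A B f)))) ?_ _ ?_
  · intro s
    obtain ⟨a, ha⟩ := Groth.Agent.S8839.dense B (IB) (Localization.Away (algebraMap A B f)) s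
    refine ⟨a, ?_⟩
    rw [Groth.Agent.S8839.mapeq B (IB) (Localization.Away (algebraMap A B f))]
    exact ha
  · rw [Groth.Agent.S8839.mapeq B (IB) (Localization.Away (algebraMap A B f)),
      ← Ideal.map_le_iff_le_comap, hJβ]
    exact (IsAdicComplete.le_jacobson_bot ((IY).map (algebraMap Y B2))).trans
      (sInf_le ⟨bot_le, h𝔫⟩)

set_option maxHeartbeats 1000000 in
/-- the maximal ideal of `(X_{f})_{p2}` is generated by the rig-closed prime of `A_{f}` below. -/
theorem stepM (hXft : Algebra.FiniteType A (X ⧸ IX))
    [hXu : Algebra.FormallyUnramified A (X ⧸ IX)] (p2 : Ideal A2) [p2.IsPrime]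
    (hp1 : ¬ I.map (algebraMap A A1) ≤ p2.comap (α A I X f) ∧
      ∀ y : PrimeSpectrum A1, p2.comap (α A I X f) ≤ y.asIdeal →
        ¬ I.map (algebraMap A A1) ≤ y.asIdeal → y.asIdeal = p2.comap (α A I X f)) :
    ((p2.comap (α A I X f)).map (α A I X f)).map (algebraMap A2 (Localization.AtPrime p2)) =
      IsLocalRing.maximalIdeal (Localization.AtPrime p2) := by
  haveI tA1 := Groth.Agent.S8839.tower A I (Localization.Away f)
  haveI nA1 := Groth.Agent.S8839.noeth A I (Localization.Away f)
  haveI cA1 := Groth.Agent.S8839.complete A I (Localization.Away f)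
  haveI nA2 := Groth.Agent.S8839.noeth X (IX) (Localization.Away (algebraMap A X f))
  haveI cA2 := Groth.Agent.S8839.complete X (IX) (Localization.Away (algebraMap A X f))
  haveI tAX := towerAX A I X f
  letI algα : Algebra A1 A2 := (α A I X f).toAlgebra
  haveI tAA1 : IsScalarTower A A1 A2 := IsScalarTower.of_algebraMap_eq (fun a => by
    show algebraMap A A2 a = α A I X f (algebraMap A A1 a)
    rw [α_algebraMap, ← IsScalarTower.algebraMap_apply A X A2])
  have hIeq : (I.map (algebraMap A A1)).map (algebraMap A1 A2) = (IX).map (algebraMap X A2) :=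
    hJα A I X f
  haveI cA2' : IsAdicComplete ((I.map (algebraMap A A1)).map (algebraMap A1 A2)) A2 := by
    rw [hIeq]
    exact cA2
  have hft0 : Algebra.FiniteType A (A2 ⧸ (IX).map (algebraMap X A2)) :=
    finiteType_quotient_trans (R := A) (S := X) (T := A2) (IX) ((IX).map (algebraMap X A2))
      le_rfl hXft (finiteType_cl_quot X (IX) (algebraMap A X f) _ le_rfl)
  haveI hu0' : Algebra.FormallyUnramified X (A2 ⧸ (IX).map (algebraMap X A2)) :=
    formallyUnramified_cl_quot X (IX) (algebraMap A X f) _ le_rfl
  have hu0 : Algebra.FormallyUnramified A (A2 ⧸ (IX).map (algebraMap X A2)) :=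
    formallyUnramified_quotient_trans (R := A) (S := X) (T := A2) (IX)
      ((IX).map (algebraMap X A2)) le_rfl
  have hft1 : Algebra.FiniteType A (A2 ⧸ (I.map (algebraMap A A1)).map (algebraMap A1 A2)) := by
    rw [hIeq]
    exact hft0
  haveI hu1 : Algebra.FormallyUnramified A
      (A2 ⧸ (I.map (algebraMap A A1)).map (algebraMap A1 A2)) := by
    rw [hIeq]
    exact hu0
  have hft2 : Algebra.FiniteType A1 (A2 ⧸ (I.map (algebraMap A A1)).map (algebraMap A1 A2)) := by
    haveI := hft1
    exact Algebra.FiniteType.of_restrictScalars_finiteType A A1 _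
  haveI hu2 : Algebra.FormallyUnramified A1
      (A2 ⧸ (I.map (algebraMap A A1)).map (algebraMap A1 A2)) :=
    Algebra.FormallyUnramified.of_restrictScalars A A1 _
  exact map_eq_maximalIdeal A1 (I.map (algebraMap A A1)) A2 hft2 p2 hp1

set_option maxHeartbeats 2000000 in
theorem core_f (hAB : (∀ f : A, ∀ ψf : (AdicCompletion (I.map (algebraMap A (Localization.Away f))) (Localization.Away f)) →+* (AdicCompletion ((I.map (algebraMap A B)).map (algebraMap B (Localization.Away (algebraMap A B f)))) (Localization.Away (algebraMap A B f))), ψf.comp (algebraMap (Localization.Away f) (AdicCompletion (I.map (algebraMap A (Localization.Away f))) (Localization.Away f))) = (algebraMap (Localization.Away (algebraMap A B f)) (AdicCompletion ((I.map (algebraMap A B)).map (algebraMap B (Localization.Away (algebraMap A B f)))) (Localization.Away (algebraMap A B f)))).comp (Localization.awayMap (algebraMap A B) f) → ∀ qf : PrimeSpectrum (AdicCompletion ((I.map (algebraMap A B)).map (algebraMap B (Localization.Away (algebraMap A B f)))) (Localization.Away (algebraMap A B f))), (¬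 (((I.map (algebraMap A B)).map (algebraMap B (Localization.Away (algebraMap A B f)))).map (algebraMap (Localization.Away (algebraMap A B f)) (AdicCompletion ((I.map (algebraMap A B)).map (algebraMap B (Localization.Away (algebraMap A B f)))) (Localization.Away (algebraMap A B f))))) ≤ qf.asIdeal ∧ ∀ y : PrimeSpectrum (AdicCompletion ((I.map (algebraMap A B)).map (algebraMap B (Localization.Away (algebraMap A B f)))) (Localization.Away (algebraMap A B f))), qf ≤ y → ¬ (((I.map (algebraMap A B)).map (algebraMap B (Localization.Away (algebraMap A B f)))).map (algebraMap (Localization.Away (algebraMap A B f)) (AdicCompletion ((I.map (algebraMap A B)).map (algebraMap B (Localization.Away (algebraMap A B f)))) (Localization.Away (algebraMap A B f))))) ≤ y.asIdeal → y = qf) → ((algebraMap (AdicCompletion ((I.map (algebraMap A B)).map (algebraMap B (Localization.Away (algebraMap A B f)))) (Localization.Away (algebraMap A B f))) (Localization.AtPrime qf.asIdeal)).comp ψf).Flat))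
    (hXft : Algebra.FiniteType A (X ⧸ IX)) [hXu : Algebra.FormallyUnramified A (X ⧸ IX)]
    (hYft : Algebra.FiniteType A (Y ⧸ IY)) [hBYflat : Module.Flat B Y] (q : PrimeSpectrum Y)
    (hq : ¬ (IY) ≤ q.asIdeal ∧ ∀ y : PrimeSpectrum Y, q ≤ y → ¬ (IY) ≤ y.asIdeal → y = q)
    (hgood : Groth.Agent.S8840.Good A Y q.asIdeal f) :
    Module.Flat X (Localization.AtPrime q.asIdeal) := by
  classical
  haveI hqp := q.isPrime
  haveI tA1 := Groth.Agent.S8839.tower A I (Localization.Away f)
  haveI nA1 := Groth.Agent.S8839.noeth A I (Localization.Away f)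
  haveI cA1 := Groth.Agent.S8839.complete A I (Localization.Away f)
  haveI tB1 := Groth.Agent.S8839.tower B (IB) (Localization.Away (algebraMap A B f))
  haveI nB1 := Groth.Agent.S8839.noeth B (IB) (Localization.Away (algebraMap A B f))
  haveI cB1 := Groth.Agent.S8839.complete B (IB) (Localization.Away (algebraMap A B f))
  haveI tA2 := Groth.Agent.S8839.tower X (IX) (Localization.Away (algebraMap A X f))
  haveI nA2 := Groth.Agent.S8839.noeth X (IX) (Localization.Away (algebraMap A X f))
  haveI cA2 := Groth.Agent.S8839.complete X (IX) (Localization.Away (algebraMap A X f))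
  haveI tB2 := Groth.Agent.S8839.tower Y (IY) (Localization.Away (algebraMap A Y f))
  haveI nB2 := Groth.Agent.S8839.noeth Y (IY) (Localization.Away (algebraMap A Y f))
  haveI cB2 := Groth.Agent.S8839.complete Y (IY) (Localization.Away (algebraMap A Y f))
  obtain ⟨hprime, hcomap, hrig2, hfin, hp1⟩ := step5 A I X Y f hYft q hq hgood
  haveI := hprime
  haveI hq1p : ((q.asIdeal.map (algebraMap Y B2)).comap (β A I B Y f)).IsPrime :=
    Ideal.comap_isPrime _ _
  haveI hp2p : ((q.asIdeal.map (algebraMap Y B2)).comap (ψ2 A I X Y f)).IsPrime :=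
    Ideal.comap_isPrime _ _
  -- finiteness over `B1`
  have hfinB1 : ((Ideal.Quotient.mk (q.asIdeal.map (algebraMap Y B2))).comp
      (β A I B Y f)).Finite := by
    have h : (((Ideal.Quotient.mk (q.asIdeal.map (algebraMap Y B2))).comp
        (β A I B Y f)).comp (ψ1 A I B f)).Finite := by
      rw [RingHom.comp_assoc, square A I B X Y f]
      exact hfin
    exact RingHom.Finite.of_comp_finite h
  -- `q1` is rig-closed
  have hq1 := rigClosed_comap' B1 B2 (β A I B Y f) ((IB).map (algebraMap B B1))
    ((IY).map (algebraMap Y B2)) (hJβ A I B Y f) (q.asIdeal.map (algebraMap Y B2)) hrig2 hfinB1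
  have hq1' : ¬ (((IB).map (algebraMap B (Localization.Away (algebraMap A B f)))).map
        (algebraMap (Localization.Away (algebraMap A B f)) B1)) ≤
        (⟨(q.asIdeal.map (algebraMap Y B2)).comap (β A I B Y f), hq1p⟩ :
          PrimeSpectrum B1).asIdeal ∧
      ∀ y : PrimeSpectrum B1,
        (⟨(q.asIdeal.map (algebraMap Y B2)).comap (β A I B Y f), hq1p⟩ : PrimeSpectrum B1) ≤ y →
        ¬ (((IB).map (algebraMap B (Localization.Away (algebraMap A B f)))).map
          (algebraMap (Localization.Away (algebraMap A B f)) B1)) ≤ y.asIdeal →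
        y = ⟨(q.asIdeal.map (algebraMap Y B2)).comap (β A I B Y f), hq1p⟩ := by
    rw [Groth.Agent.S8839.mapeq B (IB) (Localization.Away (algebraMap A B f))]
    exact ⟨hq1.1, fun y hy hIy => PrimeSpectrum.ext (hq1.2 y hy hIy)⟩
  have hflat1 := hAB f (ψ1 A I B f) (compat A I B f)
    ⟨(q.asIdeal.map (algebraMap Y B2)).comap (β A I B Y f), hq1p⟩ hq1'
  -- `T` is flat over `A1`
  have hβ := beta_flat A I B Y f
  have hγ : (Localization.localRingHom ((q.asIdeal.map (algebraMap Y B2)).comap (β A I B Y f))
      (q.asIdeal.map (algebraMap Y B2)) (β A I B Y f) rfl).Flat :=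
    RingHom.Flat.localRingHom hβ _ _ rfl
  have hT1 : ((algebraMap B2 (Localization.AtPrime (q.asIdeal.map (algebraMap Y B2)))).comp
      ((ψ2 A I X Y f).comp (α A I X f))).Flat := by
    have e : (Localization.localRingHom ((q.asIdeal.map (algebraMap Y B2)).comap (β A I B Y f))
        (q.asIdeal.map (algebraMap Y B2)) (β A I B Y f) rfl).comp
        ((algebraMap B1 (Localization.AtPrime
          ((q.asIdeal.map (algebraMap Y B2)).comap (β A I B Y f)))).comp (ψ1 A I B f)) =
        (algebraMap B2 (Localization.AtPrime (q.asIdeal.map (algebraMap Y B2)))).comp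
          ((β A I B Y f).comp (ψ1 A I B f)) := by
      refine RingHom.ext fun x => ?_
      rw [RingHom.comp_apply, RingHom.comp_apply, RingHom.comp_apply, RingHom.comp_apply,
        Localization.localRingHom_to_map]
    rw [← square A I B X Y f, ← e]
    exact hflat1.comp hγ
  -- the maximal ideal of `R2`
  have hmax := stepM A I X f hXft ((q.asIdeal.map (algebraMap Y B2)).comap (ψ2 A I X Y f)) hp1
  haveI hlocχ : IsLocalHom (Localization.localRingHom
      ((q.asIdeal.map (algebraMap Y B2)).comap (ψ2 A I X Y f))
      (q.asIdeal.map (algebraMap Y B2)) (ψ2 A I X Y f) rfl) :=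
    Localization.isLocalHom_localRingHom _ _ _ _
  have hχ : (Localization.localRingHom ((q.asIdeal.map (algebraMap Y B2)).comap (ψ2 A I X Y f))
      (q.asIdeal.map (algebraMap Y B2)) (ψ2 A I X Y f) rfl).Flat := by
    refine flat_of_maximalIdeal_extended
      ((algebraMap A2 (Localization.AtPrime
        ((q.asIdeal.map (algebraMap Y B2)).comap (ψ2 A I X Y f)))).comp (α A I X f))
      (Localization.localRingHom ((q.asIdeal.map (algebraMap Y B2)).comap (ψ2 A I X Y f))
        (q.asIdeal.map (algebraMap Y B2)) (ψ2 A I X Y f) rfl) ?_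
      (((q.asIdeal.map (algebraMap Y B2)).comap (ψ2 A I X Y f)).comap (α A I X f)) ?_
    · have e : (Localization.localRingHom
          ((q.asIdeal.map (algebraMap Y B2)).comap (ψ2 A I X Y f))
          (q.asIdeal.map (algebraMap Y B2)) (ψ2 A I X Y f) rfl).comp
          ((algebraMap A2 (Localization.AtPrime
            ((q.asIdeal.map (algebraMap Y B2)).comap (ψ2 A I X Y f)))).comp (α A I X f)) =
          (algebraMap B2 (Localization.AtPrime (q.asIdeal.map (algebraMap Y B2)))).comp
            ((ψ2 A I X Y f).comp (α A I X f)) := by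
        refine RingHom.ext fun x => ?_
        rw [RingHom.comp_apply, RingHom.comp_apply, RingHom.comp_apply, RingHom.comp_apply,
          Localization.localRingHom_to_map]
      rw [e]
      exact hT1
    · rw [← Ideal.map_map]
      exact hmax
  -- `T` is flat over `X`
  haveI hXA2 : Module.Flat X A2 :=
    Module.Flat.trans X (Localization.Away (algebraMap A X f)) A2
  have hX : ((Localization.localRingHom ((q.asIdeal.map (algebraMap Y B2)).comap (ψ2 A I X Y f))
      (q.asIdeal.map (algebraMap Y B2)) (ψ2 A I X Y f) rfl).comp
      ((algebraMap A2 (Localization.AtPrime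
        ((q.asIdeal.map (algebraMap Y B2)).comap (ψ2 A I X Y f)))).comp (algebraMap X A2))).Flat :=
    ((RingHom.flat_algebraMap_iff.mpr inferInstance : (algebraMap X A2).Flat).comp
      (RingHom.flat_algebraMap_iff.mpr inferInstance :
        (algebraMap A2 (Localization.AtPrime
          ((q.asIdeal.map (algebraMap Y B2)).comap (ψ2 A I X Y f)))).Flat)).comp hχ
  -- descent along `Y_q → T`
  haveI hYB2 : Module.Flat Y B2 :=
    Module.Flat.trans Y (Localization.Away (algebraMap A Y f)) B2
  have hδ : (Localization.localRingHom q.asIdeal (q.asIdeal.map (algebraMap Y B2))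
      (algebraMap Y B2) hcomap.symm).Flat :=
    RingHom.Flat.localRingHom (RingHom.flat_algebraMap_iff.mpr inferInstance) _ _ hcomap.symm
  letI algYqT : Algebra (Localization.AtPrime q.asIdeal)
      (Localization.AtPrime (q.asIdeal.map (algebraMap Y B2))) :=
    (Localization.localRingHom q.asIdeal (q.asIdeal.map (algebraMap Y B2))
      (algebraMap Y B2) hcomap.symm).toAlgebra
  haveI tXYB2 : IsScalarTower X Y B2 := towerXY A I X Y f
  haveI tXT : IsScalarTower X (Localization.AtPrime q.asIdeal)
      (Localization.AtPrime (q.asIdeal.map (algebraMap Y B2))) :=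
    IsScalarTower.of_algebraMap_eq (fun x => by
      show algebraMap X (Localization.AtPrime (q.asIdeal.map (algebraMap Y B2))) x =
        Localization.localRingHom q.asIdeal (q.asIdeal.map (algebraMap Y B2))
          (algebraMap Y B2) hcomap.symm (algebraMap X (Localization.AtPrime q.asIdeal) x)
      rw [IsScalarTower.algebraMap_apply X Y (Localization.AtPrime q.asIdeal),
        Localization.localRingHom_to_map,
        IsScalarTower.algebraMap_apply X B2 (Localization.AtPrime (q.asIdeal.map (algebraMap Y B2))),
        IsScalarTower.algebraMap_apply X Y B2])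
  haveI hlocδ : IsLocalHom (algebraMap (Localization.AtPrime q.asIdeal)
      (Localization.AtPrime (q.asIdeal.map (algebraMap Y B2)))) :=
    Localization.isLocalHom_localRingHom _ _ _ _
  haveI hflatδ : Module.Flat (Localization.AtPrime q.asIdeal)
      (Localization.AtPrime (q.asIdeal.map (algebraMap Y B2))) := hδ
  haveI hff : Module.FaithfullyFlat (Localization.AtPrime q.asIdeal)
      (Localization.AtPrime (q.asIdeal.map (algebraMap Y B2))) :=
    Module.FaithfullyFlat.of_flat_of_isLocalHom
  haveI hXT : Module.Flat X (Localization.AtPrime (q.asIdeal.map (algebraMap Y B2))) := by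
    have e : algebraMap X (Localization.AtPrime (q.asIdeal.map (algebraMap Y B2))) =
        (Localization.localRingHom ((q.asIdeal.map (algebraMap Y B2)).comap (ψ2 A I X Y f))
          (q.asIdeal.map (algebraMap Y B2)) (ψ2 A I X Y f) rfl).comp
          ((algebraMap A2 (Localization.AtPrime
            ((q.asIdeal.map (algebraMap Y B2)).comap (ψ2 A I X Y f)))).comp
            (algebraMap X A2)) := by
      refine RingHom.ext fun x => ?_
      rw [IsScalarTower.algebraMap_apply X B2 (Localization.AtPrime (q.asIdeal.map (algebraMap Y B2))),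
        IsScalarTower.algebraMap_apply X Y B2, RingHom.comp_apply, RingHom.comp_apply,
        Localization.localRingHom_to_map, ψ2_algebraMap]
    have h : (algebraMap X (Localization.AtPrime (q.asIdeal.map (algebraMap Y B2)))).Flat := by
      rw [e]
      exact hX
    exact RingHom.flat_algebraMap_iff.mp h
  exact Groth.Agent.H2.flat_of_faithfullyFlat_module (R := X)
    (S := Localization.AtPrime q.asIdeal)
    (M := Localization.AtPrime (q.asIdeal.map (algebraMap Y B2)))

set_option maxHeartbeats 1000000 in
theorem core (hAB : (∀ f : A, ∀ ψf : (AdicCompletion (I.map (algebraMap A (Localization.Away f))) (Localization.Away f)) →+* (AdicCompletion ((I.map (algebraMap A B)).map (algebraMap B (Localization.Away (algebraMap A B f)))) (Localization.Away (algebraMap A B f))), ψf.comp (algebraMap (Localization.Away f) (AdicCompletion (I.map (algebraMap A (Localization.Away f))) (Localization.Away f))) = (algebraMap (Localization.Away (algebraMap A B f)) (AdicCompletion ((I.map (algebraMap A B)).map (algebraMap B (Localization.Away (algebraMap A B f)))) (Localization.Away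 (algebraMap A B f)))).comp (Localization.awayMap (algebraMap A B) f) → ∀ qf : PrimeSpectrum (AdicCompletion ((I.map (algebraMap A B)).map (algebraMap B (Localization.Away (algebraMap A B f)))) (Localization.Away (algebraMap A B f))), (¬ (((I.map (algebraMap A B)).map (algebraMap B (Localization.Away (algebraMap A B f)))).map (algebraMap (Localization.Away (algebraMap A B f)) (AdicCompletion ((I.map (algebraMap A B)).map (algebraMap B (Localization.Away (algebraMap A B f)))) (Localization.Away (algebraMap A B f))))) ≤ qf.asIdeal ∧ ∀ y : PrimeSpectrum (AdicCompletion ((I.map (algebraMap A B)).map (algebraMap B (Localization.Away (algebraMap A B f)))) (Localization.Away (algebraMap A B f))), qf ≤ y → ¬ (((I.map (algebraMap A B)).map (algebraMap B (Localization.Away (algebraMap A B f)))).map (algebraMap (Localization.Away (algebraMap A B f)) (AdicCompletion ((I.map (algebraMap A B)).map (algebraMap B (Localization.Away (algebraMap A B f)))) (Localization.Away (algebraMap A B f))))) ≤ y.asIdeal → y = qf) → ((algebraMap (AdicCompletion ((I.map (algebraMap A B)).map (algebraMap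 B (Localization.Away (algebraMap A B f)))) (Localization.Away (algebraMap A B f))) (Localization.AtPrime qf.asIdeal)).comp ψf).Flat))
    (hXft : Algebra.FiniteType A (X ⧸ Ideal.map (algebraMap A X) I))
    [hXu : Algebra.FormallyUnramified A (X ⧸ Ideal.map (algebraMap A X) I)]
    (hYft : Algebra.FiniteType A (Y ⧸ Ideal.map (algebraMap A Y) I))
    [hBYflat : Module.Flat B Y] (q : PrimeSpectrum Y)
    (hq : ¬ (Ideal.map (algebraMap A Y) I) ≤ q.asIdeal ∧ ∀ y : PrimeSpectrum Y, q ≤ y →
      ¬ (Ideal.map (algebraMap A Y) I) ≤ y.asIdeal → y = q) :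
    Module.Flat X (Localization.AtPrime q.asIdeal) := by
  obtain ⟨f0, hgood⟩ := Groth.Agent.S8840.exists_good A I Y hYft q hq
  exact core_f A I B X Y f0 hAB hXft hYft q hq hgood

end Core


section Main

/-- tower for completed localizations -/
lemma tower_cl (R S : Type*) [CommRing R] [CommRing S] [Algebra R S] (y : S)
    (J' : Ideal (Localization.Away y)) :
    IsScalarTower R S (AdicCompletion J' (Localization.Away y)) :=
  IsScalarTower.of_algebraMap_eq (fun a => by
    rw [AdicCompletion.algebraMap_apply, AdicCompletion.algebraMap_apply,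
      ← IsScalarTower.algebraMap_apply R S (Localization.Away y)])

variable (A : Type u) [CommRing A] [IsNoetherianRing A] (I : Ideal A) [IsAdicComplete I A]
  (B : Type u) [CommRing B] [Algebra A B] [IsNoetherianRing B]
  [IsAdicComplete (I.map (algebraMap A B)) B]
  (A' : Type u) [CommRing A'] [Algebra A A'] [IsNoetherianRing A']
  [IsAdicComplete (I.map (algebraMap A A')) A']
  (B' : Type u) [CommRing B'] [Algebra A B'] [Algebra B B'] [Algebra A' B'] [IsScalarTower A B B']
  [IsScalarTower A A' B'] [IsNoetherianRing B'] [IsAdicComplete (I.map (algebraMap A B')) B']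
  (f' : A')

local notation "IA'" => Ideal.map (algebraMap A A') I
local notation "K'" => Ideal.map (algebraMap A' B') (Ideal.map (algebraMap A A') I)
local notation "XX" =>
  AdicCompletion (Ideal.map (algebraMap A' (Localization.Away f')) (Ideal.map (algebraMap A A') I))
    (Localization.Away f')
local notation "YY" =>
  AdicCompletion (Ideal.map (algebraMap B' (Localization.Away (algebraMap A' B' f')))
    (Ideal.map (algebraMap A' B') (Ideal.map (algebraMap A A') I)))
    (Localization.Away (algebraMap A' B' f'))

set_option maxHeartbeats 2000000 in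
theorem main (hftA' : Algebra.FiniteType A (A' ⧸ (I.map (algebraMap A A'))))
    (hftB'A' : Algebra.FiniteType A' (B' ⧸ (I.map (algebraMap A B'))))
    [Module.Flat B B'] [Algebra.Etale (A ⧸ I) (A' ⧸ (I.map (algebraMap A A')))]
    (hAB : (∀ f : A, ∀ ψf : (AdicCompletion (I.map (algebraMap A (Localization.Away f))) (Localization.Away f)) →+* (AdicCompletion ((I.map (algebraMap A B)).map (algebraMap B (Localization.Away (algebraMap A B f)))) (Localization.Away (algebraMap A B f))), ψf.comp (algebraMap (Localization.Away f) (AdicCompletion (I.map (algebraMap A (Localization.Away f))) (Localization.Away f))) = (algebraMap (Localization.Away (algebraMap A B f)) (AdicCompletion ((I.map (algebraMap A B)).map (algebraMap B (Localization.Away (algebraMap A B f)))) (Localization.Away (algebraMap A B f)))).comp (Localization.awayMap (algebraMap A B) f) → ∀ qf : PrimeSpectrum (AdicCompletion ((I.map (algebraMap A B)).map (algebraMap B (Localization.Away (algebraMap A B f)))) (Localization.Away (algebraMap A B f))), (¬ (((I.map (algebraMap A B)).map (algebraMap B (Localization.Away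 (algebraMap A B f)))).map (algebraMap (Localization.Away (algebraMap A B f)) (AdicCompletion ((I.map (algebraMap A B)).map (algebraMap B (Localization.Away (algebraMap A B f)))) (Localization.Away (algebraMap A B f))))) ≤ qf.asIdeal ∧ ∀ y : PrimeSpectrum (AdicCompletion ((I.map (algebraMap A B)).map (algebraMap B (Localization.Away (algebraMap A B f)))) (Localization.Away (algebraMap A B f))), qf ≤ y → ¬ (((I.map (algebraMap A B)).map (algebraMap B (Localization.Away (algebraMap A B f)))).map (algebraMap (Localization.Away (algebraMap A B f)) (AdicCompletion ((I.map (algebraMap A B)).map (algebraMap B (Localization.Away (algebraMap A B f)))) (Localization.Away (algebraMap A B f))))) ≤ y.asIdeal → y = qf) → ((algebraMap (AdicCompletion ((I.map (algebraMap A B)).map (algebraMap B (Localization.Away (algebraMap A B f)))) (Localization.Away (algebraMap A B f))) (Localization.AtPrime qf.asIdeal)).comp ψf).Flat))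
    (ψf' : XX →+* YY)
    (hψf' : ψf'.comp (algebraMap (Localization.Away f') XX) =
      (algebraMap (Localization.Away (algebraMap A' B' f')) YY).comp
        (Localization.awayMap (algebraMap A' B') f'))
    (qf' : PrimeSpectrum YY)
    (hqf' : ¬ (((K').map (algebraMap B' (Localization.Away (algebraMap A' B' f')))).map
        (algebraMap (Localization.Away (algebraMap A' B' f')) YY)) ≤ qf'.asIdeal ∧
      ∀ y : PrimeSpectrum YY, qf' ≤ y →
        ¬ (((K').map (algebraMap B' (Localization.Away (algebraMap A' B' f')))).map
          (algebraMap (Localization.Away (algebraMap A' B' f')) YY)) ≤ y.asIdeal → y = qf') :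
    ((algebraMap YY (Localization.AtPrime qf'.asIdeal)).comp ψf').Flat := by
  classical
  haveI tA'X := Groth.Agent.S8839.tower A' (IA') (Localization.Away f')
  haveI nX := Groth.Agent.S8839.noeth A' (IA') (Localization.Away f')
  have cX0 := Groth.Agent.S8839.complete A' (IA') (Localization.Away f')
  haveI tAA'X : IsScalarTower A A' XX := tower_cl A A' f' _
  haveI tB'Y := Groth.Agent.S8839.tower B' (K') (Localization.Away (algebraMap A' B' f'))
  haveI nY := Groth.Agent.S8839.noeth B' (K') (Localization.Away (algebraMap A' B' f'))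
  have cY0 := Groth.Agent.S8839.complete B' (K') (Localization.Away (algebraMap A' B' f'))
  haveI tAB'Y : IsScalarTower A B' YY := tower_cl A B' (algebraMap A' B' f') _
  haveI tBB'Y : IsScalarTower B B' YY := tower_cl B B' (algebraMap A' B' f') _
  haveI tA'B'Y : IsScalarTower A' B' YY := tower_cl A' B' (algebraMap A' B' f') _
  -- ideal identities
  have hIX : (IA').map (algebraMap A' XX) = I.map (algebraMap A XX) := by
    have h1 : (IA').map (algebraMap A' XX) = I.map ((algebraMap A' XX).comp (algebraMap A A')) :=
      Ideal.map_map _ _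
    rw [h1, ← IsScalarTower.algebraMap_eq A A' XX]
  have hK'' : (IA').map (algebraMap A' B') = I.map (algebraMap A B') := by
    have h1 : (IA').map (algebraMap A' B') = I.map ((algebraMap A' B').comp (algebraMap A A')) :=
      Ideal.map_map _ _
    rw [h1, ← IsScalarTower.algebraMap_eq A A' B']
  have hB'Y : (I.map (algebraMap A B')).map (algebraMap B' YY) = I.map (algebraMap A YY) := by
    have h1 : (I.map (algebraMap A B')).map (algebraMap B' YY) =
        I.map ((algebraMap B' YY).comp (algebraMap A B')) := Ideal.map_map _ _
    rw [h1, ← IsScalarTower.algebraMap_eq A B' YY]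
  have hIY : (K').map (algebraMap B' YY) = I.map (algebraMap A YY) :=
    (congrArg (fun J : Ideal B' => J.map (algebraMap B' YY)) hK'').trans hB'Y
  have hJY : ((K').map (algebraMap B' (Localization.Away (algebraMap A' B' f')))).map
      (algebraMap (Localization.Away (algebraMap A' B' f')) YY) = I.map (algebraMap A YY) :=
    (Groth.Agent.S8839.mapeq B' (K') (Localization.Away (algebraMap A' B' f'))).trans hIY
  haveI cX : IsAdicComplete (I.map (algebraMap A XX)) XX := by
    rw [← hIX]
    exact cX0
  haveI cY : IsAdicComplete (I.map (algebraMap A YY)) YY := by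
    rw [← hIY]
    exact cY0
  -- finite type / unramified
  have hXft : Algebra.FiniteType A (XX ⧸ I.map (algebraMap A XX)) :=
    finiteType_quotient_trans (R := A) (S := A') (T := XX) (IA') (I.map (algebraMap A XX))
      (le_of_eq hIX) hftA' (finiteType_cl_quot A' (IA') f' _ (le_of_eq hIX))
  haveI hu1 : Algebra.FormallyUnramified (A ⧸ I) (A' ⧸ IA') := inferInstance
  haveI hu2 : Algebra.FormallyUnramified A (A' ⧸ IA') :=
    Algebra.FormallyUnramified.comp A (A ⧸ I) (A' ⧸ IA')
  haveI hu3 : Algebra.FormallyUnramified A' (XX ⧸ I.map (algebraMap A XX)) :=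
    formallyUnramified_cl_quot A' (IA') f' _ (le_of_eq hIX)
  haveI hXu : Algebra.FormallyUnramified A (XX ⧸ I.map (algebraMap A XX)) :=
    formallyUnramified_quotient_trans (R := A) (S := A') (T := XX) (IA') (I.map (algebraMap A XX))
      (le_of_eq hIX)
  have hB'ft : Algebra.FiniteType A (B' ⧸ I.map (algebraMap A B')) :=
    finiteType_quotient_trans (R := A) (S := A') (T := B') (IA') (I.map (algebraMap A B'))
      (le_of_eq hK'') hftA' hftB'A'
  have hYft : Algebra.FiniteType A (YY ⧸ I.map (algebraMap A YY)) :=
    finiteType_quotient_trans (R := A) (S := B') (T := YY) (I.map (algebraMap A B'))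
      (I.map (algebraMap A YY)) (le_of_eq hB'Y) hB'ft
      (finiteType_cl_quot B' (K') (algebraMap A' B' f') _ (le_of_eq hIY))
  -- the algebra structure through `ψf'`
  letI algψ : Algebra XX YY := ψf'.toAlgebra
  have hψA' : ∀ a' : A', ψf' (algebraMap A' XX a') = algebraMap B' YY (algebraMap A' B' a') := by
    intro a'
    rw [IsScalarTower.algebraMap_apply A' (Localization.Away f') XX,
      IsScalarTower.algebraMap_apply B' (Localization.Away (algebraMap A' B' f')) YY]
    have h := RingHom.congr_fun hψf' (algebraMap A' (Localization.Away f') a')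
    rw [RingHom.comp_apply, RingHom.comp_apply] at h
    rw [h]
    congr 1
    exact IsLocalization.map_eq _ a'
  haveI tAXY : IsScalarTower A XX YY := IsScalarTower.of_algebraMap_eq (fun a => by
    show algebraMap A YY a = ψf' (algebraMap A XX a)
    rw [IsScalarTower.algebraMap_apply A A' XX, hψA', ← IsScalarTower.algebraMap_apply A A' B',
      ← IsScalarTower.algebraMap_apply A B' YY])
  haveI tABY : IsScalarTower A B YY := IsScalarTower.of_algebraMap_eq (fun a => by
    rw [IsScalarTower.algebraMap_apply B B' YY, ← IsScalarTower.algebraMap_apply A B B',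
      ← IsScalarTower.algebraMap_apply A B' YY])
  haveI hfl1 : Module.Flat B' YY :=
    Module.Flat.trans B' (Localization.Away (algebraMap A' B' f')) YY
  haveI hfl2 : Module.Flat B YY := Module.Flat.trans B B' YY
  have hq : ¬ (I.map (algebraMap A YY)) ≤ qf'.asIdeal ∧ ∀ y : PrimeSpectrum YY, qf' ≤ y →
      ¬ (I.map (algebraMap A YY)) ≤ y.asIdeal → y = qf' := by
    rw [← hJY]
    exact hqf'
  have hmain := core A I B XX YY hAB hXft hYft qf' hq
  have hcomp : (algebraMap YY (Localization.AtPrime qf'.asIdeal)).comp ψf' =
      algebraMap XX (Localization.AtPrime qf'.asIdeal) :=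
    (IsScalarTower.algebraMap_eq XX YY (Localization.AtPrime qf'.asIdeal)).symm
  rw [hcomp, RingHom.flat_algebraMap_iff]
  exact hmain

end Main

/-- Consider a commutative square of adic Noetherian topological rings with all maps adic and
topologically of finite type: A a Noetherian ring complete for the adic topology of an ideal I (the
ideal of definition used below); B, A' and B' Noetherian algebras complete for the IB-, IA'- and
IB'-adic topologies, B' an algebra over B and over A' compatibly with A, with B/IB and A'/IA' of
finite type over A and B'/IB' of finite type over B and over A'. Assume A → A' and B → B' are flat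
and A/I → A'/IA' is étale. If A → B is rig-flat — for every f ∈ A, every ring map ψ : A_{f} → B_{f}
of completed principal localizations compatible with the map of ordinary localizations A[1/f] →
B[1/f] (there is exactly one), and every rig-closed prime q of B_{f} (I B_{f} ⊄ q and q maximal
among the primes not containing I B_{f}), the local ring (B_{f})_q is flat over A_{f} via ψ — then
A' → B' is rig-flat in the same form: for every f' ∈ A', every ring map A'_{f'} → B'_{f'} of
completed principal localizations compatible with the map of ordinary localizations A'[1/f'] →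
B'[1/f'], and every rig-closed prime q' of B'_{f'}, the local ring (B'_{f'})_{q'} is flat over
A'_{f'}. -/
theorem result (A : Type u) [CommRing A] [IsNoetherianRing A] (I : Ideal A) [IsAdicComplete I A] (B : Type u) [CommRing B] [Algebra A B] [IsNoetherianRing B] [IsAdicComplete (I.map (algebraMap A B)) B] (hftB : Algebra.FiniteType A (B ⧸ (I.map (algebraMap A B)))) (A' : Type u) [CommRing A'] [Algebra A A'] [IsNoetherianRing A'] [IsAdicComplete (I.map (algebraMap A A')) A'] (hftA' : Algebra.FiniteType A (A' ⧸ (I.map (algebraMap A A')))) (B' : Type u) [CommRing B'] [Algebra A B'] [Algebra B B'] [Algebra A' B'] [IsScalarTower A B B'] [IsScalarTower A A' B'] [IsNoetherianRing B'] [IsAdicComplete (I.map (algebraMap A B')) B'] (hftB'B : Algebra.FiniteType B (B' ⧸ (I.map (algebraMap A B')))) (hftB'A' : Algebra.FiniteType A' (B' ⧸ (I.map (algebraMap A B')))) [Module.Flat A A'] [Module.Flat B B'] [Algebra.Etale (A ⧸ I) (A' ⧸ (I.map (algebraMap A A')))] (hAB : (∀ f : A, ∀ ψf : (AdicCompletion (I.map (algebraMap A (Localization.Away f))) (Localization.Away f)) →+* (AdicCompletion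 ((I.map (algebraMap A B)).map (algebraMap B (Localization.Away (algebraMap A B f)))) (Localization.Away (algebraMap A B f))), ψf.comp (algebraMap (Localization.Away f) (AdicCompletion (I.map (algebraMap A (Localization.Away f))) (Localization.Away f))) = (algebraMap (Localization.Away (algebraMap A B f)) (AdicCompletion ((I.map (algebraMap A B)).map (algebraMap B (Localization.Away (algebraMap A B f)))) (Localization.Away (algebraMap A B f)))).comp (Localization.awayMap (algebraMap A B) f) → ∀ qf : PrimeSpectrum (AdicCompletion ((I.map (algebraMap A B)).map (algebraMap B (Localization.Away (algebraMap A B f)))) (Localization.Away (algebraMap A B f))), (¬ (((I.map (algebraMap A B)).map (algebraMap B (Localization.Away (algebraMap A B f)))).map (algebraMap (Localization.Away (algebraMap A B f)) (AdicCompletion ((I.map (algebraMap A B)).map (algebraMap B (Localization.Away (algebraMap A B f)))) (Localization.Away (algebraMap A B f))))) ≤ qf.asIdeal ∧ ∀ y : PrimeSpectrum (AdicCompletion ((I.map (algebraMap A B)).map (algebraMap B (Localization.Away (algebraMap A B f))))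 (Localization.Away (algebraMap A B f))), qf ≤ y → ¬ (((I.map (algebraMap A B)).map (algebraMap B (Localization.Away (algebraMap A B f)))).map (algebraMap (Localization.Away (algebraMap A B f)) (AdicCompletion ((I.map (algebraMap A B)).map (algebraMap B (Localization.Away (algebraMap A B f)))) (Localization.Away (algebraMap A B f))))) ≤ y.asIdeal → y = qf) → ((algebraMap (AdicCompletion ((I.map (algebraMap A B)).map (algebraMap B (Localization.Away (algebraMap A B f)))) (Localization.Away (algebraMap A B f))) (Localization.AtPrime qf.asIdeal)).comp ψf).Flat)) : (∀ f' : A', ∀ ψf' : (AdicCompletion ((I.map (algebraMap A A')).map (algebraMap A' (Localization.Away f'))) (Localization.Away f')) →+* (AdicCompletion (((I.map (algebraMap A A')).map (algebraMap A' B')).map (algebraMap B' (Localization.Away (algebraMap A' B' f')))) (Localization.Away (algebraMap A' B' f'))), ψf'.comp (algebraMap (Localization.Away f') (AdicCompletion ((I.map (algebraMap A A')).map (algebraMap A' (Localization.Away f'))) (Localization.Away f'))) = (algebraMap (Localization.Away (algebraMap A'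 B' f')) (AdicCompletion (((I.map (algebraMap A A')).map (algebraMap A' B')).map (algebraMap B' (Localization.Away (algebraMap A' B' f')))) (Localization.Away (algebraMap A' B' f')))).comp (Localization.awayMap (algebraMap A' B') f') → ∀ qf' : PrimeSpectrum (AdicCompletion (((I.map (algebraMap A A')).map (algebraMap A' B')).map (algebraMap B' (Localization.Away (algebraMap A' B' f')))) (Localization.Away (algebraMap A' B' f'))), (¬ ((((I.map (algebraMap A A')).map (algebraMap A' B')).map (algebraMap B' (Localization.Away (algebraMap A' B' f')))).map (algebraMap (Localization.Away (algebraMap A' B' f')) (AdicCompletion (((I.map (algebraMap A A')).map (algebraMap A' B')).map (algebraMap B' (Localization.Away (algebraMap A' B' f')))) (Localization.Away (algebraMap A' B' f'))))) ≤ qf'.asIdeal ∧ ∀ y : PrimeSpectrum (AdicCompletion (((I.map (algebraMap A A')).map (algebraMap A' B')).map (algebraMap B' (Localization.Away (algebraMap A' B' f')))) (Localization.Away (algebraMap A' B' f'))), qf' ≤ y → ¬ ((((I.map (algebraMap A A')).map (algebraMap A' B')).map (algebraMap B'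 (Localization.Away (algebraMap A' B' f')))).map (algebraMap (Localization.Away (algebraMap A' B' f')) (AdicCompletion (((I.map (algebraMap A A')).map (algebraMap A' B')).map (algebraMap B' (Localization.Away (algebraMap A' B' f')))) (Localization.Away (algebraMap A' B' f'))))) ≤ y.asIdeal → y = qf') → ((algebraMap (AdicCompletion (((I.map (algebraMap A A')).map (algebraMap A' B')).map (algebraMap B' (Localization.Away (algebraMap A' B' f')))) (Localization.Away (algebraMap A' B' f'))) (Localization.AtPrime qf'.asIdeal)).comp ψf').Flat) := by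
  intro f' ψf' hψf' qf' hqf'
  exact main A I B A' B' f' hftA' hftB'A' hAB ψf' hψf' qf' hqf'

end Groth.Agent.S8845
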