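import Groth.Statements.S8843
import Groth.Agent.S8845

set_option autoImplicit false
universe u
open AdicRing

namespace Groth.Agent.S8843

open Groth.Agent.H44.RigFlat Groth.Agent.S8845

lemma flat_localRingHom_of_flat_comp {R S : Type*} [CommRing R] [CommRing S] (φ : R →+* S)
    (P : Ideal S) [P.IsPrime]
    (h : ((algebraMap S (Localization.AtPrime P)).comp φ).Flat) :
    (Localization.localRingHom (P.comap φ) P φ rfl).Flat := by
  letI a1 : Algebra R (Localization.AtPrime P) :=
    ((algebraMap S (Localization.AtPrime P)).comp φ).toAlgebra
  letI a2 : Algebra (Localization.AtPrime (P.comap φ)) (Localization.AtPrime P) :=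
    (Localization.localRingHom (P.comap φ) P φ rfl).toAlgebra
  haveI : IsScalarTower R (Localization.AtPrime (P.comap φ)) (Localization.AtPrime P) :=
    IsScalarTower.of_algebraMap_eq (fun x => (Localization.localRingHom_to_map _ _ _ rfl x).symm)
  haveI : Module.Flat R (Localization.AtPrime P) := h
  show Module.Flat (Localization.AtPrime (P.comap φ)) (Localization.AtPrime P)
  exact (Module.flat_iff_of_isLocalization (Localization.AtPrime (P.comap φ))
    (P.comap φ).primeCompl (Localization.AtPrime P)).mpr inferInstance

section Core

variable (A : Type u) [CommRing A] [IsNoetherianRing A] (I : Ideal A) [IsAdicComplete I A]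
  (B : Type u) [CommRing B] [Algebra A B] [IsNoetherianRing B]
  [IsAdicComplete (I.map (algebraMap A B)) B]
  (X : Type u) [CommRing X] [Algebra A X] [IsNoetherianRing X]
  [IsAdicComplete (I.map (algebraMap A X)) X]
  (Y : Type u) [CommRing Y] [Algebra A Y] [IsNoetherianRing Y]
  [IsAdicComplete (I.map (algebraMap A Y)) Y]
  [Algebra X Y] [IsScalarTower A X Y] [Algebra B Y] [IsScalarTower A B Y]
  (f : A)

local notation "IB" => Ideal.map (algebraMap A B) I
local notation "IX" => Ideal.map (algebraMap A X) I
local notation "IY" => Ideal.map (algebraMap A Y) I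
local notation "A1" =>
  AdicCompletion (Ideal.map (algebraMap A (Localization.Away f)) I) (Localization.Away f)
local notation "B1" =>
  AdicCompletion (Ideal.map (algebraMap B (Localization.Away (algebraMap A B f)))
    (Ideal.map (algebraMap A B) I)) (Localization.Away (algebraMap A B f))
local notation "A2" =>
  AdicCompletion (Ideal.map (algebraMap X (Localization.Away (algebraMap A X f)))
    (Ideal.map (algebraMap A X) I)) (Localization.Away (algebraMap A X f))
local notation "B2" =>
  AdicCompletion (Ideal.map (algebraMap Y (Localization.Away (algebraMap A Y f)))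
    (Ideal.map (algebraMap A Y) I)) (Localization.Away (algebraMap A Y f))

set_option maxHeartbeats 2000000 in
theorem core_g (hAB : (∀ f : A, ∀ ψf : (AdicCompletion (I.map (algebraMap A (Localization.Away f))) (Localization.Away f)) →+* (AdicCompletion ((I.map (algebraMap A B)).map (algebraMap B (Localization.Away (algebraMap A B f)))) (Localization.Away (algebraMap A B f))), ψf.comp (algebraMap (Localization.Away f) (AdicCompletion (I.map (algebraMap A (Localization.Away f))) (Localization.Away f))) = (algebraMap (Localization.Away (algebraMap A B f)) (AdicCompletion ((I.map (algebraMap A B)).map (algebraMap B (Localization.Away (algebraMap A B f)))) (Localization.Away (algebraMap A B f)))).comp (Localization.awayMap (algebraMap A B) f) → ∀ qf : PrimeSpectrum (AdicCompletion ((I.map (algebraMap A B)).map (algebraMap B (Localization.Away (algebraMap A B f)))) (Localization.Away (algebraMap A B f))), (¬ (((I.map (algebraMap A B)).map (algebraMap B (Localization.Away (algebraMap A B f)))).map (algebraMap (Localization.Away (algebraMap A B f)) (AdicCompletion ((I.map (algebraMap A B)).map (algebraMap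 B (Localization.Away (algebraMap A B f)))) (Localization.Away (algebraMap A B f))))) ≤ qf.asIdeal ∧ ∀ y : PrimeSpectrum (AdicCompletion ((I.map (algebraMap A B)).map (algebraMap B (Localization.Away (algebraMap A B f)))) (Localization.Away (algebraMap A B f))), qf ≤ y → ¬ (((I.map (algebraMap A B)).map (algebraMap B (Localization.Away (algebraMap A B f)))).map (algebraMap (Localization.Away (algebraMap A B f)) (AdicCompletion ((I.map (algebraMap A B)).map (algebraMap B (Localization.Away (algebraMap A B f)))) (Localization.Away (algebraMap A B f))))) ≤ y.asIdeal → y = qf) → ((algebraMap (AdicCompletion ((I.map (algebraMap A B)).map (algebraMap B (Localization.Away (algebraMap A B f)))) (Localization.Away (algebraMap A B f))) (Localization.AtPrime qf.asIdeal)).comp ψf).Flat))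
    (hXft : Algebra.FiniteType A (X ⧸ IX)) [hXu : Algebra.FormallyUnramified A (X ⧸ IX)]
    (hYft : Algebra.FiniteType A (Y ⧸ IY)) (q : PrimeSpectrum Y)
    (hq : ¬ (IY) ≤ q.asIdeal ∧ ∀ y : PrimeSpectrum Y, q ≤ y → ¬ (IY) ≤ y.asIdeal → y = q)
    (hgood : Groth.Agent.S8840.Good A Y q.asIdeal f)
    (hT : ∀ (Q : Ideal B2) [Q.IsPrime], (¬ ((IY).map (algebraMap Y B2)) ≤ Q ∧
      ∀ y : PrimeSpectrum B2, Q ≤ y.asIdeal → ¬ ((IY).map (algebraMap Y B2)) ≤ y.asIdeal →
        y.asIdeal = Q) → ((algebraMap B2 (Localization.AtPrime Q)).comp (β A I B Y f)).Flat) :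
    Module.Flat X (Localization.AtPrime q.asIdeal) := by
  classical
  haveI hqp := q.isPrime
  haveI tA1 := Groth.Agent.S8839.tower A I (Localization.Away f)
  haveI nA1 := Groth.Agent.S8839.noeth A I (Localization.Away f)
  haveI cA1 := Groth.Agent.S8839.complete A I (Localization.Away f)
  haveI tB1 := Groth.Agent.S8839.tower B (IB) (Localization.Away (algebraMap A B f))
  haveI nB1 := Groth.Agent.S8839.noeth B (IB) (Localization.Away (algebraMap A B f))
  haveI cB1 := Groth.Agent.S8839.complete B (IB) (Localization.Away (algebraMap A B f))
  haveI tA2 := Groth.Agent.S8839.tower X (IX) (Localization.Away (algebraMap A X f))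
  haveI nA2 := Groth.Agent.S8839.noeth X (IX) (Localization.Away (algebraMap A X f))
  haveI cA2 := Groth.Agent.S8839.complete X (IX) (Localization.Away (algebraMap A X f))
  haveI tB2 := Groth.Agent.S8839.tower Y (IY) (Localization.Away (algebraMap A Y f))
  haveI nB2 := Groth.Agent.S8839.noeth Y (IY) (Localization.Away (algebraMap A Y f))
  haveI cB2 := Groth.Agent.S8839.complete Y (IY) (Localization.Away (algebraMap A Y f))
  obtain ⟨hprime, hcomap, hrig2, hfin, hp1⟩ := step5 A I X Y f hYft q hq hgood
  haveI := hprime
  haveI hq1p : ((q.asIdeal.map (algebraMap Y B2)).comap (β A I B Y f)).IsPrime :=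
    Ideal.comap_isPrime _ _
  haveI hp2p : ((q.asIdeal.map (algebraMap Y B2)).comap (ψ2 A I X Y f)).IsPrime :=
    Ideal.comap_isPrime _ _
  -- finiteness over `B1`
  have hfinB1 : ((Ideal.Quotient.mk (q.asIdeal.map (algebraMap Y B2))).comp
      (β A I B Y f)).Finite := by
    have h : (((Ideal.Quotient.mk (q.asIdeal.map (algebraMap Y B2))).comp
        (β A I B Y f)).comp (ψ1 A I B f)).Finite := by
      rw [RingHom.comp_assoc, square A I B X Y f]
      exact hfin
    exact RingHom.Finite.of_comp_finite h
  -- `q1` is rig-closed
  have hq1 := rigClosed_comap' B1 B2 (β A I B Y f) ((IB).map (algebraMap B B1))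
    ((IY).map (algebraMap Y B2)) (hJβ A I B Y f) (q.asIdeal.map (algebraMap Y B2)) hrig2 hfinB1
  have hq1' : ¬ (((IB).map (algebraMap B (Localization.Away (algebraMap A B f)))).map
        (algebraMap (Localization.Away (algebraMap A B f)) B1)) ≤
        (⟨(q.asIdeal.map (algebraMap Y B2)).comap (β A I B Y f), hq1p⟩ :
          PrimeSpectrum B1).asIdeal ∧
      ∀ y : PrimeSpectrum B1,
        (⟨(q.asIdeal.map (algebraMap Y B2)).comap (β A I B Y f), hq1p⟩ : PrimeSpectrum B1) ≤ y →
        ¬ (((IB).map (algebraMap B (Localization.Away (algebraMap A B f)))).map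
          (algebraMap (Localization.Away (algebraMap A B f)) B1)) ≤ y.asIdeal →
        y = ⟨(q.asIdeal.map (algebraMap Y B2)).comap (β A I B Y f), hq1p⟩ := by
    rw [Groth.Agent.S8839.mapeq B (IB) (Localization.Away (algebraMap A B f))]
    exact ⟨hq1.1, fun y hy hIy => PrimeSpectrum.ext (hq1.2 y hy hIy)⟩
  have hflat1 := hAB f (ψ1 A I B f) (compat A I B f)
    ⟨(q.asIdeal.map (algebraMap Y B2)).comap (β A I B Y f), hq1p⟩ hq1'
  -- `T` is flat over `A1`
  have hγ : (Localization.localRingHom ((q.asIdeal.map (algebraMap Y B2)).comap (β A I B Y f))
      (q.asIdeal.map (algebraMap Y B2)) (β A I B Y f) rfl).Flat :=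
    flat_localRingHom_of_flat_comp (β A I B Y f) (q.asIdeal.map (algebraMap Y B2))
      (hT (q.asIdeal.map (algebraMap Y B2)) hrig2)
  have hT1 : ((algebraMap B2 (Localization.AtPrime (q.asIdeal.map (algebraMap Y B2)))).comp
      ((ψ2 A I X Y f).comp (α A I X f))).Flat := by
    have e : (Localization.localRingHom ((q.asIdeal.map (algebraMap Y B2)).comap (β A I B Y f))
        (q.asIdeal.map (algebraMap Y B2)) (β A I B Y f) rfl).comp
        ((algebraMap B1 (Localization.AtPrime
          ((q.asIdeal.map (algebraMap Y B2)).comap (β A I B Y f)))).comp (ψ1 A I B f)) =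
        (algebraMap B2 (Localization.AtPrime (q.asIdeal.map (algebraMap Y B2)))).comp
          ((β A I B Y f).comp (ψ1 A I B f)) := by
      refine RingHom.ext fun x => ?_
      rw [RingHom.comp_apply, RingHom.comp_apply, RingHom.comp_apply, RingHom.comp_apply,
        Localization.localRingHom_to_map]
    rw [← square A I B X Y f, ← e]
    exact hflat1.comp hγ
  -- the maximal ideal of `R2`
  have hmax := stepM A I X f hXft ((q.asIdeal.map (algebraMap Y B2)).comap (ψ2 A I X Y f)) hp1
  haveI hlocχ : IsLocalHom (Localization.localRingHom
      ((q.asIdeal.map (algebraMap Y B2)).comap (ψ2 A I X Y f))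
      (q.asIdeal.map (algebraMap Y B2)) (ψ2 A I X Y f) rfl) :=
    Localization.isLocalHom_localRingHom _ _ _ _
  have hχ : (Localization.localRingHom ((q.asIdeal.map (algebraMap Y B2)).comap (ψ2 A I X Y f))
      (q.asIdeal.map (algebraMap Y B2)) (ψ2 A I X Y f) rfl).Flat := by
    refine flat_of_maximalIdeal_extended
      ((algebraMap A2 (Localization.AtPrime
        ((q.asIdeal.map (algebraMap Y B2)).comap (ψ2 A I X Y f)))).comp (α A I X f))
      (Localization.localRingHom ((q.asIdeal.map (algebraMap Y B2)).comap (ψ2 A I X Y f))
        (q.asIdeal.map (algebraMap Y B2)) (ψ2 A I X Y f) rfl) ?_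
      (((q.asIdeal.map (algebraMap Y B2)).comap (ψ2 A I X Y f)).comap (α A I X f)) ?_
    · have e : (Localization.localRingHom
          ((q.asIdeal.map (algebraMap Y B2)).comap (ψ2 A I X Y f))
          (q.asIdeal.map (algebraMap Y B2)) (ψ2 A I X Y f) rfl).comp
          ((algebraMap A2 (Localization.AtPrime
            ((q.asIdeal.map (algebraMap Y B2)).comap (ψ2 A I X Y f)))).comp (α A I X f)) =
          (algebraMap B2 (Localization.AtPrime (q.asIdeal.map (algebraMap Y B2)))).comp
            ((ψ2 A I X Y f).comp (α A I X f)) := by
        refine RingHom.ext fun x => ?_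
        rw [RingHom.comp_apply, RingHom.comp_apply, RingHom.comp_apply, RingHom.comp_apply,
          Localization.localRingHom_to_map]
      rw [e]
      exact hT1
    · rw [← Ideal.map_map]
      exact hmax
  -- `T` is flat over `X`
  haveI hXA2 : Module.Flat X A2 :=
    Module.Flat.trans X (Localization.Away (algebraMap A X f)) A2
  have hX : ((Localization.localRingHom ((q.asIdeal.map (algebraMap Y B2)).comap (ψ2 A I X Y f))
      (q.asIdeal.map (algebraMap Y B2)) (ψ2 A I X Y f) rfl).comp
      ((algebraMap A2 (Localization.AtPrime
        ((q.asIdeal.map (algebraMap Y B2)).comap (ψ2 A I X Y f)))).comp (algebraMap X A2))).Flat :=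
    ((RingHom.flat_algebraMap_iff.mpr inferInstance : (algebraMap X A2).Flat).comp
      (RingHom.flat_algebraMap_iff.mpr inferInstance :
        (algebraMap A2 (Localization.AtPrime
          ((q.asIdeal.map (algebraMap Y B2)).comap (ψ2 A I X Y f)))).Flat)).comp hχ
  -- descent along `Y_q → T`
  haveI hYB2 : Module.Flat Y B2 :=
    Module.Flat.trans Y (Localization.Away (algebraMap A Y f)) B2
  have hδ : (Localization.localRingHom q.asIdeal (q.asIdeal.map (algebraMap Y B2))
      (algebraMap Y B2) hcomap.symm).Flat :=
    RingHom.Flat.localRingHom (RingHom.flat_algebraMap_iff.mpr inferInstance) _ _ hcomap.symm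
  letI algYqT : Algebra (Localization.AtPrime q.asIdeal)
      (Localization.AtPrime (q.asIdeal.map (algebraMap Y B2))) :=
    (Localization.localRingHom q.asIdeal (q.asIdeal.map (algebraMap Y B2))
      (algebraMap Y B2) hcomap.symm).toAlgebra
  haveI tXYB2 : IsScalarTower X Y B2 := towerXY A I X Y f
  haveI tXT : IsScalarTower X (Localization.AtPrime q.asIdeal)
      (Localization.AtPrime (q.asIdeal.map (algebraMap Y B2))) :=
    IsScalarTower.of_algebraMap_eq (fun x => by
      show algebraMap X (Localization.AtPrime (q.asIdeal.map (algebraMap Y B2))) x =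
        Localization.localRingHom q.asIdeal (q.asIdeal.map (algebraMap Y B2))
          (algebraMap Y B2) hcomap.symm (algebraMap X (Localization.AtPrime q.asIdeal) x)
      rw [IsScalarTower.algebraMap_apply X Y (Localization.AtPrime q.asIdeal),
        Localization.localRingHom_to_map,
        IsScalarTower.algebraMap_apply X B2 (Localization.AtPrime (q.asIdeal.map (algebraMap Y B2))),
        IsScalarTower.algebraMap_apply X Y B2])
  haveI hlocδ : IsLocalHom (algebraMap (Localization.AtPrime q.asIdeal)
      (Localization.AtPrime (q.asIdeal.map (algebraMap Y B2)))) :=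
    Localization.isLocalHom_localRingHom _ _ _ _
  haveI hflatδ : Module.Flat (Localization.AtPrime q.asIdeal)
      (Localization.AtPrime (q.asIdeal.map (algebraMap Y B2))) := hδ
  haveI hff : Module.FaithfullyFlat (Localization.AtPrime q.asIdeal)
      (Localization.AtPrime (q.asIdeal.map (algebraMap Y B2))) :=
    Module.FaithfullyFlat.of_flat_of_isLocalHom
  haveI hXT : Module.Flat X (Localization.AtPrime (q.asIdeal.map (algebraMap Y B2))) := by
    have e : algebraMap X (Localization.AtPrime (q.asIdeal.map (algebraMap Y B2))) =
        (Localization.localRingHom ((q.asIdeal.map (algebraMap Y B2)).comap (ψ2 A I X Y f))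
          (q.asIdeal.map (algebraMap Y B2)) (ψ2 A I X Y f) rfl).comp
          ((algebraMap A2 (Localization.AtPrime
            ((q.asIdeal.map (algebraMap Y B2)).comap (ψ2 A I X Y f)))).comp
            (algebraMap X A2)) := by
      refine RingHom.ext fun x => ?_
      rw [IsScalarTower.algebraMap_apply X B2 (Localization.AtPrime (q.asIdeal.map (algebraMap Y B2))),
        IsScalarTower.algebraMap_apply X Y B2, RingHom.comp_apply, RingHom.comp_apply,
        Localization.localRingHom_to_map, ψ2_algebraMap]
    have h : (algebraMap X (Localization.AtPrime (q.asIdeal.map (algebraMap Y B2)))).Flat := by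
      rw [e]
      exact hX
    exact RingHom.flat_algebraMap_iff.mp h
  exact Groth.Agent.H2.flat_of_faithfullyFlat_module (R := X)
    (S := Localization.AtPrime q.asIdeal)
    (M := Localization.AtPrime (q.asIdeal.map (algebraMap Y B2)))


end Core

section T

variable (A : Type u) [CommRing A] [IsNoetherianRing A] (I : Ideal A) [IsAdicComplete I A]
  (B : Type u) [CommRing B] [Algebra A B] [IsNoetherianRing B]
  [IsAdicComplete (I.map (algebraMap A B)) B]
  (C : Type u) [CommRing C] [Algebra A C] [Algebra B C] [IsScalarTower A B C]
  [IsNoetherianRing C] [IsAdicComplete (I.map (algebraMap A C)) C]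
  (Y : Type u) [CommRing Y] [Algebra A Y] [IsNoetherianRing Y]
  [IsAdicComplete (I.map (algebraMap A Y)) Y]
  [Algebra B Y] [IsScalarTower A B Y] [Algebra C Y] [IsScalarTower B C Y] [Module.Flat C Y]
  (f : A)

local notation "IB" => Ideal.map (algebraMap A B) I
local notation "IY" => Ideal.map (algebraMap A Y) I
local notation "B1" =>
  AdicCompletion (Ideal.map (algebraMap B (Localization.Away (algebraMap A B f)))
    (Ideal.map (algebraMap A B) I)) (Localization.Away (algebraMap A B f))
local notation "B2" =>
  AdicCompletion (Ideal.map (algebraMap Y (Localization.Away (algebraMap A Y f)))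
    (Ideal.map (algebraMap A Y) I)) (Localization.Away (algebraMap A Y f))

set_option maxHeartbeats 2000000 in
theorem stepT (hBC : (∀ g : B, ∀ ψg : (AdicCompletion ((I.map (algebraMap A B)).map (algebraMap B (Localization.Away g))) (Localization.Away g)) →+* (AdicCompletion (((I.map (algebraMap A B)).map (algebraMap B C)).map (algebraMap C (Localization.Away (algebraMap B C g)))) (Localization.Away (algebraMap B C g))), ψg.comp (algebraMap (Localization.Away g) (AdicCompletion ((I.map (algebraMap A B)).map (algebraMap B (Localization.Away g))) (Localization.Away g))) = (algebraMap (Localization.Away (algebraMap B C g)) (AdicCompletion (((I.map (algebraMap A B)).map (algebraMap B C)).map (algebraMap C (Localization.Away (algebraMap B C g)))) (Localization.Away (algebraMap B C g)))).comp (Localization.awayMap (algebraMap B C) g) → ∀ qg : PrimeSpectrum (AdicCompletion (((I.map (algebraMap A B)).map (algebraMap B C)).map (algebraMap C (Localization.Away (algebraMap B C g)))) (Localization.Away (algebraMap B C g))), (¬ ((((I.map (algebraMap A B)).map (algebraMap B C)).map (algebraMap C (Localization.Away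 (algebraMap B C g)))).map (algebraMap (Localization.Away (algebraMap B C g)) (AdicCompletion (((I.map (algebraMap A B)).map (algebraMap B C)).map (algebraMap C (Localization.Away (algebraMap B C g)))) (Localization.Away (algebraMap B C g))))) ≤ qg.asIdeal ∧ ∀ y : PrimeSpectrum (AdicCompletion (((I.map (algebraMap A B)).map (algebraMap B C)).map (algebraMap C (Localization.Away (algebraMap B C g)))) (Localization.Away (algebraMap B C g))), qg ≤ y → ¬ ((((I.map (algebraMap A B)).map (algebraMap B C)).map (algebraMap C (Localization.Away (algebraMap B C g)))).map (algebraMap (Localization.Away (algebraMap B C g)) (AdicCompletion (((I.map (algebraMap A B)).map (algebraMap B C)).map (algebraMap C (Localization.Away (algebraMap B C g)))) (Localization.Away (algebraMap B C g))))) ≤ y.asIdeal → y = qg) → ((algebraMap (AdicCompletion (((I.map (algebraMap A B)).map (algebraMap B C)).map (algebraMap C (Localization.Away (algebraMap B C g)))) (Localization.Away (algebraMap B C g))) (Localization.AtPrime qg.asIdeal)).comp ψg).Flat))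
    (hYft : Algebra.FiniteType B (Y ⧸ IY)) (Q : Ideal B2) [hQp : Q.IsPrime]
    (hQ : ¬ ((IY).map (algebraMap Y B2)) ≤ Q ∧
      ∀ y : PrimeSpectrum B2, Q ≤ y.asIdeal → ¬ ((IY).map (algebraMap Y B2)) ≤ y.asIdeal →
        y.asIdeal = Q) :
    ((algebraMap B2 (Localization.AtPrime Q)).comp (β A I B Y f)).Flat := by
  have hBC' : (IB).map (algebraMap B C) = I.map (algebraMap A C) := by
    have h1 : (IB).map (algebraMap B C) = I.map ((algebraMap B C).comp (algebraMap A B)) :=
      Ideal.map_map _ _
    rw [h1, ← IsScalarTower.algebraMap_eq A B C]
  haveI cC : IsAdicComplete ((IB).map (algebraMap B C)) C := by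
    rw [hBC']
    infer_instance
  haveI tB1 := Groth.Agent.S8839.tower B (IB) (Localization.Away (algebraMap A B f))
  haveI nB1 := Groth.Agent.S8839.noeth B (IB) (Localization.Away (algebraMap A B f))
  haveI cB1 := Groth.Agent.S8839.complete B (IB) (Localization.Away (algebraMap A B f))
  haveI tB2 := Groth.Agent.S8839.tower Y (IY) (Localization.Away (algebraMap A Y f))
  haveI nB2 := Groth.Agent.S8839.noeth Y (IY) (Localization.Away (algebraMap A Y f))
  have cB2 := Groth.Agent.S8839.complete Y (IY) (Localization.Away (algebraMap A Y f))
  haveI tBY := towerBY A I B Y f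
  haveI tCY : IsScalarTower C Y B2 := tower_cl C Y (algebraMap A Y f) _
  have hBY' : (IB).map (algebraMap B Y) = IY := by
    have h1 : (IB).map (algebraMap B Y) = I.map ((algebraMap B Y).comp (algebraMap A B)) :=
      Ideal.map_map _ _
    rw [h1, ← IsScalarTower.algebraMap_eq A B Y]
  have hJ2 : (IB).map (algebraMap B B2) = (IY).map (algebraMap Y B2) := by
    have h1 : ((IB).map (algebraMap B Y)).map (algebraMap Y B2) =
        (IB).map ((algebraMap Y B2).comp (algebraMap B Y)) := Ideal.map_map _ _
    have h2 : (IB).map ((algebraMap Y B2).comp (algebraMap B Y)) = (IB).map (algebraMap B B2) := by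
      rw [← IsScalarTower.algebraMap_eq B Y B2]
    have h3 : ((IB).map (algebraMap B Y)).map (algebraMap Y B2) = (IY).map (algebraMap Y B2) :=
      congrArg (fun J : Ideal Y => J.map (algebraMap Y B2)) hBY'
    exact (h2.symm.trans h1.symm).trans h3
  haveI cB2' : IsAdicComplete ((IB).map (algebraMap B B2)) B2 := by
    rw [hJ2]
    exact cB2
  letI algβ : Algebra B1 B2 := (β A I B Y f).toAlgebra
  haveI tBB1B2 : IsScalarTower B B1 B2 := IsScalarTower.of_algebraMap_eq (fun b => by
    show algebraMap B B2 b = β A I B Y f (algebraMap B B1 b)
    rw [β_algebraMap, ← IsScalarTower.algebraMap_apply B Y B2])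
  haveI tBCB2 : IsScalarTower B C B2 := IsScalarTower.of_algebraMap_eq (fun b => by
    rw [IsScalarTower.algebraMap_apply B Y B2, IsScalarTower.algebraMap_apply B C Y,
      ← IsScalarTower.algebraMap_apply C Y B2])
  haveI hfl1 : Module.Flat Y B2 := Module.Flat.trans Y (Localization.Away (algebraMap A Y f)) B2
  haveI hfl2 : Module.Flat C B2 := Module.Flat.trans C Y B2
  have hXft' : Algebra.FiniteType B (B1 ⧸ (IB).map (algebraMap B B1)) :=
    finiteType_cl_quot B (IB) (algebraMap A B f) _ le_rfl
  haveI hXu' : Algebra.FormallyUnramified B (B1 ⧸ (IB).map (algebraMap B B1)) :=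
    formallyUnramified_cl_quot B (IB) (algebraMap A B f) _ le_rfl
  have hYft' : Algebra.FiniteType B (B2 ⧸ (IB).map (algebraMap B B2)) :=
    finiteType_quotient_trans (R := B) (S := Y) (T := B2) (IY) ((IB).map (algebraMap B B2))
      (le_of_eq hJ2.symm) hYft
      (finiteType_cl_quot Y (IY) (algebraMap A Y f) _ (le_of_eq hJ2.symm))
  have hQ' : ¬ ((IB).map (algebraMap B B2)) ≤ (⟨Q, hQp⟩ : PrimeSpectrum B2).asIdeal ∧
      ∀ y : PrimeSpectrum B2, (⟨Q, hQp⟩ : PrimeSpectrum B2) ≤ y →
        ¬ ((IB).map (algebraMap B B2)) ≤ y.asIdeal → y = ⟨Q, hQp⟩ := by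
    rw [hJ2]
    exact ⟨hQ.1, fun y hy hIy => PrimeSpectrum.ext (hQ.2 y hy hIy)⟩
  have hmain := Groth.Agent.S8845.core B (IB) C B1 B2 hBC hXft' hYft' ⟨Q, hQp⟩ hQ'
  have hcomp : (algebraMap B2 (Localization.AtPrime Q)).comp (β A I B Y f) =
      algebraMap B1 (Localization.AtPrime Q) :=
    (IsScalarTower.algebraMap_eq B1 B2 (Localization.AtPrime Q)).symm
  rw [hcomp, RingHom.flat_algebraMap_iff]
  exact hmain

end T

section Main

variable (A : Type u) [CommRing A] [IsNoetherianRing A] (I : Ideal A) [IsAdicComplete I A]
  (B : Type u) [CommRing B] [Algebra A B] [IsNoetherianRing B]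
  [IsAdicComplete (I.map (algebraMap A B)) B]
  (C : Type u) [CommRing C] [Algebra A C] [Algebra B C] [IsScalarTower A B C]
  [IsNoetherianRing C] [IsAdicComplete (I.map (algebraMap A C)) C]
  (e : A)

local notation "IB" => Ideal.map (algebraMap A B) I
local notation "IC" => Ideal.map (algebraMap A C) I
local notation "XX" =>
  AdicCompletion (Ideal.map (algebraMap A (Localization.Away e)) I) (Localization.Away e)
local notation "YY" =>
  AdicCompletion (Ideal.map (algebraMap C (Localization.Away (algebraMap A C e)))
    (Ideal.map (algebraMap A C) I)) (Localization.Away (algebraMap A C e))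

set_option maxHeartbeats 2000000 in
theorem main (hftB : Algebra.FiniteType A (B ⧸ IB)) (hftC : Algebra.FiniteType B (C ⧸ IC))
    (hAB : (∀ f : A, ∀ ψf : (AdicCompletion (I.map (algebraMap A (Localization.Away f))) (Localization.Away f)) →+* (AdicCompletion ((I.map (algebraMap A B)).map (algebraMap B (Localization.Away (algebraMap A B f)))) (Localization.Away (algebraMap A B f))), ψf.comp (algebraMap (Localization.Away f) (AdicCompletion (I.map (algebraMap A (Localization.Away f))) (Localization.Away f))) = (algebraMap (Localization.Away (algebraMap A B f)) (AdicCompletion ((I.map (algebraMap A B)).map (algebraMap B (Localization.Away (algebraMap A B f)))) (Localization.Away (algebraMap A B f)))).comp (Localization.awayMap (algebraMap A B) f) → ∀ qf : PrimeSpectrum (AdicCompletion ((I.map (algebraMap A B)).map (algebraMap B (Localization.Away (algebraMap A B f)))) (Localization.Away (algebraMap A B f))), (¬ (((I.map (algebraMap A B)).map (algebraMap B (Localization.Away (algebraMap A B f)))).map (algebraMap (Localization.Away (algebraMap A B f)) (AdicCompletion ((I.map (algebraMap A B)).map (algebraMap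 B (Localization.Away (algebraMap A B f)))) (Localization.Away (algebraMap A B f))))) ≤ qf.asIdeal ∧ ∀ y : PrimeSpectrum (AdicCompletion ((I.map (algebraMap A B)).map (algebraMap B (Localization.Away (algebraMap A B f)))) (Localization.Away (algebraMap A B f))), qf ≤ y → ¬ (((I.map (algebraMap A B)).map (algebraMap B (Localization.Away (algebraMap A B f)))).map (algebraMap (Localization.Away (algebraMap A B f)) (AdicCompletion ((I.map (algebraMap A B)).map (algebraMap B (Localization.Away (algebraMap A B f)))) (Localization.Away (algebraMap A B f))))) ≤ y.asIdeal → y = qf) → ((algebraMap (AdicCompletion ((I.map (algebraMap A B)).map (algebraMap B (Localization.Away (algebraMap A B f)))) (Localization.Away (algebraMap A B f))) (Localization.AtPrime qf.asIdeal)).comp ψf).Flat)) (hBC : (∀ g : B, ∀ ψg : (AdicCompletion ((I.map (algebraMap A B)).map (algebraMap B (Localization.Away g))) (Localization.Away g)) →+* (AdicCompletion (((I.map (algebraMap A B)).map (algebraMap B C)).map (algebraMap C (Localization.Away (algebraMap B C g)))) (Localization.Away (algebraMap B C g))), ψg.comp (algebraMap (Localization.Away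 g) (AdicCompletion ((I.map (algebraMap A B)).map (algebraMap B (Localization.Away g))) (Localization.Away g))) = (algebraMap (Localization.Away (algebraMap B C g)) (AdicCompletion (((I.map (algebraMap A B)).map (algebraMap B C)).map (algebraMap C (Localization.Away (algebraMap B C g)))) (Localization.Away (algebraMap B C g)))).comp (Localization.awayMap (algebraMap B C) g) → ∀ qg : PrimeSpectrum (AdicCompletion (((I.map (algebraMap A B)).map (algebraMap B C)).map (algebraMap C (Localization.Away (algebraMap B C g)))) (Localization.Away (algebraMap B C g))), (¬ ((((I.map (algebraMap A B)).map (algebraMap B C)).map (algebraMap C (Localization.Away (algebraMap B C g)))).map (algebraMap (Localization.Away (algebraMap B C g)) (AdicCompletion (((I.map (algebraMap A B)).map (algebraMap B C)).map (algebraMap C (Localization.Away (algebraMap B C g)))) (Localization.Away (algebraMap B C g))))) ≤ qg.asIdeal ∧ ∀ y : PrimeSpectrum (AdicCompletion (((I.map (algebraMap A B)).map (algebraMap B C)).map (algebraMap C (Localization.Away (algebraMap B C g)))) (Localization.Away (algebraMap B C g))), qg ≤ y → ¬ ((((I.map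 (algebraMap A B)).map (algebraMap B C)).map (algebraMap C (Localization.Away (algebraMap B C g)))).map (algebraMap (Localization.Away (algebraMap B C g)) (AdicCompletion (((I.map (algebraMap A B)).map (algebraMap B C)).map (algebraMap C (Localization.Away (algebraMap B C g)))) (Localization.Away (algebraMap B C g))))) ≤ y.asIdeal → y = qg) → ((algebraMap (AdicCompletion (((I.map (algebraMap A B)).map (algebraMap B C)).map (algebraMap C (Localization.Away (algebraMap B C g)))) (Localization.Away (algebraMap B C g))) (Localization.AtPrime qg.asIdeal)).comp ψg).Flat))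
    (ψe : XX →+* YY)
    (hψe : ψe.comp (algebraMap (Localization.Away e) XX) =
      (algebraMap (Localization.Away (algebraMap A C e)) YY).comp
        (Localization.awayMap (algebraMap A C) e))
    (qe : PrimeSpectrum YY)
    (hqe : ¬ (((IC).map (algebraMap C (Localization.Away (algebraMap A C e)))).map
        (algebraMap (Localization.Away (algebraMap A C e)) YY)) ≤ qe.asIdeal ∧
      ∀ y : PrimeSpectrum YY, qe ≤ y →
        ¬ (((IC).map (algebraMap C (Localization.Away (algebraMap A C e)))).map
          (algebraMap (Localization.Away (algebraMap A C e)) YY)) ≤ y.asIdeal → y = qe) :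
    ((algebraMap YY (Localization.AtPrime qe.asIdeal)).comp ψe).Flat := by
  classical
  haveI tX := Groth.Agent.S8839.tower A I (Localization.Away e)
  haveI nX := Groth.Agent.S8839.noeth A I (Localization.Away e)
  haveI cX := Groth.Agent.S8839.complete A I (Localization.Away e)
  haveI tY := Groth.Agent.S8839.tower C (IC) (Localization.Away (algebraMap A C e))
  haveI nY := Groth.Agent.S8839.noeth C (IC) (Localization.Away (algebraMap A C e))
  have cY0 := Groth.Agent.S8839.complete C (IC) (Localization.Away (algebraMap A C e))
  haveI tACY : IsScalarTower A C YY := tower_cl A C (algebraMap A C e) _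
  haveI tBCY : IsScalarTower B C YY := tower_cl B C (algebraMap A C e) _
  have hIY : (IC).map (algebraMap C YY) = I.map (algebraMap A YY) := by
    have h1 : (IC).map (algebraMap C YY) = I.map ((algebraMap C YY).comp (algebraMap A C)) :=
      Ideal.map_map _ _
    rw [h1, ← IsScalarTower.algebraMap_eq A C YY]
  have hJY : ((IC).map (algebraMap C (Localization.Away (algebraMap A C e)))).map
      (algebraMap (Localization.Away (algebraMap A C e)) YY) = I.map (algebraMap A YY) :=
    (Groth.Agent.S8839.mapeq C (IC) (Localization.Away (algebraMap A C e))).trans hIY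
  haveI cY : IsAdicComplete (I.map (algebraMap A YY)) YY := by
    rw [← hIY]
    exact cY0
  haveI tABY : IsScalarTower A B YY := IsScalarTower.of_algebraMap_eq (fun a => by
    rw [IsScalarTower.algebraMap_apply B C YY, ← IsScalarTower.algebraMap_apply A B C,
      ← IsScalarTower.algebraMap_apply A C YY])
  have hBC' : (IB).map (algebraMap B C) = IC := by
    have h1 : (IB).map (algebraMap B C) = I.map ((algebraMap B C).comp (algebraMap A B)) :=
      Ideal.map_map _ _
    rw [h1, ← IsScalarTower.algebraMap_eq A B C]
  have hBY' : (IB).map (algebraMap B YY) = I.map (algebraMap A YY) := by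
    have h1 : (IB).map (algebraMap B YY) = I.map ((algebraMap B YY).comp (algebraMap A B)) :=
      Ideal.map_map _ _
    rw [h1, ← IsScalarTower.algebraMap_eq A B YY]
  -- finite type
  have hXft : Algebra.FiniteType A (XX ⧸ I.map (algebraMap A XX)) :=
    finiteType_cl_quot A I e _ le_rfl
  haveI hXu : Algebra.FormallyUnramified A (XX ⧸ I.map (algebraMap A XX)) :=
    formallyUnramified_cl_quot A I e _ le_rfl
  have hYftB : Algebra.FiniteType B (YY ⧸ I.map (algebraMap A YY)) :=
    finiteType_quotient_trans (R := B) (S := C) (T := YY) (IC) (I.map (algebraMap A YY))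
      (le_of_eq hIY) hftC (finiteType_cl_quot C (IC) (algebraMap A C e) _ (le_of_eq hIY))
  have hYftA : Algebra.FiniteType A (YY ⧸ I.map (algebraMap A YY)) :=
    finiteType_quotient_trans (R := A) (S := B) (T := YY) (IB) (I.map (algebraMap A YY))
      (le_of_eq hBY') hftB hYftB
  -- algebra structure through `ψe`
  letI algψ : Algebra XX YY := ψe.toAlgebra
  have hψA : ∀ a : A, ψe (algebraMap A XX a) = algebraMap C YY (algebraMap A C a) := by
    intro a
    rw [IsScalarTower.algebraMap_apply A (Localization.Away e) XX,
      IsScalarTower.algebraMap_apply C (Localization.Away (algebraMap A C e)) YY]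
    have h := RingHom.congr_fun hψe (algebraMap A (Localization.Away e) a)
    rw [RingHom.comp_apply, RingHom.comp_apply] at h
    rw [h]
    congr 1
    exact IsLocalization.map_eq _ a
  haveI tAXY : IsScalarTower A XX YY := IsScalarTower.of_algebraMap_eq (fun a => by
    show algebraMap A YY a = ψe (algebraMap A XX a)
    rw [hψA, ← IsScalarTower.algebraMap_apply A C YY])
  haveI hfl1 : Module.Flat C YY :=
    Module.Flat.trans C (Localization.Away (algebraMap A C e)) YY
  have hq : ¬ (I.map (algebraMap A YY)) ≤ qe.asIdeal ∧ ∀ y : PrimeSpectrum YY, qe ≤ y →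
      ¬ (I.map (algebraMap A YY)) ≤ y.asIdeal → y = qe := by
    rw [← hJY]
    exact hqe
  obtain ⟨f0, hgood⟩ := Groth.Agent.S8840.exists_good A I YY hYftA qe hq
  have hmain := core_g A I B XX YY f0 hAB hXft hYftA qe hq hgood
    (fun Q hQp hQ => stepT A I B C YY f0 hBC hYftB Q hQ)
  have hcomp : (algebraMap YY (Localization.AtPrime qe.asIdeal)).comp ψe =
      algebraMap XX (Localization.AtPrime qe.asIdeal) :=
    (IsScalarTower.algebraMap_eq XX YY (Localization.AtPrime qe.asIdeal)).symm
  rw [hcomp, RingHom.flat_algebraMap_iff]
  exact hmain

end Main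


/-- Let A be a Noetherian ring complete for the adic topology of an ideal I, B a Noetherian A-algebra
complete for the IB-adic topology with B/IB of finite type over A, and C a Noetherian B-algebra,
compatibly an A-algebra, complete for the IC-adic topology with C/IC of finite type over B (so A → B
→ C are adic morphisms of adic Noetherian topological rings, topologically of finite type). Assume A
→ B and B → C are rig-flat, in the following form: for every f ∈ A and the canonical map ψ : A_{f} →
B_{f} of completed principal localizations (the I-adic completions of A_f → B_f; ψ is characterised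
as any ring map compatible with A_f → B_f, and there is exactly one), the local ring (B_{f})_q is
flat over A_{f} via ψ for every rig-closed prime q of B_{f} (I B_{f} ⊄ q and q maximal among the
primes not containing I B_{f}); and likewise for B → C with g ∈ B and rig-closed primes of C_{g}.
Then A → C is rig-flat in the same form: for every f ∈ A, every ring map A_{f} → C_{f} compatible
with A_f → C_f, and every rig-closed prime q of C_{f}, the local ring (C_{f})_q is flat over A_{f}.
(That A → C is again adic and topologically of finite type is not restated.) -/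
theorem result (A : Type u) [CommRing A] [IsNoetherianRing A] (I : Ideal A) [IsAdicComplete I A] (B : Type u) [CommRing B] [Algebra A B] [IsNoetherianRing B] [IsAdicComplete (I.map (algebraMap A B)) B] (hftB : Algebra.FiniteType A (B ⧸ (I.map (algebraMap A B)))) (C : Type u) [CommRing C] [Algebra A C] [Algebra B C] [IsScalarTower A B C] [IsNoetherianRing C] [IsAdicComplete (I.map (algebraMap A C)) C] (hftC : Algebra.FiniteType B (C ⧸ (I.map (algebraMap A C)))) (hAB : (∀ f : A, ∀ ψf : (AdicCompletion (I.map (algebraMap A (Localization.Away f))) (Localization.Away f)) →+* (AdicCompletion ((I.map (algebraMap A B)).map (algebraMap B (Localization.Away (algebraMap A B f)))) (Localization.Away (algebraMap A B f))), ψf.comp (algebraMap (Localization.Away f) (AdicCompletion (I.map (algebraMap A (Localization.Away f))) (Localization.Away f))) = (algebraMap (Localization.Away (algebraMap A B f)) (AdicCompletion ((I.map (algebraMap A B)).map (algebraMap B (Localization.Away (algebraMap A B f)))) (Localization.Away (algebraMap A B f)))).comp (Localization.awayMap (algebraMap A B) f) → ∀ qf : PrimeSpectrum (AdicCompletion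 ((I.map (algebraMap A B)).map (algebraMap B (Localization.Away (algebraMap A B f)))) (Localization.Away (algebraMap A B f))), (¬ (((I.map (algebraMap A B)).map (algebraMap B (Localization.Away (algebraMap A B f)))).map (algebraMap (Localization.Away (algebraMap A B f)) (AdicCompletion ((I.map (algebraMap A B)).map (algebraMap B (Localization.Away (algebraMap A B f)))) (Localization.Away (algebraMap A B f))))) ≤ qf.asIdeal ∧ ∀ y : PrimeSpectrum (AdicCompletion ((I.map (algebraMap A B)).map (algebraMap B (Localization.Away (algebraMap A B f)))) (Localization.Away (algebraMap A B f))), qf ≤ y → ¬ (((I.map (algebraMap A B)).map (algebraMap B (Localization.Away (algebraMap A B f)))).map (algebraMap (Localization.Away (algebraMap A B f)) (AdicCompletion ((I.map (algebraMap A B)).map (algebraMap B (Localization.Away (algebraMap A B f)))) (Localization.Away (algebraMap A B f))))) ≤ y.asIdeal → y = qf) → ((algebraMap (AdicCompletion ((I.map (algebraMap A B)).map (algebraMap B (Localization.Away (algebraMap A B f)))) (Localization.Away (algebraMap A B f))) (Localization.AtPrime qf.asIdeal)).comp ψf).Flat))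 (hBC : (∀ g : B, ∀ ψg : (AdicCompletion ((I.map (algebraMap A B)).map (algebraMap B (Localization.Away g))) (Localization.Away g)) →+* (AdicCompletion (((I.map (algebraMap A B)).map (algebraMap B C)).map (algebraMap C (Localization.Away (algebraMap B C g)))) (Localization.Away (algebraMap B C g))), ψg.comp (algebraMap (Localization.Away g) (AdicCompletion ((I.map (algebraMap A B)).map (algebraMap B (Localization.Away g))) (Localization.Away g))) = (algebraMap (Localization.Away (algebraMap B C g)) (AdicCompletion (((I.map (algebraMap A B)).map (algebraMap B C)).map (algebraMap C (Localization.Away (algebraMap B C g)))) (Localization.Away (algebraMap B C g)))).comp (Localization.awayMap (algebraMap B C) g) → ∀ qg : PrimeSpectrum (AdicCompletion (((I.map (algebraMap A B)).map (algebraMap B C)).map (algebraMap C (Localization.Away (algebraMap B C g)))) (Localization.Away (algebraMap B C g))), (¬ ((((I.map (algebraMap A B)).map (algebraMap B C)).map (algebraMap C (Localization.Away (algebraMap B C g)))).map (algebraMap (Localization.Away (algebraMap B C g)) (AdicCompletion (((I.map (algebraMap A B)).map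 (algebraMap B C)).map (algebraMap C (Localization.Away (algebraMap B C g)))) (Localization.Away (algebraMap B C g))))) ≤ qg.asIdeal ∧ ∀ y : PrimeSpectrum (AdicCompletion (((I.map (algebraMap A B)).map (algebraMap B C)).map (algebraMap C (Localization.Away (algebraMap B C g)))) (Localization.Away (algebraMap B C g))), qg ≤ y → ¬ ((((I.map (algebraMap A B)).map (algebraMap B C)).map (algebraMap C (Localization.Away (algebraMap B C g)))).map (algebraMap (Localization.Away (algebraMap B C g)) (AdicCompletion (((I.map (algebraMap A B)).map (algebraMap B C)).map (algebraMap C (Localization.Away (algebraMap B C g)))) (Localization.Away (algebraMap B C g))))) ≤ y.asIdeal → y = qg) → ((algebraMap (AdicCompletion (((I.map (algebraMap A B)).map (algebraMap B C)).map (algebraMap C (Localization.Away (algebraMap B C g)))) (Localization.Away (algebraMap B C g))) (Localization.AtPrime qg.asIdeal)).comp ψg).Flat)) : (∀ e : A, ∀ ψe : (AdicCompletion (I.map (algebraMap A (Localization.Away e))) (Localization.Away e)) →+* (AdicCompletion ((I.map (algebraMap A C)).map (algebraMap C (Localization.Away (algebraMap A C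 e)))) (Localization.Away (algebraMap A C e))), ψe.comp (algebraMap (Localization.Away e) (AdicCompletion (I.map (algebraMap A (Localization.Away e))) (Localization.Away e))) = (algebraMap (Localization.Away (algebraMap A C e)) (AdicCompletion ((I.map (algebraMap A C)).map (algebraMap C (Localization.Away (algebraMap A C e)))) (Localization.Away (algebraMap A C e)))).comp (Localization.awayMap (algebraMap A C) e) → ∀ qe : PrimeSpectrum (AdicCompletion ((I.map (algebraMap A C)).map (algebraMap C (Localization.Away (algebraMap A C e)))) (Localization.Away (algebraMap A C e))), (¬ (((I.map (algebraMap A C)).map (algebraMap C (Localization.Away (algebraMap A C e)))).map (algebraMap (Localization.Away (algebraMap A C e)) (AdicCompletion ((I.map (algebraMap A C)).map (algebraMap C (Localization.Away (algebraMap A C e)))) (Localization.Away (algebraMap A C e))))) ≤ qe.asIdeal ∧ ∀ y : PrimeSpectrum (AdicCompletion ((I.map (algebraMap A C)).map (algebraMap C (Localization.Away (algebraMap A C e)))) (Localization.Away (algebraMap A C e))), qe ≤ y → ¬ (((I.map (algebraMap A C)).map (algebraMap C (Localization.Away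 (algebraMap A C e)))).map (algebraMap (Localization.Away (algebraMap A C e)) (AdicCompletion ((I.map (algebraMap A C)).map (algebraMap C (Localization.Away (algebraMap A C e)))) (Localization.Away (algebraMap A C e))))) ≤ y.asIdeal → y = qe) → ((algebraMap (AdicCompletion ((I.map (algebraMap A C)).map (algebraMap C (Localization.Away (algebraMap A C e)))) (Localization.Away (algebraMap A C e))) (Localization.AtPrime qe.asIdeal)).comp ψe).Flat) := by
  intro e ψe hψe qe hqe
  exact main A I B C e hftB hftC hAB hBC ψe hψe qe hqe

end Groth.Agent.S8843
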