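import Groth.Statements.S8844
import Groth.Agent.S8845
import Mathlib.RingTheory.Ideal.GoingDown
import Mathlib.RingTheory.Flat.FaithfullyFlat.Algebra

set_option autoImplicit false
universe u
open AdicRing

namespace Groth.Agent.S8844

open Groth.Agent.H44.RigFlat Groth.Agent.S8845

/-- ring homs out of an adic completion into an adic completion are determined by their values
on the dense subring. -/
theorem hom_ext_cl {R S : Type*} [CommRing R] [CommRing S] (J : Ideal R) (hJ : J.FG) (K : Ideal S)
    (φ : R →+* S) (hφ : J.map φ ≤ K)
    (ψ ψ' : AdicCompletion J R →+* AdicCompletion K S)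
    (h : ∀ r, ψ (AdicCompletion.of J R r) = AdicCompletion.of K S (φ r))
    (h' : ∀ r, ψ' (AdicCompletion.of J R r) = AdicCompletion.of K S (φ r)) : ψ = ψ' := by
  have key : ∀ (χ : AdicCompletion J R →+* AdicCompletion K S)
      (_ : ∀ r, χ (AdicCompletion.of J R r) = AdicCompletion.of K S (φ r)) (n : ℕ)
      (z : AdicCompletion J R), z ∈ (J ^ n • ⊤ : Submodule R (AdicCompletion J R)) →
      AdicCompletion.evalₐ K n (χ z) = 0 := by
    intro χ hχ n z hz
    refine Submodule.smul_induction_on hz (fun r hr y _ => ?_) (fun x y hx hy => ?_)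
    · have e : r • y = AdicCompletion.of J R r * y := by
        rw [Algebra.smul_def]
        rfl
      have hmem : φ r ∈ K ^ n := (Ideal.pow_right_mono hφ n) (by
        rw [← Ideal.map_pow]
        exact Ideal.mem_map_of_mem φ hr)
      rw [e, map_mul, hχ, map_mul, AdicCompletion.evalₐ_of,
        Ideal.Quotient.eq_zero_iff_mem.mpr hmem, zero_mul]
    · rw [map_add, map_add, hx, hy, add_zero]
  refine RingHom.ext fun x => AdicCompletion.ext_evalₐ fun n => ?_
  obtain ⟨a, ha⟩ := Ideal.Quotient.mk_surjective (AdicCompletion.evalₐ J n x)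
  have hz : x - AdicCompletion.of J R a ∈ (J ^ n • ⊤ : Submodule R (AdicCompletion J R)) := by
    rw [AdicCompletion.pow_smul_top_eq_ker_eval hJ, LinearMap.mem_ker]
    have h0 : AdicCompletion.evalₐ J n (x - AdicCompletion.of J R a) = 0 := by
      rw [map_sub, AdicCompletion.evalₐ_of, ha, sub_self]
    have hh : J ^ n ≤ J ^ n • (⊤ : Ideal R) := by rw [smul_eq_mul, Ideal.mul_top]
    rw [← AdicCompletion.factor_evalₐ_eq_eval J (x - AdicCompletion.of J R a) hh, h0, map_zero]
  have e1 : x = AdicCompletion.of J R a + (x - AdicCompletion.of J R a) := by ring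
  rw [e1, map_add, map_add, map_add, map_add, h, h', key ψ h n _ hz, key ψ' h' n _ hz]

section CL

variable (R : Type u) [CommRing R] [IsNoetherianRing R] (J : Ideal R) (x : R)

omit [IsNoetherianRing R] in
/-- primes of `R` containing `J` and not `x` lift to the completed localization. -/
theorem exists_prime_cl (𝔭 : Ideal R) [h𝔭 : 𝔭.IsPrime] (hJ : J ≤ 𝔭) (hx : x ∉ 𝔭) :
    ∃ 𝔫 : Ideal (AdicCompletion (J.map (algebraMap R (Localization.Away x)))
      (Localization.Away x)), 𝔫.IsPrime ∧
      𝔫.comap (algebraMap R (AdicCompletion (J.map (algebraMap R (Localization.Away x)))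
        (Localization.Away x))) = 𝔭 := by
  have hdisj : Disjoint (Submonoid.powers x : Set R) (𝔭 : Set R) := by
    rw [Set.disjoint_left]
    rintro _ ⟨n, rfl⟩ hmem
    exact hx (h𝔭.mem_of_pow_mem n hmem)
  have hp0 : (𝔭.map (algebraMap R (Localization.Away x))).IsPrime :=
    IsLocalization.isPrime_of_isPrime_disjoint (Submonoid.powers x) _ 𝔭 h𝔭 hdisj
  have hc0 : (𝔭.map (algebraMap R (Localization.Away x))).comap
      (algebraMap R (Localization.Away x)) = 𝔭 :=
    IsLocalization.under_map_of_isPrime_disjoint (Submonoid.powers x) _ h𝔭 hdisj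
  have hJ0 : J.map (algebraMap R (Localization.Away x)) ≤
      𝔭.map (algebraMap R (Localization.Away x)) := Ideal.map_mono hJ
  haveI hp1 : ((𝔭.map (algebraMap R (Localization.Away x))).map
      (Ideal.Quotient.mk (J.map (algebraMap R (Localization.Away x))))).IsPrime :=
    Ideal.map_isPrime_of_surjective Ideal.Quotient.mk_surjective (by rw [Ideal.mk_ker]; exact hJ0)
  refine ⟨((𝔭.map (algebraMap R (Localization.Away x))).map
      (Ideal.Quotient.mk (J.map (algebraMap R (Localization.Away x))))).comap
      (AdicCompletion.evalOneₐ (J.map (algebraMap R (Localization.Away x)))),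
    Ideal.comap_isPrime _ _, ?_⟩
  have hcm : ((𝔭.map (algebraMap R (Localization.Away x))).map
      (Ideal.Quotient.mk (J.map (algebraMap R (Localization.Away x))))).comap
      (Ideal.Quotient.mk (J.map (algebraMap R (Localization.Away x)))) =
      𝔭.map (algebraMap R (Localization.Away x)) := by
    rw [Ideal.comap_map_of_surjective' _ Ideal.Quotient.mk_surjective, Ideal.mk_ker,
      sup_eq_left.mpr hJ0]
  ext r
  rw [Ideal.mem_comap, Ideal.mem_comap, AdicCompletion.algebraMap_apply,
    AdicCompletion.evalOneₐ_of, ← Ideal.mem_comap, hcm, ← Ideal.mem_comap, hc0]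

/-- open ideals of the completed localization are extended from `R`. -/
theorem ideal_eq_map_comap
    (𝔞 : Ideal (AdicCompletion (J.map (algebraMap R (Localization.Away x))) (Localization.Away x)))
    (h : J.map (algebraMap R (AdicCompletion (J.map (algebraMap R (Localization.Away x)))
      (Localization.Away x))) ≤ 𝔞) :
    (𝔞.comap (algebraMap R (AdicCompletion (J.map (algebraMap R (Localization.Away x)))
      (Localization.Away x)))).map (algebraMap R (AdicCompletion
        (J.map (algebraMap R (Localization.Away x))) (Localization.Away x))) = 𝔞 := by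
  haveI t := Groth.Agent.S8839.tower R J (Localization.Away x)
  have h1 : (𝔞.comap (algebraMap (Localization.Away x) (AdicCompletion
      (J.map (algebraMap R (Localization.Away x))) (Localization.Away x)))).map
      (algebraMap (Localization.Away x) (AdicCompletion
      (J.map (algebraMap R (Localization.Away x))) (Localization.Away x))) = 𝔞 := by
    refine map_comap_eq_of_dense _ (J.map (algebraMap R (Localization.Away x))) ?_ 𝔞 ?_
    · intro s
      obtain ⟨a, ha⟩ := Groth.Agent.S8839.dense R J (Localization.Away x) s
      refine ⟨a, ?_⟩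
      rw [Groth.Agent.S8839.mapeq R J (Localization.Away x)]
      exact ha
    · rw [Groth.Agent.S8839.mapeq R J (Localization.Away x)]
      exact h
  have h2 : ((𝔞.comap (algebraMap (Localization.Away x) (AdicCompletion
      (J.map (algebraMap R (Localization.Away x))) (Localization.Away x)))).comap
      (algebraMap R (Localization.Away x))).map (algebraMap R (Localization.Away x)) =
      𝔞.comap (algebraMap (Localization.Away x) (AdicCompletion
      (J.map (algebraMap R (Localization.Away x))) (Localization.Away x))) :=
    IsLocalization.map_under (Submonoid.powers x) (Localization.Away x) _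
  have h3 : 𝔞.comap (algebraMap R (AdicCompletion (J.map (algebraMap R (Localization.Away x)))
      (Localization.Away x))) = (𝔞.comap (algebraMap (Localization.Away x) (AdicCompletion
      (J.map (algebraMap R (Localization.Away x))) (Localization.Away x)))).comap
      (algebraMap R (Localization.Away x)) := by
    rw [IsScalarTower.algebraMap_eq R (Localization.Away x) (AdicCompletion
      (J.map (algebraMap R (Localization.Away x))) (Localization.Away x)), ← Ideal.comap_comap]
  have h4 : ∀ K : Ideal R, K.map (algebraMap R (AdicCompletion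
      (J.map (algebraMap R (Localization.Away x))) (Localization.Away x))) =
      (K.map (algebraMap R (Localization.Away x))).map (algebraMap (Localization.Away x)
        (AdicCompletion (J.map (algebraMap R (Localization.Away x))) (Localization.Away x))) := by
    intro K
    rw [IsScalarTower.algebraMap_eq R (Localization.Away x) (AdicCompletion
      (J.map (algebraMap R (Localization.Away x))) (Localization.Away x)), ← Ideal.map_map]
  rw [h3, h4, h2, h1]

end CL

section Core

variable (A : Type u) [CommRing A] [IsNoetherianRing A] (I : Ideal A) [IsAdicComplete I A]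
  (B : Type u) [CommRing B] [Algebra A B] [IsNoetherianRing B]
  [IsAdicComplete (I.map (algebraMap A B)) B]
  (X : Type u) [CommRing X] [Algebra A X] [IsNoetherianRing X]
  [IsAdicComplete (I.map (algebraMap A X)) X]
  (Y : Type u) [CommRing Y] [Algebra A Y] [IsNoetherianRing Y]
  [IsAdicComplete (I.map (algebraMap A Y)) Y]
  [Algebra X Y] [IsScalarTower A X Y] [Algebra B Y] [IsScalarTower A B Y]
  (f : A)

local notation "IB" => Ideal.map (algebraMap A B) I
local notation "IX" => Ideal.map (algebraMap A X) I
local notation "IY" => Ideal.map (algebraMap A Y) I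
local notation "A1" =>
  AdicCompletion (Ideal.map (algebraMap A (Localization.Away f)) I) (Localization.Away f)
local notation "B1" =>
  AdicCompletion (Ideal.map (algebraMap B (Localization.Away (algebraMap A B f)))
    (Ideal.map (algebraMap A B) I)) (Localization.Away (algebraMap A B f))
local notation "A2" =>
  AdicCompletion (Ideal.map (algebraMap X (Localization.Away (algebraMap A X f)))
    (Ideal.map (algebraMap A X) I)) (Localization.Away (algebraMap A X f))
local notation "B2" =>
  AdicCompletion (Ideal.map (algebraMap Y (Localization.Away (algebraMap A Y f)))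
    (Ideal.map (algebraMap A Y) I)) (Localization.Away (algebraMap A Y f))


set_option maxHeartbeats 1000000 in
/-- `A_{f} → X_{f}` is flat when `A → X` is. -/
theorem alpha_flat [Module.Flat A X] : (α A I X f).Flat := by
  haveI nA1 := Groth.Agent.S8839.noeth A I (Localization.Away f)
  haveI tA1 := Groth.Agent.S8839.tower A I (Localization.Away f)
  haveI nA2 := Groth.Agent.S8839.noeth X (IX) (Localization.Away (algebraMap A X f))
  haveI cA2 := Groth.Agent.S8839.complete X (IX) (Localization.Away (algebraMap A X f))
  haveI tX := Groth.Agent.S8839.tower X (IX) (Localization.Away (algebraMap A X f))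
  haveI tAX := towerAX A I X f
  have hflat0 : ((α A I X f).comp (algebraMap (Localization.Away f) A1)).Flat := by
    haveI : Module.Flat X A2 := Module.Flat.trans X (Localization.Away (algebraMap A X f)) A2
    haveI : Module.Flat A A2 := Module.Flat.trans A X A2
    letI : Algebra (Localization.Away f) A2 :=
      ((α A I X f).comp (algebraMap (Localization.Away f) A1)).toAlgebra
    haveI : IsScalarTower A (Localization.Away f) A2 :=
      IsScalarTower.of_algebraMap_eq (fun a => by
        show algebraMap A A2 a = α A I X f
          (algebraMap (Localization.Away f) A1 (algebraMap A (Localization.Away f) a))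
        rw [← IsScalarTower.algebraMap_apply A (Localization.Away f) A1,
          α_algebraMap, ← IsScalarTower.algebraMap_apply A X A2])
    show Module.Flat (Localization.Away f) A2
    exact (Module.flat_iff_of_isLocalization (Localization.Away f)
      (Submonoid.powers f) A2).mpr inferInstance
  refine flat_of_maximal_extended (algebraMap (Localization.Away f) A1) (α A I X f) hflat0 ?_
  intro 𝔫 h𝔫
  refine ⟨(𝔫.comap (α A I X f)).comap (algebraMap (Localization.Away f) A1), ?_⟩
  refine map_comap_eq_of_dense (algebraMap (Localization.Away f) A1)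
    (I.map (algebraMap A (Localization.Away f))) ?_ _ ?_
  · intro s
    obtain ⟨a, ha⟩ := Groth.Agent.S8839.dense A I (Localization.Away f) s
    refine ⟨a, ?_⟩
    rw [Groth.Agent.S8839.mapeq A I (Localization.Away f)]
    exact ha
  · rw [Groth.Agent.S8839.mapeq A I (Localization.Away f),
      ← Ideal.map_le_iff_le_comap, hJα]
    exact (IsAdicComplete.le_jacobson_bot ((IX).map (algebraMap X A2))).trans
      (sInf_le ⟨bot_le, h𝔫⟩)

set_option maxHeartbeats 2000000 in
/-- rig-closed primes of `B_{f}` lift to rig-closed primes of `Y_{f}` when `B → Y` is faithfully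
flat. -/
theorem exists_rigClosed_over [Module.FaithfullyFlat B Y] (qf : Ideal B1) [hqfp : qf.IsPrime]
    (hqf : ¬ ((IB).map (algebraMap B B1)) ≤ qf ∧ ∀ y : PrimeSpectrum B1, qf ≤ y.asIdeal →
      ¬ ((IB).map (algebraMap B B1)) ≤ y.asIdeal → y.asIdeal = qf) :
    ∃ q' : Ideal B2, q'.IsPrime ∧ q'.comap (β A I B Y f) = qf ∧
      (¬ ((IY).map (algebraMap Y B2)) ≤ q' ∧ ∀ y : PrimeSpectrum B2, q' ≤ y.asIdeal →
        ¬ ((IY).map (algebraMap Y B2)) ≤ y.asIdeal → y.asIdeal = q') := by
  classical
  haveI tB1 := Groth.Agent.S8839.tower B (IB) (Localization.Away (algebraMap A B f))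
  haveI nB1 := Groth.Agent.S8839.noeth B (IB) (Localization.Away (algebraMap A B f))
  haveI cB1 := Groth.Agent.S8839.complete B (IB) (Localization.Away (algebraMap A B f))
  haveI tB2 := Groth.Agent.S8839.tower Y (IY) (Localization.Away (algebraMap A Y f))
  haveI nB2 := Groth.Agent.S8839.noeth Y (IY) (Localization.Away (algebraMap A Y f))
  haveI cB2 := Groth.Agent.S8839.complete Y (IY) (Localization.Away (algebraMap A Y f))
  have hβflat := beta_flat A I B Y f
  have hJ := hJβ A I B Y f
  -- a maximal ideal above `qf`
  obtain ⟨𝔪, h𝔪, hq𝔪⟩ := Ideal.exists_le_maximal qf hqfp.ne_top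
  haveI h𝔪p : 𝔪.IsPrime := h𝔪.isPrime
  have hJ𝔪 : (IB).map (algebraMap B B1) ≤ 𝔪 :=
    (IsAdicComplete.le_jacobson_bot ((IB).map (algebraMap B B1))).trans (sInf_le ⟨bot_le, h𝔪⟩)
  haveI h𝔭p : (𝔪.comap (algebraMap B B1)).IsPrime := Ideal.comap_isPrime _ _
  have hI𝔭 : IB ≤ 𝔪.comap (algebraMap B B1) := Ideal.map_le_iff_le_comap.mp hJ𝔪
  have hg𝔭 : algebraMap A B f ∉ 𝔪.comap (algebraMap B B1) := by
    intro hmem
    have hu : IsUnit (algebraMap B B1 (algebraMap A B f)) := by
      rw [IsScalarTower.algebraMap_apply B (Localization.Away (algebraMap A B f)) B1]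
      exact (IsLocalization.Away.algebraMap_isUnit (algebraMap A B f)).map _
    exact h𝔪.ne_top (Ideal.eq_top_of_isUnit_mem _ (Ideal.mem_comap.mp hmem) hu)
  obtain ⟨𝔭', h𝔭'p, h𝔭'lo⟩ :=
    Ideal.exists_isPrime_liesOver_of_faithfullyFlat (B := Y) (𝔪.comap (algebraMap B B1))
  have h𝔭'c : 𝔭'.comap (algebraMap B Y) = 𝔪.comap (algebraMap B B1) := h𝔭'lo.over.symm
  have hI𝔭' : IY ≤ 𝔭' := by
    rw [Ideal.map_le_iff_le_comap, IsScalarTower.algebraMap_eq A B Y, ← Ideal.comap_comap, h𝔭'c]
    exact Ideal.map_le_iff_le_comap.mp hI𝔭
  have hg𝔭' : algebraMap A Y f ∉ 𝔭' := by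
    intro hmem
    apply hg𝔭
    rw [← h𝔭'c, Ideal.mem_comap, ← IsScalarTower.algebraMap_apply A B Y]
    exact hmem
  obtain ⟨𝔫', h𝔫'p, h𝔫'c⟩ := exists_prime_cl Y (IY) (algebraMap A Y f) 𝔭' hI𝔭' hg𝔭'
  -- `𝔫'` lies over `𝔪`
  have hβB : (β A I B Y f).comp (algebraMap B B1) = (algebraMap Y B2).comp (algebraMap B Y) :=
    RingHom.ext fun b => β_algebraMap A I B Y f b
  have hc1 : (𝔫'.comap (β A I B Y f)).comap (algebraMap B B1) = 𝔪.comap (algebraMap B B1) := by
    rw [Ideal.comap_comap, hβB, ← Ideal.comap_comap, h𝔫'c, h𝔭'c]
  have hJ𝔫 : (IB).map (algebraMap B B1) ≤ 𝔫'.comap (β A I B Y f) := by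
    rw [← Ideal.map_le_iff_le_comap, hJ, Ideal.map_le_iff_le_comap, h𝔫'c]
    exact hI𝔭'
  have h𝔫'𝔪 : 𝔫'.comap (β A I B Y f) = 𝔪 := by
    rw [← ideal_eq_map_comap B (IB) (algebraMap A B f) _ hJ𝔫,
      ← ideal_eq_map_comap B (IB) (algebraMap A B f) _ hJ𝔪, hc1]
  -- going down
  letI algβ : Algebra B1 B2 := (β A I B Y f).toAlgebra
  haveI : Module.Flat B1 B2 := hβflat
  haveI hlo : 𝔫'.LiesOver 𝔪 := ⟨h𝔫'𝔪.symm⟩
  obtain ⟨q'', hq''le, hq''p, hq''lo⟩ :=
    Ideal.exists_ideal_le_liesOver_of_le (p := qf) (q := 𝔪) 𝔫' hq𝔪
  have hq''c : q''.comap (β A I B Y f) = qf := hq''lo.over.symm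
  have hJq'' : ¬ ((IY).map (algebraMap Y B2)) ≤ q'' := by
    intro hle
    apply hqf.1
    rw [← hq''c, ← Ideal.map_le_iff_le_comap, hJ]
    exact hle
  -- a maximal element
  obtain ⟨q', ⟨hq'p, hq''q', hJq'⟩, hmaxq'⟩ := wellFounded_gt.has_min
    {P : Ideal B2 | P.IsPrime ∧ q'' ≤ P ∧ ¬ ((IY).map (algebraMap Y B2)) ≤ P}
    ⟨q'', hq''p, le_rfl, hJq''⟩
  refine ⟨q', hq'p, ?_, hJq', fun y hy hIy => ?_⟩
  · haveI := hq'p
    have hle : qf ≤ q'.comap (β A I B Y f) := by
      rw [← hq''c]
      exact Ideal.comap_mono hq''q'
    have hnot : ¬ ((IB).map (algebraMap B B1)) ≤ q'.comap (β A I B Y f) := by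
      intro hle'
      apply hJq'
      rw [← hJ, Ideal.map_le_iff_le_comap]
      exact hle'
    exact hqf.2 ⟨q'.comap (β A I B Y f), Ideal.comap_isPrime _ _⟩ hle hnot
  · have hmem : y.asIdeal ∈ {P : Ideal B2 | P.IsPrime ∧ q'' ≤ P ∧
        ¬ ((IY).map (algebraMap Y B2)) ≤ P} := ⟨y.isPrime, hq''q'.trans hy, hIy⟩
    have hnot := hmaxq' y.asIdeal hmem
    by_contra hne
    exact hnot (lt_of_le_of_ne hy (fun e => hne e.symm))

end Core

section Main

variable (A : Type u) [CommRing A] [IsNoetherianRing A] (I : Ideal A) [IsAdicComplete I A]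
  (B : Type u) [CommRing B] [Algebra A B] [IsNoetherianRing B]
  [IsAdicComplete (I.map (algebraMap A B)) B]
  (A' : Type u) [CommRing A'] [Algebra A A'] [IsNoetherianRing A']
  [IsAdicComplete (I.map (algebraMap A A')) A']
  (B' : Type u) [CommRing B'] [Algebra A B'] [Algebra B B'] [Algebra A' B'] [IsScalarTower A B B']
  [IsScalarTower A A' B'] [IsNoetherianRing B'] [IsAdicComplete (I.map (algebraMap A B')) B']
  (f : A)

local notation "IB" => Ideal.map (algebraMap A B) I
local notation "IA'" => Ideal.map (algebraMap A A') I
local notation "IB'" => Ideal.map (algebraMap A B') I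
local notation "A1" =>
  AdicCompletion (Ideal.map (algebraMap A (Localization.Away f)) I) (Localization.Away f)
local notation "B1" =>
  AdicCompletion (Ideal.map (algebraMap B (Localization.Away (algebraMap A B f)))
    (Ideal.map (algebraMap A B) I)) (Localization.Away (algebraMap A B f))
local notation "A2" =>
  AdicCompletion (Ideal.map (algebraMap A' (Localization.Away (algebraMap A A' f)))
    (Ideal.map (algebraMap A A') I)) (Localization.Away (algebraMap A A' f))
local notation "B2" =>
  AdicCompletion (Ideal.map (algebraMap B' (Localization.Away (algebraMap A B' f)))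
    (Ideal.map (algebraMap A B') I)) (Localization.Away (algebraMap A B' f))

set_option maxHeartbeats 2000000 in
theorem stepD (hA'B' : (∀ f' : A', ∀ ψf' : (AdicCompletion ((I.map (algebraMap A A')).map (algebraMap A' (Localization.Away f'))) (Localization.Away f')) →+* (AdicCompletion (((I.map (algebraMap A A')).map (algebraMap A' B')).map (algebraMap B' (Localization.Away (algebraMap A' B' f')))) (Localization.Away (algebraMap A' B' f'))), ψf'.comp (algebraMap (Localization.Away f') (AdicCompletion ((I.map (algebraMap A A')).map (algebraMap A' (Localization.Away f'))) (Localization.Away f'))) = (algebraMap (Localization.Away (algebraMap A' B' f')) (AdicCompletion (((I.map (algebraMap A A')).map (algebraMap A' B')).map (algebraMap B' (Localization.Away (algebraMap A' B' f')))) (Localization.Away (algebraMap A' B' f')))).comp (Localization.awayMap (algebraMap A' B') f') → ∀ qf' : PrimeSpectrum (AdicCompletion (((I.map (algebraMap A A')).map (algebraMap A' B')).map (algebraMap B' (Localization.Away (algebraMap A' B' f')))) (Localization.Away (algebraMap A' B' f'))),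 (¬ ((((I.map (algebraMap A A')).map (algebraMap A' B')).map (algebraMap B' (Localization.Away (algebraMap A' B' f')))).map (algebraMap (Localization.Away (algebraMap A' B' f')) (AdicCompletion (((I.map (algebraMap A A')).map (algebraMap A' B')).map (algebraMap B' (Localization.Away (algebraMap A' B' f')))) (Localization.Away (algebraMap A' B' f'))))) ≤ qf'.asIdeal ∧ ∀ y : PrimeSpectrum (AdicCompletion (((I.map (algebraMap A A')).map (algebraMap A' B')).map (algebraMap B' (Localization.Away (algebraMap A' B' f')))) (Localization.Away (algebraMap A' B' f'))), qf' ≤ y → ¬ ((((I.map (algebraMap A A')).map (algebraMap A' B')).map (algebraMap B' (Localization.Away (algebraMap A' B' f')))).map (algebraMap (Localization.Away (algebraMap A' B' f')) (AdicCompletion (((I.map (algebraMap A A')).map (algebraMap A' B')).map (algebraMap B' (Localization.Away (algebraMap A' B' f')))) (Localization.Away (algebraMap A' B' f'))))) ≤ y.asIdeal → y = qf') → ((algebraMap (AdicCompletion (((I.map (algebraMap A A')).map (algebraMap A' B')).map (algebraMap B' (Localization.Away (algebraMap A'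 B' f')))) (Localization.Away (algebraMap A' B' f'))) (Localization.AtPrime qf'.asIdeal)).comp ψf').Flat))
    (hftB'A' : Algebra.FiniteType A' (B' ⧸ IB'))
    (Q : Ideal B2) [hQp : Q.IsPrime]
    (hQ : ¬ ((IB').map (algebraMap B' B2)) ≤ Q ∧
      ∀ y : PrimeSpectrum B2, Q ≤ y.asIdeal → ¬ ((IB').map (algebraMap B' B2)) ≤ y.asIdeal →
        y.asIdeal = Q) :
    ((algebraMap B2 (Localization.AtPrime Q)).comp (ψ2 A I A' B' f)).Flat := by
  have hA'B'' : (IA').map (algebraMap A' B') = IB' := by
    have h1 : (IA').map (algebraMap A' B') = I.map ((algebraMap A' B').comp (algebraMap A A')) :=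
      Ideal.map_map _ _
    rw [h1, ← IsScalarTower.algebraMap_eq A A' B']
  haveI cB' : IsAdicComplete ((IA').map (algebraMap A' B')) B' := by
    rw [hA'B'']
    infer_instance
  haveI tA2 := Groth.Agent.S8839.tower A' (IA') (Localization.Away (algebraMap A A' f))
  haveI nA2 := Groth.Agent.S8839.noeth A' (IA') (Localization.Away (algebraMap A A' f))
  haveI cA2 := Groth.Agent.S8839.complete A' (IA') (Localization.Away (algebraMap A A' f))
  haveI tB2 := Groth.Agent.S8839.tower B' (IB') (Localization.Away (algebraMap A B' f))
  haveI nB2 := Groth.Agent.S8839.noeth B' (IB') (Localization.Away (algebraMap A B' f))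
  have cB2 := Groth.Agent.S8839.complete B' (IB') (Localization.Away (algebraMap A B' f))
  haveI tA'B'B2 : IsScalarTower A' B' B2 := tower_cl A' B' (algebraMap A B' f) _
  have hJ2 : (IA').map (algebraMap A' B2) = (IB').map (algebraMap B' B2) := by
    have h1 : ((IA').map (algebraMap A' B')).map (algebraMap B' B2) =
        (IA').map ((algebraMap B' B2).comp (algebraMap A' B')) := Ideal.map_map _ _
    have h2 : (IA').map ((algebraMap B' B2).comp (algebraMap A' B')) =
        (IA').map (algebraMap A' B2) := by
      rw [← IsScalarTower.algebraMap_eq A' B' B2]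
    have h3 : ((IA').map (algebraMap A' B')).map (algebraMap B' B2) =
        (IB').map (algebraMap B' B2) :=
      congrArg (fun J : Ideal B' => J.map (algebraMap B' B2)) hA'B''
    exact (h2.symm.trans h1.symm).trans h3
  haveI cB2' : IsAdicComplete ((IA').map (algebraMap A' B2)) B2 := by
    rw [hJ2]
    exact cB2
  letI algψ : Algebra A2 B2 := (ψ2 A I A' B' f).toAlgebra
  haveI tA'A2B2 : IsScalarTower A' A2 B2 := IsScalarTower.of_algebraMap_eq (fun a => by
    show algebraMap A' B2 a = ψ2 A I A' B' f (algebraMap A' A2 a)
    rw [ψ2_algebraMap, ← IsScalarTower.algebraMap_apply A' B' B2])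
  haveI hfl1 : Module.Flat B' B2 :=
    Module.Flat.trans B' (Localization.Away (algebraMap A B' f)) B2
  have hXft' : Algebra.FiniteType A' (A2 ⧸ (IA').map (algebraMap A' A2)) :=
    finiteType_cl_quot A' (IA') (algebraMap A A' f) _ le_rfl
  haveI hXu' : Algebra.FormallyUnramified A' (A2 ⧸ (IA').map (algebraMap A' A2)) :=
    formallyUnramified_cl_quot A' (IA') (algebraMap A A' f) _ le_rfl
  have hYft' : Algebra.FiniteType A' (B2 ⧸ (IA').map (algebraMap A' B2)) :=
    finiteType_quotient_trans (R := A') (S := B') (T := B2) (IB') ((IA').map (algebraMap A' B2))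
      (le_of_eq hJ2.symm) hftB'A'
      (finiteType_cl_quot B' (IB') (algebraMap A B' f) _ (le_of_eq hJ2.symm))
  have hQ' : ¬ ((IA').map (algebraMap A' B2)) ≤ (⟨Q, hQp⟩ : PrimeSpectrum B2).asIdeal ∧
      ∀ y : PrimeSpectrum B2, (⟨Q, hQp⟩ : PrimeSpectrum B2) ≤ y →
        ¬ ((IA').map (algebraMap A' B2)) ≤ y.asIdeal → y = ⟨Q, hQp⟩ := by
    rw [hJ2]
    exact ⟨hQ.1, fun y hy hIy => PrimeSpectrum.ext (hQ.2 y hy hIy)⟩
  have hmain := Groth.Agent.S8845.core A' (IA') B' A2 B2 hA'B' hXft' hYft' ⟨Q, hQp⟩ hQ'
  have hcomp : (algebraMap B2 (Localization.AtPrime Q)).comp (ψ2 A I A' B' f) =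
      algebraMap A2 (Localization.AtPrime Q) :=
    (IsScalarTower.algebraMap_eq A2 B2 (Localization.AtPrime Q)).symm
  rw [hcomp, RingHom.flat_algebraMap_iff]
  exact hmain

set_option maxHeartbeats 2000000 in
theorem main (hftB'A' : Algebra.FiniteType A' (B' ⧸ IB'))
    [Module.Flat A A'] [Module.FaithfullyFlat B B']
    (hA'B' : (∀ f' : A', ∀ ψf' : (AdicCompletion ((I.map (algebraMap A A')).map (algebraMap A' (Localization.Away f'))) (Localization.Away f')) →+* (AdicCompletion (((I.map (algebraMap A A')).map (algebraMap A' B')).map (algebraMap B' (Localization.Away (algebraMap A' B' f')))) (Localization.Away (algebraMap A' B' f'))), ψf'.comp (algebraMap (Localization.Away f') (AdicCompletion ((I.map (algebraMap A A')).map (algebraMap A' (Localization.Away f'))) (Localization.Away f'))) = (algebraMap (Localization.Away (algebraMap A' B' f')) (AdicCompletion (((I.map (algebraMap A A')).map (algebraMap A' B')).map (algebraMap B' (Localization.Away (algebraMap A' B' f')))) (Localization.Away (algebraMap A' B' f')))).comp (Localization.awayMap (algebraMap A' B') f') →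 ∀ qf' : PrimeSpectrum (AdicCompletion (((I.map (algebraMap A A')).map (algebraMap A' B')).map (algebraMap B' (Localization.Away (algebraMap A' B' f')))) (Localization.Away (algebraMap A' B' f'))), (¬ ((((I.map (algebraMap A A')).map (algebraMap A' B')).map (algebraMap B' (Localization.Away (algebraMap A' B' f')))).map (algebraMap (Localization.Away (algebraMap A' B' f')) (AdicCompletion (((I.map (algebraMap A A')).map (algebraMap A' B')).map (algebraMap B' (Localization.Away (algebraMap A' B' f')))) (Localization.Away (algebraMap A' B' f'))))) ≤ qf'.asIdeal ∧ ∀ y : PrimeSpectrum (AdicCompletion (((I.map (algebraMap A A')).map (algebraMap A' B')).map (algebraMap B' (Localization.Away (algebraMap A' B' f')))) (Localization.Away (algebraMap A' B' f'))), qf' ≤ y → ¬ ((((I.map (algebraMap A A')).map (algebraMap A' B')).map (algebraMap B' (Localization.Away (algebraMap A' B' f')))).map (algebraMap (Localization.Away (algebraMap A' B' f')) (AdicCompletion (((I.map (algebraMap A A')).map (algebraMap A' B')).map (algebraMap B' (Localization.Away (algebraMap A' B' f')))) (Localization.Away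 (algebraMap A' B' f'))))) ≤ y.asIdeal → y = qf') → ((algebraMap (AdicCompletion (((I.map (algebraMap A A')).map (algebraMap A' B')).map (algebraMap B' (Localization.Away (algebraMap A' B' f')))) (Localization.Away (algebraMap A' B' f'))) (Localization.AtPrime qf'.asIdeal)).comp ψf').Flat))
    (ψf : A1 →+* B1)
    (hψf : ψf.comp (algebraMap (Localization.Away f) A1) =
      (algebraMap (Localization.Away (algebraMap A B f)) B1).comp
        (Localization.awayMap (algebraMap A B) f))
    (qf : PrimeSpectrum B1)
    (hqf : ¬ (((IB).map (algebraMap B (Localization.Away (algebraMap A B f)))).map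
        (algebraMap (Localization.Away (algebraMap A B f)) B1)) ≤ qf.asIdeal ∧
      ∀ y : PrimeSpectrum B1, qf ≤ y →
        ¬ (((IB).map (algebraMap B (Localization.Away (algebraMap A B f)))).map
          (algebraMap (Localization.Away (algebraMap A B f)) B1)) ≤ y.asIdeal → y = qf) :
    ((algebraMap B1 (Localization.AtPrime qf.asIdeal)).comp ψf).Flat := by
  classical
  haveI hqfp := qf.isPrime
  haveI tA1 := Groth.Agent.S8839.tower A I (Localization.Away f)
  haveI nA1 := Groth.Agent.S8839.noeth A I (Localization.Away f)
  haveI tB1 := Groth.Agent.S8839.tower B (IB) (Localization.Away (algebraMap A B f))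
  haveI nB1 := Groth.Agent.S8839.noeth B (IB) (Localization.Away (algebraMap A B f))
  haveI nA2 := Groth.Agent.S8839.noeth A' (IA') (Localization.Away (algebraMap A A' f))
  haveI nB2 := Groth.Agent.S8839.noeth B' (IB') (Localization.Away (algebraMap A B' f))
  -- uniqueness of `ψf`
  have hφ : (I.map (algebraMap A (Localization.Away f))).map
      (Localization.awayMap (algebraMap A B) f) ≤
      (IB).map (algebraMap B (Localization.Away (algebraMap A B f))) := by
    rw [Ideal.map_le_iff_le_comap, ← locMap_eq_awayMap]
    exact map_le_comap_locMap (algebraMap A B) f _ rfl I (IB) le_rfl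
  have hψeq : ψf = ψ1 A I B f := by
    refine hom_ext_cl (I.map (algebraMap A (Localization.Away f)))
      (Groth.Agent.S8839.fg A I (Localization.Away f))
      ((IB).map (algebraMap B (Localization.Away (algebraMap A B f))))
      (Localization.awayMap (algebraMap A B) f) hφ ψf (ψ1 A I B f) ?_ ?_
    · intro r
      exact RingHom.congr_fun hψf r
    · intro r
      exact RingHom.congr_fun (compat A I B f) r
  subst hψeq
  -- the rig-closed prime above
  have hqf' : ¬ ((IB).map (algebraMap B B1)) ≤ qf.asIdeal ∧ ∀ y : PrimeSpectrum B1,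
      qf.asIdeal ≤ y.asIdeal → ¬ ((IB).map (algebraMap B B1)) ≤ y.asIdeal →
        y.asIdeal = qf.asIdeal := by
    rw [← Groth.Agent.S8839.mapeq B (IB) (Localization.Away (algebraMap A B f))]
    exact ⟨hqf.1, fun y hy hIy => congrArg PrimeSpectrum.asIdeal (hqf.2 y hy hIy)⟩
  obtain ⟨q', hq'p, hq'c, hq'rig⟩ := exists_rigClosed_over A I B B' f qf.asIdeal hqf'
  haveI := hq'p
  -- `T` is flat over `A2`, hence over `A1`
  have hT2 := stepD A I A' B' f hA'B' hftB'A' q' hq'rig
  have hα := alpha_flat A I A' f
  have hT1 : ((algebraMap B2 (Localization.AtPrime q')).comp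
      ((β A I B B' f).comp (ψ1 A I B f))).Flat := by
    rw [square A I B A' B' f, ← RingHom.comp_assoc]
    exact hα.comp hT2
  -- descent
  have hβ := beta_flat A I B B' f
  have hδ : (Localization.localRingHom qf.asIdeal q' (β A I B B' f) hq'c.symm).Flat :=
    RingHom.Flat.localRingHom hβ _ _ hq'c.symm
  letI algψ : Algebra A1 B1 := (ψ1 A I B f).toAlgebra
  letI algδ : Algebra (Localization.AtPrime qf.asIdeal) (Localization.AtPrime q') :=
    (Localization.localRingHom qf.asIdeal q' (β A I B B' f) hq'c.symm).toAlgebra
  letI algAT : Algebra A1 (Localization.AtPrime q') :=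
    ((algebraMap (Localization.AtPrime qf.asIdeal) (Localization.AtPrime q')).comp
      (algebraMap A1 (Localization.AtPrime qf.asIdeal))).toAlgebra
  haveI tAT : IsScalarTower A1 (Localization.AtPrime qf.asIdeal) (Localization.AtPrime q') :=
    IsScalarTower.of_algebraMap_eq (fun _ => rfl)
  haveI hlocδ : IsLocalHom (algebraMap (Localization.AtPrime qf.asIdeal)
      (Localization.AtPrime q')) := Localization.isLocalHom_localRingHom _ _ _ _
  haveI hflatδ : Module.Flat (Localization.AtPrime qf.asIdeal) (Localization.AtPrime q') := hδ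
  haveI hff : Module.FaithfullyFlat (Localization.AtPrime qf.asIdeal)
      (Localization.AtPrime q') := Module.FaithfullyFlat.of_flat_of_isLocalHom
  haveI hAT : Module.Flat A1 (Localization.AtPrime q') := by
    have e : algebraMap A1 (Localization.AtPrime q') =
        (algebraMap B2 (Localization.AtPrime q')).comp
          ((β A I B B' f).comp (ψ1 A I B f)) := by
      refine RingHom.ext fun x => ?_
      show Localization.localRingHom qf.asIdeal q' (β A I B B' f) hq'c.symm
        (algebraMap A1 (Localization.AtPrime qf.asIdeal) x) = _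
      rw [IsScalarTower.algebraMap_apply A1 B1 (Localization.AtPrime qf.asIdeal),
        Localization.localRingHom_to_map]
      rfl
    have h : (algebraMap A1 (Localization.AtPrime q')).Flat := by
      rw [e]
      exact hT1
    exact RingHom.flat_algebraMap_iff.mp h
  have hres : Module.Flat A1 (Localization.AtPrime qf.asIdeal) :=
    Groth.Agent.H2.flat_of_faithfullyFlat_module (R := A1)
      (S := Localization.AtPrime qf.asIdeal) (M := Localization.AtPrime q')
  have hcomp : (algebraMap B1 (Localization.AtPrime qf.asIdeal)).comp (ψ1 A I B f) =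
      algebraMap A1 (Localization.AtPrime qf.asIdeal) :=
    (IsScalarTower.algebraMap_eq A1 B1 (Localization.AtPrime qf.asIdeal)).symm
  rw [hcomp, RingHom.flat_algebraMap_iff]
  exact hres

end Main


/-- Consider a commutative square of adic Noetherian topological rings with all maps adic and
topologically of finite type: A a Noetherian ring complete for the adic topology of an ideal I; B,
A' and B' Noetherian algebras complete for the IB-, IA'- and IB'-adic topologies, B' an algebra over
B and over A' compatibly with A, with B/IB and A'/IA' of finite type over A and B'/IB' of finite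
type over B and over A'. Assume A → A' is flat and B → B' is faithfully flat. If A' → B' is rig-flat
— for every f' ∈ A', every ring map A'_{f'} → B'_{f'} of completed principal localizations
compatible with the map of ordinary localizations A'[1/f'] → B'[1/f'] (there is exactly one), and
every rig-closed prime q of B'_{f'} (I B'_{f'} ⊄ q and q maximal among the primes not containing I
B'_{f'}), the local ring (B'_{f'})_q is flat over A'_{f'} — then A → B is rig-flat in the same form:
for every f ∈ A, every ring map A_{f} → B_{f} of completed principal localizations compatible with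
the map of ordinary localizations A[1/f] → B[1/f], and every rig-closed prime q of B_{f}, the local
ring (B_{f})_q is flat over A_{f}. -/
theorem result (A : Type u) [CommRing A] [IsNoetherianRing A] (I : Ideal A) [IsAdicComplete I A] (B : Type u) [CommRing B] [Algebra A B] [IsNoetherianRing B] [IsAdicComplete (I.map (algebraMap A B)) B] (hftB : Algebra.FiniteType A (B ⧸ (I.map (algebraMap A B)))) (A' : Type u) [CommRing A'] [Algebra A A'] [IsNoetherianRing A'] [IsAdicComplete (I.map (algebraMap A A')) A'] (hftA' : Algebra.FiniteType A (A' ⧸ (I.map (algebraMap A A')))) (B' : Type u) [CommRing B'] [Algebra A B'] [Algebra B B'] [Algebra A' B'] [IsScalarTower A B B'] [IsScalarTower A A' B'] [IsNoetherianRing B'] [IsAdicComplete (I.map (algebraMap A B')) B'] (hftB'B : Algebra.FiniteType B (B' ⧸ (I.map (algebraMap A B')))) (hftB'A' : Algebra.FiniteType A' (B' ⧸ (I.map (algebraMap A B')))) [Module.Flat A A'] [Module.FaithfullyFlat B B'] (hA'B' : (∀ f' : A', ∀ ψf' : (AdicCompletion ((I.map (algebraMap A A')).map (algebraMap A' (Localization.Away f'))) (Localization.Away f'))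 →+* (AdicCompletion (((I.map (algebraMap A A')).map (algebraMap A' B')).map (algebraMap B' (Localization.Away (algebraMap A' B' f')))) (Localization.Away (algebraMap A' B' f'))), ψf'.comp (algebraMap (Localization.Away f') (AdicCompletion ((I.map (algebraMap A A')).map (algebraMap A' (Localization.Away f'))) (Localization.Away f'))) = (algebraMap (Localization.Away (algebraMap A' B' f')) (AdicCompletion (((I.map (algebraMap A A')).map (algebraMap A' B')).map (algebraMap B' (Localization.Away (algebraMap A' B' f')))) (Localization.Away (algebraMap A' B' f')))).comp (Localization.awayMap (algebraMap A' B') f') → ∀ qf' : PrimeSpectrum (AdicCompletion (((I.map (algebraMap A A')).map (algebraMap A' B')).map (algebraMap B' (Localization.Away (algebraMap A' B' f')))) (Localization.Away (algebraMap A' B' f'))), (¬ ((((I.map (algebraMap A A')).map (algebraMap A' B')).map (algebraMap B' (Localization.Away (algebraMap A' B' f')))).map (algebraMap (Localization.Away (algebraMap A' B' f')) (AdicCompletion (((I.map (algebraMap A A')).map (algebraMap A' B')).map (algebraMap B' (Localization.Away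 (algebraMap A' B' f')))) (Localization.Away (algebraMap A' B' f'))))) ≤ qf'.asIdeal ∧ ∀ y : PrimeSpectrum (AdicCompletion (((I.map (algebraMap A A')).map (algebraMap A' B')).map (algebraMap B' (Localization.Away (algebraMap A' B' f')))) (Localization.Away (algebraMap A' B' f'))), qf' ≤ y → ¬ ((((I.map (algebraMap A A')).map (algebraMap A' B')).map (algebraMap B' (Localization.Away (algebraMap A' B' f')))).map (algebraMap (Localization.Away (algebraMap A' B' f')) (AdicCompletion (((I.map (algebraMap A A')).map (algebraMap A' B')).map (algebraMap B' (Localization.Away (algebraMap A' B' f')))) (Localization.Away (algebraMap A' B' f'))))) ≤ y.asIdeal → y = qf') → ((algebraMap (AdicCompletion (((I.map (algebraMap A A')).map (algebraMap A' B')).map (algebraMap B' (Localization.Away (algebraMap A' B' f')))) (Localization.Away (algebraMap A' B' f'))) (Localization.AtPrime qf'.asIdeal)).comp ψf').Flat)) : (∀ f : A, ∀ ψf : (AdicCompletion (I.map (algebraMap A (Localization.Away f))) (Localization.Away f)) →+* (AdicCompletion ((I.map (algebraMap A B)).map (algebraMap B (Localization.Away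 (algebraMap A B f)))) (Localization.Away (algebraMap A B f))), ψf.comp (algebraMap (Localization.Away f) (AdicCompletion (I.map (algebraMap A (Localization.Away f))) (Localization.Away f))) = (algebraMap (Localization.Away (algebraMap A B f)) (AdicCompletion ((I.map (algebraMap A B)).map (algebraMap B (Localization.Away (algebraMap A B f)))) (Localization.Away (algebraMap A B f)))).comp (Localization.awayMap (algebraMap A B) f) → ∀ qf : PrimeSpectrum (AdicCompletion ((I.map (algebraMap A B)).map (algebraMap B (Localization.Away (algebraMap A B f)))) (Localization.Away (algebraMap A B f))), (¬ (((I.map (algebraMap A B)).map (algebraMap B (Localization.Away (algebraMap A B f)))).map (algebraMap (Localization.Away (algebraMap A B f)) (AdicCompletion ((I.map (algebraMap A B)).map (algebraMap B (Localization.Away (algebraMap A B f)))) (Localization.Away (algebraMap A B f))))) ≤ qf.asIdeal ∧ ∀ y : PrimeSpectrum (AdicCompletion ((I.map (algebraMap A B)).map (algebraMap B (Localization.Away (algebraMap A B f)))) (Localization.Away (algebraMap A B f))), qf ≤ y → ¬ (((I.map (algebraMap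 A B)).map (algebraMap B (Localization.Away (algebraMap A B f)))).map (algebraMap (Localization.Away (algebraMap A B f)) (AdicCompletion ((I.map (algebraMap A B)).map (algebraMap B (Localization.Away (algebraMap A B f)))) (Localization.Away (algebraMap A B f))))) ≤ y.asIdeal → y = qf) → ((algebraMap (AdicCompletion ((I.map (algebraMap A B)).map (algebraMap B (Localization.Away (algebraMap A B f)))) (Localization.Away (algebraMap A B f))) (Localization.AtPrime qf.asIdeal)).comp ψf).Flat) := by
  intro f ψf hψf qf hqf
  exact main A I B A' B' f hftB'A' hA'B' ψf hψf qf hqf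

end Groth.Agent.S8844
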