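import Groth.Statements.S8848
import Groth.Agent.H79.FibreCartier2

set_option autoImplicit false
universe u
open CategoryTheory CategoryTheory.Limits AlgebraicGeometry TopologicalSpace
open SDiv

namespace Groth.Agent.S8848

/-- Let φ : X ⟶ S be flat and locally of finite presentation and let 𝓘 be a quasi-coherent ideal sheaf
on X which is locally principal (generated by one section on some affine open neighbourhood of each
point of its support). If for every point s of S the inverse image ideal of 𝓘 on the
scheme-theoretic fibre X_s is the ideal sheaf of an effective Cartier divisor of X_s, then 𝓘 is the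
ideal sheaf of an effective Cartier divisor of X and its closed subscheme is flat over S (a relative
effective Cartier divisor). -/
theorem result {X S : Scheme.{u}} (φ : X ⟶ S) [Flat φ] [LocallyOfFinitePresentation φ]
    (𝓘 : X.IdealSheafData) (hZ : Curv2.IsLocPrincipal 𝓘)
    (hfib : ∀ s : ↥S, BlowUp.IsEffCartierIdeal (𝓘.comap (φ.fiberι s))) :
    BlowUp.IsEffCartierIdeal 𝓘 ∧ Flat (𝓘.subschemeι ≫ φ) := by
  refine ⟨fun x => ?_, ?_⟩
  · by_cases hx : x ∈ 𝓘.support
    · obtain ⟨z, rfl⟩ : ∃ z, 𝓘.subschemeι z = x := by
        have : x ∈ Set.range 𝓘.subschemeι := by rw [𝓘.range_subschemeι]; exact hx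
        exact this
      exact (Groth.Agent.H79.FibreCartier2.relEffCartier_at_of_fibre φ 𝓘 hZ z (hfib _)).1
    · obtain ⟨U, hxU, hU⟩ := Groth.Agent.H79.FibreCartier.exists_ideal_eq_top 𝓘 x hx
      refine ⟨U, hxU, 1, one_mem _, ?_⟩
      rw [hU, Ideal.span_singleton_one]
  · rw [Flat.iff_flat_stalkMap]
    intro z
    exact (Groth.Agent.H79.FibreCartier2.relEffCartier_at_of_fibre φ 𝓘 hZ z (hfib _)).2

end Groth.Agent.S8848
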