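import Groth.Statements.S8849
import Groth.Agent.H9.EffCartier
import Groth.Agent.H9.FlatNzd

set_option autoImplicit false
universe u
open CategoryTheory CategoryTheory.Limits AlgebraicGeometry TopologicalSpace
open SDiv

namespace Groth.Agent.S8849

/-- Let f : X ⟶ S be a morphism of schemes and 𝓘 the ideal sheaf of an effective Cartier divisor D ⊆ X
with D flat over S (a relative effective Cartier divisor). If f is flat at every point of X not in
D, then f is flat. -/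
theorem result {X S : Scheme.{u}} (f : X ⟶ S) (𝓘 : X.IdealSheafData)
    (hD : BlowUp.IsEffCartierIdeal 𝓘 ∧ Flat (𝓘.subschemeι ≫ f))
    (hflat : ∀ x : ↥X, x ∉ 𝓘.support → (f.stalkMap x).hom.Flat) : Flat f := by
  rw [HasRingHomProperty.iff_exists_appLE (P := @Flat)
    (RingHom.Flat.stableUnderComposition.stableUnderCompositionWithLocalizationAway
      RingHom.Flat.holdsForLocalizationAway).left]
  intro x
  obtain ⟨V, hV, hfxV, -⟩ := exists_isAffineOpen_mem_and_subset (x := f x) (U := ⊤) trivial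
  obtain ⟨U, hxU, hUV, t, ht, hI⟩ :=
    Groth.Agent.H9.exists_affine_isPrincipalNZD hD.1 (f ⁻¹ᵁ V) x hfxV
  refine ⟨⟨V, hV⟩, U, hxU, hUV, ?_⟩
  have hU : IsAffineOpen U.1 := U.2
  have hq := Groth.Agent.H9.flat_quotient_of_flat f 𝓘 hD.2 ⟨V, hV⟩ U hUV
  rw [hI] at hq
  refine Groth.Agent.H9.ringHom_flat_of_nzd_of_flat_quot _ t ht hq (fun 𝔮 _ h𝔮 => ?_)
  have hyU : hU.fromSpec (⟨𝔮, inferInstance⟩ : PrimeSpectrum Γ(X, U.1)) ∈ U.1 := by
    rw [← SetLike.mem_coe, ← hU.range_fromSpec]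
    exact ⟨_, rfl⟩
  refine ⟨X.presheaf.stalk (hU.fromSpec (⟨𝔮, inferInstance⟩ : PrimeSpectrum Γ(X, U.1))),
    inferInstance, (X.presheaf.germ U.1 _ hyU).hom,
    hU.isLocalization_stalk' (⟨𝔮, inferInstance⟩ : PrimeSpectrum Γ(X, U.1)) hyU, ?_⟩
  set y := hU.fromSpec (⟨𝔮, inferInstance⟩ : PrimeSpectrum Γ(X, U.1)) with hy
  have hys : y ∉ 𝓘.support := by
    intro hsup
    have h1 := (Scheme.IdealSheafData.mem_support_iff_of_mem (U := U) hyU).1 hsup
    rw [Scheme.mem_zeroLocus_iff] at h1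
    have hty : y ∉ X.basicOpen t := h1 t (hI ▸ Ideal.mem_span_singleton_self t)
    apply hty
    have h2 : (⟨𝔮, inferInstance⟩ : PrimeSpectrum Γ(X, U.1)) ∈ hU.fromSpec ⁻¹ᵁ X.basicOpen t := by
      rw [hU.fromSpec_preimage_basicOpen]
      exact h𝔮
    exact h2
  have hcomp : (X.presheaf.germ U.1 y hyU).hom.comp (f.appLE V U.1 hUV).hom =
      (f.stalkMap y).hom.comp (S.presheaf.germ V (f y) (hUV hyU)).hom := by
    rw [← CommRingCat.hom_comp, ← CommRingCat.hom_comp]
    congr 1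
    rw [Scheme.Hom.germ_stalkMap, Scheme.Hom.appLE, Category.assoc, TopCat.Presheaf.germ_res]
  rw [hcomp]
  refine RingHom.Flat.comp ?_ (hflat y hys)
  letI : Algebra Γ(S, V) (S.presheaf.stalk (f y)) :=
    S.presheaf.algebra_section_stalk ⟨f y, hUV hyU⟩
  haveI := hV.isLocalization_stalk ⟨f y, hUV hyU⟩
  change (algebraMap Γ(S, V) (S.presheaf.stalk (f y))).Flat
  rw [RingHom.flat_algebraMap_iff]
  exact IsLocalization.flat _ (hV.primeIdealOf ⟨f y, hUV hyU⟩).asIdeal.primeCompl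

end Groth.Agent.S8849
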