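import Groth.Statements.S8850
import Mathlib.AlgebraicGeometry.Morphisms.SchemeTheoreticallyDominant

set_option autoImplicit false
universe u
open CategoryTheory CategoryTheory.Limits AlgebraicGeometry TopologicalSpace
open SDiv

namespace Groth.Agent.S8850


theorem toImage_ker_eq_bot {X Y : Scheme.{u}} (f : X ⟶ Y) [QuasiCompact f] :
    f.toImage.ker = ⊥ := by
  refine Scheme.IdealSheafData.ext_of_iSup_eq_top (ι := Y.affineOpens)
    (fun U => ⟨f.imageι ⁻¹ᵁ U.1, U.2.preimage f.imageι⟩) ?_ ?_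
  · rw [eq_top_iff]
    intro x _
    obtain ⟨_, ⟨V, hV, rfl⟩, hxV, -⟩ :=
      Y.isBasis_affineOpens.exists_subset_of_mem_open (Set.mem_univ (f.imageι x)) isOpen_univ
    exact Opens.mem_iSup.mpr ⟨⟨V, hV⟩, hxV⟩
  · intro U
    rw [Scheme.Hom.ker_apply]
    simp only [Scheme.IdealSheafData.ideal_bot, Pi.bot_apply]
    exact (RingHom.injective_iff_ker_eq_bot _).mp (f.toImage_app_injective U)

/-- Two morphisms to a separated `S`-scheme agreeing after a scheme-theoretically dominant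
morphism are equal. -/
theorem ext_of_ker_eq_bot {T' T Y S : Scheme.{u}} (τ : T' ⟶ T) (hτ : τ.ker = ⊥)
    (pY : Y ⟶ S) [IsSeparated pY] (a₁ a₂ : T ⟶ Y)
    (h : a₁ ≫ pY = a₂ ≫ pY) (hW' : τ ≫ a₁ = τ ≫ a₂) : a₁ = a₂ := by
  let X' : Over S := Over.mk (a₁ ≫ pY)
  let Y' : Over S := Over.mk pY
  let U' : Over S := Over.mk (τ ≫ a₁ ≫ pY)
  let f' : X' ⟶ Y' := Over.homMk a₁ rfl
  let g' : X' ⟶ Y' := Over.homMk a₂ h.symm
  let ι' : U' ⟶ X' := Over.homMk τ rfl
  have : IsSeparated Y'.hom := ‹_›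
  have hcond : ι' ≫ f' = ι' ≫ g' := by ext1; exact hW'
  have hlift : (equalizer.lift ι' hcond).left ≫ (equalizer.ι f' g').left = τ := by
    rw [← Over.comp_left, equalizer.lift_ι]; rfl
  have hker : (equalizer.ι f' g').left.ker = ⊥ := by
    have h1 := Scheme.Hom.le_ker_comp (equalizer.lift ι' hcond).left (equalizer.ι f' g').left
    rw [hlift, hτ] at h1
    exact le_bot_iff.1 h1
  have := (IsClosedImmersion.isIso_iff_ker_eq_bot (f := (equalizer.ι f' g').left)).2 hker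
  rw [← cancel_epi (equalizer.ι f' g').left]
  exact congr($(equalizer.condition f' g').left)


/-- Let S be a scheme, X a Noetherian S-scheme, Y a proper S-scheme, U ⊆ X an open subscheme and f : U ⟶
Y a morphism compatible with the structure morphisms to S. Then there are a proper morphism p : X' ⟶
X restricting to an isomorphism over U and an S-morphism f' : X' ⟶ Y whose restriction to p⁻¹(U) is
f composed with p. The published statement takes U dense, so that f is an S-rational map; this row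
allows any open U, which its proof does not need. -/
theorem result {X Y S : Scheme.{u}} [IsNoetherian X] (a : X ⟶ S) (b : Y ⟶ S)
    [IsProper b] (U : X.Opens) (f : (U : Scheme.{u}) ⟶ Y) (hf : f ≫ b = U.ι ≫ a) :
    ∃ (X' : Scheme.{u}) (p : X' ⟶ X) (f' : X' ⟶ Y), IsProper p ∧ IsIso (p ∣_ U) ∧ f' ≫ b = p ≫ a ∧
      (p ⁻¹ᵁ U).ι ≫ f' = (p ∣_ U) ≫ f := by
  haveI : NoetherianSpace (U : Scheme.{u}) := U.ι.isEmbedding.isInducing.noetherianSpace
  obtain ⟨γ, hγ⟩ : ∃ γ : (U : Scheme.{u}) ⟶ pullback a b, γ = pullback.lift U.ι f hf.symm :=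
    ⟨_, rfl⟩
  have hγ1 : γ ≫ pullback.fst a b = U.ι := by rw [hγ]; exact pullback.lift_fst _ _ _
  have hγ2 : γ ≫ pullback.snd a b = f := by rw [hγ]; exact pullback.lift_snd _ _ _
  haveI : QuasiCompact γ := inferInstance
  have hp : γ.toImage ≫ γ.imageι ≫ pullback.fst a b = U.ι := by
    rw [← Category.assoc, γ.toImage_imageι, hγ1]
  have hf' : γ.toImage ≫ γ.imageι ≫ pullback.snd a b = f := by
    rw [← Category.assoc, γ.toImage_imageι, hγ2]
  have h3 : (γ.imageι ≫ pullback.snd a b) ≫ b = (γ.imageι ≫ pullback.fst a b) ≫ a := by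
    rw [Category.assoc, Category.assoc, pullback.condition]
  haveI : IsSchemeTheoreticallyDominant γ.toImage := ⟨toImage_ker_eq_bot γ⟩
  obtain ⟨p, hpdef⟩ : ∃ p : γ.image ⟶ X, p = γ.imageι ≫ pullback.fst a b := ⟨_, rfl⟩
  obtain ⟨f', hf'def⟩ : ∃ f' : γ.image ⟶ Y, f' = γ.imageι ≫ pullback.snd a b := ⟨_, rfl⟩
  rw [← hpdef] at hp h3
  rw [← hf'def] at hf' h3
  haveI : IsProper p := by rw [hpdef]; infer_instance
  -- the key identity
  have key : (p ⁻¹ᵁ U).ι ≫ f' = (p ∣_ U) ≫ f := by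
    haveI : IsSchemeTheoreticallyDominant (γ.toImage ∣_ (p ⁻¹ᵁ U)) :=
      IsSchemeTheoreticallyDominant.of_isPullback
        (isPullback_morphismRestrict γ.toImage (p ⁻¹ᵁ U)).flip
    refine ext_of_ker_eq_bot (γ.toImage ∣_ (p ⁻¹ᵁ U)) (Scheme.Hom.ker_eq_bot _) b _ _ ?_ ?_
    · rw [Category.assoc, h3, Category.assoc, hf, ← Category.assoc (p ∣_ U), morphismRestrict_ι,
        Category.assoc]
    · have e1 : (γ.toImage ∣_ (p ⁻¹ᵁ U)) ≫ (p ∣_ U) = (γ.toImage ⁻¹ᵁ (p ⁻¹ᵁ U)).ι := by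
        rw [← cancel_mono U.ι, Category.assoc, morphismRestrict_ι, ← Category.assoc,
          morphismRestrict_ι, Category.assoc, hp]
      rw [← Category.assoc, morphismRestrict_ι, Category.assoc, hf', ← Category.assoc, e1]
  have hrange : Set.range γ.toImage ⊆ Set.range (p ⁻¹ᵁ U).ι := by
    rintro _ ⟨x, rfl⟩
    rw [Scheme.Opens.range_ι]
    show p (γ.toImage x) ∈ U
    have : p (γ.toImage x) = U.ι x := by
      rw [← hp]; rfl
    rw [this]
    exact x.2
  have hσ : IsOpenImmersion.lift (p ⁻¹ᵁ U).ι γ.toImage hrange ≫ (p ⁻¹ᵁ U).ι = γ.toImage :=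
    IsOpenImmersion.lift_fac _ _ _
  refine ⟨γ.image, p, f', inferInstance, ?_, h3, key⟩
  refine ⟨IsOpenImmersion.lift (p ⁻¹ᵁ U).ι γ.toImage hrange, ?_, ?_⟩
  · haveI : Mono ((p ⁻¹ᵁ U).ι ≫ γ.imageι) := mono_comp _ _
    rw [← cancel_mono ((p ⁻¹ᵁ U).ι ≫ γ.imageι), Category.id_comp, Category.assoc,
      ← Category.assoc _ (p ⁻¹ᵁ U).ι, hσ, γ.toImage_imageι]
    apply pullback.hom_ext
    · rw [Category.assoc, hγ1, morphismRestrict_ι, Category.assoc, hpdef]
    · rw [Category.assoc, hγ2, ← key, Category.assoc, hf'def]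
  · rw [← cancel_mono U.ι, Category.assoc, morphismRestrict_ι, ← Category.assoc, hσ, hp,
      Category.id_comp]

end Groth.Agent.S8850
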