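import Groth.Statements.S8851
import Groth.Agent.H9.BlowUp
import Mathlib.AlgebraicGeometry.Properties
import Mathlib.RingTheory.LocalProperties.Reduced

set_option autoImplicit false
universe u
open CategoryTheory CategoryTheory.Limits AlgebraicGeometry TopologicalSpace
open SDiv

namespace Groth.Agent.S8851

/-- Let X be a reduced scheme, 𝓘 a quasi-coherent ideal sheaf on X and b : X' ⟶ X a blowing up of X in
𝓘. Then X' is reduced. -/
theorem result {X X' : Scheme.{u}} [IsReduced X] (𝓘 : X.IdealSheafData) (b : X' ⟶ X)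
    (hb : BlowUp.IsBlowUp b 𝓘) : IsReduced X' := by
  have hiso := Groth.Agent.H9.isIso_morphismRestrict_compl_of_isBlowUp 𝓘 b hb
  have hredU : IsReduced ↑(b ⁻¹ᵁ 𝓘.support.compl) :=
    isReduced_of_isOpenImmersion (b ∣_ 𝓘.support.compl ≫ Scheme.Opens.ι 𝓘.support.compl)
  have hstalk1 : ∀ y : X', b y ∉ 𝓘.support → _root_.IsReduced (X'.presheaf.stalk y) := by
    intro y hy
    have hyU : y ∈ b ⁻¹ᵁ 𝓘.support.compl := hy
    obtain ⟨y', rfl⟩ : ∃ y' : (↑(b ⁻¹ᵁ 𝓘.support.compl) : Scheme.{u}),
        (b ⁻¹ᵁ 𝓘.support.compl).ι y' = y := ⟨⟨y, hyU⟩, rfl⟩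
    have hinj : Function.Injective
        ((b ⁻¹ᵁ 𝓘.support.compl).ι.stalkMap y').hom :=
      (ConcreteCategory.bijective_of_isIso ((b ⁻¹ᵁ 𝓘.support.compl).ι.stalkMap y')).1
    exact isReduced_of_injective _ hinj
  have hstalk : ∀ x' : X', _root_.IsReduced (X'.presheaf.stalk x') := by
    intro x'
    obtain ⟨W, hx'W, t, ht, hI⟩ := hb.1 x'
    have hW : IsAffineOpen W.1 := W.2
    have hWred : _root_.IsReduced Γ(X', W.1) := by
      constructor
      intro σ hσ
      have hres : X'.presheaf.map (homOfLE (X'.basicOpen_le t)).op σ = 0 := by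
        apply TopCat.Presheaf.section_ext X'.sheaf (X'.basicOpen t)
        intro y hy
        have hyW : y ∈ W.1 := X'.basicOpen_le t hy
        have hbys : b y ∉ 𝓘.support := by
          intro hmem
          have hmem' : y ∈ (𝓘.comap b).support := by
            rw [Scheme.IdealSheafData.support_comap]
            exact hmem
          rw [Scheme.IdealSheafData.mem_support_iff_of_mem (U := W) hyW, hI,
            Scheme.zeroLocus_span, Scheme.mem_zeroLocus_iff] at hmem'
          exact hmem' t rfl hy
        have hredy := hstalk1 y hbys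
        change X'.presheaf.germ (X'.basicOpen t) y hy
          (X'.presheaf.map (homOfLE (X'.basicOpen_le t)).op σ) =
          X'.presheaf.germ (X'.basicOpen t) y hy 0
        rw [map_zero, TopCat.Presheaf.germ_res_apply]
        exact (hσ.map _).eq_zero
      have hloc := hW.isLocalization_basicOpen t
      have h0 : algebraMap Γ(X', W.1) Γ(X', X'.basicOpen t) σ = 0 := hres
      obtain ⟨m, hm⟩ := (IsLocalization.map_eq_zero_iff (Submonoid.powers t) _ σ).mp h0
      obtain ⟨n, hn⟩ := (Submonoid.mem_powers_iff _ _).mp m.2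
      rw [← hn] at hm
      exact (mem_nonZeroDivisors_iff_left.mp (pow_mem ht n)) σ hm
    let alg : Algebra Γ(X', W.1) (X'.presheaf.stalk x') :=
      TopCat.Presheaf.algebra_section_stalk X'.presheaf ⟨x', hx'W⟩
    have hloc : IsLocalization.AtPrime (X'.presheaf.stalk x')
        (hW.primeIdealOf ⟨x', hx'W⟩).asIdeal := hW.isLocalization_stalk ⟨x', hx'W⟩
    exact isReduced_localizationPreserves (hW.primeIdealOf ⟨x', hx'W⟩).asIdeal.primeCompl
      (X'.presheaf.stalk x') hWred
  exact isReduced_of_isReduced_stalk X'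

end Groth.Agent.S8851
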