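import Groth.Statements.S8854
-- import your own Groth.Agent.* helpers here

set_option autoImplicit false
universe u
open SDiv

namespace Groth.Agent.S8854

/-- Let R be a Noetherian unique factorisation domain and I ⊆ R an ideal such that every associated
prime of R/I is minimal over I (R/I has no embedded primes) and every prime minimal over I has
height 1. Then I is principal: it is generated by one element. -/
theorem result (R : Type u) [CommRing R] [IsDomain R] [IsNoetherianRing R]
    [UniqueFactorizationMonoid R] (I : Ideal R)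
    (h1 : ∀ p : Ideal R, p ∈ associatedPrimes R (R ⧸ I) → p ∈ I.minimalPrimes)
    (h2 : ∀ p : Ideal R, p ∈ I.minimalPrimes → p.height = 1) :
    ∃ f : R, I = Ideal.span {f} := by
  classical
  have hfin : I.minimalPrimes.Finite := Ideal.finite_minimalPrimes_of_isNoetherianRing R I
  -- `I ≠ ⊥`
  have hI0 : I ≠ ⊥ := by
    rintro rfl
    have hmem : (⊥ : Ideal R) ∈ (⊥ : Ideal R).minimalPrimes := by
      rw [Ideal.minimalPrimes_eq_subsingleton_self]
      exact Set.mem_singleton _
    have hh := h2 ⊥ hmem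
    rw [Ideal.height_bot] at hh
    exact zero_ne_one hh
  obtain ⟨a₀, ha₀I, ha₀⟩ := Submodule.exists_mem_ne_zero_of_ne_bot hI0
  -- prime generators of the minimal primes
  have hgen : ∀ p : Ideal R, p ∈ I.minimalPrimes → ∃ π : R, Prime π ∧ p = Ideal.span {π} := by
    intro p hp
    have hpp : p.IsPrime := hp.1.1
    have hh := h2 p hp
    obtain ⟨x, hxp, hx⟩ :=
      Ideal.IsPrime.exists_mem_prime_of_ne_bot hpp (Ideal.ne_bot_of_height_eq_one hh)
    exact ⟨x, hx, Ideal.eq_span_singleton_of_height_eq_one hh hxp hx⟩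
  choose! π hπ hspan using hgen
  -- exponents
  have hexp : ∀ p : Ideal R, p ∈ I.minimalPrimes →
      ∃ n : ℕ, I ≤ Ideal.span {π p ^ n} ∧ ∃ u : R, ¬ π p ∣ u ∧ π p ^ n * u ∈ I := by
    intro p hp
    have hfm : ∃ n : ℕ, ¬ I ≤ Ideal.span {π p ^ (n + 1)} := by
      obtain ⟨n, hn⟩ := FiniteMultiplicity.def.mp (FiniteMultiplicity.of_prime_left (hπ p hp) ha₀)
      refine ⟨n, fun hle => hn ?_⟩
      exact Ideal.mem_span_singleton.mp (hle ha₀I)
    obtain ⟨n, hn1, hnmin⟩ : ∃ n : ℕ, ¬ I ≤ Ideal.span {π p ^ (n + 1)} ∧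
        ∀ m < n, I ≤ Ideal.span {π p ^ (m + 1)} :=
      ⟨Nat.find hfm, Nat.find_spec hfm, fun m hm => not_not.mp (Nat.find_min hfm hm)⟩
    have hn0 : I ≤ Ideal.span {π p ^ n} := by
      rcases Nat.eq_zero_or_pos n with hz | hpos
      · rw [hz, pow_zero, Ideal.span_singleton_one]
        exact le_top
      · obtain ⟨m, rfl⟩ := Nat.exists_eq_succ_of_ne_zero hpos.ne'
        exact hnmin m (Nat.lt_succ_self m)
    refine ⟨n, hn0, ?_⟩
    obtain ⟨a, haI, ha⟩ := SetLike.not_le_iff_exists.mp hn1
    obtain ⟨u, rfl⟩ := Ideal.mem_span_singleton.mp (hn0 haI)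
    refine ⟨u, fun hdiv => ha ?_, haI⟩
    rw [Ideal.mem_span_singleton, pow_succ]
    exact mul_dvd_mul_left _ hdiv
  choose! n hn0 u hu huI using hexp
  -- membership in `I` can be tested at the minimal primes
  have key : ∀ x : R, (∀ p ∈ I.minimalPrimes, ∃ s : R, s ∉ p ∧ s * x ∈ I) → x ∈ I := by
    intro x H
    by_contra hx
    have hne : (Ideal.Quotient.mk I x) ≠ 0 := by
      rwa [Ne, Ideal.Quotient.eq_zero_iff_mem]
    obtain ⟨P, hP, hle⟩ :=
      exists_le_isAssociatedPrime_of_isNoetherianRing R (Ideal.Quotient.mk I x) hne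
    obtain ⟨s, hs, hsx⟩ := H P (h1 P hP)
    refine hs (hle ?_)
    rw [Submodule.mem_colon_singleton, Submodule.mem_bot, Algebra.smul_def,
      Ideal.Quotient.algebraMap_eq, ← map_mul, Ideal.Quotient.eq_zero_iff_mem]
    exact hsx
  -- local criterion
  have hloc : ∀ p ∈ I.minimalPrimes, ∀ x : R, π p ^ n p ∣ x → ∃ s : R, s ∉ p ∧ s * x ∈ I := by
    intro p hp x hx
    obtain ⟨c, rfl⟩ := hx
    refine ⟨u p, ?_, ?_⟩
    · intro hmem
      have hmem' : u p ∈ Ideal.span {π p} := by
        rw [← hspan p hp]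
        exact hmem
      exact hu p hp (Ideal.mem_span_singleton.mp hmem')
    · have : u p * (π p ^ n p * c) = (π p ^ n p * u p) * c := by ring
      rw [this]
      exact I.mul_mem_right _ (huI p hp)
  -- pairwise coprimality
  have hrel : ((hfin.toFinset : Finset (Ideal R)) : Set (Ideal R)).Pairwise
      (Function.onFun IsRelPrime fun p => π p ^ n p) := by
    intro p hp q hq hpq
    have hp' : p ∈ I.minimalPrimes := hfin.mem_toFinset.mp hp
    have hq' : q ∈ I.minimalPrimes := hfin.mem_toFinset.mp hq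
    show IsRelPrime (π p ^ n p) (π q ^ n q)
    refine IsRelPrime.pow ?_
    rw [(hπ p hp').irreducible.isRelPrime_iff_not_dvd]
    intro hdvd
    apply hpq
    have hqp : q ≤ p := by
      rw [hspan q hq', Ideal.span_singleton_le_iff_mem, hspan p hp', Ideal.mem_span_singleton]
      exact hdvd
    exact le_antisymm (hp'.2 hq'.1 hqp) hqp
  refine ⟨∏ p ∈ hfin.toFinset, π p ^ n p, ?_⟩
  ext x
  rw [Ideal.mem_span_singleton]
  constructor
  · intro hx
    refine Finset.prod_dvd_of_isRelPrime hrel ?_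
    intro p hp
    have hp' : p ∈ I.minimalPrimes := hfin.mem_toFinset.mp hp
    exact Ideal.mem_span_singleton.mp (hn0 p hp' hx)
  · intro hx
    refine key x fun p hp => hloc p hp x ?_
    exact dvd_trans (Finset.dvd_prod_of_mem (fun p => π p ^ n p) (hfin.mem_toFinset.mpr hp)) hx

end Groth.Agent.S8854
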