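import Groth.Statements.S8855
import Groth.Agent.H9.RegImmStalk
import Groth.Agent.H9.RegLocalSeq

set_option autoImplicit false
universe u
open CategoryTheory CategoryTheory.Limits AlgebraicGeometry TopologicalSpace
open SDiv

namespace Groth.Agent.S8855

/-- Let i : Z ⟶ X be an immersion of schemes with Z and X regular (locally Noetherian, all local rings
regular local rings). Then i is a regular immersion. -/
theorem result {Z X : Scheme.{u}} (i : Z ⟶ X) [IsImmersion i]
    [IsLocallyNoetherian X] [IsLocallyNoetherian Z]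
    (hX : ∀ x : ↥X, IsRegularLocalRing ↑(X.presheaf.stalk x)) (hZ : ∀ z : ↥Z, IsRegularLocalRing ↑(Z.presheaf.stalk z)) :
    RegImm.IsRegularImmersion RegImm.Kind.regular i := by
  refine ⟨inferInstance, fun z => ?_⟩
  obtain ⟨U₀, hU₀, hzU₀, hcl⟩ := Groth.Agent.H9.exists_affine_isClosedImmersion_restrict i z
  haveI := hcl
  apply Groth.Agent.H9.isRegularImmersionAt_of_exists_isRegular_ker_stalkMap i z U₀ hzU₀
  haveI := hX (i z)
  haveI := hZ z
  have hsurj : Function.Surjective (i.stalkMap z).hom := i.stalkMap_surjective z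
  have hI : RingHom.ker (i.stalkMap z).hom ≠ ⊤ := RingHom.ker_ne_top _
  have e : X.presheaf.stalk (i z) ⧸ RingHom.ker (i.stalkMap z).hom ≃+* Z.presheaf.stalk z :=
    RingHom.quotientKerEquivOfSurjective hsurj
  haveI : IsRegularLocalRing (X.presheaf.stalk (i z) ⧸ RingHom.ker (i.stalkMap z).hom) :=
    IsRegularLocalRing.of_ringEquiv e.symm
  exact (Groth.Agent.H9.exists_isRegular_iff_isRegularLocalRing (X.presheaf.stalk (i z))
    (RingHom.ker (i.stalkMap z).hom) hI).2 inferInstance

end Groth.Agent.S8855
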