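import Groth.Statements.S8856
import Groth.Agent.H59.KRegGeneric
import Groth.Agent.H59.SmoothChart
import Groth.Agent.H79.FibreBridge

set_option autoImplicit false
universe u
open CategoryTheory CategoryTheory.Limits AlgebraicGeometry TopologicalSpace
open SDiv

namespace Groth.Agent.S8856

open Groth.Agent.H59 in
/-- For a Koszul-regular closed immersion i : Z ⟶ X, some surjective smooth morphism g : X' ⟶ X makes
the base change Z ×_X X' ⟶ X' of i along g a regular immersion. -/
theorem result {Z X : Scheme.{u}} (i : Z ⟶ X) [IsClosedImmersion i]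
    (hi : RegImm.IsRegularImmersion RegImm.Kind.koszul i) :
    ∃ (X' : Scheme.{u}) (g : X' ⟶ X), Smooth g ∧ Surjective g ∧
      RegImm.IsRegularImmersion RegImm.Kind.regular (pullback.snd i g) := by
  classical
  obtain ⟨-, hat⟩ := hi
  choose U hzU hcl rs hrs hker using hat
  have hrs' : ∀ z, LCI.IsKoszulRegularSeq Γ(X, (U z).1) (rs z) := hrs
  choose σ hσ gs hgsW hgsI using fun z => KRegGeneric.exists_weaklyRegular _ (rs z) (hrs' z)
  let W : X.Opens := ⟨(Set.range i)ᶜ, i.isClosedEmbedding.isClosed_range.isOpen_compl⟩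
  let B : Z → CommRingCat.{u} := fun z => CommRingCat.of (MvPolynomial (σ z) Γ(X, (U z).1))
  let φ : ∀ z, Γ(X, (U z).1) ⟶ B z := fun z => CommRingCat.ofHom (algebraMap _ _)
  let Y : Option Z → Scheme.{u} := fun o =>
    match o with
    | none => (W : Scheme.{u})
    | some z => Spec (B z)
  let F : ∀ o, Y o ⟶ X := fun o =>
    match o with
    | none => W.ι
    | some z => Spec.map (φ z) ≫ (U z).2.fromSpec
  have hFs : ∀ o, Smooth (F o) := by
    intro o
    match o with
    | none => exact inferInstanceAs (Smooth W.ι)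
    | some z =>
      haveI : Smooth (Spec.map (φ z)) := by
        rw [HasRingHomProperty.Spec_iff (P := @Smooth)]
        show (algebraMap Γ(X, (U z).1) (MvPolynomial (σ z) Γ(X, (U z).1))).Smooth
        rw [RingHom.smooth_algebraMap]
        haveI := hσ z
        exact ⟨inferInstance, inferInstance⟩
      exact inferInstanceAs (Smooth (Spec.map (φ z) ≫ (U z).2.fromSpec))
  refine ⟨∐ Y, Sigma.desc F, IsZariskiLocalAtSource.sigmaDesc hFs, ?_, ?_⟩
  · -- surjectivity
    refine ⟨fun x => ?_⟩
    by_cases hx : x ∈ Set.range i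
    · obtain ⟨z, rfl⟩ := hx
      have hzr : i z ∈ Set.range (U z).2.fromSpec := by
        rw [(U z).2.range_fromSpec]; exact hzU z
      obtain ⟨p, hp⟩ := hzr
      let c : B z ⟶ Γ(X, (U z).1) := CommRingCat.ofHom (MvPolynomial.constantCoeff)
      have hc : φ z ≫ c = 𝟙 _ := by
        ext a
        show MvPolynomial.constantCoeff (algebraMap _ _ a) = a
        rw [MvPolynomial.algebraMap_eq, MvPolynomial.constantCoeff_C]
      refine ⟨Sigma.ι Y (some z) (Spec.map c p), ?_⟩
      rw [← Scheme.Hom.comp_apply, Sigma.ι_desc]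
      show (Spec.map (φ z) ≫ (U z).2.fromSpec) (Spec.map c p) = i z
      rw [← Scheme.Hom.comp_apply, ← Category.assoc, ← Spec.map_comp, hc, Spec.map_id,
        Category.id_comp]
      exact hp
    · refine ⟨Sigma.ι Y none (⟨x, hx⟩ : W), ?_⟩
      rw [← Scheme.Hom.comp_apply, Sigma.ι_desc]
      rfl
  · refine ⟨inferInstance, fun z' => ?_⟩
    obtain ⟨⟨o, y⟩, hy⟩ := (sigmaMk Y).surjective (pullback.snd i (Sigma.desc F) z')
    rw [sigmaMk_mk] at hy
    have hgx' : Sigma.desc F (pullback.snd i (Sigma.desc F) z') =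
        i (pullback.fst i (Sigma.desc F) z') := by
      rw [← Scheme.Hom.comp_apply, ← pullback.condition, Scheme.Hom.comp_apply]
    match o, y, hy with
    | none, y, hy =>
      exfalso
      have h1 : Sigma.desc F (pullback.snd i (Sigma.desc F) z') = W.ι y := by
        rw [← hy, ← Scheme.Hom.comp_apply, Sigma.ι_desc]
      have h2 : W.ι y ∈ (Set.range i)ᶜ := y.2
      rw [← h1, hgx'] at h2
      exact h2 ⟨_, rfl⟩
    | some z, y, hy =>
      have hj : Sigma.ι Y (some z) ≫ Sigma.desc F = Spec.map (φ z) ≫ (U z).2.fromSpec :=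
        Sigma.ι_desc _ _
      obtain ⟨hle, ψ, hψ⟩ := SmoothChart.chart (Sigma.desc F) (U z).2 (B z) (φ z)
        (Sigma.ι Y (some z)) hj
      have hU' : IsAffineOpen (Sigma.ι Y (some z)).opensRange :=
        isAffineOpen_opensRange (Sigma.ι Y (some z))
      refine ⟨⟨(Sigma.ι Y (some z)).opensRange, hU'⟩, ⟨y, hy⟩, inferInstance, ?_⟩
      have hk := Groth.Agent.H79.FibreBridge.ker_app_of_isPullback
        (IsPullback.of_hasPullback i (Sigma.desc F)) (U z).2 hU' hle
      have happ : (Sigma.desc F).appLE (U z).1 _ hle = φ z ≫ ψ.inv := by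
        rw [← hψ, Category.assoc, Iso.hom_inv_id, Category.comp_id]
      let e : MvPolynomial (σ z) Γ(X, (U z).1) ≃+* Γ(∐ Y, (Sigma.ι Y (some z)).opensRange) :=
        ψ.symm.commRingCatIsoToRingEquiv
      have hkerE : RingHom.ker ((pullback.snd i (Sigma.desc F)).app
          (Sigma.ι Y (some z)).opensRange).hom = Ideal.ofList ((gs z).map e) := by
        rw [hk, hker z, happ, CommRingCat.hom_comp, ← Ideal.map_map]
        have h1 := Kosz.span_list_map (e : MvPolynomial (σ z) Γ(X, (U z).1) →+*
          Γ(∐ Y, (Sigma.ι Y (some z)).opensRange)) (gs z)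
        have h2 : Ideal.map (φ z).hom (Ideal.ofList (rs z)) = Ideal.ofList (gs z) := (hgsI z).symm
        rw [h2]
        exact h1
      refine ⟨(gs z).map e, ⟨KRegGeneric.isWeaklyRegular_ringEquiv e _ (hgsW z), ?_⟩, hkerE⟩
      rw [smul_eq_mul, Ideal.mul_top, ← hkerE]
      intro htop
      have h1 : (1 : Γ(∐ Y, (Sigma.ι Y (some z)).opensRange)) ∈
          RingHom.ker ((pullback.snd i (Sigma.desc F)).app
            (Sigma.ι Y (some z)).opensRange).hom := by
        rw [← htop]; trivial
      rw [RingHom.mem_ker, map_one] at h1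
      haveI : Nonempty ↥((pullback.snd i (Sigma.desc F)) ⁻¹ᵁ (Sigma.ι Y (some z)).opensRange) :=
        ⟨⟨z', ⟨y, hy⟩⟩⟩
      exact one_ne_zero h1

end Groth.Agent.S8856
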