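import Groth.Statements.S8858
import Mathlib
import Groth.Agent.S8859
import Groth.Agent.S1683
import Groth.Agent.H22.FB_AFF
import Groth.Agent.H54.BUEX_UI
import Groth.Agent.H54.ADM_FTP
import Groth.Agent.H10.ADM_FTC

set_option autoImplicit false
universe u
open CategoryTheory CategoryTheory.Limits AlgebraicGeometry TopologicalSpace
open SDiv

namespace Groth.Agent.S8858

open CategoryTheory CategoryTheory.Limits AlgebraicGeometry TopologicalSpace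

theorem FTP {X : Scheme.{u}} {ι : Type*} (s : Finset ι) (𝓘 : ι → X.IdealSheafData)
    (h : ∀ i ∈ s, BlowUp.IsFiniteTypeIdeal (𝓘 i)) : BlowUp.IsFiniteTypeIdeal (∏ i ∈ s, 𝓘 i) :=
  Groth.Agent.H54.ADM_FTP.FTP s 𝓘 h

theorem SUP {X : Scheme.{u}} {ι : Type*} (s : Finset ι) (𝓘 : ι → X.IdealSheafData) (U : X.Opens)
    (h : ∀ i ∈ s, Disjoint ((𝓘 i).support : Set X) (U : Set X)) :
    Disjoint ((∏ i ∈ s, 𝓘 i).support : Set X) (U : Set X) :=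
  Groth.Agent.H54.ADM_FTP.SUP s 𝓘 U h

theorem FTC {X Y : Scheme.{u}} (f : Y ⟶ X) (𝓘 : X.IdealSheafData)
    (h : BlowUp.IsFiniteTypeIdeal 𝓘) : BlowUp.IsFiniteTypeIdeal (𝓘.comap f) :=
  Groth.Agent.H10.ADM_FTC.FTC f 𝓘 h

theorem UI {X B₁ B₂ : Scheme.{u}} (I : X.IdealSheafData) (b₁ : B₁ ⟶ X) (b₂ : B₂ ⟶ X)
    (h₁ : BlowUp.IsBlowUp b₁ I) (h₂ : BlowUp.IsBlowUp b₂ I) (l : B₁ ⟶ B₂) (hl : l ≫ b₂ = b₁) :
    IsIso l :=
  Groth.Agent.H54.BUEX_UI.UI I b₁ b₂ h₁ h₂ l hl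

theorem EX (X : Scheme.{u}) (𝓘 : X.IdealSheafData) :
    ∃ (X' : Scheme.{u}) (b : X' ⟶ X), BlowUp.IsBlowUp b 𝓘 :=
  Groth.Agent.S8859.result X 𝓘

/-- Let X be a quasi-compact and quasi-separated scheme, U ⊆ X a quasi-compact open subscheme, and b_i :
X_i ⟶ X, i < n, blowing ups of X in quasi-coherent ideal sheaves 𝓘_i of finite type with support
disjoint from U (U-admissible blow-ups). Then there is a U-admissible blow-up c : X' ⟶ X such that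
(a) c factors as X' ⟶ X_i ⟶ X for every i, and (b) each factor X' ⟶ X_i is a blowing up of X_i in a
quasi-coherent ideal sheaf of finite type whose support is disjoint from the inverse image of U. -/
theorem result (X : Scheme.{u}) [CompactSpace ↥X] [QuasiSeparatedSpace ↥X]
    (U : X.Opens) (hU : IsCompact (U : Set ↥X)) {n : ℕ} (Xi : Fin n → Scheme.{u}) (b : ∀ i, Xi i ⟶ X)
    (𝓘 : Fin n → X.IdealSheafData) (hb : ∀ i, BlowUp.IsBlowUp (b i) (𝓘 i)) (ha : ∀ i, BlowUp.IsAdmissibleFor U (𝓘 i)) :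
    ∃ (𝓙 : X.IdealSheafData) (X' : Scheme.{u}) (c : X' ⟶ X), BlowUp.IsBlowUp c 𝓙 ∧ BlowUp.IsAdmissibleFor U 𝓙 ∧
      ∀ i, ∃ (g : X' ⟶ Xi i) (𝓚 : (Xi i).IdealSheafData), g ≫ b i = c ∧ BlowUp.IsBlowUp g 𝓚 ∧
        BlowUp.IsAdmissibleFor ((b i) ⁻¹ᵁ U) 𝓚 := by
  classical
  obtain ⟨X', c, hc⟩ := EX X (∏ i, 𝓘 i)
  refine ⟨∏ i, 𝓘 i, X', c, hc, ⟨FTP _ _ fun i _ => (ha i).1, SUP _ _ U fun i _ => (ha i).2⟩, ?_⟩
  intro i
  -- the complementary product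
  have hprod : (∏ j, 𝓘 j) = 𝓘 i * ∏ j ∈ Finset.univ.erase i, 𝓘 j :=
    (Finset.mul_prod_erase Finset.univ 𝓘 (Finset.mem_univ i)).symm
  obtain ⟨X'i, b'i, hb'i⟩ := EX (Xi i) ((∏ j ∈ Finset.univ.erase i, 𝓘 j).comap (b i))
  have hcomp : BlowUp.IsBlowUp (b'i ≫ b i) (∏ j, 𝓘 j) := by
    rw [hprod]
    exact Groth.Agent.S1683.result (𝓘 i) _ (b i) (hb i) b'i hb'i
  obtain ⟨l, hl, -⟩ := hcomp.2 X' c hc.1
  have : IsIso l := UI _ c (b'i ≫ b i) hc hcomp l hl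
  refine ⟨l ≫ b'i, (∏ j ∈ Finset.univ.erase i, 𝓘 j).comap (b i), ?_, ?_, ?_, ?_⟩
  · rw [Category.assoc]; exact hl
  · have h1 := Groth.Agent.H22.FBAFF.ISO b'i (l ≫ b'i) (asIso l) (Iso.refl _)
      (by simp) _ hb'i
    simpa using h1
  · exact FTC _ _ (FTP _ _ fun j _ => (ha j).1)
  · rw [Scheme.IdealSheafData.support_comap]
    have h2 := SUP (Finset.univ.erase i) 𝓘 U fun j _ => (ha j).2
    exact h2.preimage _

end Groth.Agent.S8858
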