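import Groth.Statements.S8881
import Mathlib
import Groth.Agent.H54.ZMT

set_option autoImplicit false
universe u
open CategoryTheory CategoryTheory.Limits AlgebraicGeometry TopologicalSpace
open SDiv

namespace Groth.Agent.S8881


open CategoryTheory AlgebraicGeometry TopologicalSpace IntermediateField

section Ring

/-- `A → B` is injective in an `A K L B`-type square with `A → K → L` injective. -/
theorem algebraMap_injective_AB (A B K L : Type u) [CommRing A] [CommRing B] [Field K] [Field L]
    [Algebra A B] [Algebra A K] [Algebra B L] [Algebra K L] [Algebra A L]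
    [IsScalarTower A K L] [IsScalarTower A B L] [IsFractionRing A K] :
    Function.Injective (algebraMap A B) := by
  have h1 : Function.Injective (algebraMap A L) := by
    rw [IsScalarTower.algebraMap_eq A K L, RingHom.coe_comp]
    exact (algebraMap K L).injective.comp (IsFractionRing.injective A K)
  rw [IsScalarTower.algebraMap_eq A B L, RingHom.coe_comp] at h1
  exact Function.Injective.of_comp h1

theorem finiteDimensional_KL (A B K L : Type u) [CommRing A] [CommRing B] [Field K] [Field L]
    [Algebra A B] [Algebra A K] [Algebra B L] [Algebra K L] [Algebra A L]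
    [IsScalarTower A K L] [IsScalarTower A B L] [IsFractionRing A K] [IsFractionRing B L]
    [IsDomain A] [IsDomain B] [Module.Finite A B] : FiniteDimensional K L := by
  haveI : FaithfulSMul A B :=
    (faithfulSMul_iff_algebraMap_injective A B).2 (algebraMap_injective_AB A B K L)
  haveI : Algebra.IsIntegral A B := Algebra.IsIntegral.of_finite A B
  haveI : Algebra.IsAlgebraic A B := inferInstance
  haveI : IsLocalization (Algebra.algebraMapSubmonoid B (nonZeroDivisors A)) L := inferInstance
  exact Module.Finite.of_isLocalization A B (nonZeroDivisors A)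

theorem exists_norm_eq {A B K L : Type u} [CommRing A] [CommRing B] [Field K] [Field L]
    [Algebra A B] [Algebra A K] [Algebra B L] [Algebra K L] [Algebra A L]
    [IsScalarTower A K L] [IsScalarTower A B L] [IsFractionRing A K]
    [IsDomain A] [IsIntegrallyClosed A] [Module.Finite A B] (s : B) :
    ∃ t : A, algebraMap A K t = Algebra.norm K (algebraMap B L s) := by
  haveI : Algebra.IsIntegral A B := Algebra.IsIntegral.of_finite A B
  have hs : IsIntegral A s := Algebra.IsIntegral.isIntegral s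
  have hx : IsIntegral A (algebraMap B L s) := hs.algebraMap
  have hn : IsIntegral A (Algebra.norm K (algebraMap B L s)) := Algebra.isIntegral_norm K hx
  exact IsIntegrallyClosed.isIntegral_iff.1 hn

theorem norm_mem_of_mem {A B K L : Type u} [CommRing A] [CommRing B] [Field K] [Field L]
    [Algebra A B] [Algebra A K] [Algebra B L] [Algebra K L] [Algebra A L]
    [IsScalarTower A K L] [IsScalarTower A B L] [IsFractionRing A K] [IsFractionRing B L]
    [IsDomain A] [IsDomain B] [IsIntegrallyClosed A] [Module.Finite A B] [FiniteDimensional K L]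
    (s : B) (t : A) (ht : algebraMap A K t = Algebra.norm K (algebraMap B L s))
    (q : Ideal B) (hs : s ∈ q) : algebraMap A B t ∈ q := by
  classical
  haveI : Algebra.IsIntegral A B := Algebra.IsIntegral.of_finite A B
  obtain ⟨x, hx⟩ : ∃ x : L, x = algebraMap B L s := ⟨_, rfl⟩
  have hsint : IsIntegral A s := Algebra.IsIntegral.isIntegral s
  have hxint : IsIntegral A x := hx ▸ hsint.algebraMap
  have hxK : IsIntegral K x := hxint.tower_top
  have hinjBL : Function.Injective (algebraMap B L) := IsFractionRing.injective B L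
  have hμ : minpoly A x = minpoly A s := hx ▸ minpoly.algebraMap_eq hinjBL s
  have hμK : minpoly K x = (minpoly A x).map (algebraMap A K) :=
    minpoly.isIntegrallyClosed_eq_field_fractions' K hxint
  have h1 : Algebra.norm K x =
      Algebra.norm K (AdjoinSimple.gen K x) ^ Module.finrank K⟮x⟯ L :=
    Algebra.norm_eq_norm_adjoin K x
  have h2 : Algebra.norm K (AdjoinSimple.gen K x) =
      (-1) ^ (adjoin.powerBasis hxK).dim * (minpoly K x).coeff 0 := by
    have h3 := Algebra.PowerBasis.norm_gen_eq_coeff_zero_minpoly (adjoin.powerBasis hxK)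
    rw [adjoin.powerBasis_gen hxK, minpoly_gen K x] at h3
    exact h3
  obtain ⟨e, he⟩ : ∃ e : ℕ, e = Module.finrank K⟮x⟯ L := ⟨_, rfl⟩
  have hepos : 0 < e := he ▸ Module.finrank_pos
  obtain ⟨m, hm⟩ : ∃ m : ℕ, m = (adjoin.powerBasis hxK).dim := ⟨_, rfl⟩
  obtain ⟨a₀, ha₀⟩ : ∃ a₀ : A, a₀ = (minpoly A s).coeff 0 := ⟨_, rfl⟩
  have ht' : t = ((-1) ^ m * a₀) ^ e := by
    apply IsFractionRing.injective A K
    rw [ht, ← hx, h1, h2, hμK, hμ, Polynomial.coeff_map, ← he, ← hm, ← ha₀]
    simp only [map_pow, map_mul, map_neg, map_one]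
  have ha₀q : algebraMap A B a₀ ∈ q := by
    have h3 : Polynomial.aeval s (minpoly A s) = 0 := minpoly.aeval A s
    have h4 := Polynomial.divX_mul_X_add (minpoly A s)
    rw [← h4, map_add, map_mul, Polynomial.aeval_X, Polynomial.aeval_C, ← ha₀] at h3
    have h5 : algebraMap A B a₀ = -(Polynomial.aeval s (minpoly A s).divX * s) :=
      eq_neg_of_add_eq_zero_right h3
    rw [h5]
    exact q.neg_mem (q.mul_mem_left _ hs)
  rw [ht', map_pow, map_mul]
  exact Ideal.pow_mem_of_mem q (q.mul_mem_left _ ha₀q) e hepos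

end Ring

section Sch

variable {X Y : Scheme.{u}}

theorem map_genericPoint (π : X ⟶ Y) [Surjective π] [IsIntegral X] [IsIntegral Y] :
    π (genericPoint X) = genericPoint Y := by
  obtain ⟨x, hx⟩ := π.surjective (genericPoint Y)
  have h1 : π (genericPoint X) ⤳ genericPoint Y :=
    hx ▸ (genericPoint_specializes x).map π.continuous
  exact (h1.antisymm (genericPoint_specializes _)).eq

/-- The map of function fields induced by a morphism preserving generic points. -/
noncomputable def ffMap (π : X ⟶ Y) [IsIntegral X] [IsIntegral Y]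
    (h : π (genericPoint X) = genericPoint Y) : Y.functionField →+* X.functionField :=
  (π.stalkMap (genericPoint X)).hom.comp
    (Y.presheaf.stalkSpecializes (specializes_of_eq h)).hom

theorem ffMap_germ (π : X ⟶ Y) [IsIntegral X] [IsIntegral Y]
    (h : π (genericPoint X) = genericPoint Y) (U : Y.Opens) (hU : genericPoint Y ∈ U)
    (a : Γ(Y, U)) :
    ffMap π h (Y.presheaf.germ U (genericPoint Y) hU a) =
      X.presheaf.germ (π ⁻¹ᵁ U) (genericPoint X) (show π (genericPoint X) ∈ U from h ▸ hU)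
        (π.app U a) := by
  have hU' : π (genericPoint X) ∈ U := h ▸ hU
  have h1 : (Y.presheaf.stalkSpecializes (specializes_of_eq h)).hom
      (Y.presheaf.germ U (genericPoint Y) hU a) = Y.presheaf.germ U (π (genericPoint X)) hU' a := by
    have h2 := TopCat.Presheaf.germ_stalkSpecializes Y.presheaf hU (specializes_of_eq h)
    have h3 := congrArg (fun f => f.hom a) h2
    simpa only [CommRingCat.hom_comp, RingHom.comp_apply] using h3
  unfold ffMap
  rw [RingHom.comp_apply, h1]
  exact π.germ_stalkMap_apply U (genericPoint X) hU' a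

/-- The field norm `K(X) → K(Y)`. -/
noncomputable def nrm (π : X ⟶ Y) [IsIntegral X] [IsIntegral Y]
    (h : π (genericPoint X) = genericPoint Y) : X.functionField →* Y.functionField := by
  letI := (ffMap π h).toAlgebra
  exact Algebra.norm Y.functionField

theorem germ_res'' {T : Scheme.{u}} {U V : T.Opens} (i : U ⟶ V) (t : T) (ht : t ∈ U)
    (s : Γ(T, V)) :
    T.presheaf.germ U t ht ((T.presheaf.map i.op).hom s) = T.presheaf.germ V t (i.le ht) s :=
  TopCat.Presheaf.germ_res_apply T.presheaf i t ht s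

theorem affine_key (π : X ⟶ Y) [IsFinite π] [IsIntegral X] [IsIntegral Y]
    (hY : ∀ y : Y, IsIntegrallyClosed (Y.presheaf.stalk y))
    (h : π (genericPoint X) = genericPoint Y) (V : Y.Opens) (hV : IsAffineOpen V)
    (hηV : genericPoint Y ∈ V) :
    (letI := (ffMap π h).toAlgebra; FiniteDimensional Y.functionField X.functionField) ∧
    ∀ s : Γ(X, π ⁻¹ᵁ V),
      (∃ t : Γ(Y, V), Y.presheaf.germ V (genericPoint Y) hηV t =
        nrm π h (X.presheaf.germ (π ⁻¹ᵁ V) (genericPoint X)
          (show π (genericPoint X) ∈ V from h ▸ hηV) s)) ∧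
      ∀ t : Γ(Y, V), Y.presheaf.germ V (genericPoint Y) hηV t =
        nrm π h (X.presheaf.germ (π ⁻¹ᵁ V) (genericPoint X)
          (show π (genericPoint X) ∈ V from h ▸ hηV) s) →
        ∀ q : Ideal Γ(X, π ⁻¹ᵁ V), s ∈ q → (π.app V).hom t ∈ q := by
  haveI : Nonempty V := ⟨⟨_, hηV⟩⟩
  have hηX : genericPoint X ∈ π ⁻¹ᵁ V := show π (genericPoint X) ∈ V from h ▸ hηV
  haveI : Nonempty (π ⁻¹ᵁ V : X.Opens) := ⟨⟨_, hηX⟩⟩
  have hV' : IsAffineOpen (π ⁻¹ᵁ V) := hV.preimage π
  letI algAB : Algebra Γ(Y, V) Γ(X, π ⁻¹ᵁ V) := (π.app V).hom.toAlgebra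
  letI algKL : Algebra Y.functionField X.functionField := (ffMap π h).toAlgebra
  letI algAL : Algebra Γ(Y, V) X.functionField :=
    ((algebraMap Γ(X, π ⁻¹ᵁ V) X.functionField).comp
      (algebraMap Γ(Y, V) Γ(X, π ⁻¹ᵁ V))).toAlgebra
  haveI : IsScalarTower Γ(Y, V) Γ(X, π ⁻¹ᵁ V) X.functionField :=
    IsScalarTower.of_algebraMap_eq (fun _ => rfl)
  haveI : IsScalarTower Γ(Y, V) Y.functionField X.functionField :=
    IsScalarTower.of_algebraMap_eq (fun a => (ffMap_germ π h V hηV a).symm)
  haveI := functionField_isFractionRing_of_isAffineOpen Y V hV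
  haveI := functionField_isFractionRing_of_isAffineOpen X (π ⁻¹ᵁ V) hV'
  haveI : IsIntegrallyClosed Γ(Y, V) := Groth.Agent.H54.isIntegrallyClosed_of_isAffineOpen hY hV
  haveI : Module.Finite Γ(Y, V) Γ(X, π ⁻¹ᵁ V) := π.finite_app V hV
  haveI hfd : FiniteDimensional Y.functionField X.functionField :=
    finiteDimensional_KL Γ(Y, V) Γ(X, π ⁻¹ᵁ V) Y.functionField X.functionField
  refine ⟨hfd, fun s => ⟨?_, ?_⟩⟩
  · exact exists_norm_eq (A := Γ(Y, V)) (B := Γ(X, π ⁻¹ᵁ V)) (K := Y.functionField)
      (L := X.functionField) s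
  · intro t ht q hq
    exact norm_mem_of_mem (A := Γ(Y, V)) (B := Γ(X, π ⁻¹ᵁ V)) (K := Y.functionField)
      (L := X.functionField) s t ht q hq

theorem eq_of_germ_generic [IsIntegral Y] (U : Y.Opens) (t t' : Γ(Y, U))
    (h : ∀ hU : genericPoint Y ∈ U, Y.presheaf.germ U (genericPoint Y) hU t =
      Y.presheaf.germ U (genericPoint Y) hU t') : t = t' := by
  by_cases hU : genericPoint Y ∈ U
  · exact germ_injective_of_isIntegral Y (genericPoint Y) hU (h hU)
  · refine TopCat.Presheaf.section_ext Y.sheaf U t t' (fun y hy => ?_)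
    exact absurd ((genericPoint_specializes y).mem_open U.2 hy) hU

theorem exists_norm_section (π : X ⟶ Y) [IsFinite π] [IsIntegral X] [IsIntegral Y]
    (hY : ∀ y : Y, IsIntegrallyClosed (Y.presheaf.stalk y))
    (h : π (genericPoint X) = genericPoint Y) (U : Y.Opens) (s : Γ(X, π ⁻¹ᵁ U)) :
    ∃ t : Γ(Y, U), ∀ hU : genericPoint Y ∈ U, Y.presheaf.germ U (genericPoint Y) hU t =
      nrm π h (X.presheaf.germ (π ⁻¹ᵁ U) (genericPoint X)
        (show π (genericPoint X) ∈ U from h ▸ hU) s) := by
  by_cases hU : genericPoint Y ∈ U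
  swap
  · exact ⟨0, fun hU' => absurd hU' hU⟩
  have hUX : π (genericPoint X) ∈ U := h ▸ hU
  have hloc : ∀ y : {y : Y // y ∈ U}, ∃ (V : Y.Opens) (_ : V ≤ U) (_ : y.1 ∈ V)
      (hηV : genericPoint Y ∈ V) (t : Γ(Y, V)),
      Y.presheaf.germ V (genericPoint Y) hηV t =
        nrm π h (X.presheaf.germ (π ⁻¹ᵁ U) (genericPoint X) hUX s) := by
    rintro ⟨y, hy⟩
    obtain ⟨_, ⟨V, hVaff, rfl⟩, hyV, hVU⟩ :=
      Y.isBasis_affineOpens.exists_subset_of_mem_open hy U.isOpen
    have hVU' : V ≤ U := hVU
    have hηV : genericPoint Y ∈ V := (genericPoint_specializes y).mem_open V.2 hyV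
    have hle : π ⁻¹ᵁ V ≤ π ⁻¹ᵁ U := fun _ hx => hVU hx
    obtain ⟨t, ht⟩ := ((affine_key π hY h V hVaff hηV).2
      ((X.presheaf.map (homOfLE hle).op).hom s)).1
    refine ⟨V, hVU', hyV, hηV, t, ?_⟩
    rw [ht, germ_res'']
  choose V hVU hyV hηV t ht using hloc
  have hcompat : TopCat.Presheaf.IsCompatible Y.presheaf V t := by
    intro y y'
    have hη2 : genericPoint Y ∈ V y ⊓ V y' := ⟨hηV y, hηV y'⟩
    apply germ_injective_of_isIntegral Y (genericPoint Y) hη2
    have e1 : Y.presheaf.germ (V y ⊓ V y') (genericPoint Y) hη2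
        (Y.presheaf.map (Opens.infLELeft (V y) (V y')).op (t y)) =
        Y.presheaf.germ (V y) (genericPoint Y) (hηV y) (t y) :=
      TopCat.Presheaf.germ_res_apply Y.presheaf (Opens.infLELeft _ _) _ hη2 (t y)
    have e2 : Y.presheaf.germ (V y ⊓ V y') (genericPoint Y) hη2
        (Y.presheaf.map (Opens.infLERight (V y) (V y')).op (t y')) =
        Y.presheaf.germ (V y') (genericPoint Y) (hηV y') (t y') :=
      TopCat.Presheaf.germ_res_apply Y.presheaf (Opens.infLERight _ _) _ hη2 (t y')
    exact e1.trans ((ht y).trans ((ht y').symm.trans e2.symm))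
  obtain ⟨(t₀ : Γ(Y, U)), ht₀, -⟩ := TopCat.Sheaf.existsUnique_gluing' Y.sheaf V U
    (fun y => homOfLE (hVU y))
    (fun y hy => Opens.mem_iSup.2 ⟨⟨y, hy⟩, hyV ⟨y, hy⟩⟩) t hcompat
  refine ⟨t₀, fun hU' => ?_⟩
  have h1 : (Y.presheaf.map (homOfLE (hVU ⟨genericPoint Y, hU⟩)).op).hom t₀ =
      t ⟨genericPoint Y, hU⟩ := ht₀ ⟨genericPoint Y, hU⟩
  rw [← germ_res'' (homOfLE (hVU ⟨genericPoint Y, hU⟩)) (genericPoint Y)
    (hηV ⟨genericPoint Y, hU⟩) t₀, h1, ht]

noncomputable def normFun (π : X ⟶ Y) [IsFinite π] [IsIntegral X] [IsIntegral Y]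
    (hY : ∀ y : Y, IsIntegrallyClosed (Y.presheaf.stalk y))
    (h : π (genericPoint X) = genericPoint Y) (U : Y.Opens) (s : Γ(X, π ⁻¹ᵁ U)) : Γ(Y, U) :=
  (exists_norm_section π hY h U s).choose

theorem normFun_spec (π : X ⟶ Y) [IsFinite π] [IsIntegral X] [IsIntegral Y]
    (hY : ∀ y : Y, IsIntegrallyClosed (Y.presheaf.stalk y))
    (h : π (genericPoint X) = genericPoint Y) (U : Y.Opens) (s : Γ(X, π ⁻¹ᵁ U))
    (hU : genericPoint Y ∈ U) :
    Y.presheaf.germ U (genericPoint Y) hU (normFun π hY h U s) =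
      nrm π h (X.presheaf.germ (π ⁻¹ᵁ U) (genericPoint X)
        (show π (genericPoint X) ∈ U from h ▸ hU) s) :=
  (exists_norm_section π hY h U s).choose_spec hU

noncomputable def normHom (π : X ⟶ Y) [IsFinite π] [IsIntegral X] [IsIntegral Y]
    (hY : ∀ y : Y, IsIntegrallyClosed (Y.presheaf.stalk y))
    (h : π (genericPoint X) = genericPoint Y) (U : Y.Opens) : Γ(X, π ⁻¹ᵁ U) →* Γ(Y, U) where
  toFun := normFun π hY h U
  map_one' := by
    apply eq_of_germ_generic
    intro hU
    rw [normFun_spec π hY h U 1 hU, map_one, map_one, map_one]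
  map_mul' := fun a b => by
    apply eq_of_germ_generic
    intro hU
    rw [normFun_spec π hY h U (a * b) hU, map_mul, map_mul, map_mul, normFun_spec π hY h U a hU,
      normFun_spec π hY h U b hU]

theorem normFun_res (π : X ⟶ Y) [IsFinite π] [IsIntegral X] [IsIntegral Y]
    (hY : ∀ y : Y, IsIntegrallyClosed (Y.presheaf.stalk y))
    (h : π (genericPoint X) = genericPoint Y) {U V : Y.Opens} (i : V ⟶ U)
    (s : Γ(X, π ⁻¹ᵁ U)) :
    Y.presheaf.map i.op (normFun π hY h U s) =
      normFun π hY h V (X.presheaf.map ((Opens.map π.base).map i).op s) := by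
  apply eq_of_germ_generic
  intro hV
  have hU : genericPoint Y ∈ U := i.le hV
  have e1 : Y.presheaf.germ V (genericPoint Y) hV (Y.presheaf.map i.op (normFun π hY h U s)) =
      Y.presheaf.germ U (genericPoint Y) hU (normFun π hY h U s) :=
    TopCat.Presheaf.germ_res_apply Y.presheaf i _ hV _
  have e2 : X.presheaf.germ (π ⁻¹ᵁ V) (genericPoint X)
      (show π (genericPoint X) ∈ V from h ▸ hV)
      (X.presheaf.map ((Opens.map π.base).map i).op s) =
      X.presheaf.germ (π ⁻¹ᵁ U) (genericPoint X) (show π (genericPoint X) ∈ U from h ▸ hU) s :=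
    TopCat.Presheaf.germ_res_apply X.presheaf ((Opens.map π.base).map i) _ _ s
  rw [e1, normFun_spec π hY h U s hU, normFun_spec π hY h V _ hV, e2]

end Sch


/-- If π : X ⟶ Y is finite and surjective, X and Y are integral, and Y is normal, then π carries a norm
of some degree d ≥ 1. The published statement takes d to be the degree of the function field of X
over that of Y; this row asserts only that a norm of some degree exists. -/
theorem result {X Y : Scheme.{u}} (π : X ⟶ Y) [IsFinite π] [Surjective π]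
    [IsIntegral X] [IsIntegral Y] (hY : Pi1.IsNormalScheme Y) : ∃ d : ℕ, Nrm.HasNorm π d := by
  have h := map_genericPoint π
  have hN : ∀ y : Y, IsIntegrallyClosed (Y.presheaf.stalk y) := fun y => (hY y).2
  obtain ⟨V₀, hV₀aff, hηV₀⟩ : ∃ V : Y.Opens, IsAffineOpen V ∧ genericPoint Y ∈ V := by
    obtain ⟨_, ⟨V, hVaff, rfl⟩, hyV, -⟩ := Y.isBasis_affineOpens.exists_subset_of_mem_open
      (Set.mem_univ (genericPoint Y)) isOpen_univ
    exact ⟨V, hVaff, hyV⟩
  letI algKL : Algebra Y.functionField X.functionField := (ffMap π h).toAlgebra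
  haveI hfd : FiniteDimensional Y.functionField X.functionField :=
    (affine_key π hN h V₀ hV₀aff hηV₀).1
  refine ⟨Module.finrank Y.functionField X.functionField, ⟨{
    one_le := Module.finrank_pos
    norm := normHom π hN h
    norm_res := fun {U V} i s => normFun_res π hN h i s
    norm_app := ?_
    norm_mem := ?_ }⟩⟩
  · intro U g
    apply eq_of_germ_generic
    intro hU
    show Y.presheaf.germ U (genericPoint Y) hU (normFun π hN h U (π.app U g)) = _
    rw [normFun_spec π hN h U _ hU, map_pow, ← ffMap_germ π h U hU g]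
    exact Algebra.norm_algebraMap (Y.presheaf.germ U (genericPoint Y) hU g)
  · intro U s x hx hs
    obtain ⟨_, ⟨V, hVaff, rfl⟩, hyV, hVU⟩ :=
      Y.isBasis_affineOpens.exists_subset_of_mem_open hx U.isOpen
    have hVU' : V ≤ U := hVU
    have hηV : genericPoint Y ∈ V := (genericPoint_specializes _).mem_open V.2 hyV
    have hres := normFun_res π hN h (homOfLE hVU') s
    obtain ⟨s', hs'⟩ : ∃ s' : Γ(X, π ⁻¹ᵁ V),
        s' = X.presheaf.map ((TopologicalSpace.Opens.map π.base).map (homOfLE hVU')).op s :=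
      ⟨_, rfl⟩
    rw [← hs'] at hres
    have ht := normFun_spec π hN h V s' hηV
    have hxV : x ∈ π ⁻¹ᵁ V := hyV
    have hsq : s' ∈ (IsLocalRing.maximalIdeal (X.presheaf.stalk x)).comap
        (X.presheaf.germ (π ⁻¹ᵁ V) x hxV).hom := by
      rw [Ideal.mem_comap, hs']
      have e3 : X.presheaf.germ (π ⁻¹ᵁ V) x hxV
          (X.presheaf.map ((TopologicalSpace.Opens.map π.base).map (homOfLE hVU')).op s) =
          X.presheaf.germ (π ⁻¹ᵁ U) x hx s :=
        TopCat.Presheaf.germ_res_apply X.presheaf _ x hxV s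
      exact e3 ▸ hs
    have hmem := ((affine_key π hN h V hVaff hηV).2 s').2 _ ht _ hsq
    rw [Ideal.mem_comap] at hmem
    have h5 : π.stalkMap x (Y.presheaf.germ V (π x) hyV (normFun π hN h V s')) ∈
        IsLocalRing.maximalIdeal (X.presheaf.stalk x) := by
      rw [π.germ_stalkMap_apply V x hyV]
      exact hmem
    have e4 : Y.presheaf.germ U (π x) hx (normFun π hN h U s) =
        Y.presheaf.germ V (π x) hyV (normFun π hN h V s') := by
      rw [← hres]
      exact (TopCat.Presheaf.germ_res_apply Y.presheaf (homOfLE hVU') (π x) hyV _).symm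
    show Y.presheaf.germ U (π x) hx (normFun π hN h U s) ∈ _
    rw [e4]
    by_contra hnot
    have hunit : IsUnit (Y.presheaf.germ V (π x) hyV (normFun π hN h V s')) := by
      rwa [IsLocalRing.mem_maximalIdeal, mem_nonunits_iff, not_not] at hnot
    exact (IsLocalRing.mem_maximalIdeal _).1 h5 (hunit.map (π.stalkMap x).hom)

end Groth.Agent.S8881
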