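import Groth.Statements.S8860
import Groth.Agent.H54.DetNorm
import Groth.Agent.S8881

set_option autoImplicit false
universe u
open CategoryTheory CategoryTheory.Limits AlgebraicGeometry TopologicalSpace
open SDiv

namespace Groth.Agent.S8860


theorem isReduced_vanishingIdeal_subscheme' {X : Scheme.{u}} (C : TopologicalSpace.Closeds X) :
    IsReduced (Scheme.IdealSheafData.vanishingIdeal C).subscheme := by
  have : ∀ U, IsReduced ((Scheme.IdealSheafData.vanishingIdeal C).subschemeCover.openCover.X U) := by
    intro U
    show IsReduced (Spec (CommRingCat.of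
      (Γ(X, U.1) ⧸ (Scheme.IdealSheafData.vanishingIdeal C).ideal U)))
    have hrad : ((Scheme.IdealSheafData.vanishingIdeal C).ideal U).IsRadical := by
      rw [Scheme.IdealSheafData.vanishingIdeal_ideal]
      exact PrimeSpectrum.isRadical_vanishingIdeal _
    have : _root_.IsReduced (Γ(X, U.1) ⧸ (Scheme.IdealSheafData.vanishingIdeal C).ideal U) :=
      (Ideal.isRadical_iff_quotient_reduced _).mp hrad
    infer_instance
  exact IsReduced.of_openCover _ (Scheme.IdealSheafData.vanishingIdeal C).subschemeCover.openCover


/-- Let π : X ⟶ Y be a finite surjective morphism of schemes with X quasi-affine. If either π is finite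
locally free (finite, flat and locally of finite presentation), or Y is integral with all local
rings integrally closed domains (normal), then Y is quasi-affine. -/
theorem result {X Y : Scheme.{u}} (π : X ⟶ Y) [IsFinite π] [Surjective π]
    (hX : X.IsQuasiAffine) (h : Mor2.IsFinLocFree π ∨ (IsIntegral Y ∧ Pi1.IsNormalScheme Y)) :
    Y.IsQuasiAffine := by
  haveI := hX
  rcases h with h | ⟨hint, hnorm⟩
  · obtain ⟨-, h2, h3⟩ := h
    haveI := h2
    haveI := h3
    exact Groth.Agent.H54.NormGlue.isQuasiAffine_of_weakNorm π π.surjective
      (Groth.Agent.H54.DetNorm.weakNorm π)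
  · haveI := hint
    obtain ⟨x, hx⟩ := π.surjective (genericPoint Y)
    obtain ⟨Zc, hZc⟩ : ∃ Zc : TopologicalSpace.Closeds X, (Zc : Set X) = closure {x} :=
      ⟨⟨closure {x}, isClosed_closure⟩, rfl⟩
    obtain ⟨I, hI⟩ : ∃ I : X.IdealSheafData, I = Scheme.IdealSheafData.vanishingIdeal Zc :=
      ⟨_, rfl⟩
    have hrange : Set.range I.subschemeι.base = closure {x} := by
      rw [Scheme.IdealSheafData.range_subschemeι, hI,
        Scheme.IdealSheafData.coe_support_vanishingIdeal, hZc]
    haveI : IsReduced I.subscheme := by
      rw [hI]; exact isReduced_vanishingIdeal_subscheme' Zc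
    obtain ⟨z, hz⟩ : x ∈ Set.range I.subschemeι.base := by
      rw [hrange]; exact subset_closure rfl
    haveI : IrreducibleSpace I.subscheme := by
      have h1 : closure ({z} : Set I.subscheme) = Set.univ := by
        rw [I.subschemeι.isEmbedding.closure_eq_preimage_closure_image, Set.image_singleton, hz,
          ← hrange]
        exact Set.preimage_range _
      have h2 : IsIrreducible (Set.univ : Set I.subscheme) :=
        h1 ▸ isIrreducible_singleton.closure
      haveI : PreirreducibleSpace I.subscheme := ⟨h2.isPreirreducible⟩
      exact ⟨⟨z⟩⟩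
    haveI : IsIntegral I.subscheme := isIntegral_of_irreducibleSpace_of_isReduced _
    obtain ⟨π', hπ'⟩ : ∃ π' : I.subscheme ⟶ Y, π' = I.subschemeι ≫ π := ⟨_, rfl⟩
    haveI : IsFinite π' := by rw [hπ']; infer_instance
    have hbase : ∀ w, π'.base w = π.base (I.subschemeι.base w) := by
      intro w; rw [hπ']; rfl
    haveI : Surjective π' := by
      refine ⟨fun y => ?_⟩
      have hcl : IsClosed (Set.range π'.base) := by
        rw [← Set.image_univ]; exact π'.isClosedMap _ isClosed_univ
      have hmem : genericPoint Y ∈ Set.range π'.base := ⟨z, by rw [hbase, hz, hx]⟩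
      have hsub : closure {genericPoint Y} ⊆ Set.range π'.base :=
        closure_minimal (Set.singleton_subset_iff.mpr hmem) hcl
      rw [(genericPoint_spec Y).def] at hsub
      exact hsub (Set.mem_univ y)
    haveI : I.subscheme.IsQuasiAffine := Scheme.IsQuasiAffine.of_isAffineHom I.subschemeι
    obtain ⟨d, hd⟩ := Groth.Agent.S8881.result π' hnorm
    exact Groth.Agent.S8880.result π' d hd inferInstance
end Groth.Agent.S8860
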