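import Groth.Statements.S8901
import Groth.Agent.S8869
import Mathlib.RingTheory.Ideal.MinimalPrime.Localization
import Mathlib.AlgebraicGeometry.Stalk
import Mathlib.RingTheory.Nilpotent.Lemmas

set_option autoImplicit false
universe u
open CategoryTheory CategoryTheory.Limits AlgebraicGeometry TopologicalSpace
open SDiv

namespace Groth.Agent.S8901

/-- If `t` is a zerodivisor in the localization at `Q`, there is a prime `P ≤ Q` minimal over the
annihilator of an element `z` with `t * z = 0`. -/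
lemma exists_minimalPrime_of_not_regular {R S : Type*} [CommRing R] [CommRing S] [Algebra R S]
    (Q : Ideal R) [Q.IsPrime] [IsLocalization.AtPrime S Q] (t : R)
    (h : algebraMap R S t ∉ nonZeroDivisors S) :
    ∃ (z : R) (P : Ideal R), t * z = 0 ∧ P ≤ Q ∧
      P ∈ Ideal.minimalPrimes (LinearMap.ker (LinearMap.toSpanSingleton R R z)) := by
  rw [mem_nonZeroDivisors_iff_right] at h
  push Not at h
  obtain ⟨w, hw, hw0⟩ := h
  obtain ⟨z₀, u, rfl⟩ := IsLocalization.exists_mk'_eq Q.primeCompl w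
  have hz₀ : algebraMap R S z₀ ≠ 0 := by
    intro h0
    apply hw0
    rw [IsLocalization.mk'_eq_zero_iff]
    exact (IsLocalization.map_eq_zero_iff Q.primeCompl S z₀).mp h0
  have h1 : algebraMap R S (z₀ * t) = 0 := by
    rw [map_mul, ← IsLocalization.mk'_spec S z₀ u, mul_right_comm, hw, zero_mul]
  obtain ⟨v, hv⟩ := (IsLocalization.map_eq_zero_iff Q.primeCompl S _).mp h1
  have hK : LinearMap.ker (LinearMap.toSpanSingleton R R ((v : R) * z₀)) ≤ Q := by
    intro a ha
    rw [LinearMap.mem_ker, LinearMap.toSpanSingleton_apply, smul_eq_mul] at ha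
    by_contra haQ
    apply hz₀
    rw [IsLocalization.map_eq_zero_iff Q.primeCompl S]
    exact ⟨⟨a, haQ⟩ * v, by rw [Submonoid.coe_mul, mul_assoc]; exact ha⟩
  obtain ⟨P, hP, hPQ⟩ := Ideal.exists_minimalPrimes_le hK
  exact ⟨(v : R) * z₀, P, by linear_combination hv, hPQ, hP⟩

lemma radical_ker_eq_maximalIdeal {R S : Type*} [CommRing R] [CommRing S] [Algebra R S]
    [IsLocalRing S] (P : Ideal R) [P.IsPrime] [IsLocalization.AtPrime S P] (z : R)
    (hP : P ∈ Ideal.minimalPrimes (LinearMap.ker (LinearMap.toSpanSingleton R R z))) :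
    Ideal.radical (LinearMap.ker (LinearMap.toSpanSingleton S S (algebraMap R S z))) =
      IsLocalRing.maximalIdeal S := by
  have h1 := IsLocalization.AtPrime.radical_map_of_mem_minimalPrimes S P _ hP
  rw [IsLocalization.AtPrime.map_eq_maximalIdeal P S] at h1
  have hle : Ideal.map (algebraMap R S) (LinearMap.ker (LinearMap.toSpanSingleton R R z)) ≤
      LinearMap.ker (LinearMap.toSpanSingleton S S (algebraMap R S z)) := by
    rw [Ideal.map_le_iff_le_comap]
    intro a ha
    rw [LinearMap.mem_ker, LinearMap.toSpanSingleton_apply, smul_eq_mul] at ha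
    rw [Ideal.mem_comap, LinearMap.mem_ker, LinearMap.toSpanSingleton_apply, smul_eq_mul,
      ← map_mul, ha, map_zero]
  have hne : LinearMap.ker (LinearMap.toSpanSingleton S S (algebraMap R S z)) ≠ ⊤ := by
    intro htop
    have h1' : (1 : S) ∈ LinearMap.ker (LinearMap.toSpanSingleton S S (algebraMap R S z)) := by
      rw [htop]
      trivial
    rw [LinearMap.mem_ker, LinearMap.toSpanSingleton_apply, one_smul,
      IsLocalization.map_eq_zero_iff P.primeCompl S] at h1'
    obtain ⟨v, hv⟩ := h1'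
    refine v.2 (hP.1.2 ?_)
    rw [LinearMap.mem_ker, LinearMap.toSpanSingleton_apply, smul_eq_mul]
    exact hv
  apply le_antisymm
  · have h2 := Ideal.radical_mono (IsLocalRing.le_maximalIdeal hne)
    rwa [(IsLocalRing.maximalIdeal.isMaximal S).isPrime.radical] at h2
  · rw [← h1]
    exact Ideal.radical_mono hle

lemma isUnit_of_no_generization {Y : Scheme.{u}} (y : Y) (hy : ∀ y' : Y, y' ⤳ y → y' = y)
    (a : Y.presheaf.stalk y) (ha : a ∈ nonZeroDivisors (Y.presheaf.stalk y)) : IsUnit a := by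
  by_contra hnu
  have hmem : a ∈ IsLocalRing.maximalIdeal (Y.presheaf.stalk y) :=
    (IsLocalRing.mem_maximalIdeal a).mpr hnu
  have hemb := (Y.fromSpecStalk y).isEmbedding
  have h1 : ∀ p : Spec (Y.presheaf.stalk y), (Y.fromSpecStalk y) p = y := by
    intro p
    apply hy
    have hp : (Y.fromSpecStalk y) p ∈ Set.range (Y.fromSpecStalk y) := Set.mem_range_self p
    rw [Scheme.range_fromSpecStalk] at hp
    exact hp
  have hprime : ∀ J : Ideal (Y.presheaf.stalk y), J.IsPrime →
      IsLocalRing.maximalIdeal (Y.presheaf.stalk y) ≤ J := by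
    intro J hJ
    let p : PrimeSpectrum (Y.presheaf.stalk y) := ⟨J, hJ⟩
    have h2 : p = IsLocalRing.closedPoint (Y.presheaf.stalk y) :=
      hemb.injective ((h1 p).trans (h1 (IsLocalRing.closedPoint (Y.presheaf.stalk y))).symm)
    have h3 : J = IsLocalRing.maximalIdeal (Y.presheaf.stalk y) :=
      congrArg PrimeSpectrum.asIdeal h2
    rw [h3]
  have hnil : a ∈ nilradical (Y.presheaf.stalk y) := by
    rw [nilradical_eq_sInf, Submodule.mem_sInf]
    intro J hJ
    exact hprime J hJ hmem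
  obtain ⟨n, hn⟩ := (mem_nilradical.mp hnil)
  exact nonZeroDivisors.ne_zero (pow_mem ha n) hn


/-- Let f : X ⟶ Y be a morphism of schemes under which each weakly associated point of X (of O_X) goes
to a point of Y with no proper generization (the generic point of some irreducible component of Y).
Then pullbacks of meromorphic functions are defined for f: for every open U ⊆ Y and every regular
section s of O_Y over U, the pulled-back section of O_X over f⁻¹U is regular. -/
theorem result {X Y : Scheme.{u}} (f : X ⟶ Y)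
    (h : ∀ x : ↥X, Curv2.IsWeakAssPoint (Coh.structureModule X) x → ∀ y : ↥Y, y ⤳ f x → y = f x)
    (U : Y.Opens) (s : Γ(Y, U)) (hs : s ∈ Mero.regSub Y U) : f.app U s ∈ Mero.regSub X (f ⁻¹ᵁ U) := by
  rintro ⟨x, hx⟩
  change X.presheaf.germ (f ⁻¹ᵁ U) x hx (f.app U s) ∈ _
  obtain ⟨_, ⟨W, hW, rfl⟩, hxW, hWU⟩ :=
    X.isBasis_affineOpens.exists_subset_of_mem_open hx (f ⁻¹ᵁ U).2
  have hgerm : ∀ (x' : X) (hx' : x' ∈ W),
      X.presheaf.germ W x' hx' (X.presheaf.map (homOfLE hWU).op (f.app U s)) =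
        X.presheaf.germ (f ⁻¹ᵁ U) x' (hWU hx') (f.app U s) := fun x' hx' =>
    TopCat.Presheaf.germ_res_apply X.presheaf (homOfLE hWU) x' hx' _
  rw [← hgerm x hxW]
  by_contra hnot
  let alg : Algebra Γ(X, W) (X.presheaf.stalk x) :=
    TopCat.Presheaf.algebra_section_stalk X.presheaf ⟨x, hxW⟩
  have hloc : IsLocalization.AtPrime (X.presheaf.stalk x) (hW.primeIdealOf ⟨x, hxW⟩).asIdeal :=
    hW.isLocalization_stalk ⟨x, hxW⟩
  obtain ⟨z, P, htz, hPQ, hP⟩ := exists_minimalPrime_of_not_regular (S := X.presheaf.stalk x)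
    (hW.primeIdealOf ⟨x, hxW⟩).asIdeal (X.presheaf.map (homOfLE hWU).op (f.app U s)) hnot
  have hPprime : P.IsPrime := hP.1.1
  have hx'W : hW.fromSpec ⟨P, hPprime⟩ ∈ W := (hW.isoSpec.inv _).2
  let alg' : Algebra Γ(X, W) (X.presheaf.stalk (hW.fromSpec ⟨P, hPprime⟩)) :=
    TopCat.Presheaf.algebra_section_stalk X.presheaf ⟨hW.fromSpec ⟨P, hPprime⟩, hx'W⟩
  have hloc' : IsLocalization.AtPrime (X.presheaf.stalk (hW.fromSpec ⟨P, hPprime⟩)) P :=
    hW.isLocalization_stalk' ⟨P, hPprime⟩ hx'W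
  have hweak : Curv2.IsWeakAssPoint (Coh.structureModule X) (hW.fromSpec ⟨P, hPprime⟩) :=
    (Groth.Agent.S8869.isWeakAssPoint_iff X _).mpr
      ⟨_, radical_ker_eq_maximalIdeal (S := X.presheaf.stalk (hW.fromSpec ⟨P, hPprime⟩)) P z hP⟩
  have hgen := h _ hweak
  have hfx' : f (hW.fromSpec ⟨P, hPprime⟩) ∈ U := hWU hx'W
  have hsy : Y.presheaf.germ U (f (hW.fromSpec ⟨P, hPprime⟩)) hfx' s ∈
      nonZeroDivisors (Y.presheaf.stalk (f (hW.fromSpec ⟨P, hPprime⟩))) := hs ⟨_, hfx'⟩
  have hunit := isUnit_of_no_generization _ hgen _ hsy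
  have hunit' := hunit.map (f.stalkMap (hW.fromSpec ⟨P, hPprime⟩)).hom
  have heq : (f.stalkMap (hW.fromSpec ⟨P, hPprime⟩)).hom
      (Y.presheaf.germ U (f (hW.fromSpec ⟨P, hPprime⟩)) hfx' s) =
      algebraMap Γ(X, W) (X.presheaf.stalk (hW.fromSpec ⟨P, hPprime⟩))
        (X.presheaf.map (homOfLE hWU).op (f.app U s)) := by
    have e1 := Scheme.Hom.germ_stalkMap_apply f U (hW.fromSpec ⟨P, hPprime⟩) hfx' s
    exact e1.trans (hgerm _ hx'W).symm
  rw [heq] at hunit'
  have htP : X.presheaf.map (homOfLE hWU).op (f.app U s) ∈ P := by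
    apply hP.1.2
    rw [LinearMap.mem_ker, LinearMap.toSpanSingleton_apply, smul_eq_mul]
    exact htz
  have hmem : algebraMap Γ(X, W) (X.presheaf.stalk (hW.fromSpec ⟨P, hPprime⟩))
      (X.presheaf.map (homOfLE hWU).op (f.app U s)) ∈
      IsLocalRing.maximalIdeal (X.presheaf.stalk (hW.fromSpec ⟨P, hPprime⟩)) := by
    rw [← IsLocalization.AtPrime.map_eq_maximalIdeal P
      (X.presheaf.stalk (hW.fromSpec ⟨P, hPprime⟩))]
    exact Ideal.mem_map_of_mem _ htP
  exact (IsLocalRing.mem_maximalIdeal _).mp hmem hunit'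

end Groth.Agent.S8901
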