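import Groth.Statements.S8861
import Groth.Agent.S8901
import Groth.Agent.H9.ComapIdeal

set_option autoImplicit false
universe u
open CategoryTheory CategoryTheory.Limits AlgebraicGeometry TopologicalSpace
open SDiv

namespace Groth.Agent.S8861

/-- Let f : X ⟶ Y be a morphism of schemes and 𝓘 the ideal sheaf of an effective Cartier divisor D ⊆ Y.
If f x ∉ D for every weakly associated point x of X (weakly associated point of the structure
sheaf), then the inverse image ideal sheaf of 𝓘 on X is the ideal of an effective Cartier divisor,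
i.e. the pullback of D by f is defined. -/
theorem result {X Y : Scheme.{u}} (f : X ⟶ Y) (𝓘 : Y.IdealSheafData)
    (hD : BlowUp.IsEffCartierIdeal 𝓘)
    (h : ∀ x : ↥X, Curv2.IsWeakAssPoint (Coh.structureModule X) x → f x ∉ 𝓘.support) :
    BlowUp.IsEffCartierIdeal (𝓘.comap f) := by
  intro x
  obtain ⟨V, hfxV, t, ht, hI⟩ := hD (f x)
  obtain ⟨_, ⟨W, hW0, rfl⟩, hxW, hWV⟩ :=
    X.isBasis_affineOpens.exists_subset_of_mem_open
      (show x ∈ ((f ⁻¹ᵁ V.1 : X.Opens) : Set X) from hfxV) (f ⁻¹ᵁ V.1).2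
  have hW : IsAffineOpen W := hW0
  refine ⟨⟨W, hW0⟩, hxW, (f.appLE V.1 W hWV).hom t, ?_, ?_⟩
  · by_contra hnot
    rw [mem_nonZeroDivisors_iff_right] at hnot
    push Not at hnot
    obtain ⟨z, hz, hz0⟩ := hnot
    -- the annihilator of z
    have hK : LinearMap.ker (LinearMap.toSpanSingleton Γ(X, W) Γ(X, W) z) ≠ ⊤ := by
      intro htop
      have h1 : (1 : Γ(X, W)) ∈ LinearMap.ker (LinearMap.toSpanSingleton Γ(X, W) Γ(X, W) z) := by
        rw [htop]
        trivial
      rw [LinearMap.mem_ker, LinearMap.toSpanSingleton_apply, one_smul] at h1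
      exact hz0 h1
    obtain ⟨M, hM, hKM⟩ := Ideal.exists_le_maximal _ hK
    have hMp : M.IsPrime := hM.isPrime
    obtain ⟨P, hP, -⟩ := Ideal.exists_minimalPrimes_le hKM
    have hPprime : P.IsPrime := hP.1.1
    have htP : (f.appLE V.1 W hWV).hom t ∈ P := by
      apply hP.1.2
      rw [LinearMap.mem_ker, LinearMap.toSpanSingleton_apply, smul_eq_mul, mul_comm]
      exact hz
    have hx'W : hW.fromSpec (⟨P, hPprime⟩ : PrimeSpectrum Γ(X, W)) ∈ W := (hW.isoSpec.inv _).2
    let alg' : Algebra Γ(X, W)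
        (X.presheaf.stalk (hW.fromSpec (⟨P, hPprime⟩ : PrimeSpectrum Γ(X, W)))) :=
      TopCat.Presheaf.algebra_section_stalk X.presheaf ⟨_, hx'W⟩
    have hloc' : IsLocalization.AtPrime
        (X.presheaf.stalk (hW.fromSpec (⟨P, hPprime⟩ : PrimeSpectrum Γ(X, W)))) P :=
      hW.isLocalization_stalk' ⟨P, hPprime⟩ hx'W
    have hweak : Curv2.IsWeakAssPoint (Coh.structureModule X)
        (hW.fromSpec (⟨P, hPprime⟩ : PrimeSpectrum Γ(X, W))) :=
      (Groth.Agent.S8869.isWeakAssPoint_iff X _).mpr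
        ⟨_, Groth.Agent.S8901.radical_ker_eq_maximalIdeal
          (S := X.presheaf.stalk (hW.fromSpec (⟨P, hPprime⟩ : PrimeSpectrum Γ(X, W)))) P z hP⟩
    have hnsupp := h _ hweak
    have hfx'V : f (hW.fromSpec (⟨P, hPprime⟩ : PrimeSpectrum Γ(X, W))) ∈ V.1 := hWV hx'W
    apply hnsupp
    rw [Scheme.IdealSheafData.mem_support_iff_of_mem (U := V) hfx'V, hI, Scheme.zeroLocus_span,
      Scheme.mem_zeroLocus_iff]
    intro g hg hmem
    rw [Set.mem_singleton_iff] at hg
    subst hg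
    have hunit : IsUnit (Y.presheaf.germ V.1 _ hfx'V g) := (Y.mem_basicOpen g _ hfx'V).mp hmem
    have hunit' := hunit.map
      (f.stalkMap (hW.fromSpec (⟨P, hPprime⟩ : PrimeSpectrum Γ(X, W)))).hom
    have heq : (f.stalkMap (hW.fromSpec (⟨P, hPprime⟩ : PrimeSpectrum Γ(X, W)))).hom
        (Y.presheaf.germ V.1 _ hfx'V g) =
        algebraMap Γ(X, W)
          (X.presheaf.stalk (hW.fromSpec (⟨P, hPprime⟩ : PrimeSpectrum Γ(X, W))))
          ((f.appLE V.1 W hWV).hom g) := by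
      have e1 := Scheme.Hom.germ_stalkMap_apply f V.1
        (hW.fromSpec (⟨P, hPprime⟩ : PrimeSpectrum Γ(X, W))) hfx'V g
      have e2 : X.presheaf.germ W (hW.fromSpec (⟨P, hPprime⟩ : PrimeSpectrum Γ(X, W))) hx'W
          (X.presheaf.map (homOfLE hWV).op (f.app V.1 g)) =
          X.presheaf.germ (f ⁻¹ᵁ V.1) (hW.fromSpec (⟨P, hPprime⟩ : PrimeSpectrum Γ(X, W)))
            (hWV hx'W) (f.app V.1 g) :=
        TopCat.Presheaf.germ_res_apply X.presheaf (homOfLE hWV) _ hx'W _
      exact e1.trans e2.symm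
    rw [heq] at hunit'
    exact ((IsLocalization.AtPrime.isUnit_to_map_iff
      (X.presheaf.stalk (hW.fromSpec (⟨P, hPprime⟩ : PrimeSpectrum Γ(X, W)))) P _).mp hunit') htP
  · rw [Groth.Agent.H9.comap_ideal f 𝓘 V ⟨W, hW0⟩ hWV, hI, Ideal.map_span, Set.image_singleton]

end Groth.Agent.S8861
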