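import Groth.Statements.S8864
import Groth.Agent.H95.DivMod
import Groth.Agent.S12513

set_option autoImplicit false
universe u
open CategoryTheory CategoryTheory.Limits AlgebraicGeometry TopologicalSpace
open SDiv

namespace Groth.Agent.S8864

open Groth.Agent.H95.MeroDepth Groth.Agent.H95.MeroDense Groth.Agent.H95.DivMod

variable {X : Scheme.{u}}

/-- Two meromorphic functions which agree on the non-vanishing locus of a regular function are
equal. -/
lemma kmod_ext_on_basicOpen {U : X.Opens} (c : Γ(X, U)) (hc : c ∈ Mero.regSub X U)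
    (s s' : Γ(Mero.kmod X, U))
    (h : ∀ (y : X) (hy : y ∈ U), y ∈ X.basicOpen c → s.1 ⟨y, hy⟩ = s'.1 ⟨y, hy⟩) : s = s' := by
  refine Subtype.ext (funext fun z => ?_)
  obtain ⟨W, hzW, i, a, b, w⟩ := s.2 z
  obtain ⟨W', hzW', i', a', b', w'⟩ := s'.2 z
  have hzP : z.1 ∈ W ⊓ W' := ⟨hzW, hzW'⟩
  have hPU : W ⊓ W' ≤ U := inf_le_left.trans i.le
  obtain ⟨t, ht⟩ : ∃ t : Γ(X, W ⊓ W'), t =
      X.presheaf.map (homOfLE (inf_le_left : W ⊓ W' ≤ W)).op a *
        X.presheaf.map (homOfLE (inf_le_right : W ⊓ W' ≤ W')).op b'.1 -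
      X.presheaf.map (homOfLE (inf_le_right : W ⊓ W' ≤ W')).op a' *
        X.presheaf.map (homOfLE (inf_le_left : W ⊓ W' ≤ W)).op b.1 := ⟨_, rfl⟩
  have hgermt : ∀ (y : X) (hy : y ∈ W ⊓ W'), X.presheaf.germ (W ⊓ W') y hy t =
      X.presheaf.germ W y hy.1 a * X.presheaf.germ W' y hy.2 b'.1 -
        X.presheaf.germ W' y hy.2 a' * X.presheaf.germ W y hy.1 b.1 := by
    intro y hy
    rw [ht, map_sub, map_mul, map_mul, TopCat.Presheaf.germ_res_apply,
      TopCat.Presheaf.germ_res_apply, TopCat.Presheaf.germ_res_apply,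
      TopCat.Presheaf.germ_res_apply]
  have ht0 : t = 0 := by
    apply eq_zero_of_germ_eq_zero_on_basicOpen (X.presheaf.map (homOfLE hPU).op c)
      (Mero.regSub_res _ hc) t
    intro ξ hξ hξc
    have hξc' : ξ ∈ X.basicOpen c := Groth.Agent.H8.basicOpen_res_le hPU c hξc
    rw [hgermt ξ hξ, sub_eq_zero]
    have e1 : s.1 ⟨ξ, i.le hξ.1⟩ = LocalizedModule.mk (X.presheaf.germ W ξ hξ.1 a)
        (Mero.regGerm ⟨ξ, hξ.1⟩ b) := w ⟨ξ, hξ.1⟩
    have e2 : s'.1 ⟨ξ, i'.le hξ.2⟩ = LocalizedModule.mk (X.presheaf.germ W' ξ hξ.2 a')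
        (Mero.regGerm ⟨ξ, hξ.2⟩ b') := w' ⟨ξ, hξ.2⟩
    have e3 : s.1 ⟨ξ, i.le hξ.1⟩ = s'.1 ⟨ξ, i'.le hξ.2⟩ := h ξ (i.le hξ.1) hξc'
    have k1 := kmk_mul ξ (X.presheaf.germ W ξ hξ.1 a) (Mero.regGerm ⟨ξ, hξ.1⟩ b)
    have k2 := kmk_mul ξ (X.presheaf.germ W' ξ hξ.2 a') (Mero.regGerm ⟨ξ, hξ.2⟩ b')
    rw [← e1] at k1
    rw [← e2, ← e3] at k2
    apply Mero.algebraMap_KStalk_injective ξ
    rw [map_mul, map_mul, ← k1, ← k2]
    ring
  have hz_eq : X.presheaf.germ W z.1 hzW a * X.presheaf.germ W' z.1 hzW' b'.1 =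
      X.presheaf.germ W' z.1 hzW' a' * X.presheaf.germ W z.1 hzW b.1 := by
    have h1 := hgermt z.1 hzP
    rw [ht0, map_zero] at h1
    exact (sub_eq_zero.mp h1.symm)
  have e1 : s.1 z = LocalizedModule.mk (X.presheaf.germ W z.1 hzW a)
      (Mero.regGerm ⟨z.1, hzW⟩ b) := w ⟨z.1, hzW⟩
  have e2 : s'.1 z = LocalizedModule.mk (X.presheaf.germ W' z.1 hzW' a')
      (Mero.regGerm ⟨z.1, hzW'⟩ b') := w' ⟨z.1, hzW'⟩
  rw [e1, e2]
  exact kmk_eq_kmk _ _ _ _ hz_eq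

/-- On a Noetherian affine open, a function on a schematically dense open subset is a fraction with
regular denominator. -/
lemma exists_affine_frac [IsLocallyNoetherian X] {U : X.Opens} (hU : IsAffineOpen U)
    (V : X.Opens) (hVU : V ≤ U)
    (hV : ∀ t : Γ(X, U), X.presheaf.map (homOfLE hVU).op t = 0 → t = 0) (g : Γ(X, V)) :
    ∃ (a b : Γ(X, U)) (n : ℕ), b ∈ nonZeroDivisors Γ(X, U) ∧ ∃ hbV : X.basicOpen b ≤ V,
      X.presheaf.map (homOfLE hbV).op g *
        X.presheaf.map (homOfLE (X.basicOpen_le b)).op (b ^ n) =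
      X.presheaf.map (homOfLE (X.basicOpen_le b)).op a := by
  haveI : IsNoetherianRing Γ(X, U) := IsLocallyNoetherian.component_noetherian ⟨U, hU⟩
  have hdense : ∀ c : Γ(X, U), (∀ a ∈ idealOfLE U V, a * c = 0) → c = 0 := by
    intro c hc
    apply hV
    refine TopCat.Presheaf.section_ext X.sheaf V _ 0 (fun y hy => ?_)
    show X.presheaf.germ V y hy (X.presheaf.map (homOfLE hVU).op c) = X.presheaf.germ V y hy 0
    rw [TopCat.Presheaf.germ_res_apply, map_zero]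
    obtain ⟨a, haV, hya⟩ := hU.exists_basicOpen_le (V := V) ⟨y, hy⟩ (hVU hy)
    have h1 : X.presheaf.germ U y (hVU hy) a * X.presheaf.germ U y (hVU hy) c = 0 := by
      rw [← map_mul, hc a haV, map_zero]
    have hu : IsUnit (X.presheaf.germ U y (hVU hy) a) :=
      (Scheme.mem_basicOpen X a y (hVU hy)).mp hya
    exact hu.mul_right_eq_zero.mp h1
  obtain ⟨b₀, hb₀I, hb₀nz⟩ : ∃ b₀ ∈ idealOfLE U V, b₀ ∈ nonZeroDivisors Γ(X, U) :=
    exists_mem_nonZeroDivisors_of_noetherian _ hdense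
  have hb₀V : X.basicOpen b₀ ≤ V := hb₀I
  haveI := hU.isLocalization_basicOpen b₀
  obtain ⟨⟨a, ⟨_, n, rfl⟩⟩, ha⟩ := IsLocalization.surj (Submonoid.powers b₀)
    (X.presheaf.map (homOfLE hb₀V).op g)
  exact ⟨a, b₀, n, hb₀nz, hb₀V, ha⟩

lemma toK_injective (U : X.Opens) : Function.Injective (Mero.toK X U) := by
  intro x y hxy
  refine TopCat.Presheaf.section_ext X.sheaf U x y (fun z hz => ?_)
  show X.presheaf.germ U z hz x = X.presheaf.germ U z hz y
  apply Mero.algebraMap_KStalk_injective z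
  have h1 := congrArg (fun t : Γ(Mero.kmod X, U) => t.1 ⟨z, hz⟩) hxy
  simp only [Mero.toK_apply] at h1
  rw [kmk_one, kmk_one] at h1
  exact h1

lemma isUnit_toK_of_regSub (U : X.Opens) (b : Γ(X, U)) (hb : b ∈ Mero.regSub X U) :
    IsUnit (Mero.toK X U b) := by
  obtain ⟨f₂, hf₂⟩ : ∃ f₂ : Γ(Mero.kmod X, U), ∀ z : U, f₂.1 z =
      LocalizedModule.mk (1 : X.presheaf.stalk z.1) (Mero.regGerm z ⟨b, hb⟩) :=
    ⟨⟨fun z => LocalizedModule.mk (1 : X.presheaf.stalk z.1) (Mero.regGerm z ⟨b, hb⟩),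
      fun z => ⟨U, z.2, 𝟙 _, 1, ⟨b, hb⟩, fun y => Mero.mk_congr (map_one _).symm rfl⟩⟩,
      fun z => rfl⟩
  have h12 : Mero.toK X U b * f₂ = 1 := by
    refine Subtype.ext (funext fun z => ?_)
    show (Mero.toK X U b).1 z * f₂.1 z = 1
    rw [Mero.toK_apply, hf₂]
    have e1 : X.presheaf.germ U z.1 z.2 b * 1 =
        (((1 : Mero.regStalk X z.1) * Mero.regGerm z ⟨b, hb⟩ : Mero.regStalk X z.1) :
          X.presheaf.stalk z.1) := by
      rw [mul_one]
      show _ = (1 : X.presheaf.stalk z.1) * X.presheaf.germ U z.1 z.2 b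
      rw [one_mul]
    exact LocalizedModule.mk_mul_mk.trans
      ((Mero.mk_congr e1 rfl).trans (Mero.mk_self_eq_one _))
  exact ⟨Units.mkOfMulEqOne _ _ h12, rfl⟩

/-- Let X be a locally Noetherian scheme and U an affine open of X. Then K_X(U), viewed as an
O_X(U)-algebra through the canonical map r ↦ r/1, is the total ring of fractions of O_X(U): it is a
localization of O_X(U) at the monoid of nonzerodivisors. -/
theorem result (X : Scheme.{u}) [IsLocallyNoetherian X] (U : X.affineOpens) :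
    @IsLocalization Γ(X, U.1) _ (nonZeroDivisors Γ(X, U.1)) Γ(Mero.kmod X, U.1) _ (Mero.toK X U.1).toAlgebra := by
  have hU : IsAffineOpen U.1 := U.2
  haveI : IsNoetherianRing Γ(X, U.1) := IsLocallyNoetherian.component_noetherian U
  letI alg : Algebra Γ(X, U.1) Γ(Mero.kmod X, U.1) := (Mero.toK X U.1).toAlgebra
  refine (isLocalization_iff (M := nonZeroDivisors Γ(X, U.1))
    (S := Γ(Mero.kmod X, U.1))).mpr ⟨?_, ?_, ?_⟩
  · rintro ⟨b, hb⟩
    show IsUnit (Mero.toK X U.1 b)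
    apply isUnit_toK_of_regSub
    rw [Groth.Agent.S12513.result X U.1 hU]
    exact hb
  · intro s
    choose W hxW i α β w using s.2
    obtain ⟨V, hVdef⟩ : ∃ V : X.Opens, V = ⨆ x : U.1, (W x ⊓ X.basicOpen (β x).1) := ⟨_, rfl⟩
    have hmemV : ∀ y : X, y ∈ V ↔ ∃ x : U.1, y ∈ W x ∧ y ∈ X.basicOpen (β x).1 := by
      intro y
      rw [hVdef, Opens.mem_iSup]
      exact exists_congr fun x => Opens.mem_inf
    have hVU : V ≤ U.1 := by
      intro y hy
      obtain ⟨x, hyW, -⟩ := (hmemV y).mp hy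
      exact (i x).le hyW
    have hsV : ∀ y : V, ((Mero.kmod X).presheaf.map (homOfLE hVU).op s).1 y ∈
        (algebraMap (X.presheaf.stalk y.1) (Mero.KStalk X y.1)).range := by
      intro y
      obtain ⟨x, hyW, hyβ⟩ := (hmemV y.1).mp y.2
      have e1 : s.1 ⟨y.1, hVU y.2⟩ = LocalizedModule.mk (X.presheaf.germ (W x) y.1 hyW (α x))
          (Mero.regGerm ⟨y.1, hyW⟩ (β x)) := w x ⟨y.1, hyW⟩
      show s.1 ⟨y.1, hVU y.2⟩ ∈ _
      rw [e1]
      exact mem_range_of_isUnit_germ _ _ ((Scheme.mem_basicOpen X (β x).1 y.1 hyW).mp hyβ)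
    obtain ⟨g, hg⟩ := exists_toK_eq V _ hsV
    have hinj : ∀ t : Γ(X, U.1), X.presheaf.map (homOfLE hVU).op t = 0 → t = 0 := by
      intro t ht
      refine TopCat.Presheaf.section_ext X.sheaf U.1 t 0 (fun x hx => ?_)
      show X.presheaf.germ U.1 x hx t = X.presheaf.germ U.1 x hx 0
      rw [map_zero]
      have h0 : X.presheaf.map (i ⟨x, hx⟩).op t = 0 := by
        apply eq_zero_of_germ_eq_zero_on_basicOpen (β ⟨x, hx⟩).1 (β ⟨x, hx⟩).2
        intro y hy hyβ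
        have hyV : y ∈ V := (hmemV y).mpr ⟨⟨x, hx⟩, hy, hyβ⟩
        rw [TopCat.Presheaf.germ_res_apply,
          ← TopCat.Presheaf.germ_res_apply X.presheaf (homOfLE hVU) y hyV t, ht, map_zero]
      rw [← TopCat.Presheaf.germ_res_apply X.presheaf (i ⟨x, hx⟩) x (hxW ⟨x, hx⟩) t, h0,
        map_zero]
    obtain ⟨a, b₀, n, hb₀nz, hbV, ha⟩ := exists_affine_frac hU V hVU hinj g
    have hb₀reg : b₀ ∈ Mero.regSub X U.1 := by
      rw [Groth.Agent.S12513.result X U.1 hU]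
      exact hb₀nz
    refine ⟨(a, ⟨b₀ ^ n, pow_mem hb₀nz n⟩), ?_⟩
    show s * Mero.toK X U.1 (b₀ ^ n) = Mero.toK X U.1 a
    apply kmod_ext_on_basicOpen b₀ hb₀reg
    intro y hy hyb
    have hyV : y ∈ V := hbV hyb
    have e1 : s.1 ⟨y, hy⟩ = (Mero.toK X V g).1 ⟨y, hyV⟩ := by
      rw [hg]
      rfl
    show s.1 ⟨y, hy⟩ * (Mero.toK X U.1 (b₀ ^ n)).1 ⟨y, hy⟩ = (Mero.toK X U.1 a).1 ⟨y, hy⟩
    rw [e1, Mero.toK_apply, Mero.toK_apply, Mero.toK_apply, kmk_one, kmk_one, kmk_one, ← map_mul]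
    congr 1
    have h1 := congrArg (fun t => X.presheaf.germ (X.basicOpen b₀) y hyb t) ha
    simp only [map_mul, TopCat.Presheaf.germ_res_apply] at h1
    exact h1
  · intro x y hxy
    have h1 : Mero.toK X U.1 x = Mero.toK X U.1 y := hxy
    exact ⟨1, by rw [toK_injective U.1 h1]⟩

end Groth.Agent.S8864
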