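import Groth.Statements.S8865
import Groth.Agent.H95.MeroDense

set_option autoImplicit false
universe u
open CategoryTheory CategoryTheory.Limits AlgebraicGeometry TopologicalSpace
open SDiv

namespace Groth.Agent.S8865

/-- Let X be a quasi-compact scheme, h a global section of O_X and f a global section of the sheaf of
meromorphic functions K_X whose restriction to the open X_h where h is invertible vanishes. Then h^n
f = 0 in K_X(X) for some natural number n. -/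
theorem result (X : Scheme.{u}) [CompactSpace ↥X] (h : Γ(X, ⊤))
    (f : Γ(Mero.kmod X, ⊤)) (hf : (Mero.kmod X).presheaf.map (homOfLE (le_top : X.basicOpen h ≤ ⊤)).op f = 0) :
    ∃ n : ℕ, Mero.toK X ⊤ h ^ n * f = 0 := by
  classical
  have hloc : ∀ x : X, ∃ (W : X.Opens) (_ : x ∈ W) (a : Γ(X, W)) (b : Mero.regSub X W) (n : ℕ),
      (∀ y : W, f.1 ⟨y.1, Opens.mem_top y.1⟩ =
        LocalizedModule.mk (X.presheaf.germ W y.1 y.2 a) (Mero.regGerm y b)) ∧
      X.presheaf.map (homOfLE (le_top : W ≤ ⊤)).op h ^ n * a = 0 := by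
    intro x
    obtain ⟨W₀, hxW₀, i, a₀, b₀, w⟩ := f.2 ⟨x, Opens.mem_top x⟩
    obtain ⟨W, hW0, hxW, hWW₀⟩ := Opens.isBasis_iff_nbhd.mp X.isBasis_affineOpens hxW₀
    have hW : IsAffineOpen W := hW0
    obtain ⟨a, ha⟩ : ∃ a : Γ(X, W), a = X.presheaf.map (homOfLE hWW₀).op a₀ := ⟨_, rfl⟩
    obtain ⟨b, hb⟩ : ∃ b : Mero.regSub X W, b = ⟨X.presheaf.map (homOfLE hWW₀).op b₀.1,
      Mero.regSub_res (homOfLE hWW₀) b₀.2⟩ := ⟨_, rfl⟩
    have hw' : ∀ y : W, f.1 ⟨y.1, Opens.mem_top y.1⟩ =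
        LocalizedModule.mk (X.presheaf.germ W y.1 y.2 a) (Mero.regGerm y b) := by
      intro y
      have h1 : f.1 ⟨y.1, i.le (hWW₀ y.2)⟩ =
          LocalizedModule.mk (X.presheaf.germ W₀ y.1 (hWW₀ y.2) a₀)
            (Mero.regGerm ⟨y.1, hWW₀ y.2⟩ b₀) := w ⟨y.1, hWW₀ y.2⟩
      refine h1.trans (Mero.mk_congr ?_ ?_)
      · rw [ha, TopCat.Presheaf.germ_res_apply]
      · rw [hb]
        show X.presheaf.germ W₀ y.1 (hWW₀ y.2) b₀.1 =
          X.presheaf.germ W y.1 y.2 (X.presheaf.map (homOfLE hWW₀).op b₀.1)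
        rw [TopCat.Presheaf.germ_res_apply]
    have hzero : ∀ (y : X) (hyW : y ∈ W), y ∈ X.basicOpen h →
        X.presheaf.germ W y hyW a = 0 := by
      intro y hyW hyh
      have h1 := congrArg (fun t : Γ(Mero.kmod X, X.basicOpen h) => t.1 ⟨y, hyh⟩) hf
      have h2 : f.1 ⟨y, Opens.mem_top y⟩ = 0 := h1
      have h3 : (LocalizedModule.mk (X.presheaf.germ W y hyW a)
          (Mero.regGerm (⟨y, hyW⟩ : W) b) : Mero.KStalk X y) = 0 := (hw' ⟨y, hyW⟩).symm.trans h2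
      have k1 := Groth.Agent.H95.MeroDepth.kmk_mul y (X.presheaf.germ W y hyW a)
        (Mero.regGerm (⟨y, hyW⟩ : W) b)
      rw [h3, zero_mul] at k1
      exact Mero.algebraMap_KStalk_injective y (k1.symm.trans (map_zero _).symm)
    obtain ⟨h', hh'⟩ : ∃ h' : Γ(X, W), h' = X.presheaf.map (homOfLE (le_top : W ≤ ⊤)).op h :=
      ⟨_, rfl⟩
    have hres : X.presheaf.map (homOfLE (X.basicOpen_le h')).op a = 0 := by
      refine TopCat.Presheaf.section_ext X.sheaf (X.basicOpen h') _ 0 (fun y hy => ?_)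
      show X.presheaf.germ (X.basicOpen h') y hy (X.presheaf.map (homOfLE (X.basicOpen_le h')).op a)
        = X.presheaf.germ (X.basicOpen h') y hy 0
      rw [map_zero, TopCat.Presheaf.germ_res_apply]
      have hyW : y ∈ W := X.basicOpen_le h' hy
      apply hzero y hyW
      have hu : IsUnit (X.presheaf.germ W y hyW h') := (Scheme.mem_basicOpen X h' y hyW).mp hy
      rw [hh', TopCat.Presheaf.germ_res_apply] at hu
      exact (Scheme.mem_basicOpen X h y (Opens.mem_top y)).mpr hu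
    obtain ⟨n, hn⟩ :=
      exists_pow_mul_eq_zero_of_res_basicOpen_eq_zero_of_isAffineOpen X hW a h' hres
    refine ⟨W, hxW, a, b, n, hw', ?_⟩
    rw [← hh']
    exact hn
  choose W hxW a b n hw hn using hloc
  obtain ⟨t, ht⟩ := CompactSpace.elim_nhds_subcover (fun x : X => ((W x : X.Opens) : Set X))
    (fun x => (W x).2.mem_nhds (hxW x))
  obtain ⟨N, hN⟩ : ∃ N : ℕ, N = ∑ x ∈ t, n x := ⟨_, rfl⟩
  refine ⟨N, ?_⟩
  rw [← map_pow]
  refine Subtype.ext (funext fun z => ?_)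
  show (Mero.toK X ⊤ (h ^ N)).1 z * f.1 z = 0
  obtain ⟨x, hxt, hzW⟩ : ∃ x, x ∈ t ∧ z.1 ∈ W x := by
    have hz : z.1 ∈ ⋃ x ∈ t, ((W x : X.Opens) : Set X) := by
      rw [ht]
      trivial
    obtain ⟨x, hx, hzx⟩ := Set.mem_iUnion₂.mp hz
    exact ⟨x, hx, hzx⟩
  have hfz : f.1 z = LocalizedModule.mk (X.presheaf.germ (W x) z.1 hzW (a x))
      (Mero.regGerm (⟨z.1, hzW⟩ : W x) (b x)) := hw x ⟨z.1, hzW⟩
  rw [Mero.toK_apply, hfz]
  have e1 : X.presheaf.germ ⊤ z.1 z.2 (h ^ N) * X.presheaf.germ (W x) z.1 hzW (a x) = 0 := by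
    have hle : n x ≤ N := by
      rw [hN]
      exact Finset.single_le_sum (fun _ _ => Nat.zero_le _) hxt
    obtain ⟨k, hk⟩ := Nat.exists_eq_add_of_le hle
    have h3 : X.presheaf.germ ⊤ z.1 z.2 (h ^ N) = X.presheaf.germ (W x) z.1 hzW
        (X.presheaf.map (homOfLE (le_top : W x ≤ ⊤)).op h ^ N) := by
      rw [← map_pow, TopCat.Presheaf.germ_res_apply]
    rw [h3, ← map_mul, hk, pow_add,
      mul_comm (X.presheaf.map (homOfLE (le_top : W x ≤ ⊤)).op h ^ n x) _, mul_assoc, hn x,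
      mul_zero, map_zero]
  exact LocalizedModule.mk_mul_mk.trans ((Mero.mk_congr e1 rfl).trans (LocalizedModule.zero_mk _))

end Groth.Agent.S8865
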