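import Groth.Statements.S8867
import Groth.Agent.H95.NoethMero
import Groth.Agent.H25.NoEmbAffine

set_option autoImplicit false
universe u
open CategoryTheory CategoryTheory.Limits AlgebraicGeometry TopologicalSpace
open SDiv

namespace Groth.Agent.S8867


open Groth.Agent.H95.NoethMero in
lemma isAssPoint_iff {X : Scheme.{u}} [IsLocallyNoetherian X] (x : X) :
    Curv2.IsAssPoint (Coh.structureModule X) x ↔ IsAssPt x := by
  obtain ⟨W, hW0, hxW, -⟩ := Opens.isBasis_iff_nbhd.mp X.isBasis_affineOpens
    (show x ∈ (⊤ : X.Opens) from trivial)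
  have hW : IsAffineOpen W := hW0
  haveI : IsNoetherianRing Γ(X, W) := IsLocallyNoetherian.component_noetherian ⟨W, hW⟩
  rw [Groth.Agent.H25.NoEmbAffine.isAssPoint_structureModule_iff hW x hxW, isAssPt_iff hW x hxW]

/-- Let X be a locally Noetherian scheme with no embedded points, i.e. every associated point of O_X is
maximal among the associated points of O_X under specialization, and L an invertible O_X-module.
Then some meromorphic section of L is regular. -/
theorem result (X : Scheme.{u}) [IsLocallyNoetherian X]
    (hne : ∀ x : ↥X, Curv2.IsAssPoint (Coh.structureModule X) x →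
      ∀ y : ↥X, Curv2.IsAssPoint (Coh.structureModule X) y → y ⤳ x → y = x)
    (L : X.Modules) (hL : PicF.IsInvertible L) : Mero.HasRegularMero L := by
  have hne' : Groth.Agent.H95.NoethMero.NoEmb X := by
    intro x hx y hy hspec
    exact hne x ((isAssPoint_iff x).mpr hx) y ((isAssPoint_iff y).mpr hy) hspec
  obtain ⟨V, τ, f, hxV, hτ, hcomp⟩ := Groth.Agent.H95.NoethMero.exists_data_of_noEmb hne' L hL
  exact Groth.Agent.H95.MeroData.hasRegularMero_of_data L V (fun x => ⟨x, hxV x⟩) τ hτ f hcomp

end Groth.Agent.S8867
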