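import Groth.Statements.S8868
import Groth.Agent.H8.AssPoints2

set_option autoImplicit false
universe u
open CategoryTheory CategoryTheory.Limits AlgebraicGeometry TopologicalSpace
open SDiv

namespace Groth.Agent.S8868

/-- Let X be a scheme and F a quasi-coherent O_X-module. Then F is zero if and only if F has no weakly
associated point. -/
theorem result (X : Scheme.{u}) (F : X.Modules) (hF : Coh.IsQCoh F) :
    IsZero F ↔ ∀ x : ↥X, ¬ Curv2.IsWeakAssPoint F x := by
  haveI : F.IsQuasicoherent := hF
  constructor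
  · intro hZ x
    have hsec : ∀ (V : X.Opens) (s : Γ(F, V)), s = 0 := by
      intro V s
      have h1 : (𝟙 F : F ⟶ F) = 0 := hZ.eq_of_src _ _
      have h2 : (Scheme.Modules.Hom.app (𝟙 F) V) s = (Scheme.Modules.Hom.app (0 : F ⟶ F) V) s := by
        rw [h1]
      simpa using h2
    haveI : Subsingleton (F.presheaf.stalk x) := by
      refine ⟨fun a b => ?_⟩
      obtain ⟨V, hxV, s, rfl⟩ := TopCat.Presheaf.exists_germ_eq F.presheaf a
      obtain ⟨W, hxW, t, rfl⟩ := TopCat.Presheaf.exists_germ_eq F.presheaf b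
      rw [hsec V s, hsec W t, map_zero, map_zero]
    rintro ⟨m, hm⟩
    have h1 : (1 : X.presheaf.stalk x) ∈ Ideal.radical (LinearMap.ker
        (LinearMap.toSpanSingleton (X.presheaf.stalk x) (F.presheaf.stalk x) m)) := by
      apply Ideal.le_radical
      rw [LinearMap.mem_ker]
      exact Subsingleton.elim _ _
    rw [hm] at h1
    exact (Ideal.ne_top_iff_one _).mp (IsLocalRing.maximalIdeal.isMaximal _).ne_top h1
  · intro hno
    have haff : ∀ (V : X.Opens) (hV : IsAffineOpen V) (n : Γ(F, V)), n = 0 := by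
      intro V hV n
      by_contra hn
      obtain ⟨y, hyV, hyA, -⟩ := H8.exists_isWeakAssPoint_germ_ne_zero hV F n hn
      exact hno y hyA
    have hsec : ∀ (W : X.Opens) (s : Γ(F, W)), s = 0 := by
      intro W s
      refine TopCat.Presheaf.section_ext ⟨F.presheaf, F.isSheaf⟩ W s 0 (fun x hxW => ?_)
      obtain ⟨_, ⟨V, hV, rfl⟩, hxV, hVW⟩ := X.isBasis_affineOpens.exists_subset_of_mem_open
        hxW W.2
      have hVW' : V ≤ W := hVW
      have h1 := TopCat.Presheaf.germ_res_apply F.presheaf (homOfLE hVW') x hxV s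
      have h2 := haff V hV (F.presheaf.map (homOfLE hVW').op s)
      rw [map_zero, ← h1, h2, map_zero]
    rw [IsZero.iff_id_eq_zero]
    apply Scheme.Modules.hom_ext
    intro W
    ext s
    rw [hsec W s]
    simp

end Groth.Agent.S8868
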