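import Groth.Statements.S8871
import Groth.Agent.H17.SuppLoc
import Groth.Agent.H8.Coh
import Groth.Agent.H8.AssSch
import Groth.Agent.H8.AssPoints

set_option autoImplicit false
universe u
open CategoryTheory CategoryTheory.Limits AlgebraicGeometry TopologicalSpace
open SDiv

namespace Groth.Agent.S8871


set_option linter.style.haveILetI false in
open Groth.Agent.H8 in
/-- chart form of the failure of `(S₁)` at a point -/
theorem not_S1_iff_chart (X : Scheme.{u}) [IsLocallyNoetherian X] (F : X.Modules) (hF : Coh.IsCoh F)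
    (U : X.Opens) (hU : IsAffineOpen U) (x : X) (hxU : x ∈ U) :
    ¬ (min (1 : WithBot ℕ∞) (Module.supportDim ↑(X.presheaf.stalk x) ↑(F.presheaf.stalk x)) ≤
        ((LocCoh.depth (X.presheaf.stalk x) (F.presheaf.stalk x) : ℕ∞) : WithBot ℕ∞)) ↔
      IsAssociatedPrime (hU.primeIdealOf ⟨x, hxU⟩).asIdeal Γ(F, U) ∧
        ∃ q : Ideal Γ(X, U), IsAssociatedPrime q Γ(F, U) ∧
          q ≤ (hU.primeIdealOf ⟨x, hxU⟩).asIdeal ∧ q ≠ (hU.primeIdealOf ⟨x, hxU⟩).asIdeal := by
  haveI : F.IsQuasicoherent := hF.1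
  haveI : IsNoetherianRing Γ(X, U) := IsLocallyNoetherian.component_noetherian ⟨U, hU⟩
  haveI := finite_sections_of_isCoh F hF hU
  letI := X.presheaf.algebra_section_stalk ⟨x, hxU⟩
  haveI := hU.isLocalization_stalk ⟨x, hxU⟩
  letI := moduleSectionStalk F x hxU
  haveI := isScalarTower_sectionStalk F x hxU
  haveI := isLocalizedModule_germₗ F hU x hxU
  exact Groth.Agent.H17.SuppLoc.not_S1_iff (hU.primeIdealOf ⟨x, hxU⟩).asIdeal (germₗ F x hxU)

set_option linter.style.haveILetI false in
open Groth.Agent.H8 in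
/-- Let X be a locally Noetherian scheme and F a coherent O_X-module. Then F has no embedded associated
points (every associated point of F is maximal among the associated points of F under
specialization) if and only if F has property (S_1): for every point x, depth F_x ≥ min(1, dim Supp
F_x), where dim Supp F_x is the Krull dimension of the support of the O_{X,x}-module F_x (for F_x =
0 the depth is infinite and the support empty, so the condition holds). -/
theorem result (X : Scheme.{u}) [IsLocallyNoetherian X] (F : X.Modules) (hF : Coh.IsCoh F) :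
    (∀ x : ↥X, Curv2.IsAssPoint F x → ∀ y : ↥X, Curv2.IsAssPoint F y → y ⤳ x → y = x) ↔
      ∀ x : ↥X, min (1 : WithBot ℕ∞) (Module.supportDim ↑(X.presheaf.stalk x) ↑(F.presheaf.stalk x)) ≤
        ((LocCoh.depth (X.presheaf.stalk x) (F.presheaf.stalk x) : ℕ∞) : WithBot ℕ∞) := by
  haveI : F.IsQuasicoherent := hF.1
  constructor
  · intro h x
    by_contra hP
    obtain ⟨_, ⟨U, hU, rfl⟩, hxU, -⟩ :=
      X.isBasis_affineOpens.exists_subset_of_mem_open (Set.mem_univ x) isOpen_univ
    replace hU : IsAffineOpen U := hU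
    haveI : IsNoetherianRing Γ(X, U) := IsLocallyNoetherian.component_noetherian ⟨U, hU⟩
    obtain ⟨hp, q, hq, hqp, hne⟩ := (not_S1_iff_chart X F hF U hU x hxU).mp hP
    haveI hqprime : q.IsPrime := hq.isPrime
    have hyU : pointOfPrime hU q ∈ U := pointOfPrime_mem hU q
    have hpy : hU.primeIdealOf ⟨pointOfPrime hU q, hyU⟩ = ⟨q, hqprime⟩ :=
      primeIdealOf_pointOfPrime hU q
    have hxass : Curv2.IsAssPoint F x := (isAssPoint_iff_isAssociatedPrime hU F x hxU).mpr hp
    have hyass : Curv2.IsAssPoint F (pointOfPrime hU q) := by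
      rw [isAssPoint_iff_isAssociatedPrime hU F _ hyU, hpy]
      exact hq
    have hsp : pointOfPrime hU q ⤳ x := pointOfPrime_specializes hU q x hxU hqp
    have hyx := h x hxass _ hyass hsp
    apply hne
    have h1 : hU.primeIdealOf ⟨pointOfPrime hU q, hyU⟩ = hU.primeIdealOf ⟨x, hxU⟩ :=
      congrArg hU.primeIdealOf (Subtype.ext hyx)
    rw [← h1, hpy]
  · intro h x hx y hy hyx
    by_contra hne
    obtain ⟨_, ⟨U, hU, rfl⟩, hxU, -⟩ :=
      X.isBasis_affineOpens.exists_subset_of_mem_open (Set.mem_univ x) isOpen_univ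
    replace hU : IsAffineOpen U := hU
    haveI : IsNoetherianRing Γ(X, U) := IsLocallyNoetherian.component_noetherian ⟨U, hU⟩
    have hyU : y ∈ U := hyx.mem_open U.2 hxU
    have hle : (hU.primeIdealOf ⟨y, hyU⟩).asIdeal ≤ (hU.primeIdealOf ⟨x, hxU⟩).asIdeal := by
      have h1 : (hU.primeIdealOf ⟨y, hyU⟩ : Spec Γ(X, U)) ⤳ hU.primeIdealOf ⟨x, hxU⟩ :=
        hU.fromSpec.isOpenEmbedding.isInducing.specializes_iff.mp (by
          rw [hU.fromSpec_primeIdealOf ⟨y, hyU⟩, hU.fromSpec_primeIdealOf ⟨x, hxU⟩]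
          exact hyx)
      exact (PrimeSpectrum.le_iff_specializes _ _).mpr h1
    have hne' : (hU.primeIdealOf ⟨y, hyU⟩).asIdeal ≠ (hU.primeIdealOf ⟨x, hxU⟩).asIdeal := by
      intro heq
      apply hne
      have h2 : hU.primeIdealOf ⟨y, hyU⟩ = hU.primeIdealOf ⟨x, hxU⟩ := PrimeSpectrum.ext heq
      have h3 := congrArg (fun P => hU.fromSpec P) h2
      simp only [hU.fromSpec_primeIdealOf] at h3
      exact h3
    exact (not_S1_iff_chart X F hF U hU x hxU).mpr
      ⟨(isAssPoint_iff_isAssociatedPrime hU F x hxU).mp hx, _,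
        (isAssPoint_iff_isAssociatedPrime hU F y hyU).mp hy, hle, hne'⟩ (h x)

end Groth.Agent.S8871
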