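import Groth.Statements.S8873
import Groth.Agent.H17.FittSheaf
import Groth.Agent.H8.FPAffine

set_option autoImplicit false
universe u
open CategoryTheory CategoryTheory.Limits AlgebraicGeometry TopologicalSpace
open SDiv

namespace Groth.Agent.S8873

open Groth.Agent.H8 Groth.Agent.H34.Fit Groth.Agent.H17.FittSheaf

/-- Let S be a scheme and F a finitely presented O_S-module. Then for every r the Fitting ideal sheaf
Fit_r(F) is of finite type: its ideal of sections over every affine open is finitely generated. -/
theorem result (S : Scheme.{u}) (F : S.Modules) (hF : CohB1.IsFP F) (r : ℕ) :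
    BlowUp.IsFiniteTypeIdeal (Fitt.sheafIdeal F r) := by
  haveI : SheafOfModules.IsFinitePresentation (R := S.ringCatSheaf) F := hF
  haveI hq : F.IsQuasicoherent := by
    obtain ⟨σ, hσ⟩ := SheafOfModules.IsFinitePresentation.exists_quasicoherentData F
    exact σ.isQuasicoherent
  intro U
  have hfp : ∀ V : S.affineOpens, Module.FinitePresentation Γ(S, V.1) Γ(F, V.1) :=
    fun V => finitePresentation_sections_of_isAffineOpen F V.2
  haveI := hfp U
  rw [sheafIdeal_ideal' F (fun V => by haveI := hfp V; infer_instance)]
  exact fittIdeal_fg r

end Groth.Agent.S8873
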