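import Groth.Statements.S8876
import Groth.Agent.H17.FittSheaf
import Groth.Agent.S9390
import Groth.Agent.H8.QCohStalk

set_option autoImplicit false
universe u
open CategoryTheory CategoryTheory.Limits AlgebraicGeometry TopologicalSpace
open SDiv

namespace Groth.Agent.S8876

open Groth.Agent.H8 Groth.Agent.H34.Fit Groth.Agent.H17.FittSheaf

/-- Let S be a scheme and F a quasi-coherent O_S-module of finite type. Then the closed subset of S cut
out by Fit_0(F) equals the support of F (the scheme-theoretic support and the Fit_0 subscheme have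
the same underlying set). -/
theorem result (S : Scheme.{u}) (F : S.Modules) (hF : Coh.IsQCoh F) (hft : CohB1.IsFT F) :
    ((Fitt.sheafIdeal F 0).support : Set ↥S) = CohB1.support F := by
  haveI : F.IsQuasicoherent := hF
  haveI : SheafOfModules.IsFiniteType (R := S.ringCatSheaf) F := hft
  ext x
  obtain ⟨_, ⟨U, hU, rfl⟩, hxU, -⟩ := S.isBasis_affineOpens.exists_subset_of_mem_open
    (Set.mem_univ x) isOpen_univ
  replace hU : IsAffineOpen U := hU
  haveI := finite_sections_of_isAffineOpen F hU
  rw [← Groth.Agent.S9390.result S F hF ⟨U, hU⟩ x hxU, ← zeroLocus_fittIdeal_zero,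
    PrimeSpectrum.mem_zeroLocus, SetLike.mem_coe,
    Scheme.IdealSheafData.mem_support_iff_of_mem (U := ⟨U, hU⟩) hxU, sheafIdeal_ideal,
    Scheme.mem_zeroLocus_iff]
  constructor
  · intro h f hf
    by_contra hfp
    exact h f hf ((mem_basicOpen_iff_notMem_primeIdealOf hU x hxU f).mpr hfp)
  · intro h f hf hxf
    exact (mem_basicOpen_iff_notMem_primeIdealOf hU x hxU f).mp hxf (h hf)

end Groth.Agent.S8876
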