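import Groth.Statements.S8882
import Groth.Agent.H54.NormGlue

set_option autoImplicit false
universe u
open CategoryTheory CategoryTheory.Limits AlgebraicGeometry TopologicalSpace
open SDiv

namespace Groth.Agent.S8882


open CategoryTheory AlgebraicGeometry TopologicalSpace Groth.Agent.H54.NormGlue

theorem pow_eq_of_sub_nilpotent {A : Type*} [CommRing A] (p : ℕ) (hp : p.Prime)
    (hpA : (p : A) = 0) (e : ℕ) (a b : A) (h : (a - b) ^ (p ^ e) = 0) :
    a ^ (p ^ e) = b ^ (p ^ e) := by
  have h1 := add_pow_prime_pow_eq hp b (a - b) e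
  rw [hpA, zero_mul, zero_mul, zero_mul, add_zero, h, add_zero] at h1
  rw [← h1]
  congr 1
  ring

theorem nil_ideal (X : Scheme.{u}) (V : X.affineOpens) :
    X.nilradical.ideal V = nilradical Γ(X, (V : X.Opens)) := by
  first
    | rfl
    | simp [Scheme.nilradical, nilradical, Ideal.zero_eq_bot]

theorem exists_nilpotent_bound (X : Scheme.{u}) [IsNoetherian X] :
    ∃ m : ℕ, ∀ (V : X.affineOpens) (n : Γ(X, (V : X.Opens))), IsNilpotent n → n ^ m = 0 := by
  classical
  obtain ⟨s, hsfin, hs⟩ := (isCompact_iff_finite_and_eq_biUnion_affineOpens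
    (U := (⊤ : X.Opens))).mp (by simpa using isCompact_univ)
  haveI : Fintype s := hsfin.fintype
  have hnil : ∀ i : s, ∃ m : ℕ, (nilradical Γ(X, (i.1 : X.Opens))) ^ m = ⊥ := fun i => by
    haveI : IsNoetherianRing Γ(X, (i.1 : X.Opens)) :=
      IsLocallyNoetherian.component_noetherian i.1
    obtain ⟨k, hk⟩ := IsNoetherianRing.isNilpotent_nilradical Γ(X, (i.1 : X.Opens))
    exact ⟨k, by rw [hk]; rfl⟩
  choose m hm using hnil
  refine ⟨∑ i, m i, ?_⟩
  have key : X.nilradical ^ (∑ i, m i) = ⊥ := by
    refine Scheme.IdealSheafData.ext_of_iSup_eq_top (fun i : s => i.1) ?_ (fun i => ?_)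
    · rw [iSup_subtype'' s (fun i : X.affineOpens => (i : X.Opens))]
      exact hs.symm
    · change (X.nilradical.ideal i.1) ^ (∑ j, m j) = ⊥
      rw [nil_ideal]
      exact le_bot_iff.1 ((Ideal.pow_le_pow_right (Finset.single_le_sum
        (fun _ _ => Nat.zero_le _) (Finset.mem_univ i))).trans (hm i).le)
  intro V n hn
  have h1 : n ∈ X.nilradical.ideal V := by rw [nil_ideal]; exact mem_nilradical.2 hn
  have h2 : n ^ (∑ i, m i) ∈ (X.nilradical ^ (∑ i, m i)).ideal V := by
    change n ^ (∑ i, m i) ∈ (X.nilradical.ideal V) ^ (∑ i, m i)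
    exact Ideal.pow_mem_pow h1 _
  rw [key] at h2
  exact Ideal.mem_bot.1 (show n ^ (∑ i, m i) ∈ (⊥ : Ideal Γ(X, (V : X.Opens))) from h2)

/-- A morphism which is surjective on sections over affine opens, with `q`-th powers of lifts
well defined, has a norm of degree `q`. -/
theorem hasNorm_of_surjective_pow {R X : Scheme.{u}} (π : R ⟶ X) (q : ℕ) (hq : 1 ≤ q)
    (hsurj : ∀ V : X.Opens, IsAffineOpen V → Function.Surjective (π.app V))
    (hwd : ∀ V : X.Opens, IsAffineOpen V → ∀ a b : Γ(X, V), π.app V a = π.app V b →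
      a ^ q = b ^ q) :
    Nrm.HasNorm π q := by
  let B : BasisNorm π (fun V => IsAffineOpen V) :=
    { norm := fun V hV =>
        { toFun := fun s => (Function.surjInv (hsurj V hV) s) ^ q
          map_one' := by
            have := hwd V hV (Function.surjInv (hsurj V hV) 1) 1
              (by rw [Function.surjInv_eq (hsurj V hV), map_one])
            rw [this, one_pow]
          map_mul' := fun a b => by
            have := hwd V hV (Function.surjInv (hsurj V hV) (a * b))
              (Function.surjInv (hsurj V hV) a * Function.surjInv (hsurj V hV) b)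
              (by rw [Function.surjInv_eq (hsurj V hV), map_mul, Function.surjInv_eq (hsurj V hV), Function.surjInv_eq (hsurj V hV)])
            rw [this, mul_pow] }
      basis := fun U y hy => by
        obtain ⟨_, ⟨V, hVaff, rfl⟩, hyV, hVU⟩ :=
          X.isBasis_affineOpens.exists_subset_of_mem_open hy U.isOpen
        exact ⟨V, hVaff, hyV, hVU⟩
      compat := fun V W hV hW i s => by
        show X.presheaf.map i.op ((Function.surjInv (hsurj V hV) s) ^ q) =
          (Function.surjInv (hsurj W hW) _) ^ q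
        rw [map_pow]
        apply hwd W hW
        rw [Function.surjInv_eq (hsurj W hW)]
        have h1 := congrArg (fun f => f.hom (Function.surjInv (hsurj V hV) s))
          (π.naturality i.op)
        simp only [CommRingCat.hom_comp, RingHom.comp_apply] at h1
        refine h1.trans ?_
        congr 1
        exact Function.surjInv_eq (hsurj V hV) s }
  refine B.hasNorm q hq ?_ ?_
  · intro V hV g
    show (Function.surjInv (hsurj V hV) (π.app V g)) ^ q = g ^ q
    apply hwd V hV
    rw [Function.surjInv_eq (hsurj V hV)]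
  · intro V hV s x hx hs
    show X.presheaf.germ V (π.base x) hx ((Function.surjInv (hsurj V hV) s) ^ q) ∈ _
    rw [map_pow]
    by_contra hnot
    have hunit : IsUnit ((X.presheaf.germ V (π.base x) hx
        (Function.surjInv (hsurj V hV) s)) ^ q) := by
      rwa [IsLocalRing.mem_maximalIdeal, mem_nonunits_iff, not_not] at hnot
    have hunit1 := (isUnit_pow_iff (by omega : q ≠ 0)).1 hunit
    have h2 := hunit1.map (π.stalkMap x).hom
    have h3 := π.germ_stalkMap_apply V x hx (Function.surjInv (hsurj V hV) s)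
    rw [Function.surjInv_eq (hsurj V hV)] at h3
    have h4 : IsUnit (R.presheaf.germ (π ⁻¹ᵁ V) x hx s) := by
      rw [← h3]; exact h2
    exact (IsLocalRing.mem_maximalIdeal _).1 hs h4


/-- Let X be a Noetherian scheme on which a prime number p is zero (p·O_X = 0). Then the closed
immersion X_red ⟶ X cut out by the nilradical carries a norm whose degree is p^e for some e > 0. -/
theorem result (X : Scheme.{u}) [IsNoetherian X] (p : ℕ) (hp : p.Prime)
    (hpX : (p : Γ(X, ⊤)) = 0) : ∃ e : ℕ, 0 < e ∧ Nrm.HasNorm X.nilradical.subschemeι (p ^ e) := by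
  obtain ⟨m, hm⟩ := exists_nilpotent_bound X
  refine ⟨m + 1, Nat.succ_pos m, ?_⟩
  have hqm : m ≤ p ^ (m + 1) := by
    have := Nat.lt_pow_self hp.one_lt (n := m + 1)
    omega
  have hq1 : 1 ≤ p ^ (m + 1) := Nat.one_le_pow _ _ hp.pos
  have hpV : ∀ V : X.Opens, ((p : ℕ) : Γ(X, V)) = 0 := fun V => by
    have := congrArg (X.presheaf.map (homOfLE (le_top : V ≤ ⊤)).op) hpX
    rwa [map_natCast, map_zero] at this
  refine hasNorm_of_surjective_pow X.nilradical.subschemeι (p ^ (m + 1)) hq1
    (fun V hV => X.nilradical.subschemeι_app_surjective ⟨V, hV⟩) ?_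
  intro V hV a b hab
  apply pow_eq_of_sub_nilpotent p hp (hpV V) (m + 1)
  have h1 : a - b ∈ RingHom.ker (X.nilradical.subschemeι.app V).hom := by
    rw [RingHom.mem_ker, map_sub, sub_eq_zero]; exact hab
  rw [X.nilradical.ker_subschemeι_app ⟨V, hV⟩, nil_ideal] at h1
  have h2 := hm ⟨V, hV⟩ (a - b) (mem_nilradical.1 h1)
  exact pow_eq_zero_of_le hqm h2

end Groth.Agent.S8882
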