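import Groth.Statements.S8885
import Groth.Agent.H57.RelAssBC2

set_option linter.style.haveILetI false

set_option autoImplicit false
universe u
open CategoryTheory CategoryTheory.Limits AlgebraicGeometry TopologicalSpace
open SDiv

namespace Groth.Agent.S8885

/-- Let f : X ⟶ S be locally of finite type, g : S' ⟶ S a morphism, X' = X ×_S S' with projections g' :
X' ⟶ X and f' : X' ⟶ S', F a quasi-coherent O_X-module and F' = g'^*F. For a point x' of X' with
images x in X and s' in S': x' lies in the relative assassin Ass_{X'/S'}(F') (x' is an associated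
point of the pullback of F' to the fibre X'_{s'}) if and only if x lies in Ass_{X/S}(F) and x' is
maximal under generization among the points of X' mapping to x and to s' (that is, x' is the generic
point of some irreducible component of Spec(κ(s') ⊗_{κ(s)} κ(x))). -/
theorem result {X S S' : Scheme.{u}} (f : X ⟶ S) [LocallyOfFiniteType f] (g : S' ⟶ S)
    (F : X.Modules) (hF : Coh.IsQCoh F) (x' : ↥(pullback f g)) :
    Curv2.IsAssPoint
        ((Scheme.Modules.pullback ((pullback.snd f g).fiberι ((pullback.snd f g) x'))).obj
          ((Scheme.Modules.pullback (pullback.fst f g)).obj F))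
        ((pullback.snd f g).asFiber x') ↔
      Curv2.IsAssPoint ((Scheme.Modules.pullback (f.fiberι (f ((pullback.fst f g) x')))).obj F)
          (f.asFiber ((pullback.fst f g) x')) ∧
        ∀ x'' : ↥(pullback f g), (pullback.snd f g) x'' = (pullback.snd f g) x' →
          (pullback.fst f g) x'' = (pullback.fst f g) x' → x'' ⤳ x' → x'' = x' := by
  haveI hqc : F.IsQuasicoherent := hF
  have hc : IsPullback (pullback.fst f g) (pullback.snd f g) f g := IsPullback.of_hasPullback f g
  haveI hlft' : LocallyOfFiniteType (pullback.snd f g) := MorphismProperty.of_isPullback hc ‹_›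
  have hsq := isPullback_fiberToSpecResidueField_of_isPullback hc ((pullback.snd f g) x')
  have a3 : (pullback.map _ _ _ _ (pullback.fst f g)
        (Spec.map (g.residueFieldMap ((pullback.snd f g) x'))) g hc.w.symm (by simp)) ≫
      f.fiberι (g ((pullback.snd f g) x')) =
        (pullback.snd f g).fiberι ((pullback.snd f g) x') ≫ pullback.fst f g :=
    pullback.lift_fst _ _ _
  have h := Groth.Agent.H57.RelAssBC.isAssPoint_baseChange_iff_core f F g (pullback.snd f g)
    (pullback.fst f g) ((pullback.snd f g) x') _ hsq a3 ((pullback.snd f g).asFiber x')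
  rw [(pullback.snd f g).fiberι_asFiber x'] at h
  rw [h]
  refine and_congr_left' ?_
  have hfx : g ((pullback.snd f g) x') = f ((pullback.fst f g) x') :=
    (congr(($(hc.w)) x')).symm
  refine Groth.Agent.H57.RelAssBC.isAssPoint_fiber_congr f F _ _ hfx _ _ ?_
  have h1 := congr(($a3) ((pullback.snd f g).asFiber x'))
  have h2 : (pullback.fst f g) (((pullback.snd f g).fiberι ((pullback.snd f g) x'))
      ((pullback.snd f g).asFiber x')) = (pullback.fst f g) x' := by
    rw [(pullback.snd f g).fiberι_asFiber x']
  rw [f.fiberι_asFiber]
  exact h1.trans h2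

end Groth.Agent.S8885
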