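import Groth.Statements.S8886
import Mathlib.AlgebraicGeometry.Morphisms.UniversallyOpen
import Mathlib.AlgebraicGeometry.Stalk
import Mathlib.AlgebraicGeometry.Properties
import Mathlib.RingTheory.Flat.FaithfullyFlat.Algebra
import Mathlib.RingTheory.RingHom.FaithfullyFlat
import Mathlib.RingTheory.LocalProperties.Reduced
import Mathlib.RingTheory.Flat.TorsionFree

set_option autoImplicit false
universe u
open CategoryTheory CategoryTheory.Limits AlgebraicGeometry TopologicalSpace
open SDiv

namespace Groth.Agent.S8886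

lemma injective_of_flat_of_isLocalHom {R S : Type*} [CommRing R] [CommRing S] [IsLocalRing R]
    [IsLocalRing S] (φ : R →+* S) (hφ : φ.Flat) [hloc : IsLocalHom φ] : Function.Injective φ := by
  algebraize [φ]
  have h1 : IsLocalHom (algebraMap R S) := hloc
  have h2 := Module.FaithfullyFlat.of_flat_of_isLocalHom (A := R) (B := S)
  exact FaithfulSMul.algebraMap_injective R S

/-- flat over a domain: a nonzero element has a prime over `⊥` containing its annihilator. -/
lemma exists_prime_of_flat {R S : Type*} [CommRing R] [IsDomain R] [CommRing S] (φ : R →+* S)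
    (hφ : φ.Flat) (σ : S) (hσ : σ ≠ 0) :
    ∃ P : Ideal S, P.IsPrime ∧ (∀ u : S, u * σ = 0 → u ∈ P) ∧ P.comap φ = ⊥ := by
  algebraize [φ]
  let K : Ideal S := LinearMap.ker (LinearMap.toSpanSingleton S S σ)
  have hK : ∀ u, u ∈ K ↔ u * σ = 0 := fun u => by
    rw [LinearMap.mem_ker, LinearMap.toSpanSingleton_apply, smul_eq_mul]
  have hdisj : Disjoint (K : Set S) (Submonoid.map φ (nonZeroDivisors R) : Set S) := by
    rw [Set.disjoint_left]
    rintro _ hu ⟨r, hr, rfl⟩
    have hreg : IsSMulRegular S r := Module.Flat.isSMulRegular_of_nonZeroDivisors hr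
    have h0 : r • σ = r • (0 : S) := by
      rw [smul_zero, Algebra.smul_def]
      exact (hK _).mp hu
    exact hσ (hreg h0)
  obtain ⟨P, hP, hKP, hPdisj⟩ := Ideal.exists_le_prime_disjoint K _ hdisj
  refine ⟨P, hP, fun u hu => hKP ((hK u).mpr hu), ?_⟩
  rw [eq_bot_iff]
  intro r hr
  rw [Ideal.mem_comap] at hr
  by_contra hr0
  rw [Ideal.mem_bot] at hr0
  exact Set.disjoint_left.mp hPdisj hr ⟨r, mem_nonZeroDivisors_of_ne_zero hr0, rfl⟩

lemma flat_fromSpecStalk (Y : Scheme.{u}) (y : Y) : Flat (Y.fromSpecStalk y) := by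
  obtain ⟨_, ⟨U, hU0, rfl⟩, hyU, -⟩ :=
    Y.isBasis_affineOpens.exists_subset_of_mem_open (Set.mem_univ y) isOpen_univ
  have hU : IsAffineOpen U := hU0
  rw [← hU.fromSpecStalk_eq_fromSpecStalk hyU]
  delta IsAffineOpen.fromSpecStalk
  have h1 : Flat (Spec.map (Y.presheaf.germ U y hyU)) := by
    rw [Flat.SpecMap_iff]
    let _ := TopCat.Presheaf.algebra_section_stalk Y.presheaf ⟨y, hyU⟩
    have hloc := hU.isLocalization_stalk ⟨y, hyU⟩
    have hfl : Module.Flat Γ(Y, U) (Y.presheaf.stalk y) :=
      IsLocalization.flat _ (hU.primeIdealOf ⟨y, hyU⟩).asIdeal.primeCompl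
    exact RingHom.flat_algebraMap_iff.mpr hfl
  infer_instance

lemma flat_fromSpecResidueField_genericPoint (Y : Scheme.{u}) [IsIntegral Y] :
    Flat (Y.fromSpecResidueField (genericPoint Y)) := by
  unfold Scheme.fromSpecResidueField
  have h1 : Flat (Spec.map (Y.residue (genericPoint Y))) := by
    rw [Flat.SpecMap_iff]
    apply RingHom.Flat.of_bijective
    constructor
    · have hfield : IsField (Y.presheaf.stalk (genericPoint Y)) := Field.toIsField Y.functionField
      have hmax : IsLocalRing.maximalIdeal (Y.presheaf.stalk (genericPoint Y)) = ⊥ :=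
        IsLocalRing.isField_iff_maximalIdeal_eq.mp hfield
      rw [RingHom.injective_iff_ker_eq_bot]
      show RingHom.ker (IsLocalRing.residue (Y.presheaf.stalk (genericPoint Y))) = ⊥
      rw [IsLocalRing.ker_residue, hmax]
    · exact Ideal.Quotient.mk_surjective
  have h2 := flat_fromSpecStalk Y (genericPoint Y)
  infer_instance


/-- Let f : X ⟶ Y be a flat morphism of schemes with Y integral. If the scheme-theoretic fibre of f over
the generic point of Y is integral, then X is integral. -/
theorem result {X Y : Scheme.{u}} (f : X ⟶ Y) [Flat f] [IsIntegral Y]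
    (h : IsIntegral (f.fiber (genericPoint ↥Y))) : IsIntegral X := by
  have hFint := h
  have hrange : Set.range (f.fiberι (genericPoint Y)) = f ⁻¹' {genericPoint Y} :=
    f.range_fiberι (genericPoint Y)
  -- irreducibility
  have hirrF : IsIrreducible (Set.univ : Set (f.fiber (genericPoint Y))) :=
    (irreducibleSpace_def _).mp inferInstance
  have hirr1 : IsIrreducible (f ⁻¹' {genericPoint Y}) := by
    rw [← hrange, ← Set.image_univ]
    exact hirrF.image _ (f.fiberι (genericPoint Y)).continuous.continuousOn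
  have hdense : closure (f ⁻¹' {genericPoint Y}) = Set.univ := by
    rw [Set.eq_univ_iff_forall]
    intro x
    obtain ⟨x', hx'x, hfx'⟩ := Flat.generalizingMap f (genericPoint_specializes (f x))
    have hsub : ({x'} : Set X) ⊆ f ⁻¹' {genericPoint Y} := by
      rintro _ rfl
      exact hfx'
    exact closure_mono hsub hx'x.mem_closure
  have hirrX : IrreducibleSpace X := by
    rw [irreducibleSpace_def, Set.top_eq_univ, ← hdense]
    exact hirr1.closure
  -- reducedness
  have hflatι : Flat (f.fiberι (genericPoint Y)) := by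
    have h1 : Flat (Y.fromSpecResidueField (genericPoint Y)) :=
      flat_fromSpecResidueField_genericPoint Y
    have h2 : Flat (pullback.fst f (Y.fromSpecResidueField (genericPoint Y))) := inferInstance
    exact h2
  have hredη : ∀ x' : X, f x' = genericPoint Y → _root_.IsReduced (X.presheaf.stalk x') := by
    intro x' hx'
    have hx'r : x' ∈ Set.range (f.fiberι (genericPoint Y)) := by
      rw [hrange]
      exact hx'
    obtain ⟨x'', rfl⟩ := hx'r
    have hinj : Function.Injective ((f.fiberι (genericPoint Y)).stalkMap x'').hom :=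
      injective_of_flat_of_isLocalHom _ (Flat.stalkMap (f.fiberι (genericPoint Y)) x'')
    exact isReduced_of_injective ((f.fiberι (genericPoint Y)).stalkMap x'').hom hinj
  have hstalk : ∀ x : X, _root_.IsReduced (X.presheaf.stalk x) := by
    intro x
    obtain ⟨_, ⟨V, hV0, rfl⟩, hfxV, -⟩ :=
      Y.isBasis_affineOpens.exists_subset_of_mem_open (Set.mem_univ (f x)) isOpen_univ
    obtain ⟨_, ⟨W, hW0, rfl⟩, hxW, hWV⟩ :=
      X.isBasis_affineOpens.exists_subset_of_mem_open
        (show x ∈ ((f ⁻¹ᵁ V : X.Opens) : Set X) from hfxV) (f ⁻¹ᵁ V).2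
    have hV : IsAffineOpen V := hV0
    have hW : IsAffineOpen W := hW0
    have hneV : Nonempty V := ⟨⟨f x, hfxV⟩⟩
    have hdomR : IsDomain Γ(Y, V) := inferInstance
    have hφ : (f.appLE V W hWV).hom.Flat :=
      HasRingHomProperty.appLE @Flat f inferInstance ⟨V, hV⟩ ⟨W, hW⟩ hWV
    have hSred : _root_.IsReduced Γ(X, W) := by
      constructor
      intro σ hσnil
      by_contra hσ0
      obtain ⟨P, hP, hann, hcomap⟩ := exists_prime_of_flat (f.appLE V W hWV).hom hφ σ hσ0
      have hx'W : hW.fromSpec (⟨P, hP⟩ : PrimeSpectrum Γ(X, W)) ∈ W := (hW.isoSpec.inv _).2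
      let alg' : Algebra Γ(X, W)
          (X.presheaf.stalk (hW.fromSpec (⟨P, hP⟩ : PrimeSpectrum Γ(X, W)))) :=
        TopCat.Presheaf.algebra_section_stalk X.presheaf ⟨_, hx'W⟩
      have hloc' : IsLocalization.AtPrime
          (X.presheaf.stalk (hW.fromSpec (⟨P, hP⟩ : PrimeSpectrum Γ(X, W)))) P :=
        hW.isLocalization_stalk' ⟨P, hP⟩ hx'W
      have hfx' : f (hW.fromSpec (⟨P, hP⟩ : PrimeSpectrum Γ(X, W))) = genericPoint Y := by
        have hnat := IsAffineOpen.SpecMap_appLE_fromSpec f hV hW hWV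
        have h1 : f (hW.fromSpec (⟨P, hP⟩ : PrimeSpectrum Γ(X, W))) =
            hV.fromSpec ((Spec.map (f.appLE V W hWV)) (⟨P, hP⟩ : PrimeSpectrum Γ(X, W))) :=
          (Scheme.Hom.comp_apply hW.fromSpec f (⟨P, hP⟩ : PrimeSpectrum Γ(X, W))).symm.trans
            ((congrArg (fun g : Spec Γ(X, W) ⟶ Y => g (⟨P, hP⟩ : PrimeSpectrum Γ(X, W)))
              hnat.symm).trans
              (Scheme.Hom.comp_apply (Spec.map (f.appLE V W hWV)) hV.fromSpec
                (⟨P, hP⟩ : PrimeSpectrum Γ(X, W))))
        have h2 : (Spec.map (f.appLE V W hWV)) (⟨P, hP⟩ : PrimeSpectrum Γ(X, W)) =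
            (⟨⊥, Ideal.isPrime_bot⟩ : PrimeSpectrum Γ(Y, V)) := by
          apply PrimeSpectrum.ext
          exact hcomap
        rw [h1, h2]
        have hηV : genericPoint Y ∈ V :=
          ((genericPoint_spec Y).mem_open_set_iff V.2).mpr ⟨f x, trivial, hfxV⟩
        have h3 : hV.fromSpec (hV.primeIdealOf ⟨genericPoint Y, hηV⟩) = genericPoint Y :=
          hV.fromSpec_primeIdealOf ⟨genericPoint Y, hηV⟩
        have h4 : (⟨⊥, Ideal.isPrime_bot⟩ : PrimeSpectrum Γ(Y, V)) ⤳
            hV.primeIdealOf ⟨genericPoint Y, hηV⟩ :=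
          (PrimeSpectrum.le_iff_specializes _ _).mp (bot_le : (⊥ : Ideal Γ(Y, V)) ≤ _)
        have h5 : hV.fromSpec (⟨⊥, Ideal.isPrime_bot⟩ : PrimeSpectrum Γ(Y, V)) ⤳
            genericPoint Y := by
          rw [← h3]
          exact h4.map hV.fromSpec.continuous
        exact (h5.antisymm (genericPoint_specializes _)).eq
      have hredx' := hredη _ hfx'
      have h0 : algebraMap Γ(X, W)
          (X.presheaf.stalk (hW.fromSpec (⟨P, hP⟩ : PrimeSpectrum Γ(X, W)))) σ = 0 :=
        (hσnil.map _).eq_zero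
      obtain ⟨u, hu⟩ := (IsLocalization.map_eq_zero_iff P.primeCompl _ σ).mp h0
      exact u.2 (hann u hu)
    let alg : Algebra Γ(X, W) (X.presheaf.stalk x) :=
      TopCat.Presheaf.algebra_section_stalk X.presheaf ⟨x, hxW⟩
    have hloc : IsLocalization.AtPrime (X.presheaf.stalk x)
        (hW.primeIdealOf ⟨x, hxW⟩).asIdeal := hW.isLocalization_stalk ⟨x, hxW⟩
    exact isReduced_localizationPreserves (hW.primeIdealOf ⟨x, hxW⟩).asIdeal.primeCompl
      (X.presheaf.stalk x) hSred
  have hredX : IsReduced X := isReduced_of_isReduced_stalk X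
  exact isIntegral_of_irreducibleSpace_of_isReduced X

end Groth.Agent.S8886
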