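import Groth.Statements.S8887
import Groth.Agent.H8.FreeMod
import Groth.Agent.H8.QCohStalk
import Mathlib.AlgebraicGeometry.FunctionField
import Mathlib.RingTheory.Localization.Integer
import Mathlib.LinearAlgebra.Basis.SMul

set_option autoImplicit false
universe u
open CategoryTheory CategoryTheory.Limits AlgebraicGeometry TopologicalSpace
open SDiv

namespace Groth.Agent.S8887

section Algebra

lemma alg_exists_smul_mem_span {A K M V : Type*} [CommRing A] [CommRing K] [Algebra A K]
    (S : Submonoid A) [IsLocalization S K]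
    [AddCommGroup M] [Module A M] [AddCommGroup V] [Module A V] [Module K V] [IsScalarTower A K V]
    (g : M →ₗ[A] V) [IsLocalizedModule S g] {r : ℕ} (s : Fin r → M)
    (b : Module.Basis (Fin r) K V) (hb : ∀ i, b i = g (s i)) (m : M) :
    ∃ a ∈ S, a • m ∈ Submodule.span A (Set.range s) := by
  obtain ⟨d, hd⟩ := IsLocalization.exist_integer_multiples S Finset.univ
    (fun i => b.repr (g m) i)
  choose c hc using fun i => hd i (Finset.mem_univ i)
  have hz : g ((d : A) • m) = g (∑ i, c i • s i) := by
    rw [map_smul, map_sum]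
    conv_lhs => rw [← b.sum_repr (g m), Finset.smul_sum]
    refine Finset.sum_congr rfl fun i _ => ?_
    rw [map_smul, ← hb i, ← algebraMap_smul K (c i) (b i), hc i, smul_assoc]
  obtain ⟨a, ha⟩ := IsLocalizedModule.exists_of_eq (S := S) hz
  refine ⟨a * d, S.mul_mem a.2 d.2, ?_⟩
  rw [mul_smul]
  have h1 : (a : A) • ((d : A) • m) = (a : A) • ∑ i, c i • s i := ha
  rw [h1]
  exact Submodule.smul_mem _ _ (Submodule.sum_mem _ fun i _ =>
    Submodule.smul_mem _ _ (Submodule.subset_span ⟨i, rfl⟩))

lemma alg_exists_smul_all {A M : Type*} [CommRing A] [AddCommGroup M] [Module A M]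
    [Module.Finite A M] (S : Submonoid A) (N : Submodule A M)
    (h : ∀ m : M, ∃ a ∈ S, a • m ∈ N) : ∃ f ∈ S, ∀ m : M, f • m ∈ N := by
  classical
  obtain ⟨T, hT⟩ := (Module.Finite.fg_top : (⊤ : Submodule A M).FG)
  choose a haS ha using h
  refine ⟨∏ t ∈ T, a t, S.prod_mem (fun t _ => haS t), ?_⟩
  intro m
  have hm : m ∈ Submodule.span A (T : Set M) := by rw [hT]; trivial
  have hle : Submodule.span A (T : Set M) ≤ N.comap (LinearMap.lsmul A M (∏ t ∈ T, a t)) := by
    rw [Submodule.span_le]
    intro t ht
    change (∏ t ∈ T, a t) • t ∈ N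
    obtain ⟨q, hq⟩ : a t ∣ ∏ t ∈ T, a t := Finset.dvd_prod_of_mem a ht
    rw [hq, mul_comm, mul_smul]
    exact N.smul_mem _ (ha t)
  exact hle hm

end Algebra

section Helpers
open CategoryTheory CategoryTheory.Limits AlgebraicGeometry TopologicalSpace Opposite
open Groth.Agent.H8

variable {X : Scheme.{u}} [IsIntegral X] (F : X.Modules) [F.IsQuasicoherent]
  {U : X.Opens} (hU : IsAffineOpen U) (hη : genericPoint X ∈ U)

include hU in
lemma span_germ_eq_top (S : Set Γ(F, U)) (hS : Submodule.span Γ(X, U) S = ⊤) :
    Submodule.span (X.presheaf.stalk (genericPoint X))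
      ((fun m => F.presheaf.germ U (genericPoint X) hη m) '' S) = ⊤ := by
  set P := Submodule.span (X.presheaf.stalk (genericPoint X))
    ((fun m => F.presheaf.germ U (genericPoint X) hη m) '' S) with hP
  have h1 : ∀ m : Γ(F, U), F.presheaf.germ U (genericPoint X) hη m ∈ P := by
    intro m
    have hm : m ∈ Submodule.span Γ(X, U) S := by rw [hS]; trivial
    induction hm using Submodule.span_induction with
    | mem x hx => exact Submodule.subset_span ⟨x, hx, rfl⟩
    | zero => rw [map_zero]; exact P.zero_mem
    | add x y _ _ hx hy => rw [map_add]; exact P.add_mem hx hy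
    | smul a x _ hx => rw [germ_smul]; exact P.smul_mem _ hx
  rw [eq_top_iff]
  intro t _
  obtain ⟨a, hηa, m, hm⟩ := exists_germ_smul_eq_germ F hU (genericPoint X) hη t
  have hu : IsUnit (X.presheaf.germ U (genericPoint X) hη a) :=
    (Scheme.mem_basicOpen _ _ _ hη).mp hηa
  obtain ⟨u, hu'⟩ := hu
  have : t = (↑u⁻¹ : X.presheaf.stalk (genericPoint X)) •
      F.presheaf.germ U (genericPoint X) hη m := by
    rw [← hm, ← hu', smul_smul, Units.inv_mul, one_smul]
  rw [this]
  exact P.smul_mem _ (h1 m)

include hU hη in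
lemma finite_stalk_generic [SheafOfModules.IsFiniteType (R := X.ringCatSheaf) F] :
    Module.Finite (X.presheaf.stalk (genericPoint X)) (F.presheaf.stalk (genericPoint X)) := by
  classical
  have hfin : Module.Finite Γ(X, U) Γ(F, U) := finite_sections_of_isAffineOpen F hU
  obtain ⟨S, hS⟩ := hfin.fg_top
  refine ⟨⟨S.image (fun m => F.presheaf.germ U (genericPoint X) hη m), ?_⟩⟩
  rw [Finset.coe_image]
  exact span_germ_eq_top F hU hη _ hS

include hU in
lemma exists_sections_basis [SheafOfModules.IsFiniteType (R := X.ringCatSheaf) F] :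
    ∃ (s : Fin (Module.finrank (X.presheaf.stalk (genericPoint X))
        (F.presheaf.stalk (genericPoint X))) → Γ(F, U))
      (b : Module.Basis (Fin (Module.finrank (X.presheaf.stalk (genericPoint X))
        (F.presheaf.stalk (genericPoint X)))) (X.presheaf.stalk (genericPoint X))
        (F.presheaf.stalk (genericPoint X))),
      ∀ i, b i = F.presheaf.germ U (genericPoint X) hη (s i) := by
  haveI := finite_stalk_generic F hU hη
  let v := Module.finBasis (X.functionField) (F.presheaf.stalk (genericPoint X))
  choose a ha m hm using fun i => exists_germ_smul_eq_germ F hU (genericPoint X) hη (v i)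
  have hw : ∀ i, IsUnit (X.presheaf.germ U (genericPoint X) hη (a i)) := fun i =>
    (Scheme.mem_basicOpen _ _ _ hη).mp (ha i)
  refine ⟨m, v.isUnitSMul hw, fun i => ?_⟩
  rw [Module.Basis.isUnitSMul_apply]
  exact hm i

set_option backward.isDefEq.respectTransparency false in
include hU hη in
theorem exists_basicOpen_free [SheafOfModules.IsFiniteType (R := X.ringCatSheaf) F] :
    ∃ f : Γ(X, U), genericPoint X ∈ X.basicOpen f ∧
      Nonempty (Γ(F, X.basicOpen f) ≃ₗ[Γ(X, X.basicOpen f)]
        (Fin (Module.finrank (X.presheaf.stalk (genericPoint X))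
          (F.presheaf.stalk (genericPoint X))) → Γ(X, X.basicOpen f))) := by
  letI := X.presheaf.algebra_section_stalk ⟨genericPoint X, hη⟩
  haveI := hU.isLocalization_stalk ⟨genericPoint X, hη⟩
  letI := moduleSectionStalk F (genericPoint X) hη
  haveI := isScalarTower_sectionStalk F (genericPoint X) hη
  haveI := isLocalizedModule_germₗ F hU (genericPoint X) hη
  haveI : Module.Finite Γ(X, U) Γ(F, U) := finite_sections_of_isAffineOpen F hU
  obtain ⟨s, b, hb⟩ := exists_sections_basis F hU hη
  obtain ⟨f, hfS, hf⟩ := alg_exists_smul_all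
    (hU.primeIdealOf ⟨genericPoint X, hη⟩).asIdeal.primeCompl
    (Submodule.span Γ(X, U) (Set.range s))
    (fun m => alg_exists_smul_mem_span
      (hU.primeIdealOf ⟨genericPoint X, hη⟩).asIdeal.primeCompl
      (germₗ F (genericPoint X) hη) s b hb m)
  have hV₀ : X.basicOpen f ≤ U := X.basicOpen_le f
  have hηV : genericPoint X ∈ X.basicOpen f :=
    (mem_basicOpen_iff_notMem_primeIdealOf hU (genericPoint X) hη f).mpr hfS
  refine ⟨f, hηV, ?_⟩
  let t : Fin (Module.finrank (X.presheaf.stalk (genericPoint X))
      (F.presheaf.stalk (genericPoint X))) → Γ(F, X.basicOpen f) :=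
    fun i => F.presheaf.map (homOfLE hV₀).op (s i)
  have hli : LinearIndependent Γ(X, X.basicOpen f) t := by
    rw [Fintype.linearIndependent_iff]
    intro c hc i
    have h1 := congrArg (F.presheaf.germ (X.basicOpen f) (genericPoint X) hηV) hc
    rw [map_sum, map_zero] at h1
    have h2 : ∑ i, X.presheaf.germ (X.basicOpen f) (genericPoint X) hηV (c i) • b i = 0 := by
      rw [← h1]
      refine Finset.sum_congr rfl fun i _ => ?_
      rw [germ_smul, hb i]
      congr 1
      exact (TopCat.Presheaf.germ_res_apply F.presheaf (homOfLE hV₀) (genericPoint X) hηV (s i)).symm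
    have h3 := (Fintype.linearIndependent_iff.mp b.linearIndependent) _ h2 i
    exact germ_injective_of_isIntegral X (genericPoint X) hηV (by rw [h3, map_zero])
  have hspan : ⊤ ≤ Submodule.span Γ(X, X.basicOpen f) (Set.range t) := by
    intro m _
    obtain ⟨k, m', hm'⟩ := exists_smul_eq_res hU F f m
    obtain ⟨c, hc⟩ := (Submodule.mem_span_range_iff_exists_fun _).mp (hf m')
    have hu : IsUnit (X.presheaf.map (homOfLE hV₀).op f) :=
      RingedSpace.isUnit_res_basicOpen X.toRingedSpace f
    have h1 : (X.presheaf.map (homOfLE hV₀).op f) ^ (k + 1) • m =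
        ∑ i, X.presheaf.map (homOfLE hV₀).op (c i) • t i := by
      rw [pow_succ', mul_smul, hm', ← Scheme.Modules.map_smul, ← hc, map_sum]
      refine Finset.sum_congr rfl fun i _ => ?_
      exact Scheme.Modules.map_smul F (homOfLE hV₀) (c i) (s i)
    obtain ⟨u, hu'⟩ := (hu.pow (k + 1)).exists_left_inv
    have h2 : m = u • ∑ i, X.presheaf.map (homOfLE hV₀).op (c i) • t i := by
      rw [← h1, smul_smul, hu', one_smul]
    rw [h2]
    exact Submodule.smul_mem _ _ (Submodule.sum_mem _ fun i _ =>
      Submodule.smul_mem _ _ (Submodule.subset_span ⟨i, rfl⟩))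
  exact ⟨(Module.Basis.mk hli hspan).equivFun⟩

end Helpers

/-- Let X be an integral scheme and F a quasi-coherent O_X-module of finite type, of rank r (r being the
finite dimension of the generic stalk of F as a vector space over the function field of X). Then one
can find an open subset U of X, not empty, on which the restriction of F is isomorphic to the free
module of rank r. -/
theorem result (X : Scheme.{u}) [IsIntegral X] (F : X.Modules) (hF : Coh.IsQCoh F)
    (hft : CohB1.IsFT F) :
    ∃ U : X.Opens, (U : Set ↥X).Nonempty ∧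
      Nonempty (F.restrict U.ι ≅ FlatMod.freeMod (↑U)
        (Module.finrank ↑(X.presheaf.stalk (genericPoint ↥X)) ↑(F.presheaf.stalk (genericPoint ↥X)))) := by
  have : F.IsQuasicoherent := hF
  have : SheafOfModules.IsFiniteType (R := X.ringCatSheaf) F := hft
  obtain ⟨U, hU, hηU, -⟩ := exists_isAffineOpen_mem_and_subset (x := genericPoint X)
    (U := (⊤ : X.Opens)) trivial
  obtain ⟨f, hηf, ⟨e⟩⟩ := exists_basicOpen_free F hU hηU
  exact ⟨X.basicOpen f, ⟨genericPoint X, hηf⟩,
    Groth.Agent.H8.nonempty_restrict_iso_freeMod (hU.basicOpen f) F _ e⟩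

end Groth.Agent.S8887
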