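import Groth.Statements.S8888
import Groth.Agent.H8.PullbackStalk

set_option autoImplicit false
universe u
open CategoryTheory CategoryTheory.Limits AlgebraicGeometry TopologicalSpace
open SDiv

namespace Groth.Agent.S8888

/-- Let f : X ⟶ Y be a dominant morphism of integral schemes and G a quasi-coherent O_Y-module. Then the
rank of f^*G on X, the dimension of its stalk at the generic point of X over the function field of
X, equals the rank of G on Y. -/
theorem result {X Y : Scheme.{u}} [IsIntegral X] [IsIntegral Y] (f : X ⟶ Y) [IsDominant f]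
    (G : Y.Modules) (hG : Coh.IsQCoh G) :
    Module.rank ↑(X.presheaf.stalk (genericPoint ↥X)) ↑(((Scheme.Modules.pullback f).obj G).presheaf.stalk (genericPoint ↥X)) =
      Module.rank ↑(Y.presheaf.stalk (genericPoint ↥Y)) ↑(G.presheaf.stalk (genericPoint ↥Y)) := by
  haveI : G.IsQuasicoherent := hG
  have hgen : f (genericPoint ↥X) = genericPoint ↥Y := by
    have h1 : IsGenericPoint (f (genericPoint ↥X)) (Set.univ : Set ↥Y) := by
      have hX : closure ({genericPoint ↥X} : Set ↥X) = Set.univ := genericPoint_closure _
      have hd : closure (Set.range f) = Set.univ := (Scheme.Hom.denseRange f).closure_range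
      have hsub : Set.range f ⊆ closure ({f (genericPoint ↥X)} : Set ↥Y) := by
        rintro _ ⟨x, rfl⟩
        have hx : x ∈ closure ({genericPoint ↥X} : Set ↥X) := by rw [hX]; trivial
        have := image_closure_subset_closure_image f.continuous (Set.mem_image_of_mem f hx)
        simpa using this
      show closure ({f (genericPoint ↥X)} : Set ↥Y) = Set.univ
      apply Set.eq_univ_of_univ_subset
      rw [← hd]
      exact closure_minimal hsub isClosed_closure
    exact h1.eq (genericPoint_spec ↥Y)
  obtain ⟨E⟩ := Groth.Agent.H8.nonempty_stalk_pullback_equiv f G (genericPoint ↥X)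
  letI := (f.stalkMap (genericPoint ↥X)).hom.toAlgebra
  rw [E.rank_eq]
  have hfree : ∀ y : ↥Y, y = genericPoint ↥Y →
      Module.Free ↑(Y.presheaf.stalk y) ↑(G.presheaf.stalk y) := by
    rintro _ rfl
    exact Module.Free.of_divisionRing _ _
  haveI := hfree _ hgen
  have h2 : ∀ y y' : ↥Y, y = y' →
      Module.rank ↑(Y.presheaf.stalk y) ↑(G.presheaf.stalk y) =
        Module.rank ↑(Y.presheaf.stalk y') ↑(G.presheaf.stalk y') := by
    rintro _ _ rfl
    rfl
  rw [Module.rank_baseChange, Cardinal.lift_id]
  exact h2 _ _ hgen

end Groth.Agent.S8888
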