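import Groth.Statements.S8889
import Groth.Agent.H8.AssPoints2

set_option autoImplicit false
universe u
open CategoryTheory CategoryTheory.Limits AlgebraicGeometry TopologicalSpace
open SDiv

namespace Groth.Agent.S8889

/-- Let X be a scheme and φ : F ⟶ G a morphism of quasi-coherent O_X-modules. Assume that for every
point x of X either the stalk map F_x → G_x is injective or x is not a weakly associated point of F.
Then φ is injective. -/
theorem result (X : Scheme.{u}) {F G : X.Modules} (φ : F ⟶ G) (hF : Coh.IsQCoh F)
    (hG : Coh.IsQCoh G)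
    (h : ∀ x : ↥X, Function.Injective ((TopCat.Presheaf.stalkFunctor AddCommGrpCat.{u} x).map (Scheme.Modules.Hom.mapPresheaf φ)) ∨ ¬ Curv2.IsWeakAssPoint F x) :
    Mono φ := by
  haveI : F.IsQuasicoherent := hF
  have hinj : ∀ W : X.Opens, Function.Injective (φ.app W) := by
    intro W
    rw [injective_iff_map_eq_zero]
    intro s hs
    by_contra hne
    have hex : ∃ (x : X) (hxW : x ∈ W), F.presheaf.germ W x hxW s ≠ 0 := by
      by_contra hcon
      push Not at hcon
      apply hne
      exact TopCat.Presheaf.section_ext ⟨F.presheaf, F.isSheaf⟩ W s 0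
        (fun x hx => by rw [map_zero]; exact hcon x hx)
    obtain ⟨x, hxW, hx⟩ := hex
    obtain ⟨_, ⟨V, hV, rfl⟩, hxV, hVW⟩ := X.isBasis_affineOpens.exists_subset_of_mem_open
      hxW W.2
    have hVW' : V ≤ W := hVW
    have hn : F.presheaf.map (homOfLE hVW').op s ≠ 0 := by
      intro h0
      apply hx
      rw [← TopCat.Presheaf.germ_res_apply F.presheaf (homOfLE hVW') x hxV s, h0, map_zero]
    obtain ⟨y, hyV, hyW, hgerm⟩ := H8.exists_isWeakAssPoint_germ_ne_zero hV F _ hn
    rcases h y with hy | hy
    · apply hgerm
      have hnat : (Scheme.Modules.Hom.mapPresheaf φ).app (Opposite.op V)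
          (F.presheaf.map (homOfLE hVW').op s) =
          G.presheaf.map (homOfLE hVW').op (φ.app W s) := by
        have := (Scheme.Modules.Hom.mapPresheaf φ).naturality (homOfLE hVW').op
        exact congrArg (fun f => f s) this
      have h1 : ((TopCat.Presheaf.stalkFunctor AddCommGrpCat.{u} y).map
          (Scheme.Modules.Hom.mapPresheaf φ))
          (F.presheaf.germ V y hyV (F.presheaf.map (homOfLE hVW').op s)) = 0 := by
        rw [TopCat.Presheaf.stalkFunctor_map_germ_apply, hnat, hs, map_zero, map_zero]
        rfl
      have h2 : ((TopCat.Presheaf.stalkFunctor AddCommGrpCat.{u} y).map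
          (Scheme.Modules.Hom.mapPresheaf φ)) 0 = 0 := map_zero _
      exact hy (h1.trans h2.symm)
    · exact hy hyW
  apply (Scheme.Modules.toPresheaf X).mono_of_mono_map
  haveI : ∀ W, Mono (((Scheme.Modules.toPresheaf X).map φ).app W) := by
    intro W
    rw [AddCommGrpCat.mono_iff_injective]
    exact hinj W.unop
  exact NatTrans.mono_of_mono_app _

end Groth.Agent.S8889
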