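import Groth.Statements.S8891
import Groth.Agent.S8890

set_option autoImplicit false
universe u
open CategoryTheory CategoryTheory.Limits AlgebraicGeometry TopologicalSpace
open SDiv

namespace Groth.Agent.S8891

open IsLocalRing

lemma eq_genericPoint_of_maximalIdeal_eq_bot (X : Scheme.{u}) [IsIntegral X] (x : X)
    (h : maximalIdeal (X.presheaf.stalk x) = ⊥) : x = genericPoint X := by
  have hη : genericPoint X ⤳ x := genericPoint_specializes x
  have hmem : genericPoint X ∈ Set.range (X.fromSpecStalk x) := by
    rw [Scheme.range_fromSpecStalk]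
    exact hη
  obtain ⟨q, hq⟩ := hmem
  have hq' : q = closedPoint (X.presheaf.stalk x) := by
    apply PrimeSpectrum.ext
    show q.asIdeal = maximalIdeal _
    have h1 : q.asIdeal ≤ maximalIdeal (X.presheaf.stalk x) := le_maximalIdeal q.2.ne_top
    rw [h] at h1 ⊢
    exact le_bot_iff.mp h1
  rw [← hq, hq', Scheme.fromSpecStalk_closedPoint]

lemma not_isAssPoint_of_ne_genericPoint (X : Scheme.{u}) [IsIntegral X] (G : X.Modules) (x : X)
    (htf : NoZeroSMulDivisors ↑(X.presheaf.stalk x) ↑(G.presheaf.stalk x))
    (hx : x ≠ genericPoint ↥X) : ¬ Curv2.IsAssPoint G x := by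
  intro hass
  obtain ⟨hprime, g, hg⟩ := hass
  by_cases hg0 : g = 0
  · subst hg0
    rw [Submodule.colon_singleton_zero, Ideal.radical_top] at hg
    exact hprime.ne_top hg
  · apply hx
    apply eq_genericPoint_of_maximalIdeal_eq_bot
    rw [hg]
    have hcolon : (⊥ : Submodule (X.presheaf.stalk x) (G.presheaf.stalk x)).colon {g} = ⊥ := by
      rw [eq_bot_iff]
      intro r hr
      rw [Submodule.mem_colon_singleton, Submodule.mem_bot] at hr
      rcases smul_eq_zero.mp hr with h | h
      · exact h ▸ Submodule.zero_mem _
      · exact absurd h hg0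
    rw [hcolon]
    exact (Ideal.isPrime_bot (α := X.presheaf.stalk x)).radical

/-- Let X be an integral locally Noetherian scheme and φ : F ⟶ G a morphism of quasi-coherent
O_X-modules with F coherent and G torsion free. Assume that for every point x either the stalk map
F_x → G_x is an isomorphism, or depth(F_x) ≥ 2 and x is not the generic point of X. Then φ is an
isomorphism. (The published statement allows the second alternative at the generic point as well;
since the zero module has infinite depth, F = 0 and G = O_X then satisfy every hypothesis while 0 →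
O_X is not an isomorphism. The general criterion this is a special case of requires x not to be
associated to G, which for torsion-free G ≠ 0 fails exactly at the generic point; so the generic
point is excluded from the second alternative here.) -/
theorem result (X : Scheme.{u}) [IsIntegral X] [IsLocallyNoetherian X] {F G : X.Modules}
    (φ : F ⟶ G) (hF : Coh.IsCoh F) (hG : Coh.IsQCoh G)
    (htf : ∀ x : ↥X, NoZeroSMulDivisors ↑(X.presheaf.stalk x) ↑(G.presheaf.stalk x))
    (h : ∀ x : ↥X, Function.Bijective ((TopCat.Presheaf.stalkFunctor AddCommGrpCat.{u} x).map (Scheme.Modules.Hom.mapPresheaf φ)) ∨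
      ((2 : ℕ∞) ≤ LocCoh.depth (X.presheaf.stalk x) (F.presheaf.stalk x) ∧ x ≠ genericPoint ↥X)) :
    IsIso φ := by
  refine Groth.Agent.S8890.result X φ hF hG (fun x => ?_)
  rcases h x with h1 | ⟨h1, h2⟩
  · exact Or.inl h1
  · exact Or.inr ⟨h1, not_isAssPoint_of_ne_genericPoint X G x (htf x) h2⟩

end Groth.Agent.S8891
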