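import Groth.Statements.S8893
import Groth.Agent.H79.RegImmStalkK
import Groth.Agent.H79.FlatKrull
import Groth.Agent.H79.RegKindRel
import Groth.Agent.H29.FiberStalkAt
set_option maxHeartbeats 400000
set_option linter.style.haveILetI false

set_option autoImplicit false
universe u
open CategoryTheory CategoryTheory.Limits AlgebraicGeometry TopologicalSpace
open SDiv

namespace Groth.Agent.S8893

/-- Let f : X ⟶ S be a morphism of schemes and i : Z ⟶ X a relative quasi-regular immersion (a
quasi-regular immersion with Z flat over S). If z is a point of Z such that O_{X, i z} is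
Noetherian, then f is flat at i z. -/
theorem result {Z X S : Scheme.{u}} (f : X ⟶ S) (i : Z ⟶ X)
    (hi : RegImm.IsRelRegularImmersion RegImm.Kind.quasi f i) (z : ↥Z) [IsNoetherianRing ↑(X.presheaf.stalk (i z))] :
    (f.stalkMap (i z)).hom.Flat := by
  obtain ⟨⟨himm, hreg⟩, hflat⟩ := hi
  haveI := himm
  haveI := hflat
  obtain ⟨rs, hrs, hker⟩ :=
    Groth.Agent.H79.RegImmStalkK.exists_seq_ker_stalkMap RegImm.Kind.quasi i z (hreg z)
  have hq : CAlgX.IsQuasiRegular rs.get := hrs
  have hsurj : Function.Surjective (i.stalkMap z).hom := i.stalkMap_surjective z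
  have hcomp : ((i ≫ f).stalkMap z).hom = (i.stalkMap z).hom.comp (f.stalkMap (i.base z)).hom :=
    Groth.Agent.H29.FiberStalkAt.stalkMap_comp_hom i f z
  have hfl : ((i ≫ f).stalkMap z).hom.Flat := Flat.stalkMap (i ≫ f) z
  letI : Algebra (S.presheaf.stalk (f (i z))) (X.presheaf.stalk (i z)) :=
    (f.stalkMap (i z)).hom.toAlgebra
  show Module.Flat (S.presheaf.stalk (f (i z))) (X.presheaf.stalk (i z))
  have hspan : Ideal.span (Set.range rs.get) = RingHom.ker (i.stalkMap z).hom := by
    rw [hker, Groth.Agent.H79.RegKindRel.range_get_eq]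
  have hJ : Ideal.span (Set.range rs.get) ≠ ⊤ := by
    rw [hspan]
    exact RingHom.ker_ne_top _
  refine Groth.Agent.H79.FlatKrull.flat_of_isQuasiRegular_of_flat_quot rs.get hq hJ ?_
  -- the quotient is `O_{Z,z}`, flat over `O_{S,s}`
  let e : (X.presheaf.stalk (i z) ⧸ Ideal.span (Set.range rs.get)) ≃+* Z.presheaf.stalk z :=
    (Ideal.quotEquivOfEq hspan).trans (RingHom.quotientKerEquivOfSurjective hsurj)
  have he : ∀ b : X.presheaf.stalk (i z), e (Ideal.Quotient.mk _ b) = (i.stalkMap z).hom b :=
    fun b => rfl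
  letI : Algebra (S.presheaf.stalk (f (i z))) (Z.presheaf.stalk z) :=
    ((i ≫ f).stalkMap z).hom.toAlgebra
  haveI : Module.Flat (S.presheaf.stalk (f (i z))) (Z.presheaf.stalk z) := hfl
  let eL : (X.presheaf.stalk (i z) ⧸ Ideal.span (Set.range rs.get)) ≃ₗ[S.presheaf.stalk (f (i z))]
      Z.presheaf.stalk z :=
    { e.toAddEquiv with
      map_smul' := by
        intro a x
        obtain ⟨b, rfl⟩ := Ideal.Quotient.mk_surjective x
        show e (a • Ideal.Quotient.mk _ b) = a • e (Ideal.Quotient.mk _ b)
        rw [Algebra.smul_def, Algebra.smul_def, map_mul]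
        congr 1
        show e (Ideal.Quotient.mk _ ((f.stalkMap (i z)).hom a)) = ((i ≫ f).stalkMap z).hom a
        rw [he, hcomp]
        rfl }
  exact Module.Flat.of_linearEquiv eL

end Groth.Agent.S8893
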