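import Groth.Statements.S8895
import Groth.Agent.H79.RelH1Sch

set_option autoImplicit false
universe u
open CategoryTheory CategoryTheory.Limits AlgebraicGeometry TopologicalSpace
open SDiv

namespace Groth.Agent.S8895

/-- Let f : X ⟶ S be locally of finite presentation and i : Z ⟶ X a relative H_1-regular immersion. Then
(1) there is an open subscheme U ⊆ X containing the image of Z such that U ⟶ S is flat, and (2) i is
a regular immersion and remains one after any base change S' ⟶ S. -/
theorem result {Z X S : Scheme.{u}} (f : X ⟶ S) [LocallyOfFinitePresentation f] (i : Z ⟶ X)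
    (hi : RegImm.IsRelRegularImmersion RegImm.Kind.h1 f i) :
    (∃ U : X.Opens, Set.range (fun z : ↥Z => i z) ⊆ (U : Set ↥X) ∧ Flat (U.ι ≫ f)) ∧
      RegImm.IsRegularImmersion RegImm.Kind.regular i ∧
      ∀ (S' : Scheme.{u}) (g : S' ⟶ S), RegImm.IsRegularImmersion RegImm.Kind.regular (pullback.snd i (pullback.fst f g)) := by
  obtain ⟨⟨himm, hat⟩, hflat⟩ := hi
  have hq : ∀ z : Z, RegImm.IsRegularImmersionAt RegImm.Kind.quasi i z := fun z =>
    Groth.Agent.H79.RelH1Sch.quasiAt_of_h1At i z (hat z)
  refine ⟨?_, ⟨himm, fun z =>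
    (Groth.Agent.H79.RelH1Sch.flat_and_regularAt_of_quasiRegularAt f i hflat z (hq z)).2⟩, ?_⟩
  · refine ⟨⟨{x | (f.stalkMap x).hom.Flat}, Groth.Agent.S0386.result f⟩, ?_, ?_⟩
    · rintro _ ⟨z, rfl⟩
      exact (Groth.Agent.H79.RelH1Sch.flat_and_regularAt_of_quasiRegularAt f i hflat z (hq z)).1
    · rw [Flat.iff_flat_stalkMap]
      intro w
      exact (Groth.Agent.H9.CMFlatSch.flat_stalkMap_comp_left _ f w).mpr w.2
  · intro S' g
    haveI := himm
    haveI := hflat
    have hX : IsPullback (pullback.fst f g) (pullback.snd f g) f g := IsPullback.of_hasPullback f g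
    have hZ : IsPullback (pullback.fst i (pullback.fst f g)) (pullback.snd i (pullback.fst f g)) i
        (pullback.fst f g) := IsPullback.of_hasPullback i (pullback.fst f g)
    have hpaste : IsPullback (pullback.fst i (pullback.fst f g))
        (pullback.snd i (pullback.fst f g) ≫ pullback.snd f g) (i ≫ f) g := hZ.paste_vert hX
    have hflat' : Flat (pullback.snd i (pullback.fst f g) ≫ pullback.snd f g) :=
      MorphismProperty.of_isPullback (P := @Flat) hpaste hflat
    refine ⟨inferInstance, fun z' => ?_⟩
    have hq' := Groth.Agent.H79.RegImmRel.regImmAt_relBaseChange f i g (pullback.fst f g)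
      (pullback.snd f g) hX (pullback.fst i (pullback.fst f g))
      (pullback.snd i (pullback.fst f g)) hZ RegImm.Kind.quasi (Or.inr rfl) z'
      (hq (pullback.fst i (pullback.fst f g) z'))
    exact (Groth.Agent.H79.RelH1Sch.flat_and_regularAt_of_quasiRegularAt (pullback.snd f g)
      (pullback.snd i (pullback.fst f g)) hflat' z' hq').2

end Groth.Agent.S8895
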