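import Groth.Statements.S8896
import Groth.Agent.H79.FibreRegSch
import Groth.Agent.H79.RegImmStalkK
import Groth.Agent.S5802

set_option autoImplicit false
universe u
open CategoryTheory CategoryTheory.Limits AlgebraicGeometry TopologicalSpace
open SDiv

namespace Groth.Agent.S8896

/-- Let φ : X ⟶ S be flat and locally of finite presentation and 𝓘 a quasi-coherent ideal sheaf on X
whose closed subscheme T is flat and locally of finite presentation over S. If for every point s of
S the fibre T_s ⟶ X_s (base change of T ⟶ X to the scheme-theoretic fibre) is a quasi-regular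
immersion, then T ⟶ X is a relative quasi-regular immersion. -/
theorem result {X S : Scheme.{u}} (φ : X ⟶ S) [Flat φ] [LocallyOfFinitePresentation φ]
    (𝓘 : X.IdealSheafData) [Flat (𝓘.subschemeι ≫ φ)] [LocallyOfFinitePresentation (𝓘.subschemeι ≫ φ)]
    (hfib : ∀ s : ↥S, RegImm.IsRegularImmersion RegImm.Kind.quasi (pullback.snd 𝓘.subschemeι (φ.fiberι s))) :
    RegImm.IsRelRegularImmersion RegImm.Kind.quasi φ 𝓘.subschemeι := by
  refine ⟨⟨inferInstance, fun z => ?_⟩, inferInstance⟩
  obtain ⟨w, hw1, hw2⟩ := Scheme.Pullback.exists_preimage_pullback (f := 𝓘.subschemeι)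
    (g := φ.fiberι (φ (𝓘.subschemeι z))) z (φ.asFiber (𝓘.subschemeι z))
    (φ.fiberι_asFiber (𝓘.subschemeι z)).symm
  haveI := Groth.Agent.H79.FibreRegSch.isLocallyNoetherian_fiber φ (φ (𝓘.subschemeι z))
  obtain ⟨rs, hrs, hker⟩ := Groth.Agent.H79.RegImmStalkK.exists_seq_ker_stalkMap
    RegImm.Kind.quasi (pullback.snd 𝓘.subschemeι (φ.fiberι (φ (𝓘.subschemeι z)))) w
    ((hfib (φ (𝓘.subschemeι z))).2 w)
  have hreg : RingTheory.Sequence.IsRegular _ rs :=
    Groth.Agent.H79.FibreRegSch.isRegular_of_isQuasiRegular_local rs hrs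
      (hker ▸ RingHom.ker_ne_top _)
  obtain ⟨U, hU, hzU, gs, hlen, hgs, hideal⟩ :=
    Groth.Agent.H79.FibreRegSch.exists_affine_regular_of_fibre φ 𝓘.subschemeι
      (φ (𝓘.subschemeι z)) (pullback.fst _ _) (pullback.snd _ _)
      (IsPullback.of_hasPullback _ _) w rs hreg hker
  rw [hw1] at hzU
  refine ⟨⟨U, hU⟩, hzU, inferInstance, gs, ?_, ?_⟩
  · show CAlgX.IsQuasiRegular gs.get
    exact Groth.Agent.S5802.result Γ(X, U) gs.length gs.get (by
      rw [List.ofFn_get]; exact hgs.toIsWeaklyRegular)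
  · rw [← hideal]
    exact (Scheme.Hom.ker_apply 𝓘.subschemeι ⟨U, hU⟩).symm

end Groth.Agent.S8896
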