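import Groth.Statements.S8898
import Groth.Agent.H9.BlowUpPullback

set_option autoImplicit false
universe u
open CategoryTheory CategoryTheory.Limits AlgebraicGeometry TopologicalSpace
open SDiv

namespace Groth.Agent.S8898

/-- Let X be a scheme, 𝓘 a quasi-coherent ideal sheaf and b : X' ⟶ X a blowing up of X in 𝓘. Then the
pullback b⁻¹D is defined for every effective Cartier divisor D ⊆ X (the inverse image ideal of the
ideal of D is again the ideal of an effective Cartier divisor), and pullbacks of meromorphic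
functions are defined for b (b carries regular sections of O_X, i.e. sections whose germs are
nonzerodivisors, to regular sections of O_{X'}). -/
theorem result {X X' : Scheme.{u}} (𝓘 : X.IdealSheafData) (b : X' ⟶ X) (hb : BlowUp.IsBlowUp b 𝓘) :
    (∀ 𝓓 : X.IdealSheafData, BlowUp.IsEffCartierIdeal 𝓓 → BlowUp.IsEffCartierIdeal (𝓓.comap b)) ∧
      ∀ (U : X.Opens) (s : Γ(X, U)), s ∈ Mero.regSub X U → b.app U s ∈ Mero.regSub X' (b ⁻¹ᵁ U) := by
  refine ⟨fun 𝓓 h𝓓 => Groth.Agent.H9.isEffCartierIdeal_comap_of_isBlowUp 𝓘 𝓓 b hb h𝓓, ?_⟩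
  intro U s hs
  have hiso : IsIso (b ∣_ 𝓘.support.compl) :=
    Groth.Agent.H9.isIso_morphismRestrict_compl_of_isBlowUp 𝓘 b hb
  rintro ⟨x', hx'⟩
  change X'.presheaf.germ (b ⁻¹ᵁ U) x' hx' (b.app U s) ∈ _
  obtain ⟨W', hx'W', hW'U, e, he, hEW'⟩ :=
    Groth.Agent.H9.exists_affine_isPrincipalNZD hb.1 (b ⁻¹ᵁ U) x' hx'
  have hW' : IsAffineOpen W'.1 := W'.2
  have hσ : X'.presheaf.map (homOfLE hW'U).op (b.app U s) ∈ nonZeroDivisors Γ(X', W'.1) := by
    rw [mem_nonZeroDivisors_iff_right]
    intro z hz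
    have hres : X'.presheaf.map (homOfLE (X'.basicOpen_le e)).op z = 0 := by
      apply Groth.Agent.H9.eq_zero_of_germ'
      intro y hy
      rw [TopCat.Presheaf.germ_res_apply]
      have hyW' : y ∈ W'.1 := X'.basicOpen_le e hy
      have hbys : b y ∉ 𝓘.support := by
        intro hmem
        have hmem' : y ∈ (𝓘.comap b).support := by
          rw [Scheme.IdealSheafData.support_comap]
          exact hmem
        rw [Scheme.IdealSheafData.mem_support_iff_of_mem (U := W') hyW', hEW',
          Scheme.zeroLocus_span, Scheme.mem_zeroLocus_iff] at hmem'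
        exact hmem' e rfl hy
      have hbij := Groth.Agent.H9.stalkMap_bijective_of_isIso_restrict b 𝓘.support.compl y hbys
      have hyU : b y ∈ U := hW'U hyW'
      have h1 : X.presheaf.germ U (b y) hyU s ∈ nonZeroDivisors (X.presheaf.stalk (b y)) :=
        hs ⟨b y, hyU⟩
      have h2 : X'.presheaf.germ W'.1 y hyW' (X'.presheaf.map (homOfLE hW'U).op (b.app U s)) =
          b.stalkMap y (X.presheaf.germ U (b y) hyU s) := by
        rw [TopCat.Presheaf.germ_res_apply]
        exact (Scheme.Hom.germ_stalkMap_apply b U y hyU s).symm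
      have h3 : X'.presheaf.germ W'.1 y hyW' z *
          X'.presheaf.germ W'.1 y hyW' (X'.presheaf.map (homOfLE hW'U).op (b.app U s)) = 0 := by
        rw [← map_mul, hz, map_zero]
      obtain ⟨w, hw⟩ := hbij.2 (X'.presheaf.germ W'.1 y hyW' z)
      rw [h2, ← hw, ← map_mul] at h3
      have h4 : w * X.presheaf.germ U (b y) hyU s = 0 := hbij.1 (h3.trans (map_zero _).symm)
      have h5 : w = 0 := (mem_nonZeroDivisors_iff_right.mp h1) w h4
      rw [← hw, h5, map_zero]
    have hloc := hW'.isLocalization_basicOpen e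
    have h0 : algebraMap Γ(X', W'.1) Γ(X', X'.basicOpen e) z = 0 := hres
    obtain ⟨m, hm⟩ := (IsLocalization.map_eq_zero_iff (Submonoid.powers e) _ z).mp h0
    obtain ⟨n, hn⟩ := (Submonoid.mem_powers_iff _ _).mp m.2
    rw [← hn] at hm
    exact (mem_nonZeroDivisors_iff_left.mp (pow_mem he n)) z hm
  have hfin := Groth.Agent.H9.germ_mem_nonZeroDivisors hW' hσ x' hx'W'
  rw [TopCat.Presheaf.germ_res_apply] at hfin
  exact hfin

end Groth.Agent.S8898
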