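import Groth.Statements.S8899
import Groth.Agent.H8.PullbackStalk

set_option autoImplicit false
universe u
open CategoryTheory CategoryTheory.Limits AlgebraicGeometry TopologicalSpace
open SDiv

namespace Groth.Agent.S8899

open TensorProduct in
/-- For a flat `A`-algebra `B`, the annihilator of `1 ⊗ m` in `B ⊗[A] M` is the extension of the
annihilator of `m`. -/
theorem ker_toSpanSingleton_one_tmul {A B : Type u} [CommRing A] [CommRing B] [Algebra A B]
    [Module.Flat A B] (M : Type u) [AddCommGroup M] [Module A M] (m : M) :
    LinearMap.ker (LinearMap.toSpanSingleton B (B ⊗[A] M) (1 ⊗ₜ m)) =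
      Ideal.map (algebraMap A B) (LinearMap.ker (LinearMap.toSpanSingleton A M m)) := by
  apply le_antisymm
  · intro b hb
    rw [LinearMap.mem_ker, LinearMap.toSpanSingleton_apply] at hb
    set φ := LinearMap.toSpanSingleton A M m with hφ
    have h1 : (b ⊗ₜ[A] (1 : A)) ∈ LinearMap.ker (AlgebraTensorModule.lTensor B B φ) := by
      rw [LinearMap.mem_ker, AlgebraTensorModule.lTensor_tmul]
      have : φ 1 = m := by simp [hφ]
      rw [this]
      rw [TensorProduct.smul_tmul', smul_eq_mul, mul_one] at hb
      exact hb
    rw [Module.Flat.ker_lTensor_eq] at h1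
    obtain ⟨y, hy⟩ := h1
    have h2 : ∀ y : B ⊗[A] (LinearMap.ker φ),
        (AlgebraTensorModule.rid A B B)
          (AlgebraTensorModule.lTensor B B (LinearMap.ker φ).subtype y) ∈
          Ideal.map (algebraMap A B) (LinearMap.ker φ) := by
      intro y
      induction y using TensorProduct.induction_on with
      | zero => simp
      | tmul c a =>
        rw [AlgebraTensorModule.lTensor_tmul, AlgebraTensorModule.rid_tmul]
        rw [Algebra.smul_def]
        exact Ideal.mul_mem_right _ _ (Ideal.mem_map_of_mem _ a.2)
      | add u v hu hv =>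
        rw [map_add, map_add]
        exact Ideal.add_mem _ hu hv
    have h3 := h2 y
    rw [hy, AlgebraTensorModule.rid_tmul, one_smul] at h3
    exact h3
  · rw [Ideal.map_le_iff_le_comap]
    intro a ha
    rw [LinearMap.mem_ker, LinearMap.toSpanSingleton_apply] at ha
    rw [Ideal.mem_comap, LinearMap.mem_ker, LinearMap.toSpanSingleton_apply,
      TensorProduct.smul_tmul', algebraMap_smul, TensorProduct.smul_tmul, ha,
      TensorProduct.tmul_zero]

theorem radical_map_eq_of_radical_eq {A B : Type u} [CommRing A] [CommRing B] (φ : A →+* B)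
    (I J : Ideal A) (h : I.radical = J.radical) : (I.map φ).radical = (J.map φ).radical := by
  have key : ∀ I J : Ideal A, I.radical = J.radical → (I.map φ).radical ≤ (J.map φ).radical := by
    intro I J h
    rw [Ideal.radical_le_radical_iff, Ideal.map_le_iff_le_comap]
    intro a ha
    have h1 : a ∈ J.radical := h ▸ Ideal.le_radical ha
    obtain ⟨n, hn⟩ := h1
    exact ⟨n, by rw [← map_pow]; exact Ideal.mem_map_of_mem _ hn⟩
  exact le_antisymm (key I J h) (key J I h.symm)


/-- Let f : X ⟶ S be a morphism of schemes, G a quasi-coherent O_S-module and x a point of X over s = f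
x such that f is flat at x, no point of f⁻¹(s) other than x specialises to x (x is the generic point
of some irreducible component of the fibre X_s), and s is weakly associated to G. Then x is weakly
associated to f^*G. -/
theorem result {X S : Scheme.{u}} (f : X ⟶ S) (G : S.Modules) (hG : Coh.IsQCoh G)
    (x : ↥X) (hfl : (f.stalkMap x).hom.Flat) (hgen : ∀ y : ↥X, f y = f x → y ⤳ x → y = x)
    (hs : Curv2.IsWeakAssPoint G (f x)) : Curv2.IsWeakAssPoint ((Scheme.Modules.pullback f).obj G) x := by
  haveI : G.IsQuasicoherent := hG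
  obtain ⟨m, hm⟩ := hs
  obtain ⟨E⟩ := Groth.Agent.H8.nonempty_stalk_pullback_equiv f G x
  letI := (f.stalkMap x).hom.toAlgebra
  haveI : Module.Flat (S.presheaf.stalk (f x)) (X.presheaf.stalk x) := hfl
  refine ⟨E.symm (1 ⊗ₜ m), ?_⟩
  have h1 : LinearMap.ker (LinearMap.toSpanSingleton (X.presheaf.stalk x)
      (((Scheme.Modules.pullback f).obj G).presheaf.stalk x) (E.symm (1 ⊗ₜ m))) =
      LinearMap.ker (LinearMap.toSpanSingleton (X.presheaf.stalk x)
        (TensorProduct (S.presheaf.stalk (f x)) (X.presheaf.stalk x) (G.presheaf.stalk (f x)))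
        (1 ⊗ₜ m)) := by
    ext b
    rw [LinearMap.mem_ker, LinearMap.mem_ker, LinearMap.toSpanSingleton_apply,
      LinearMap.toSpanSingleton_apply, ← _root_.map_smul, LinearEquiv.map_eq_zero_iff]
  rw [h1, ker_toSpanSingleton_one_tmul,
    radical_map_eq_of_radical_eq _ _ (IsLocalRing.maximalIdeal (S.presheaf.stalk (f x)))
      (by rw [hm, Ideal.radical_eq_iff.mpr (IsLocalRing.maximalIdeal.isMaximal _).isPrime.isRadical])]
  have hle : Ideal.map (algebraMap (S.presheaf.stalk (f x)) (X.presheaf.stalk x))
      (IsLocalRing.maximalIdeal (S.presheaf.stalk (f x))) ≤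
      IsLocalRing.maximalIdeal (X.presheaf.stalk x) := by
    rw [Ideal.map_le_iff_le_comap]
    intro a ha
    rw [Ideal.mem_comap, IsLocalRing.mem_maximalIdeal, mem_nonunits_iff]
    intro hu
    have : IsUnit a := isUnit_of_map_unit (f.stalkMap x).hom a hu
    exact (IsLocalRing.mem_maximalIdeal a).mp ha this
  apply le_antisymm
  · exact (Ideal.IsPrime.radical_le_iff (IsLocalRing.maximalIdeal.isMaximal _).isPrime).mpr hle
  · rw [Ideal.radical_eq_sInf]
    refine le_sInf ?_
    rintro q ⟨hq, hqp⟩
    have hqeq : q = IsLocalRing.maximalIdeal (X.presheaf.stalk x) := by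
      let q' : Spec (X.presheaf.stalk x) := ⟨q, hqp⟩
      have hy : X.fromSpecStalk x q' ⤳ x :=
        (Set.ext_iff.mp (Scheme.range_fromSpecStalk (x := x)) _).mp ⟨q', rfl⟩
      have hfy : f (X.fromSpecStalk x q') = f x := by
        have h2 := congrArg (fun g => g q') (Scheme.SpecMap_stalkMap_fromSpecStalk (f := f) (x := x))
        simp only [Scheme.Hom.comp_apply] at h2
        rw [← h2]
        have h3 : Spec.map (f.stalkMap x) q' =
            IsLocalRing.closedPoint (S.presheaf.stalk (f x)) := by
          apply PrimeSpectrum.ext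
          show Ideal.comap (f.stalkMap x).hom q = IsLocalRing.maximalIdeal _
          have hprime : (Ideal.comap (f.stalkMap x).hom q).IsPrime := Ideal.comap_isPrime _ _
          exact ((IsLocalRing.maximalIdeal.isMaximal _).eq_of_le hprime.ne_top
            (Ideal.map_le_iff_le_comap.mp hq)).symm
        rw [h3, Scheme.fromSpecStalk_closedPoint]
      have hyx := hgen _ hfy hy
      have hinj := (X.fromSpecStalk x).isEmbedding.injective
      have h4 : q' = IsLocalRing.closedPoint (X.presheaf.stalk x) := by
        apply hinj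
        rw [hyx, Scheme.fromSpecStalk_closedPoint]
      exact congrArg PrimeSpectrum.asIdeal h4
    rw [hqeq]

end Groth.Agent.S8899
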