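import Groth.Statements.S8902
import Mathlib.RingTheory.Flat.TorsionFree

set_option autoImplicit false
universe u
open CategoryTheory CategoryTheory.Limits AlgebraicGeometry TopologicalSpace
open SDiv

namespace Groth.Agent.S8902

/-- Let f : X ⟶ Y be a flat morphism of schemes. Then pullbacks of meromorphic functions are defined for
f: for every open U ⊆ Y and every regular section s of O_Y over U, the pulled-back section of O_X
over f⁻¹U is regular. -/
theorem result {X Y : Scheme.{u}} (f : X ⟶ Y) [Flat f] (U : Y.Opens) (s : Γ(Y, U))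
    (hs : s ∈ Mero.regSub Y U) : f.app U s ∈ Mero.regSub X (f ⁻¹ᵁ U) := by
  intro x
  have hx : f x.1 ∈ U := x.2
  have hflat : (f.stalkMap x.1).hom.Flat := (Flat.iff_flat_stalkMap f).mp inferInstance x.1
  have h1 := hs ⟨f x.1, hx⟩
  have h2 : X.presheaf.germ (f ⁻¹ᵁ U) x.1 x.2 (f.app U s) =
      f.stalkMap x.1 (Y.presheaf.germ U (f x.1) hx s) :=
    (Scheme.Hom.germ_stalkMap_apply f U x.1 hx s).symm
  change X.presheaf.germ (f ⁻¹ᵁ U) x.1 x.2 (f.app U s) ∈ _
  rw [h2]
  let _ := (f.stalkMap x.1).hom.toAlgebra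
  have hreg : IsSMulRegular (X.presheaf.stalk x.1) (Y.presheaf.germ U (f x.1) hx s) :=
    @Module.Flat.isSMulRegular_of_nonZeroDivisors _ _ _ _ _ _ h1 hflat
  rw [mem_nonZeroDivisors_iff_right]
  intro z hz
  apply hreg
  change (Y.presheaf.germ U (f x.1) hx) s • z = (Y.presheaf.germ U (f x.1) hx) s • (0 : X.presheaf.stalk x.1)
  rw [smul_zero, Algebra.smul_def, mul_comm]
  exact hz

end Groth.Agent.S8902
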