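import Groth.Statements.S8903
import Groth.Agent.H95.AssGen
import Groth.Agent.H95.IdealSheafLocal
import Groth.Agent.H8.QCohQcqs

set_option autoImplicit false
universe u
open CategoryTheory CategoryTheory.Limits AlgebraicGeometry TopologicalSpace
open SDiv

namespace Groth.Agent.S8903


open Groth.Agent.H18.TensorGen (IsGen exists_isGen)
open Groth.Agent.H95.MeroData (germ_smul_eq_zero)
open Groth.Agent.H95.AssGen (genAt_of_isGen)
open Groth.Agent.H95.ReducedGeneric (IsGenPt exists_generic_generization eq_of_specializes_generic)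
open Groth.Agent.H95.StalkPrimes (exists_generization)

variable {X : Scheme.{u}}

lemma mem_denomIdeal (L : X.Modules) (s : Γ(Mero.merMod L, ⊤)) (U : X.Opens) (g : Γ(X, U)) :
    g ∈ Mero.denomIdeal L s U ↔ ∃ m : Γ(L, U), ∀ x : U,
      X.presheaf.germ U x.1 x.2 g • s.1 ⟨x.1, Opens.mem_top x.1⟩ =
        LocalizedModule.mkLinearMap (Mero.regStalk X x.1) _ (L.presheaf.germ U x.1 x.2 m) :=
  Iff.rfl

/-- nonzerodivisors act injectively on the stalks of an invertible module. -/
lemma smul_eq_zero_of_nzd {L : X.Modules} (hL : PicF.IsInvertible L) (y : X)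
    (u : X.presheaf.stalk y) (hu : u ∈ nonZeroDivisors (X.presheaf.stalk y))
    (t : L.presheaf.stalk y) (h : u • t = 0) : t = 0 := by
  obtain ⟨V, τ, hyV, hτ⟩ := exists_isGen hL y
  obtain ⟨r, hr⟩ := genAt_of_isGen hτ y hyV t
  rw [hr, ← mul_smul] at h
  have h1 := germ_smul_eq_zero hτ y hyV _ h
  have h2 : r = 0 := (mem_nonZeroDivisors_iff_right.mp hu) r (by rw [mul_comm]; exact h1)
  rw [hr, h2, zero_smul]

lemma isNilpotent_of_isGenPt {ξ : X} (hgen : IsGenPt ξ) (a : X.presheaf.stalk ξ)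
    (ha : a ∈ IsLocalRing.maximalIdeal (X.presheaf.stalk ξ)) : IsNilpotent a := by
  rw [nilpotent_iff_mem_prime]
  intro Q hQ
  haveI := hQ
  obtain ⟨z, hz, hzQ⟩ := exists_generization ξ Q
  have hzξ := eq_of_specializes_generic hgen hz
  subst hzξ
  have hrefl : X.presheaf.stalkSpecializes hz = 𝟙 _ := X.presheaf.stalkSpecializes_refl z
  rw [hrefl] at hzQ
  rw [← hzQ]
  exact ha

/-- A meromorphic section `G s - Mm / 1` over a quasi-compact open vanishing on `D(f)` is killed by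
a power of `f`. -/
lemma exists_pow_of_vanish {L : X.Modules} (hL : PicF.IsInvertible L) (s : Γ(Mero.merMod L, ⊤))
    {U : X.Opens} (hU : IsCompact (U : Set X)) (f G : Γ(X, U)) (Mm : Γ(L, U))
    (h : ∀ (x : X) (hx : x ∈ U), x ∈ X.basicOpen f →
      X.presheaf.germ U x hx G • s.1 ⟨x, Opens.mem_top x⟩ =
        (LocalizedModule.mk (L.presheaf.germ U x hx Mm) 1 : Mero.MStalk L x)) :
    ∃ N : ℕ, ∀ (x : X) (hx : x ∈ U),
      X.presheaf.germ U x hx (f ^ N * G) • s.1 ⟨x, Opens.mem_top x⟩ =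
        (LocalizedModule.mk (L.presheaf.germ U x hx (f ^ N • Mm)) 1 : Mero.MStalk L x) := by
  classical
  haveI : L.IsQuasicoherent := Groth.Agent.H18.AmpleBasis.isQuasicoherent_of_isInvertible hL
  have hadd : ∀ (N k : ℕ) (x : X) (hx : x ∈ U),
      X.presheaf.germ U x hx (f ^ N * G) • s.1 ⟨x, Opens.mem_top x⟩ =
        (LocalizedModule.mk (L.presheaf.germ U x hx (f ^ N • Mm)) 1 : Mero.MStalk L x) →
      X.presheaf.germ U x hx (f ^ (N + k) * G) • s.1 ⟨x, Opens.mem_top x⟩ =
        (LocalizedModule.mk (L.presheaf.germ U x hx (f ^ (N + k) • Mm)) 1 : Mero.MStalk L x) := by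
    intro N k x hx h1
    have e1 : f ^ (N + k) * G = f ^ k * (f ^ N * G) := by ring
    have e2 : f ^ (N + k) • Mm = f ^ k • (f ^ N • Mm) := by
      rw [← mul_smul, ← pow_add, add_comm]
    rw [e1, e2, map_mul, mul_smul, h1, Mero.germ_smul L U x hx (f ^ k) (f ^ N • Mm),
      LocalizedModule.smul'_mk]
  have hloc : ∀ (x : X) (hxU : x ∈ U), ∃ (W : X.Opens) (_ : x ∈ W) (N : ℕ),
      ∀ (y : X) (_ : y ∈ W) (hyU : y ∈ U),
        X.presheaf.germ U y hyU (f ^ N * G) • s.1 ⟨y, Opens.mem_top y⟩ =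
          (LocalizedModule.mk (L.presheaf.germ U y hyU (f ^ N • Mm)) 1 : Mero.MStalk L y) := by
    intro x hxU
    obtain ⟨W₀, hxW₀, i, a₀, b₀, w⟩ := s.2 ⟨x, Opens.mem_top x⟩
    obtain ⟨W, hW0, hxW, hWle⟩ := Opens.isBasis_iff_nbhd.mp X.isBasis_affineOpens
      (show x ∈ W₀ ⊓ U from ⟨hxW₀, hxU⟩)
    have hW : IsAffineOpen W := hW0
    have hWW₀ : W ≤ W₀ := hWle.trans inf_le_left
    have hWU : W ≤ U := hWle.trans inf_le_right
    obtain ⟨a, ha⟩ : ∃ a : Γ(L, W), a = L.presheaf.map (homOfLE hWW₀).op a₀ := ⟨_, rfl⟩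
    obtain ⟨b, hb⟩ : ∃ b : Γ(X, W), b = X.presheaf.map (homOfLE hWW₀).op b₀.1 := ⟨_, rfl⟩
    obtain ⟨G', hG'⟩ : ∃ G' : Γ(X, W), G' = X.presheaf.map (homOfLE hWU).op G := ⟨_, rfl⟩
    obtain ⟨f', hf'⟩ : ∃ f' : Γ(X, W), f' = X.presheaf.map (homOfLE hWU).op f := ⟨_, rfl⟩
    obtain ⟨M', hM'⟩ : ∃ M' : Γ(L, W), M' = L.presheaf.map (homOfLE hWU).op Mm := ⟨_, rfl⟩
    have hsW : ∀ (y : X) (hyW : y ∈ W), s.1 ⟨y, Opens.mem_top y⟩ =
        (LocalizedModule.mk (L.presheaf.germ W y hyW a)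
          (Mero.regGerm (⟨y, hWW₀ hyW⟩ : W₀) b₀) : Mero.MStalk L y) := by
      intro y hyW
      have h1 : s.1 ⟨y, i.le (hWW₀ hyW)⟩ =
          LocalizedModule.mk (L.presheaf.germ W₀ y (hWW₀ hyW) a₀)
            (Mero.regGerm ⟨y, hWW₀ hyW⟩ b₀) := w ⟨y, hWW₀ hyW⟩
      refine h1.trans (Mero.mk_congr ?_ rfl)
      rw [ha, TopCat.Presheaf.germ_res_apply]
    have hgb : ∀ (y : X) (hyW : y ∈ W), X.presheaf.germ W y hyW b =
        ((Mero.regGerm (⟨y, hWW₀ hyW⟩ : W₀) b₀ : Mero.regStalk X y) : X.presheaf.stalk y) := by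
      intro y hyW
      rw [hb, TopCat.Presheaf.germ_res_apply]
    have hgG : ∀ (y : X) (hyW : y ∈ W), X.presheaf.germ U y (hWU hyW) G =
        X.presheaf.germ W y hyW G' := by
      intro y hyW
      rw [hG', TopCat.Presheaf.germ_res_apply]
    have hgf : ∀ (y : X) (hyW : y ∈ W), X.presheaf.germ U y (hWU hyW) f =
        X.presheaf.germ W y hyW f' := by
      intro y hyW
      rw [hf', TopCat.Presheaf.germ_res_apply]
    have hgM : ∀ (y : X) (hyW : y ∈ W), L.presheaf.germ U y (hWU hyW) Mm =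
        L.presheaf.germ W y hyW M' := by
      intro y hyW
      rw [hM', TopCat.Presheaf.germ_res_apply]
    obtain ⟨μ, hμ⟩ : ∃ μ : Γ(L, W), μ = G' • a - b • M' := ⟨_, rfl⟩
    have hgμ : ∀ (y : X) (hyW : y ∈ W), L.presheaf.germ W y hyW μ =
        X.presheaf.germ W y hyW G' • L.presheaf.germ W y hyW a -
          X.presheaf.germ W y hyW b • L.presheaf.germ W y hyW M' := by
      intro y hyW
      rw [hμ, map_sub, Mero.germ_smul, Mero.germ_smul]
    have hres : L.presheaf.map (homOfLE (X.basicOpen_le f')).op μ = 0 := by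
      refine TopCat.Presheaf.section_ext ⟨L.presheaf, L.isSheaf⟩ (X.basicOpen f') _ 0
        (fun y hy => ?_)
      show L.presheaf.germ (X.basicOpen f') y hy
          (L.presheaf.map (homOfLE (X.basicOpen_le f')).op μ) =
        L.presheaf.germ (X.basicOpen f') y hy 0
      rw [map_zero, TopCat.Presheaf.germ_res_apply L.presheaf (homOfLE (X.basicOpen_le f')) y hy μ]
      have hyW : y ∈ W := X.basicOpen_le f' hy
      have hyf : y ∈ X.basicOpen f := by
        have hu : IsUnit (X.presheaf.germ W y hyW f') := (Scheme.mem_basicOpen X f' y hyW).mp hy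
        rw [← hgf y hyW] at hu
        exact (Scheme.mem_basicOpen X f y (hWU hyW)).mpr hu
      have h1 := h y (hWU hyW) hyf
      rw [hsW y hyW, LocalizedModule.smul'_mk, hgG y hyW, hgM y hyW] at h1
      obtain ⟨u, hu⟩ := LocalizedModule.mk_eq.mp h1
      rw [one_smul, Submonoid.smul_def, Submonoid.smul_def, Submonoid.smul_def, ← hgb y hyW] at hu
      have h2 : (u : X.presheaf.stalk y) • L.presheaf.germ W y hyW μ = 0 := by
        rw [hgμ y hyW, smul_sub, hu, sub_self]
      exact smul_eq_zero_of_nzd hL y _ (Mero.regStalk_le_nonZeroDivisors y u.2) _ h2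
    obtain ⟨N, hN⟩ :=
      Groth.Agent.H8.exists_pow_smul_eq_zero_of_isCompact L hW.isCompact f' μ hres
    refine ⟨W, hxW, N, fun y hyW hyU => ?_⟩
    have hN' : X.presheaf.germ W y hyW f' ^ N • L.presheaf.germ W y hyW μ = 0 := by
      rw [← map_pow, ← Mero.germ_smul, hN, map_zero]
    rw [hgμ y hyW, smul_sub, sub_eq_zero] at hN'
    have e1 : X.presheaf.germ U y hyU (f ^ N * G) =
        X.presheaf.germ W y hyW f' ^ N * X.presheaf.germ W y hyW G' := by
      rw [map_mul, map_pow, ← hgf y hyW, ← hgG y hyW]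
    have e2 : L.presheaf.germ U y hyU (f ^ N • Mm) =
        X.presheaf.germ W y hyW f' ^ N • L.presheaf.germ W y hyW M' := by
      rw [Mero.germ_smul, map_pow, ← hgf y hyW, ← hgM y hyW]
    rw [e1, e2, hsW y hyW, LocalizedModule.smul'_mk]
    refine LocalizedModule.mk_eq.mpr ⟨1, ?_⟩
    rw [one_smul, one_smul, one_smul, Submonoid.smul_def, ← hgb y hyW, mul_smul, hN',
      smul_comm]
  choose W hxW N hN using hloc
  obtain ⟨t, ht⟩ := hU.elim_nhds_subcover' (fun x hx => ((W x hx : X.Opens) : Set X))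
    (fun x hx => (W x hx).2.mem_nhds (hxW x hx))
  obtain ⟨N₀, hN₀⟩ : ∃ N₀ : ℕ, N₀ = ∑ x ∈ t, N x.1 x.2 := ⟨_, rfl⟩
  refine ⟨N₀, fun y hyU => ?_⟩
  obtain ⟨x, hxt, hyW⟩ := Set.mem_iUnion₂.mp (ht hyU)
  have hle : N x.1 x.2 ≤ N₀ := by
    rw [hN₀]
    exact Finset.single_le_sum (f := fun x : ↥(U : Set X) => N x.1 x.2)
      (fun _ _ => Nat.zero_le _) hxt
  obtain ⟨k, hk⟩ := Nat.exists_eq_add_of_le hle
  rw [hk]
  exact hadd (N x.1 x.2) k y hyU (hN x.1 x.2 y hyW hyU)

/-- Suppose X is a scheme, L is an O_X-module that is invertible, and s is a meromorphic section of L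
which is regular. Then the ideal of denominators of s, U ↦ {f ∈ O_X(U) | f·s ∈ L(U)}, is a
quasi-coherent ideal sheaf: there is a quasi-coherent ideal sheaf I whose ideal on every affine open
U is the ideal of denominators over U; and the closed subset of X cut out by I (the support of
O_X/I) is nowhere dense. The published statement also asserts that the cokernel of the map I → L
given by s is supported on a closed nowhere dense subset; this row does not state that part. -/
theorem result (X : Scheme.{u}) (L : X.Modules) (hL : PicF.IsInvertible L)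
    (s : Γ(Mero.merMod L, ⊤)) (hs : Mero.IsRegularMero L s) :
    ∃ I : X.IdealSheafData, (∀ U : X.affineOpens, I.ideal U = Mero.denomIdeal L s U.1) ∧
      interior (I.support : Set ↥X) = ∅ := by
  classical
  haveI : L.IsQuasicoherent := Groth.Agent.H18.AmpleBasis.isQuasicoherent_of_isInvertible hL
  have key : ∀ (U : X.affineOpens) (f : Γ(X, U)),
      (Mero.denomIdeal L s U.1).map (X.presheaf.map (homOfLE (X.basicOpen_le f)).op).hom =
        Mero.denomIdeal L s (X.affineBasicOpen f).1 := by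
    intro U f
    have hU : IsAffineOpen U.1 := U.2
    apply le_antisymm
    · rw [Ideal.map_le_iff_le_comap]
      intro g hg
      obtain ⟨m, hm⟩ := (mem_denomIdeal L s U.1 g).mp hg
      rw [Ideal.mem_comap]
      refine (mem_denomIdeal L s _ _).mpr
        ⟨L.presheaf.map (homOfLE (X.basicOpen_le f)).op m, fun x => ?_⟩
      have h1 := hm ⟨x.1, X.basicOpen_le f x.2⟩
      have h2 : X.presheaf.germ (X.basicOpen f) x.1 x.2
          ((X.presheaf.map (homOfLE (X.basicOpen_le f)).op).hom g) =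
          X.presheaf.germ U.1 x.1 (X.basicOpen_le f x.2) g :=
        TopCat.Presheaf.germ_res_apply X.presheaf (homOfLE (X.basicOpen_le f)) x.1 x.2 g
      have h3 : L.presheaf.germ (X.basicOpen f) x.1 x.2
          (L.presheaf.map (homOfLE (X.basicOpen_le f)).op m) =
          L.presheaf.germ U.1 x.1 (X.basicOpen_le f x.2) m :=
        TopCat.Presheaf.germ_res_apply L.presheaf (homOfLE (X.basicOpen_le f)) x.1 x.2 m
      show X.presheaf.germ (X.basicOpen f) x.1 x.2
          ((X.presheaf.map (homOfLE (X.basicOpen_le f)).op).hom g) •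
          s.1 ⟨x.1, Opens.mem_top x.1⟩ =
        LocalizedModule.mkLinearMap (Mero.regStalk X x.1) _
          (L.presheaf.germ (X.basicOpen f) x.1 x.2
            (L.presheaf.map (homOfLE (X.basicOpen_le f)).op m))
      rw [h2, h3]
      exact h1
    · intro g' hg'
      obtain ⟨m', hm'⟩ := (mem_denomIdeal L s _ g').mp hg'
      haveI := hU.isLocalization_basicOpen f
      obtain ⟨⟨g, ⟨_, n, rfl⟩⟩, hg⟩ := IsLocalization.surj (Submonoid.powers f) g'
      have hg1 : g' * X.presheaf.map (homOfLE (X.basicOpen_le f)).op (f ^ n) =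
          X.presheaf.map (homOfLE (X.basicOpen_le f)).op g := hg
      obtain ⟨k, m, hm⟩ := Groth.Agent.H8.exists_smul_eq_res hU L f m'
      have hvan : ∀ (x : X) (hx : x ∈ U.1), x ∈ X.basicOpen f →
          X.presheaf.germ U.1 x hx (f ^ k * g) • s.1 ⟨x, Opens.mem_top x⟩ =
            (LocalizedModule.mk (L.presheaf.germ U.1 x hx (f ^ n • m)) 1 : Mero.MStalk L x) := by
        intro x hx hxf
        have h1 : X.presheaf.germ (X.basicOpen f) x hxf g' • s.1 ⟨x, Opens.mem_top x⟩ =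
            (LocalizedModule.mk (L.presheaf.germ (X.basicOpen f) x hxf m') 1 :
              Mero.MStalk L x) := hm' ⟨x, hxf⟩
        have e1 : X.presheaf.germ U.1 x hx (f ^ k * g) =
            X.presheaf.germ U.1 x hx f ^ (k + n) * X.presheaf.germ (X.basicOpen f) x hxf g' := by
          have h2 := congrArg (fun q => X.presheaf.germ (X.basicOpen f) x hxf q) hg1
          simp only [map_mul, map_pow, TopCat.Presheaf.germ_res_apply] at h2
          rw [map_mul, map_pow, ← h2, pow_add]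
          ring
        have e2 : L.presheaf.germ U.1 x hx (f ^ n • m) =
            X.presheaf.germ U.1 x hx f ^ (k + n) •
              L.presheaf.germ (X.basicOpen f) x hxf m' := by
          have h2 := congrArg (fun q => L.presheaf.germ (X.basicOpen f) x hxf q) hm
          simp only [] at h2
          rw [Mero.germ_smul, map_pow, TopCat.Presheaf.germ_res_apply,
            TopCat.Presheaf.germ_res_apply] at h2
          rw [Mero.germ_smul, map_pow, ← h2, ← mul_smul, ← pow_add, add_comm]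
        rw [e1, e2, mul_smul, h1, LocalizedModule.smul'_mk]
      obtain ⟨N, hN⟩ := exists_pow_of_vanish hL s hU.isCompact f (f ^ k * g) (f ^ n • m) hvan
      have hGmem : f ^ N * (f ^ k * g) ∈ Mero.denomIdeal L s U.1 :=
        (mem_denomIdeal L s U.1 _).mpr ⟨f ^ N • (f ^ n • m), fun x => hN x.1 x.2⟩
      have hmem : (X.presheaf.map (homOfLE (X.basicOpen_le f)).op).hom (f ^ N * (f ^ k * g)) ∈
          Ideal.map (X.presheaf.map (homOfLE (X.basicOpen_le f)).op).hom
            (Mero.denomIdeal L s U.1) := Ideal.mem_map_of_mem _ hGmem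
      have hfu : IsUnit (X.presheaf.map (homOfLE (X.basicOpen_le f)).op f) :=
        RingedSpace.isUnit_res_basicOpen X.toRingedSpace f
      obtain ⟨v, hv⟩ := hfu
      have hv' : (v : Γ(X, X.basicOpen f)) = X.presheaf.map (homOfLE (X.basicOpen_le f)).op f := hv
      have h1 : ((v⁻¹ : (Γ(X, X.basicOpen f))ˣ) : Γ(X, X.basicOpen f)) *
          (v : Γ(X, X.basicOpen f)) = 1 := Units.inv_mul v
      have h2 : ((v⁻¹ : (Γ(X, X.basicOpen f))ˣ) : Γ(X, X.basicOpen f)) ^ (N + k + n) *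
          (v : Γ(X, X.basicOpen f)) ^ (N + k + n) = 1 := by
        rw [← mul_pow, h1, one_pow]
      have h3 : X.presheaf.map (homOfLE (X.basicOpen_le f)).op (f ^ N * (f ^ k * g)) =
          (v : Γ(X, X.basicOpen f)) ^ N * ((v : Γ(X, X.basicOpen f)) ^ k *
            (g' * (v : Γ(X, X.basicOpen f)) ^ n)) := by
        rw [map_mul, map_mul, map_pow, map_pow, ← hg1, map_pow, hv']
      have h4 : g' = ((v⁻¹ : (Γ(X, X.basicOpen f))ˣ) : Γ(X, X.basicOpen f)) ^ (N + k + n) *
          X.presheaf.map (homOfLE (X.basicOpen_le f)).op (f ^ N * (f ^ k * g)) := by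
        rw [h3]
        calc g' = (((v⁻¹ : (Γ(X, X.basicOpen f))ˣ) : Γ(X, X.basicOpen f)) ^ (N + k + n) *
              (v : Γ(X, X.basicOpen f)) ^ (N + k + n)) * g' := by rw [h2, one_mul]
          _ = _ := by ring
      show g' ∈ Ideal.map (X.presheaf.map (homOfLE (X.basicOpen_le f)).op).hom
        (Mero.denomIdeal L s U.1)
      rw [h4]
      exact Ideal.mul_mem_left _ _ hmem
  obtain ⟨I, hI⟩ : ∃ I : X.IdealSheafData, ∀ U : X.affineOpens,
      I.ideal U = Mero.denomIdeal L s U.1 :=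
    ⟨{ ideal := fun U => Mero.denomIdeal L s U.1, map_ideal_basicOpen := key }, fun U => rfl⟩
  refine ⟨I, hI, ?_⟩
  rw [Set.eq_empty_iff_forall_notMem]
  intro y hy
  obtain ⟨W₀, hyW₀, i, a₀, b₀, w⟩ := s.2 ⟨y, Opens.mem_top y⟩
  obtain ⟨W, hW0, hyW, hWle⟩ := Opens.isBasis_iff_nbhd.mp X.isBasis_affineOpens
    (show y ∈ W₀ ⊓ (⟨interior (I.support : Set X), isOpen_interior⟩ : X.Opens) from ⟨hyW₀, hy⟩)
  have hW : IsAffineOpen W := hW0
  have hWW₀ : W ≤ W₀ := hWle.trans inf_le_left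
  obtain ⟨b, hb⟩ : ∃ b : Γ(X, W), b = X.presheaf.map (homOfLE hWW₀).op b₀.1 := ⟨_, rfl⟩
  have hbreg : b ∈ Mero.regSub X W := by
    rw [hb]
    exact Mero.regSub_res (homOfLE hWW₀) b₀.2
  have hbmem : b ∈ I.ideal ⟨W, hW⟩ := by
    rw [hI]
    refine (mem_denomIdeal L s W b).mpr ⟨L.presheaf.map (homOfLE hWW₀).op a₀, fun x => ?_⟩
    have h1 : s.1 ⟨x.1, i.le (hWW₀ x.2)⟩ =
        LocalizedModule.mk (L.presheaf.germ W₀ x.1 (hWW₀ x.2) a₀)
          (Mero.regGerm ⟨x.1, hWW₀ x.2⟩ b₀) := w ⟨x.1, hWW₀ x.2⟩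
    have h2 : s.1 ⟨x.1, Opens.mem_top x.1⟩ =
        (LocalizedModule.mk (L.presheaf.germ W₀ x.1 (hWW₀ x.2) a₀)
          (Mero.regGerm ⟨x.1, hWW₀ x.2⟩ b₀) : Mero.MStalk L x.1) := h1
    have h3 : X.presheaf.germ W x.1 x.2 b =
        ((Mero.regGerm (⟨x.1, hWW₀ x.2⟩ : W₀) b₀ : Mero.regStalk X x.1) :
          X.presheaf.stalk x.1) := by
      rw [hb, TopCat.Presheaf.germ_res_apply]
    rw [h2, LocalizedModule.smul'_mk,
      TopCat.Presheaf.germ_res_apply L.presheaf (homOfLE hWW₀) x.1 x.2 a₀]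
    refine LocalizedModule.mk_eq.mpr ⟨1, ?_⟩
    rw [one_smul, one_smul, one_smul, Submonoid.smul_def, ← h3]
  obtain ⟨ξ, hξy, hξgen⟩ := exists_generic_generization y
  have hξW : ξ ∈ W := hξy.mem_open W.2 hyW
  have hξsupp : ξ ∈ I.support := interior_subset (hWle hξW).2
  have hnu := Groth.Agent.H95.IdealSheafLocal.not_isUnit_germ_of_mem_support I (U := ⟨W, hW⟩) ξ hξW
    hξsupp b hbmem
  have hnz : X.presheaf.germ W ξ hξW b ∈ nonZeroDivisors (X.presheaf.stalk ξ) := hbreg ⟨ξ, hξW⟩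
  have hm : X.presheaf.germ W ξ hξW b ∈ IsLocalRing.maximalIdeal (X.presheaf.stalk ξ) :=
    (IsLocalRing.mem_maximalIdeal _).mpr hnu
  obtain ⟨N, hN⟩ := isNilpotent_of_isGenPt hξgen _ hm
  have h5 := pow_mem hnz N
  rw [hN] at h5
  exact zero_notMem_nonZeroDivisors h5

end Groth.Agent.S8903
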