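import Groth.Statements.S8904
import Groth.Agent.H95.TestPts
import Groth.Agent.S2510
import Groth.Agent.H8.AssPoints2

set_option autoImplicit false
universe u
open CategoryTheory CategoryTheory.Limits AlgebraicGeometry TopologicalSpace
open SDiv

namespace Groth.Agent.S8904


open Groth.Agent.H95.TestPts Groth.Agent.H95.ReducedGeneric Groth.Agent.H95.LocFinGeneric
  Groth.Agent.H95.StalkPrimes

lemma eq_zero_of_weakAss {X : Scheme.{u}} {W : X.Opens} (t : Γ(X, W))
    (h : ∀ (ξ : X) (hξ : ξ ∈ W), Curv2.IsWeakAssPoint (Coh.structureModule X) ξ →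
      X.presheaf.germ W ξ hξ t = 0) : t = 0 := by
  haveI := Groth.Agent.S2510.isQuasicoherent_structureModule X
  refine TopCat.Presheaf.section_ext X.sheaf W t 0 (fun y hy => ?_)
  show X.presheaf.germ W y hy t = X.presheaf.germ W y hy 0
  rw [map_zero]
  obtain ⟨W', hW'0, hyW', hW'W⟩ := Opens.isBasis_iff_nbhd.mp X.isBasis_affineOpens hy
  have hW' : IsAffineOpen W' := hW'0
  obtain ⟨t', ht'⟩ : ∃ t' : Γ(X, W'), t' = X.presheaf.map (homOfLE hW'W).op t := ⟨_, rfl⟩
  have ht'0 : t' = 0 := by
    by_contra hne
    obtain ⟨ξ, hξW', hξass, hξne⟩ := Groth.Agent.H8.exists_isWeakAssPoint_germ_ne_zero hW'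
      (Coh.structureModule X) (show Γ(Coh.structureModule X, W') from t') hne
    apply hξne
    have hg0 : X.presheaf.germ W' ξ hξW' t' = X.presheaf.germ W' ξ hξW' 0 := by
      rw [map_zero, ht', TopCat.Presheaf.germ_res_apply X.presheaf (homOfLE hW'W) ξ hξW' t]
      exact h ξ (hW'W hξW') hξass
    obtain ⟨W'', hξW'', iU, iV, hres⟩ :=
      TopCat.Presheaf.germ_eq X.presheaf ξ hξW' hξW' t' 0 hg0
    rw [map_zero] at hres
    have e1 : (Coh.structureModule X).presheaf.map iU.op
        (show Γ(Coh.structureModule X, W') from t') = 0 := hres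
    rw [← TopCat.Presheaf.germ_res_apply (Coh.structureModule X).presheaf iU ξ hξW''
      (show Γ(Coh.structureModule X, W') from t'), e1, map_zero]
  rw [← TopCat.Presheaf.germ_res_apply X.presheaf (homOfLE hW'W) y hyW' t, ← ht', ht'0, map_zero]

/-- the test points given by the weakly associated points. -/
lemma exists_testPts (X : Scheme.{u})
    (ha : ∀ x : ↥X, Curv2.IsWeakAssPoint (Coh.structureModule X) x → ∀ y : ↥X, y ⤳ x → y = x)
    (hb : ∀ U : X.Opens, IsCompact (U : Set ↥X) →
      (irreducibleComponents ↥(U : Scheme.{u})).Finite) :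
    ∃ T : TestPts X, T.P = fun x => Curv2.IsWeakAssPoint (Coh.structureModule X) x := by
  have hlf : LocFin X := Groth.Agent.H95.MeroData.locFin_of_compact_finite hb
  have hgen : ∀ x : X, Curv2.IsWeakAssPoint (Coh.structureModule X) x → IsGenPt x := by
    intro x hx
    obtain ⟨ξ, hξx, hξgen⟩ := exists_generic_generization x
    have h1 := ha x hx ξ hξx
    rw [← h1]
    exact hξgen
  refine ⟨{ P := fun x => Curv2.IsWeakAssPoint (Coh.structureModule X) x
            eq_zero := fun t h => eq_zero_of_weakAss t h
            locFin := ?_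
            noSpec := fun x hx y _ hspec => ha x hx y hspec
            nilp := ?_ }, rfl⟩
  · intro x
    obtain ⟨W, hxW, hfin⟩ := hlf x
    exact ⟨W, hxW, hfin.subset (fun ξ hξ => ⟨hξ.1, hgen ξ hξ.2⟩)⟩
  · intro η hη a haη
    rw [nilpotent_iff_mem_prime]
    intro Q hQ
    haveI := hQ
    obtain ⟨z, hz, hzQ⟩ := exists_generization η Q
    have hzη := ha η hη z hz
    subst hzη
    have hrefl : X.presheaf.stalkSpecializes hz = 𝟙 _ := X.presheaf.stalkSpecializes_refl z
    rw [hrefl] at hzQ
    rw [← hzQ]
    exact haη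

/-- Let X be a scheme such that (a) each weakly associated point of X (of O_X) has no proper
generization, i.e. is the generic point of some irreducible component, and (b) every quasi-compact
open of X has finitely many irreducible components. Then for every point x the monoid S_x of germs
of regular sections is the set of all nonzerodivisors of O_{X,x} (so K_{X,x} is the total ring of
fractions of O_{X,x}), and for every affine open U the ring K_X(U) is the total ring of fractions of
O_X(U). -/
theorem result (X : Scheme.{u})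
    (ha : ∀ x : ↥X, Curv2.IsWeakAssPoint (Coh.structureModule X) x → ∀ y : ↥X, y ⤳ x → y = x)
    (hb : ∀ U : X.Opens, IsCompact (U : Set ↥X) → (irreducibleComponents ↥(U : Scheme.{u})).Finite) :
    (∀ x : ↥X, Mero.regStalk X x = nonZeroDivisors ↑(X.presheaf.stalk x)) ∧
      ∀ U : X.affineOpens,
        @IsLocalization Γ(X, U.1) _ (nonZeroDivisors Γ(X, U.1)) Γ(Mero.kmod X, U.1) _ (Mero.toK X U.1).toAlgebra := by
  obtain ⟨T, -⟩ := exists_testPts X ha hb
  exact ⟨fun x => T.regStalk_eq x, fun U => T.isLocalization_kmod U⟩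

end Groth.Agent.S8904
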