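import Groth.Statements.S8906
import Groth.Agent.H79.RegKindSeq
import Groth.Agent.H59.RegImmDesc
set_option maxHeartbeats 400000
set_option linter.style.haveILetI false

set_option autoImplicit false
universe u
open CategoryTheory CategoryTheory.Limits AlgebraicGeometry TopologicalSpace
open SDiv

namespace Groth.Agent.S8906

/-- Let i : Z ⟶ X be an immersion which is regular of one of the four kinds (regular, Koszul-regular,
H_1-regular or quasi-regular) and g : X' ⟶ X a flat morphism. Then the base change Z ×_X X' ⟶ X' of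
i is a regular immersion of the same kind. -/
theorem result {Z X X' : Scheme.{u}} (i : Z ⟶ X) (k : RegImm.Kind)
    (hi : RegImm.IsRegularImmersion k i) (g : X' ⟶ X) [Flat g] :
    RegImm.IsRegularImmersion k (pullback.snd i g) := by
  obtain ⟨himm, hi⟩ := hi
  haveI := himm
  refine ⟨inferInstance, fun z' => ?_⟩
  obtain ⟨U, hzU, hcl, rs, hrs, hker⟩ := hi ((pullback.fst i g) z')
  have hx' : (pullback.snd i g) z' ∈ g ⁻¹ᵁ U.1 := by
    show g ((pullback.snd i g) z') ∈ U.1
    have h1 : g ((pullback.snd i g) z') = i ((pullback.fst i g) z') := by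
      rw [← Scheme.Hom.comp_apply, ← Scheme.Hom.comp_apply, pullback.condition]
    rw [h1]
    exact hzU
  obtain ⟨V, hV, hxV, hVU⟩ := exists_isAffineOpen_mem_and_subset (x := (pullback.snd i g) z')
    (U := g ⁻¹ᵁ U.1) hx'
  obtain ⟨hcl', hker'⟩ := Groth.Agent.H59.RegImmDesc.closedImm_and_ker_of_isPullback i g
    (pullback.snd i g) (pullback.fst i g) (IsPullback.of_hasPullback i g) U.2 hcl hV hVU
  refine ⟨⟨V, hV⟩, hxV, hcl', ?_⟩
  letI : Algebra Γ(X, U.1) Γ(X', V) := (g.appLE U.1 V hVU).hom.toAlgebra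
  haveI : Module.Flat Γ(X, U.1) Γ(X', V) := g.flat_appLE U.2 hV hVU
  have hk : RingHom.ker ((pullback.snd i g).app V).hom =
      Ideal.ofList (rs.map (algebraMap Γ(X, U.1) Γ(X', V))) := by
    rw [hker', hker, Ideal.map_ofList]
    rfl
  refine ⟨rs.map (algebraMap Γ(X, U.1) Γ(X', V)),
    Groth.Agent.H79.RegKindSeq.seq_map_of_flat k rs hrs ?_, hk⟩
  rw [← hk]
  haveI : Nontrivial Γ(pullback i g, (pullback.snd i g) ⁻¹ᵁ V) :=
    @Scheme.component_nontrivial _ _ ⟨⟨z', hxV⟩⟩
  exact RingHom.ker_ne_top _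

end Groth.Agent.S8906
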