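import Groth.Statements.S8909
import Groth.Agent.H59.CartierSum2

set_option autoImplicit false
universe u
open CategoryTheory CategoryTheory.Limits AlgebraicGeometry TopologicalSpace
open SDiv

namespace Groth.Agent.S8909

/-- Let X be a Noetherian scheme and Z ⊆ X a closed subscheme with ideal sheaf 𝓩. Suppose given a family
of integral effective Cartier divisors D_i ⊆ X (ideal sheaves 𝓓_i, i ∈ I) and a closed subset Z' ⊆ X
whose irreducible components all have codimension at least 2 in X (the local ring of X at each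
maximal point of Z' has dimension ≥ 2), such that Z ⊆ Z' ∪ ⋃ D_i set-theoretically. Then there are
integers a_i ≥ 0, almost all zero, such that the effective Cartier divisor D = Σ a_i D_i (with ideal
sheaf the product of the 𝓓_i^{a_i}) is contained in Z as a closed subscheme and the inclusion D → Z
is an isomorphism outside codimension 2: for some open U ⊆ X the ideal sheaves of D and Z agree on U
and every irreducible component of Z ∖ U has codimension ≥ 2 in X. The published statement also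
asserts that such D_i and Z' exist when Z is nowhere dense in X and either every local ring of X at
a point of Z is factorial or X is regular; this row does not. -/
theorem result (X : Scheme.{u}) [IsNoetherian X] (𝓩 : X.IdealSheafData)
    {I : Type u} (𝓓 : I → X.IdealSheafData) (hD : ∀ i, BlowUp.IsEffCartierIdeal (𝓓 i)) (hDint : ∀ i, IsIntegral (𝓓 i).subscheme)
    (Z' : Set ↥X) (hZ' : IsClosed Z')
    (hcodim : ∀ z ∈ Z', (∀ y ∈ Z', y ⤳ z → y = z) → (2 : WithBot ℕ∞) ≤ ringKrullDim ↑(X.presheaf.stalk z))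
    (hcover : (𝓩.support : Set ↥X) ⊆ Z' ∪ ⋃ i, ((𝓓 i).support : Set ↥X)) :
    ∃ a : I →₀ ℕ, 𝓩 ≤ a.prod (fun i n => 𝓓 i ^ n) ∧
      ∃ U : X.Opens, (a.prod (fun i n => 𝓓 i ^ n)).comap U.ι = 𝓩.comap U.ι ∧
        ∀ z ∈ (𝓩.support : Set ↥X) \ (U : Set ↥X), (∀ y ∈ (𝓩.support : Set ↥X) \ (U : Set ↥X), y ⤳ z → y = z) →
          (2 : WithBot ℕ∞) ≤ ringKrullDim ↑(X.presheaf.stalk z) := by
  classical
  -- no point of `𝓩` has a zero-dimensional local ring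
  have G0 : ∀ ζ ∈ 𝓩.support, (1 : WithBot ℕ∞) ≤ ringKrullDim (X.presheaf.stalk ζ) := by
    intro ζ hζ
    rcases hcover hζ with h | h
    · have h2 := Groth.Agent.H59.PtDim.two_le_dim_of_maximal Z' hcodim ζ h
      exact le_trans (by norm_num) h2
    · obtain ⟨i, hi⟩ := Set.mem_iUnion.mp h
      exact Groth.Agent.H59.CartierSum.one_le_dim_of_mem_support (hD i) ζ hi
  -- the finite set of the divisors containing `𝓩`
  let P : Set X.IdealSheafData := {𝓔 | (∃ i, 𝓓 i = 𝓔) ∧ 𝓩 ≤ 𝓔}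
  have hP : ∀ 𝓔 ∈ P, BlowUp.IsEffCartierIdeal 𝓔 ∧ IsIntegral 𝓔.subscheme ∧ 𝓩 ≤ 𝓔 := by
    rintro 𝓔 ⟨⟨i, rfl⟩, hle⟩
    exact ⟨hD i, hDint i, hle⟩
  have hfin : P.Finite := Groth.Agent.H59.CartierSum.finite_of_le 𝓩 G0 P hP
  let T : Finset X.IdealSheafData := hfin.toFinset
  have hTmem : ∀ 𝓔, 𝓔 ∈ T ↔ 𝓔 ∈ P := fun 𝓔 => hfin.mem_toFinset
  -- multiplicities
  have hα : ∀ 𝓔 : X.IdealSheafData, ∃ n : ℕ, 𝓔 ∈ T → 𝓩 ≤ 𝓔 ^ n ∧ ¬ 𝓩 ≤ 𝓔 ^ (n + 1) := by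
    intro 𝓔
    by_cases h : 𝓔 ∈ T
    · obtain ⟨hE, hint, -⟩ := hP 𝓔 ((hTmem 𝓔).mp h)
      obtain ⟨n, hn⟩ := Groth.Agent.H59.CartierSum.exists_alpha 𝓩 G0 hE hint
      exact ⟨n, fun _ => hn⟩
    · exact ⟨0, fun h' => absurd h' h⟩
  choose α hα using hα
  -- representatives
  have hr : ∀ 𝓔 : {𝓔 // 𝓔 ∈ T}, ∃ i : I, 𝓓 i = 𝓔.1 := fun 𝓔 => ((hTmem 𝓔.1).mp 𝓔.2).1
  choose r hr using hr
  let a : I →₀ ℕ := ∑ 𝓔 ∈ T.attach, Finsupp.single (r 𝓔) (α 𝓔.1)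
  have ha : a.prod (fun i n => 𝓓 i ^ n) = ∏ 𝓔 ∈ T, 𝓔 ^ α 𝓔 := by
    show (∑ 𝓔 ∈ T.attach, Finsupp.single (r 𝓔) (α 𝓔.1)).prod (fun i n => 𝓓 i ^ n) = _
    rw [← Finsupp.prod_finsetSum_index (h := fun i n => 𝓓 i ^ n) (fun i => pow_zero _)
        (fun i m n => pow_add _ m n),
      ← Finset.prod_attach T]
    apply Finset.prod_congr rfl
    intro 𝓔 _
    rw [Finsupp.prod_single_index (h := fun i n => 𝓓 i ^ n) (pow_zero _), hr 𝓔]
  have hT1 : ∀ 𝓔 ∈ T, BlowUp.IsEffCartierIdeal 𝓔 ∧ IsIntegral 𝓔.subscheme ∧ 𝓩 ≤ 𝓔 ^ α 𝓔 := by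
    intro 𝓔 h𝓔
    obtain ⟨hE, hint, -⟩ := hP 𝓔 ((hTmem 𝓔).mp h𝓔)
    exact ⟨hE, hint, (hα 𝓔 h𝓔).1⟩
  have hle : 𝓩 ≤ ∏ 𝓔 ∈ T, 𝓔 ^ α 𝓔 := Groth.Agent.H59.CartierSum.le_prod 𝓩 T α hT1
  refine ⟨a, ha ▸ hle, ?_⟩
  rw [ha]
  let U : X.Opens := ⟨{x : X | Groth.Agent.H59.StalkIdeal.st (∏ 𝓔 ∈ T, 𝓔 ^ α 𝓔) x ≤
    Groth.Agent.H59.StalkIdeal.st 𝓩 x}, Groth.Agent.H59.CartierSum.isOpen_st_le _ _⟩
  refine ⟨U, ?_, ?_⟩
  · apply Groth.Agent.H59.CartierSum.comap_eq_of_st_eq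
    intro x hx
    exact le_antisymm hx (Groth.Agent.H59.StalkIdeal.st_mono hle x)
  · rintro z ⟨hzZ, hzU⟩ -
    by_contra hdim
    have hdim1 := Groth.Agent.H59.CartierSum.le_one_of_not_two_le _ hdim
    apply hzU
    rcases hcover hzZ with h | h
    · exact absurd (Groth.Agent.H59.PtDim.two_le_dim_of_maximal Z' hcodim z h) hdim
    · obtain ⟨i, hi⟩ := Set.mem_iUnion.mp h
      show Groth.Agent.H59.StalkIdeal.st (∏ 𝓔 ∈ T, 𝓔 ^ α 𝓔) z ≤ Groth.Agent.H59.StalkIdeal.st 𝓩 z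
      apply Groth.Agent.H59.CartierSum.st_prod_le_of_dim_le_one 𝓩 T α (fun 𝓔 h𝓔 => hα 𝓔 h𝓔)
        (hD i) (hDint i) (fun hle' => (hTmem _).mpr ⟨⟨i, rfl⟩, hle'⟩) z hzZ hi hdim1

end Groth.Agent.S8909
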