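import Groth.Statements.S8911
-- import your own Groth.Agent.* helpers here
import Groth.Agent.S8872
import Groth.Agent.S6896
import Groth.Agent.S6890
import Groth.Agent.H17.FittSheaf
import Groth.Agent.H8.PullbackFinType
import Groth.Agent.H8.QCohStalk
import Groth.Agent.H8.IsoCover
import Groth.Agent.H53.ModEpi
import Groth.Agent.H18.FreeEpi
import Groth.Agent.H18.GlobGen
import Groth.Agent.H20.FittGens
import Groth.Agent.H36.FreeEpiRestrict

set_option autoImplicit false
universe u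
open CategoryTheory CategoryTheory.Limits AlgebraicGeometry TopologicalSpace
open SDiv

namespace Groth.Agent.S8911

open Groth.Agent.H8 Groth.Agent.H17.FittSheaf Opposite

set_option linter.style.haveILetI false

/-- The local generation statement: with `E(V) = (δ)` and `m i` generating `Γ(P, V)` modulo
`δ`-torsion after inverting `f`, the images of the `m i` generate `G` on `D(f)`. -/
theorem surj_core {S' : Scheme.{u}} (P G : S'.Modules) [P.IsQuasicoherent] (k : ℕ)
    (E : S'.IdealSheafData) (π : P ⟶ G) [Epi π]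
    (hG2 : ∀ (V : S'.affineOpens) (m : Γ(P, V.1)), BlowUp.KilledByPowerNear E P V m →
      π.app V.1 m = 0)
    (V : S'.affineOpens) (δ : Γ(S', V.1)) (hEV : E.ideal V = Ideal.span {δ})
    (f : Γ(S', V.1)) (m : Fin k → Γ(P, V.1))
    (hm : ∀ x : Γ(P, V.1), ∃ a : Fin k → Γ(S', V.1), δ • (f • x - ∑ i, a i • m i) = 0)
    (W : S'.Opens) (hW : W ≤ S'.basicOpen f) (t : Γ(G, W)) (x : S') (hxW : x ∈ W) :
    ∃ (W' : S'.Opens) (hW' : W' ≤ W), x ∈ W' ∧ ∃ c : Fin k → Γ(S', W'),
      G.presheaf.map (homOfLE hW').op t =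
        ∑ i, c i • G.presheaf.map (homOfLE (hW'.trans hW)).op
          (G.presheaf.map (homOfLE (S'.basicOpen_le f)).op (π.app V.1 (m i))) := by
  classical
  have hfV : S'.basicOpen f ≤ V.1 := S'.basicOpen_le f
  obtain ⟨W₁, hW₁, y, hxW₁, hy⟩ := Groth.Agent.H53.modules_epi_locally_surjective π W t x hxW
  have hxV : x ∈ V.1 := hfV (hW hxW)
  obtain ⟨g, hgW₁, hxg⟩ := V.2.exists_basicOpen_le (V := W₁) ⟨x, hxW₁⟩ hxV
  have hDW : S'.basicOpen g ≤ W := hgW₁.trans hW₁
  have hDV : S'.basicOpen g ≤ V.1 := S'.basicOpen_le g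
  have hDf : S'.basicOpen g ≤ S'.basicOpen f := hDW.trans hW
  letI := moduleSectionBasicOpen P g
  haveI := isLocalizedModule_resBasicOpenₗ V.2 P g
  obtain ⟨⟨m', ⟨_, n, rfl⟩⟩, hm'⟩ := IsLocalizedModule.surj (Submonoid.powers g)
    (resBasicOpenₗ P g) (P.presheaf.map (homOfLE hgW₁).op y)
  have hm'' : S'.presheaf.map (homOfLE hDV).op (g ^ n) • P.presheaf.map (homOfLE hgW₁).op y =
      P.presheaf.map (homOfLE hDV).op m' := hm'
  obtain ⟨a, ha⟩ := hm m'
  have hπz : π.app V.1 (f • m' - ∑ i, a i • m i) = 0 := by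
    refine hG2 V _ ⟨1, fun r hr => ?_⟩
    rw [pow_one] at hr
    have hr' : r ∈ Ideal.span {δ} := hEV ▸ hr
    obtain ⟨c, rfl⟩ := Ideal.mem_span_singleton'.mp hr'
    rw [mul_smul, ha, smul_zero]
  -- the key relation over `V`
  have hE3 : f • π.app V.1 m' = ∑ i, a i • π.app V.1 (m i) := by
    have h1 := hπz
    rw [map_sub, Scheme.Modules.Hom.app_smul, map_sum] at h1
    simp_rw [Scheme.Modules.Hom.app_smul] at h1
    exact sub_eq_zero.mp h1
  -- restrict to `D(g)`
  have hE1 : π.app (S'.basicOpen g) (P.presheaf.map (homOfLE hgW₁).op y) =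
      G.presheaf.map (homOfLE hDW).op t := by
    rw [app_res π hgW₁ y, hy, res_res G hgW₁ hW₁ t]
  have hE2 : G.presheaf.map (homOfLE hDV).op (π.app V.1 m') =
      S'.presheaf.map (homOfLE hDV).op (g ^ n) • G.presheaf.map (homOfLE hDW).op t := by
    rw [← app_res π hDV m', ← hm'', Scheme.Modules.Hom.app_smul, hE1]
  have hE4 : S'.presheaf.map (homOfLE hDV).op f • G.presheaf.map (homOfLE hDV).op (π.app V.1 m') =
      ∑ i, S'.presheaf.map (homOfLE hDV).op (a i) •
        G.presheaf.map (homOfLE hDV).op (π.app V.1 (m i)) := by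
    have h1 := congrArg (G.presheaf.map (homOfLE hDV).op) hE3
    rw [res_smul, map_sum] at h1
    simp_rw [res_smul] at h1
    exact h1
  have hgu : IsUnit (S'.presheaf.map (homOfLE hDV).op g) :=
    RingedSpace.isUnit_res_basicOpen S'.toRingedSpace g
  have hfu : IsUnit (S'.presheaf.map (homOfLE hDV).op f) := by
    have h1 : IsUnit (S'.presheaf.map (homOfLE hfV).op f) :=
      RingedSpace.isUnit_res_basicOpen S'.toRingedSpace f
    have h2 := h1.map (S'.presheaf.map (homOfLE hDf).op).hom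
    have h3 : (S'.presheaf.map (homOfLE hDf).op).hom (S'.presheaf.map (homOfLE hfV).op f) =
        S'.presheaf.map (homOfLE hDV).op f := ringRes_res hDf hfV f
    rwa [h3] at h2
  obtain ⟨u, hu⟩ : ∃ u : Γ(S', S'.basicOpen g),
      u * (S'.presheaf.map (homOfLE hDV).op f * S'.presheaf.map (homOfLE hDV).op (g ^ n)) = 1 := by
    rw [map_pow]
    obtain ⟨v, hv⟩ := (hfu.mul (hgu.pow n)).exists_left_inv
    exact ⟨v, hv⟩
  refine ⟨S'.basicOpen g, hDW, hxg, fun i => u * S'.presheaf.map (homOfLE hDV).op (a i), ?_⟩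
  have hσ : ∀ i, G.presheaf.map (homOfLE (hDW.trans hW)).op
      (G.presheaf.map (homOfLE hfV).op (π.app V.1 (m i))) =
      G.presheaf.map (homOfLE hDV).op (π.app V.1 (m i)) := fun i => res_res G _ _ _
  simp_rw [hσ, mul_smul]
  rw [← Finset.smul_sum, ← hE4, hE2, ← mul_smul, ← mul_smul, mul_assoc, hu, one_smul]


theorem aux {S' : Scheme.{u}} (P G : S'.Modules) [P.IsQuasicoherent]
    [SheafOfModules.IsFiniteType (R := S'.ringCatSheaf) P] (k : ℕ) (E : S'.IdealSheafData)
    (hE : E = Fitt.sheafIdeal P k) (hEC : BlowUp.IsEffCartierIdeal E) (π : P ⟶ G) [Epi π]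
    (hG2 : ∀ (V : S'.affineOpens) (m : Γ(P, V.1)), BlowUp.KilledByPowerNear E P V m →
      π.app V.1 m = 0) (s' : ↥S') :
    ∃ U : S'.Opens, s' ∈ U ∧ ∃ q : FlatMod.freeMod (↑U) k ⟶ G.restrict U.ι, Epi q := by
  classical
  obtain ⟨V, hs'V, δ, hδ, hEV⟩ := hEC s'
  have hFitt : Fitt.ideal Γ(S', V.1) Γ(P, V.1) k = Ideal.span {δ} := by
    rw [← sheafIdeal_ideal P k V, ← hE]
    exact hEV
  haveI := finite_sections_of_isAffineOpen P V.2
  obtain ⟨f, hfp, m, hm⟩ := Groth.Agent.H20.FittGens.exists_gens_mod_torsion Γ(P, V.1) k δ hFitt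
    (V.2.primeIdealOf ⟨s', hs'V⟩).asIdeal
  have hs'f : s' ∈ S'.basicOpen f :=
    (mem_basicOpen_iff_notMem_primeIdealOf V.2 s' hs'V f).mpr hfp
  refine ⟨S'.basicOpen f, hs'f, ?_⟩
  apply Groth.Agent.H36.FreeEpiRestrict.exists_epi_freeMod_restrict G (S'.basicOpen f) k
    (fun i => G.presheaf.map (homOfLE (S'.basicOpen_le f)).op (π.app V.1 (m i)))
  intro W hW t x hxW
  exact surj_core P G k E π hG2 V δ hEV f m hm W hW t x hxW

/-- Let S be a scheme, F a quasi-coherent O_S-module of finite type, k ≥ 0, b : S' ⟶ S a blowing up of S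
in the closed subscheme Z_k cut out by Fit_k(F), and π : b^*F ⟶ G the strict transform of F along b.
Then G can locally be generated by at most k sections. -/
theorem result (S : Scheme.{u}) (F : S.Modules) (hF : Coh.IsQCoh F) (hft : CohB1.IsFT F)
    (k : ℕ) {S' : Scheme.{u}} (b : S' ⟶ S) (hb : BlowUp.IsBlowUp b (Fitt.sheafIdeal F k)) (G : S'.Modules)
    (π : (Scheme.Modules.pullback b).obj F ⟶ G) (hG : BlowUp.IsStrictTransform b (Fitt.sheafIdeal F k) F G π) (s' : ↥S') :
    ∃ U : S'.Opens, s' ∈ U ∧ ∃ q : FlatMod.freeMod (↑U) k ⟶ G.restrict U.ι, Epi q := by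
  haveI : F.IsQuasicoherent := hF
  haveI : SheafOfModules.IsFiniteType (R := S.ringCatSheaf) F := hft
  haveI : ((Scheme.Modules.pullback b).obj F).IsQuasicoherent := isQuasicoherent_pullback b F
  haveI : SheafOfModules.IsFiniteType (R := S'.ringCatSheaf) ((Scheme.Modules.pullback b).obj F) :=
    isFiniteType_pullback b F
  haveI : Epi π := hG.1
  exact aux ((Scheme.Modules.pullback b).obj F) G k ((Fitt.sheafIdeal F k).comap b)
    (Groth.Agent.S8872.result b F hF hft k) hb.1 π (fun V m h => (hG.2 V m).mpr h) s'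

end Groth.Agent.S8911
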