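import Groth.Statements.S8912
-- import your own Groth.Agent.* helpers here
import Groth.Agent.S8911
import Groth.Agent.H8.InvLocal
import Groth.Agent.H8.FreeMod
import Groth.Agent.H36.FreeIsoRestrict
import Groth.Agent.H42.PullRestrictFLF

set_option autoImplicit false
universe u
open CategoryTheory CategoryTheory.Limits AlgebraicGeometry TopologicalSpace
open SDiv

namespace Groth.Agent.S8912

open Groth.Agent.H8 Groth.Agent.H17.FittSheaf Opposite AlgebraicGeometry.Scheme.Modules

set_option linter.style.haveILetI false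

/-- If `N|_a` is free of rank `k` locally for an open immersion `a : Z ⟶ T`, then `N` is free of
rank `k` on a neighbourhood of each point of the image of `a`. -/
theorem exists_restrict_iso_freeMod_of_restrict {Z T : Scheme.{u}} (a : Z ⟶ T)
    [IsOpenImmersion a] (N : T.Modules) (k : ℕ) (h : FlatMod.IsFinLocFreeOfRank k (N.restrict a))
    (z : Z) :
    ∃ T' : T.Opens, a z ∈ T' ∧ Nonempty (N.restrict T'.ι ≅ FlatMod.freeMod (T' : Scheme.{u}) k) := by
  obtain ⟨Z', hz, ⟨e⟩⟩ := h z
  refine ⟨a ''ᵁ Z', ⟨z, hz, rfl⟩, ⟨?_⟩⟩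
  let φ := a.isoImage Z'
  have e1 : (N.restrict (a ''ᵁ Z').ι).restrict φ.hom ≅ FlatMod.freeMod (Z' : Scheme.{u}) k :=
    restrictRestrictIsoOfComm N φ.hom (a ''ᵁ Z').ι Z'.ι a (a.isoImage_hom_ι Z') ≪≫ e
  exact (restrictFunctorId.app (N.restrict (a ''ᵁ Z').ι)).symm ≪≫
    ((restrictFunctorCongr φ.inv_hom_id).app (N.restrict (a ''ᵁ Z').ι)).symm ≪≫
    (restrictFunctorComp φ.inv φ.hom).app (N.restrict (a ''ᵁ Z').ι) ≪≫
    (restrictFunctor φ.inv).mapIso e1 ≪≫ restrictFreeIso φ.inv k

/-- `k` generators of a free module of rank `k` over a commutative ring are linearly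
independent. -/
theorem eq_zero_of_sum_smul_eq_zero {R : Type*} [CommRing R] {N : Type*} [AddCommGroup N]
    [Module R N] {k : ℕ} (e : N ≃ₗ[R] (Fin k → R)) (n : Fin k → N)
    (hspan : Submodule.span R (Set.range n) = ⊤) (c : Fin k → R)
    (hc : ∑ i, c i • n i = 0) : c = 0 := by
  let φ : (Fin k → R) →ₗ[R] N := Fintype.linearCombination R n
  have hφ : Function.Surjective φ := by
    rw [← LinearMap.range_eq_top, Fintype.range_linearCombination, hspan]
  have hψ : Function.Surjective (e.toLinearMap ∘ₗ φ) := e.surjective.comp hφ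
  have hinj : Function.Injective (e.toLinearMap ∘ₗ φ) :=
    OrzechProperty.injective_of_surjective_endomorphism _ hψ
  have h0 : (e.toLinearMap ∘ₗ φ) c = (e.toLinearMap ∘ₗ φ) 0 := by
    rw [map_zero, LinearMap.comp_apply]
    have : φ c = 0 := by
      rw [Fintype.linearCombination_apply]
      exact hc
    rw [this, map_zero]
  exact hinj h0

/-- Equality of sections of the structure sheaf can be checked on an open cover. -/
lemma ring_section_eq_of_cover {X : Scheme.{u}} {W : X.Opens} (s t : Γ(X, W))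
    (h : ∀ x ∈ W, ∃ (V : X.Opens) (hVW : V ≤ W), x ∈ V ∧
      X.presheaf.map (homOfLE hVW).op s = X.presheaf.map (homOfLE hVW).op t) : s = t := by
  refine TopCat.Presheaf.section_ext X.sheaf W s t (fun x hxW => ?_)
  obtain ⟨V, hVW, hxV, hV⟩ := h x hxW
  have h1 := TopCat.Presheaf.germ_res_apply X.presheaf (homOfLE hVW) x hxV s
  have h2 := TopCat.Presheaf.germ_res_apply X.presheaf (homOfLE hVW) x hxV t
  exact h1.symm.trans ((congrArg _ hV).trans h2)

/-- A section restricted into `D(δ)` becomes a unit. -/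
lemma isUnit_res_of_le_basicOpen {X : Scheme.{u}} {V D : X.Opens} (δ : Γ(X, V)) (hDV : D ≤ V)
    (hDδ : D ≤ X.basicOpen δ) : IsUnit (X.presheaf.map (homOfLE hDV).op δ) := by
  have h1 : IsUnit (X.presheaf.map (homOfLE (X.basicOpen_le δ)).op δ) :=
    RingedSpace.isUnit_res_basicOpen X.toRingedSpace δ
  have h2 := h1.map (X.presheaf.map (homOfLE hDδ).op).hom
  have h3 : (X.presheaf.map (homOfLE hDδ).op).hom (X.presheaf.map (homOfLE (X.basicOpen_le δ)).op δ) =
      X.presheaf.map (homOfLE hDV).op δ := ringRes_res hDδ (X.basicOpen_le δ) δ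
  rwa [h3] at h2

section Core

variable {S' : Scheme.{u}} (P G : S'.Modules) [P.IsQuasicoherent] (k : ℕ)
  (E : S'.IdealSheafData) (π : P ⟶ G)
  (hG2' : ∀ (V : S'.affineOpens) (m : Γ(P, V.1)), π.app V.1 m = 0 →
    BlowUp.KilledByPowerNear E P V m)
  (V : S'.affineOpens) (δ : Γ(S', V.1)) (hEV : E.ideal V = Ideal.span {δ})

include hG2' hEV in
/-- On a basic open inside `D(δ)` the map `π` is injective on sections. -/
theorem app_injective_of_le_basicOpen (h : Γ(S', V.1)) (hhδ : S'.basicOpen h ≤ S'.basicOpen δ)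
    (z : Γ(P, S'.basicOpen h)) (hz : π.app (S'.basicOpen h) z = 0) : z = 0 := by
  obtain ⟨n, hn⟩ := hG2' (S'.affineBasicOpen h) z hz
  have htop : E.ideal (S'.affineBasicOpen h) = ⊤ := by
    rw [← E.map_ideal_basicOpen V h, hEV, Ideal.map_span, Set.image_singleton]
    exact Ideal.span_singleton_eq_top.mpr
      (isUnit_res_of_le_basicOpen δ (S'.basicOpen_le h) hhδ)
  have h1 : (1 : Γ(S', S'.basicOpen h)) ∈ (E ^ n).ideal (S'.affineBasicOpen h) := by
    rw [Scheme.IdealSheafData.ideal_pow]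
    change (1 : Γ(S', S'.basicOpen h)) ∈ (E.ideal (S'.affineBasicOpen h)) ^ n
    rw [htop, Ideal.top_pow]
    trivial
  have := hn 1 h1
  rwa [one_smul] at this

include V in
/-- On a basic open inside `D(f) ∩ D(δ)` the restrictions of the `m i` generate the sections
of `P`. -/
theorem span_res_eq_top (f : Γ(S', V.1)) (m : Fin k → Γ(P, V.1))
    (hm : ∀ x : Γ(P, V.1), ∃ a : Fin k → Γ(S', V.1), δ • (f • x - ∑ i, a i • m i) = 0)
    (h : Γ(S', V.1)) (hhf : S'.basicOpen h ≤ S'.basicOpen f)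
    (hhδ : S'.basicOpen h ≤ S'.basicOpen δ) :
    Submodule.span Γ(S', S'.basicOpen h)
      (Set.range fun i => P.presheaf.map (homOfLE (S'.basicOpen_le h)).op (m i)) = ⊤ := by
  classical
  have hDV : S'.basicOpen h ≤ V.1 := S'.basicOpen_le h
  rw [eq_top_iff]
  rintro y -
  letI := moduleSectionBasicOpen P h
  haveI := isLocalizedModule_resBasicOpenₗ V.2 P h
  obtain ⟨⟨m', ⟨_, N, rfl⟩⟩, hm'⟩ := IsLocalizedModule.surj (Submonoid.powers h)
    (resBasicOpenₗ P h) y
  have hm'' : S'.presheaf.map (homOfLE hDV).op (h ^ N) • y =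
      P.presheaf.map (homOfLE hDV).op m' := hm'
  obtain ⟨a, ha⟩ := hm m'
  have h1 := congrArg (P.presheaf.map (homOfLE hDV).op) ha
  rw [res_smul, map_sub, res_smul, map_sum, map_zero] at h1
  simp_rw [res_smul] at h1
  have hδu := isUnit_res_of_le_basicOpen δ hDV hhδ
  have hfu := isUnit_res_of_le_basicOpen f hDV hhf
  have hhu : IsUnit (S'.presheaf.map (homOfLE hDV).op (h ^ N)) := by
    rw [map_pow]
    exact (isUnit_res_of_le_basicOpen h hDV le_rfl).pow N
  have h2 : S'.presheaf.map (homOfLE hDV).op f • P.presheaf.map (homOfLE hDV).op m' =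
      ∑ i, S'.presheaf.map (homOfLE hDV).op (a i) • P.presheaf.map (homOfLE hDV).op (m i) := by
    obtain ⟨u, hu⟩ := hδu
    have h3 : (u : Γ(S', S'.basicOpen h)) • (S'.presheaf.map (homOfLE hDV).op f •
        P.presheaf.map (homOfLE hDV).op m' - ∑ i, S'.presheaf.map (homOfLE hDV).op (a i) •
        P.presheaf.map (homOfLE hDV).op (m i)) = 0 := by
      rw [hu]
      exact h1
    have h4 := congrArg (fun z => ((u⁻¹ : (Γ(S', S'.basicOpen h))ˣ) : Γ(S', S'.basicOpen h)) • z) h3
    simp only [smul_zero, ← mul_smul, Units.inv_mul, one_smul] at h4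
    exact sub_eq_zero.mp h4
  obtain ⟨v, hv⟩ := (hfu.mul hhu).exists_left_inv
  have h5 : y = v • ∑ i, S'.presheaf.map (homOfLE hDV).op (a i) •
      P.presheaf.map (homOfLE hDV).op (m i) := by
    rw [← h2, ← hm'', ← mul_smul, ← mul_smul, mul_assoc, hv, one_smul]
  rw [h5]
  refine Submodule.smul_mem _ _ (Submodule.sum_mem _ fun i _ => Submodule.smul_mem _ _ ?_)
  exact Submodule.subset_span ⟨i, rfl⟩

include hG2' hEV in
/-- The images of the `m i` in `G` are linearly independent over every open of `D(f)`. -/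
theorem inj_core
    (hLF : ∀ z : S', z ∉ E.support →
      ∃ T' : S'.Opens, z ∈ T' ∧ Nonempty (P.restrict T'.ι ≅ FlatMod.freeMod (T' : Scheme.{u}) k))
    (hδ : δ ∈ nonZeroDivisors Γ(S', V.1)) (f : Γ(S', V.1)) (m : Fin k → Γ(P, V.1))
    (hm : ∀ x : Γ(P, V.1), ∃ a : Fin k → Γ(S', V.1), δ • (f • x - ∑ i, a i • m i) = 0)
    (W : S'.Opens) (hW : W ≤ S'.basicOpen f) (c : Fin k → Γ(S', W))
    (hc : ∑ i, c i • G.presheaf.map (homOfLE hW).op
      (G.presheaf.map (homOfLE (S'.basicOpen_le f)).op (π.app V.1 (m i))) = 0) : c = 0 := by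
  classical
  funext i
  change c i = 0
  apply ring_section_eq_of_cover
  intro x hxW
  have hxV : x ∈ V.1 := S'.basicOpen_le f (hW hxW)
  obtain ⟨g, hgW, hxg⟩ := V.2.exists_basicOpen_le (V := W) ⟨x, hxW⟩ hxV
  refine ⟨S'.basicOpen g, hgW, hxg, ?_⟩
  rw [map_zero]
  have hDV : S'.basicOpen g ≤ V.1 := S'.basicOpen_le g
  obtain ⟨δg, hδgdef⟩ : ∃ δg : Γ(S', S'.basicOpen g), δg = S'.presheaf.map (homOfLE hDV).op δ :=
    ⟨_, rfl⟩
  have hinj : Function.Injective (S'.presheaf.map (homOfLE (S'.basicOpen_le δg)).op).hom := by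
    haveI := V.2.isLocalization_basicOpen g
    have hδg : δg ∈ nonZeroDivisors Γ(S', S'.basicOpen g) := by
      rw [hδgdef]
      exact IsLocalization.map_nonZeroDivisors_le (Submonoid.powers g) Γ(S', S'.basicOpen g)
        (Submonoid.mem_map.mpr ⟨δ, hδ, rfl⟩)
    haveI := (V.2.basicOpen g).isLocalization_basicOpen δg
    exact IsLocalization.injective (M := Submonoid.powers δg) _ (Submonoid.powers_le.mpr hδg)
  apply hinj
  rw [map_zero]
  have hD'g : S'.basicOpen δg ≤ S'.basicOpen g := S'.basicOpen_le δg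
  have hD'δ : S'.basicOpen δg ≤ S'.basicOpen δ := by
    rw [hδgdef]
    exact basicOpen_res_le hDV δ
  apply ring_section_eq_of_cover
  intro z hzD'
  have hzV : z ∈ V.1 := hDV (hD'g hzD')
  have hzsupp : z ∉ E.support := by
    rw [Scheme.IdealSheafData.mem_support_iff_of_mem (U := V) hzV, hEV, Scheme.zeroLocus_span,
      Scheme.zeroLocus_singleton]
    exact fun hcontra => hcontra (hD'δ hzD')
  obtain ⟨T', hzT', ⟨e⟩⟩ := hLF z hzsupp
  obtain ⟨h, hhle, hzh⟩ := V.2.exists_basicOpen_le (V := T' ⊓ S'.basicOpen δg)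
    ⟨z, ⟨hzT', hzD'⟩⟩ hzV
  have hhD' : S'.basicOpen h ≤ S'.basicOpen δg := hhle.trans inf_le_right
  refine ⟨S'.basicOpen h, hhD', hzh, ?_⟩
  rw [map_zero]
  have hhW : S'.basicOpen h ≤ W := (hhD'.trans hD'g).trans hgW
  have hhV : S'.basicOpen h ≤ V.1 := S'.basicOpen_le h
  have hhf : S'.basicOpen h ≤ S'.basicOpen f := hhW.trans hW
  have hhδ : S'.basicOpen h ≤ S'.basicOpen δ := hhD'.trans hD'δ
  have hres : S'.presheaf.map (homOfLE hhD').op ((S'.presheaf.map (homOfLE hD'g).op).hom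
      (S'.presheaf.map (homOfLE hgW).op (c i))) = S'.presheaf.map (homOfLE hhW).op (c i) := by
    rw [ringRes_res, ringRes_res]
  refine hres.trans ?_
  obtain ⟨eqv⟩ := nonempty_sections_equiv_of_le P e (hhle.trans inf_le_left)
  have hspan := span_res_eq_top P k V δ f m hm h hhf hhδ
  have key := eq_zero_of_sum_smul_eq_zero eqv _ hspan
    (fun i => S'.presheaf.map (homOfLE hhW).op (c i)) ?_
  · exact congrFun key i
  apply app_injective_of_le_basicOpen P G E π hG2' V δ hEV h hhδ
  rw [map_sum]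
  have h1 := congrArg (G.presheaf.map (homOfLE hhW).op) hc
  rw [map_sum, map_zero] at h1
  simp_rw [res_smul, res_res] at h1
  simp_rw [Scheme.Modules.Hom.app_smul, app_res π hhV]
  exact h1

end Core

theorem aux {S' : Scheme.{u}} (P G : S'.Modules) [P.IsQuasicoherent]
    [SheafOfModules.IsFiniteType (R := S'.ringCatSheaf) P] (k : ℕ) (E : S'.IdealSheafData)
    (hE : E = Fitt.sheafIdeal P k) (hEC : BlowUp.IsEffCartierIdeal E) (π : P ⟶ G) [Epi π]
    (hG2 : ∀ (V : S'.affineOpens) (m : Γ(P, V.1)), π.app V.1 m = 0 ↔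
      BlowUp.KilledByPowerNear E P V m)
    (hLF : ∀ z : S', z ∉ E.support →
      ∃ T' : S'.Opens, z ∈ T' ∧ Nonempty (P.restrict T'.ι ≅ FlatMod.freeMod (T' : Scheme.{u}) k)) :
    FlatMod.IsFinLocFreeOfRank k G := by
  classical
  intro s'
  obtain ⟨V, hs'V, δ, hδ, hEV⟩ := hEC s'
  have hFitt : Fitt.ideal Γ(S', V.1) Γ(P, V.1) k = Ideal.span {δ} := by
    rw [← sheafIdeal_ideal P k V, ← hE]
    exact hEV
  haveI := finite_sections_of_isAffineOpen P V.2
  obtain ⟨f, hfp, m, hm⟩ := Groth.Agent.H20.FittGens.exists_gens_mod_torsion Γ(P, V.1) k δ hFitt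
    (V.2.primeIdealOf ⟨s', hs'V⟩).asIdeal
  have hs'f : s' ∈ S'.basicOpen f :=
    (mem_basicOpen_iff_notMem_primeIdealOf V.2 s' hs'V f).mpr hfp
  refine ⟨S'.basicOpen f, hs'f, ?_⟩
  apply Groth.Agent.H36.FreeIsoRestrict.nonempty_restrict_iso_freeMod_of_sections G
    (S'.basicOpen f) k
    (fun i => G.presheaf.map (homOfLE (S'.basicOpen_le f)).op (π.app V.1 (m i)))
  · intro W hW t x hxW
    exact Groth.Agent.S8911.surj_core P G k E π (fun V m h => (hG2 V m).mpr h) V δ hEV f m hm
      W hW t x hxW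
  · intro W hW c hc
    exact inj_core P G k E π (fun V m h => (hG2 V m).mp h) V δ hEV hLF hδ f m hm W hW c hc

/-- Let S be a scheme, F a quasi-coherent O_S-module of finite type and k ≥ 0 such that F is locally
free of rank k on the complement of the closed subscheme Z_k cut out by Fit_k(F). Let b : S' ⟶ S be
a blowing up of S in Z_k and π : b^*F ⟶ G the strict transform of F. Then G is finite locally free
of rank k. -/
theorem result (S : Scheme.{u}) (F : S.Modules) (hF : Coh.IsQCoh F) (hft : CohB1.IsFT F)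
    (k : ℕ) (hfree : FlatMod.IsFinLocFreeOfRank k (F.restrict (Scheme.Opens.ι (Fitt.sheafIdeal F k).support.compl)))
    {S' : Scheme.{u}} (b : S' ⟶ S) (hb : BlowUp.IsBlowUp b (Fitt.sheafIdeal F k)) (G : S'.Modules)
    (π : (Scheme.Modules.pullback b).obj F ⟶ G) (hG : BlowUp.IsStrictTransform b (Fitt.sheafIdeal F k) F G π) :
    FlatMod.IsFinLocFreeOfRank k G := by
  haveI : F.IsQuasicoherent := hF
  haveI : SheafOfModules.IsFiniteType (R := S.ringCatSheaf) F := hft
  haveI : ((Scheme.Modules.pullback b).obj F).IsQuasicoherent := isQuasicoherent_pullback b F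
  haveI : SheafOfModules.IsFiniteType (R := S'.ringCatSheaf) ((Scheme.Modules.pullback b).obj F) :=
    isFiniteType_pullback b F
  haveI : Epi π := hG.1
  refine aux ((Scheme.Modules.pullback b).obj F) G k ((Fitt.sheafIdeal F k).comap b)
    (Groth.Agent.S8872.result b F hF hft k) hb.1 π hG.2 ?_
  intro z hz
  have hLF := Groth.Agent.H42.PullRestrictFLF.isFinLocFreeOfRank_pullback_restrict b F (Fitt.sheafIdeal F k).support.compl k hfree
  have hz' : z ∈ b ⁻¹ᵁ (Fitt.sheafIdeal F k).support.compl := by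
    rw [Scheme.IdealSheafData.support_comap] at hz
    exact hz
  obtain ⟨T', hT', hiso⟩ := exists_restrict_iso_freeMod_of_restrict
    (b ⁻¹ᵁ (Fitt.sheafIdeal F k).support.compl).ι ((Scheme.Modules.pullback b).obj F) k hLF ⟨z, hz'⟩
  exact ⟨T', hT', hiso⟩

end Groth.Agent.S8912
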