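import Groth.Statements.S8913
-- import your own Groth.Agent.* helpers here
import Groth.Agent.S8912
import Groth.Agent.H8.StrictKer
import Groth.Agent.H8.FPAffine
import Groth.Agent.H34.Fitting2
import Groth.Agent.H42.FPKernel

set_option autoImplicit false
universe u
open CategoryTheory CategoryTheory.Limits AlgebraicGeometry TopologicalSpace
open SDiv

namespace Groth.Agent.S8913

open Groth.Agent.H8 Groth.Agent.H17.FittSheaf Opposite AlgebraicGeometry.Scheme.Modules
open Groth.Agent.S8912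

set_option linter.style.haveILetI false

/-- A quasi-coherent module of finite type which is locally free of rank `r` on a schematically
dense open is free of rank `r` near every point outside the `r`-th Fitting support. -/
theorem locFree_off_fitt {X : Scheme.{u}} (F : X.Modules) [F.IsQuasicoherent]
    [SheafOfModules.IsFiniteType (R := X.ringCatSheaf) F] (U : X.Opens)
    (hU : CInt.IsSchematicallyDense U) (r : ℕ)
    (hfree : FlatMod.IsFinLocFreeOfRank r (F.restrict U.ι)) (y : X)
    (hy : y ∉ (Fitt.sheafIdeal F r).support) :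
    ∃ T : X.Opens, y ∈ T ∧ Nonempty (F.restrict T.ι ≅ FlatMod.freeMod (T : Scheme.{u}) r) := by
  classical
  obtain ⟨V₀', hV₀, hyV₀', -⟩ := exists_isAffineOpen_mem_and_subset (x := y) (U := (⊤ : X.Opens))
    trivial
  obtain ⟨V₀, hV₀def⟩ : ∃ V₀ : X.affineOpens, V₀ = ⟨V₀', hV₀⟩ := ⟨_, rfl⟩
  have hyV₀ : y ∈ V₀.1 := by rw [hV₀def]; exact hyV₀'
  rw [Scheme.IdealSheafData.mem_support_iff_of_mem (U := V₀) hyV₀,
    Scheme.mem_zeroLocus_iff] at hy
  push_neg at hy
  obtain ⟨d, hd, hyd⟩ := hy
  have htop : (Fitt.sheafIdeal F r).ideal (X.affineBasicOpen d) = ⊤ := by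
    rw [← (Fitt.sheafIdeal F r).map_ideal_basicOpen V₀ d]
    have hu : IsUnit (X.presheaf.map (homOfLE (X.basicOpen_le d)).op d) :=
      RingedSpace.isUnit_res_basicOpen X.toRingedSpace d
    exact Ideal.eq_top_of_isUnit_mem _ (Ideal.mem_map_of_mem _ hd) hu
  obtain ⟨V, hVdef⟩ : ∃ V : X.affineOpens, V = X.affineBasicOpen d := ⟨_, rfl⟩
  have hyV : y ∈ V.1 := by rw [hVdef]; exact hyd
  have hFitt : Fitt.ideal Γ(X, V.1) Γ(F, V.1) r = Ideal.span {(1 : Γ(X, V.1))} := by
    rw [← sheafIdeal_ideal F r V, Ideal.span_singleton_one, hVdef]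
    exact htop
  haveI := finite_sections_of_isAffineOpen F V.2
  obtain ⟨f, hfp, m, hm⟩ := Groth.Agent.H20.FittGens.exists_gens_mod_torsion Γ(F, V.1) r 1 hFitt
    (V.2.primeIdealOf ⟨y, hyV⟩).asIdeal
  have hyf : y ∈ X.basicOpen f :=
    (mem_basicOpen_iff_notMem_primeIdealOf V.2 y hyV f).mpr hfp
  refine ⟨X.basicOpen f, hyf, ?_⟩
  have hEV : (⊤ : X.IdealSheafData).ideal V = Ideal.span {(1 : Γ(X, V.1))} := by
    rw [Ideal.span_singleton_one]
    rfl
  have hkill : ∀ (V' : X.affineOpens) (m' : Γ(F, V'.1)),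
      BlowUp.KilledByPowerNear (⊤ : X.IdealSheafData) F V' m' → (𝟙 F : F ⟶ F).app V'.1 m' = 0 := by
    rintro V' m' ⟨n, hn⟩
    have h1 : (1 : Γ(X, V'.1)) ∈ ((⊤ : X.IdealSheafData) ^ n).ideal V' := by
      rw [Scheme.IdealSheafData.ideal_pow]
      change (1 : Γ(X, V'.1)) ∈ ((⊤ : X.IdealSheafData).ideal V') ^ n
      rw [show (⊤ : X.IdealSheafData).ideal V' = ⊤ from rfl, Ideal.top_pow]
      trivial
    have := hn 1 h1
    rw [one_smul] at this
    exact this
  apply Groth.Agent.H36.FreeIsoRestrict.nonempty_restrict_iso_freeMod_of_sections F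
    (X.basicOpen f) r
    (fun i => F.presheaf.map (homOfLE (X.basicOpen_le f)).op ((𝟙 F : F ⟶ F).app V.1 (m i)))
  · intro W hW t x hxW
    exact Groth.Agent.S8911.surj_core F F r ⊤ (𝟙 F) hkill V 1 hEV f m hm W hW t x hxW
  · intro W hW c hc
    funext i
    change c i = 0
    apply hU W
    rw [map_zero]
    apply ring_section_eq_of_cover
    intro z hz
    have hzW : z ∈ W := hz.1
    have hzU : z ∈ U := hz.2
    have hzV : z ∈ V.1 := X.basicOpen_le f (hW hzW)
    obtain ⟨T', hzT', ⟨e⟩⟩ := exists_restrict_iso_freeMod_of_restrict U.ι F r hfree ⟨z, hzU⟩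
    obtain ⟨h, hhle, hzh⟩ := V.2.exists_basicOpen_le (V := T' ⊓ (W ⊓ U)) ⟨z, ⟨hzT', hz⟩⟩ hzV
    have hhWU : X.basicOpen h ≤ W ⊓ U := hhle.trans inf_le_right
    refine ⟨X.basicOpen h, hhWU, hzh, ?_⟩
    have hhW : X.basicOpen h ≤ W := hhWU.trans inf_le_left
    have hhV : X.basicOpen h ≤ V.1 := X.basicOpen_le h
    have hhf : X.basicOpen h ≤ X.basicOpen f := hhW.trans hW
    have hh1 : X.basicOpen h ≤ X.basicOpen (1 : Γ(X, V.1)) := by
      rw [X.basicOpen_one]
      exact hhV
    rw [map_zero, ringRes_res]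
    obtain ⟨eqv⟩ := nonempty_sections_equiv_of_le F e (hhle.trans inf_le_left)
    have hspan := span_res_eq_top F r V 1 f m hm h hhf hh1
    have key := eq_zero_of_sum_smul_eq_zero eqv _ hspan
      (fun i => X.presheaf.map (homOfLE hhW).op (c i)) ?_
    · exact congrFun key i
    have h1 := congrArg (F.presheaf.map (homOfLE hhW).op) hc
    rw [map_sum, map_zero] at h1
    simp_rw [res_smul, res_res] at h1
    exact h1

theorem isFiniteTypeIdeal_fittSheaf {X : Scheme.{u}} (F : X.Modules) (hF : CohB1.IsFP F) (r : ℕ) :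
    BlowUp.IsFiniteTypeIdeal (Fitt.sheafIdeal F r) := by
  haveI : SheafOfModules.IsFinitePresentation (R := X.ringCatSheaf) F := hF
  haveI hq : F.IsQuasicoherent := inferInstance
  haveI hft : SheafOfModules.IsFiniteType (R := X.ringCatSheaf) F := inferInstance
  intro V
  rw [sheafIdeal_ideal F r V]
  haveI := finitePresentation_sections_of_isAffineOpen F V.2
  exact Groth.Agent.H34.Fit.fittIdeal_fg r

theorem disjoint_support_fittSheaf {X : Scheme.{u}} (F : X.Modules) [F.IsQuasicoherent]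
    [SheafOfModules.IsFiniteType (R := X.ringCatSheaf) F] (U : X.Opens) (r : ℕ)
    (hfree : FlatMod.IsFinLocFreeOfRank r (F.restrict U.ι)) :
    Disjoint ((Fitt.sheafIdeal F r).support : Set X) (U : Set X) := by
  rw [Set.disjoint_left]
  intro x hxs hxU
  obtain ⟨T', hxT', ⟨e⟩⟩ := exists_restrict_iso_freeMod_of_restrict U.ι F r hfree ⟨x, hxU⟩
  obtain ⟨W, hW, hxW, hWT'⟩ := exists_isAffineOpen_mem_and_subset (x := x) (U := T') hxT'
  obtain ⟨eqv⟩ := nonempty_sections_equiv_of_le F e (show W ≤ T' from hWT')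
  have h1 : Fitt.ideal Γ(X, W) Γ(F, W) r = ⊤ := by
    exact Groth.Agent.H34.Fit.fittIdeal_eq_top_of_span (Module.Basis.ofEquivFun eqv)
      (Module.Basis.span_eq _)
  have h2 : x ∈ (Fitt.sheafIdeal F r).support := hxs
  rw [Scheme.IdealSheafData.mem_support_iff_of_mem (U := ⟨W, hW⟩) hxW, sheafIdeal_ideal F r ⟨W, hW⟩,
    h1, Scheme.mem_zeroLocus_iff] at h2
  have h3 := h2 1 trivial
  rw [X.basicOpen_one] at h3
  exact h3 hxW

/-- Let X be a scheme, F a finitely presented O_X-module and U ⊆ X an open subscheme which is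
scheme-theoretically dense and over which F is locally free of constant finite rank r. Then: (1)
Fit_r(F) is of finite type with support disjoint from U, so a blowing up b : X' ⟶ X of X in Fit_r(F)
is U-admissible; (2) the strict transform G of F along such b is locally free of rank r; (3) the
kernel of the surjection b^*F ⟶ G is finitely presented and restricts to zero over b⁻¹U. This row
does not assert that b^*F and the kernel are perfect of tor dimension at most one. -/
theorem result (X : Scheme.{u}) (F : X.Modules) (hF : CohB1.IsFP F)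
    (U : X.Opens) (hU : CInt.IsSchematicallyDense U) (r : ℕ) (hfree : FlatMod.IsFinLocFreeOfRank r (F.restrict U.ι)) :
    BlowUp.IsAdmissibleFor U (Fitt.sheafIdeal F r) ∧
      ∀ (X' : Scheme.{u}) (b : X' ⟶ X), BlowUp.IsBlowUp b (Fitt.sheafIdeal F r) →
        ∀ (G : X'.Modules) (π : (Scheme.Modules.pullback b).obj F ⟶ G), BlowUp.IsStrictTransform b (Fitt.sheafIdeal F r) F G π →
          FlatMod.IsFinLocFreeOfRank r G ∧ CohB1.IsFP (kernel π) ∧ IsZero ((kernel π).restrict (b ⁻¹ᵁ U).ι) := by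
  haveI : SheafOfModules.IsFinitePresentation (R := X.ringCatSheaf) F := hF
  haveI hq : F.IsQuasicoherent := inferInstance
  haveI hft : SheafOfModules.IsFiniteType (R := X.ringCatSheaf) F := inferInstance
  have hdisj := disjoint_support_fittSheaf F U r hfree
  refine ⟨⟨isFiniteTypeIdeal_fittSheaf F hF r, hdisj⟩, ?_⟩
  intro X' b hb G π hG
  haveI : ((Scheme.Modules.pullback b).obj F).IsQuasicoherent := isQuasicoherent_pullback b F
  haveI : SheafOfModules.IsFiniteType (R := X'.ringCatSheaf) ((Scheme.Modules.pullback b).obj F) :=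
    isFiniteType_pullback b F
  haveI : Epi π := hG.1
  have hGfree : FlatMod.IsFinLocFreeOfRank r G := by
    refine Groth.Agent.S8912.aux ((Scheme.Modules.pullback b).obj F) G r
      ((Fitt.sheafIdeal F r).comap b) (Groth.Agent.S8872.result b F hq hft r) hb.1 π hG.2 ?_
    intro z hz
    rw [Scheme.IdealSheafData.support_comap] at hz
    obtain ⟨T, hT, ⟨e⟩⟩ := locFree_off_fitt F U hU r hfree (b z) hz
    have h1 : FlatMod.IsFinLocFreeOfRank r (F.restrict T.ι) := fun x =>
      ⟨⊤, trivial, ⟨(restrictFunctor (⊤ : (T : Scheme.{u}).Opens).ι).mapIso e ≪≫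
        restrictFreeIso (⊤ : (T : Scheme.{u}).Opens).ι r⟩⟩
    have h2 := Groth.Agent.H42.PullRestrictFLF.isFinLocFreeOfRank_pullback_restrict b F T r h1
    exact exists_restrict_iso_freeMod_of_restrict (b ⁻¹ᵁ T).ι ((Scheme.Modules.pullback b).obj F) r
      h2 ⟨z, hT⟩
  refine ⟨hGfree, Groth.Agent.H42.FPKernel.isFP_kernel_of_epi_locFree (Groth.Agent.H42.FPKernel.isFP_pullback b F hF) r hGfree π, ?_⟩
  refine isZero_kernel_restrict ((Scheme.Modules.pullback b).obj F) G
    ((Fitt.sheafIdeal F r).comap b) π (fun V m h => (hG.2 V m).mp h) (b ⁻¹ᵁ U) ?_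
  rw [Scheme.IdealSheafData.support_comap]
  exact hdisj.preimage b.base

end Groth.Agent.S8913
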