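import Groth.Statements.S8915
-- import your own Groth.Agent.* helpers here
import Groth.Agent.H8.OmegaUniv
import Groth.Agent.H8.ZeroStalk
import Groth.Agent.H8.SuppClosed
import Groth.Agent.H39.DerFin
import Groth.Agent.H39.DerRes
import Groth.Agent.S5937
import Groth.Agent.S8876
import Groth.Agent.S4357

set_option autoImplicit false
universe u
open CategoryTheory CategoryTheory.Limits AlgebraicGeometry TopologicalSpace
open SDiv

namespace Groth.Agent.S8915

/-- Let f : X ⟶ S be locally of finite type and quasi-separated. Then the closed subset of X defined by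
the Fitting ideal Fit_0(Ω_{X/S}) is exactly the set of points at which f is not unramified, i.e.
which have no open neighbourhood on which f is formally unramified. The published statement does not
assume f quasi-separated; this row does, because the module Ω_{X/S} used here is defined for
quasi-separated f. -/
theorem result {X S : Scheme.{u}} (f : X ⟶ S) [LocallyOfFiniteType f] [QuasiSeparated f]
    (x : ↥X) :
    x ∈ (Fitt.sheafIdeal (Omega.sheaf f) 0).support ↔ ¬ ∃ U : X.Opens, x ∈ U ∧ FormallyUnramified (U.ι ≫ f) := by
  have hu := Groth.Agent.H8.OmegaUniv.isUniversal_dOmega f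
  haveI hq : (Omega.sheaf f).IsQuasicoherent :=
    Groth.Agent.H39.DerFin.isQuasicoherent_of_isUniversal f hu
  have hft : CohB1.IsFT (Omega.sheaf f) :=
    Groth.Agent.H39.DerFin.isFiniteType_of_isUniversal f hu
  have hsupp := Groth.Agent.S8876.result X (Omega.sheaf f) hq hft
  have hcl : IsClosed (CohB1.support (Omega.sheaf f)) :=
    Groth.Agent.H8.isClosed_support_of_isFiniteType (Omega.sheaf f)
  have key : ∀ U : X.Opens, FormallyUnramified (U.ι ≫ f) ↔
      Disjoint (U : Set X) (CohB1.support (Omega.sheaf f)) := by
    intro U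
    rw [Groth.Agent.S5937.result (U.ι ≫ f) _ (Groth.Agent.H39.DerRes.derRes U.ι (OmegaSh.dOmega f))
      (Groth.Agent.H39.DerRes.isUniversal_derRes U.ι hu)]
    have e : (Omega.sheaf f).restrict U.ι ≅ (Scheme.Modules.pullback U.ι).obj (Omega.sheaf f) :=
      (Scheme.Modules.restrictFunctorIsoPullback U.ι).app (Omega.sheaf f)
    rw [e.isZero_iff, Groth.Agent.H8.isZero_iff_support_eq_empty,
      Groth.Agent.S4357.result U.ι (Omega.sheaf f) hft, Set.disjoint_left]
    constructor
    · intro h y hyU hy
      have : (⟨y, hyU⟩ : U) ∈ (U.ι.base ⁻¹' CohB1.support (Omega.sheaf f)) := hy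
      rw [h] at this
      exact this
    · intro h
      ext y
      simp only [Set.mem_preimage, Set.mem_empty_iff_false, iff_false]
      exact fun hy => h y.2 hy
  change x ∈ ((Fitt.sheafIdeal (Omega.sheaf f) 0).support : Set X) ↔ _
  rw [hsupp]
  constructor
  · rintro hx ⟨U, hxU, hU⟩
    exact Set.disjoint_left.mp ((key U).mp hU) hxU hx
  · intro h
    by_contra hx
    exact h ⟨⟨(CohB1.support (Omega.sheaf f))ᶜ, hcl.isOpen_compl⟩, hx,
      (key _).mpr disjoint_compl_left⟩

end Groth.Agent.S8915
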