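import Groth.Statements.S8916
import Mathlib
import Groth.Agent.H70.FibreJacFitt
import Groth.Agent.H70.RelDimPointwise
import Groth.Agent.S5022
import Groth.Agent.H17.FittSheaf
import Groth.Agent.H8.QCohStalk
import Groth.Agent.H8.OmegaUniv
import Groth.Agent.H8.FreeMod
import Groth.Agent.H39.DerFin
import Groth.Agent.H49.SmoothFibre

set_option autoImplicit false
universe u
open CategoryTheory CategoryTheory.Limits AlgebraicGeometry TopologicalSpace
open SDiv

namespace Groth.Agent.S8916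



/-- Let f : X ⟶ S be flat, locally of finite presentation and quasi-separated, and d ≥ 0 such that all
irreducible components of each nonempty fibre of f have dimension d. Then the closed subset of X
defined by the Fitting ideal Fit_d(Ω_{X/S}) is exactly the set of points at which f is not smooth,
i.e. which have no open neighbourhood on which f is smooth. The published statement does not assume
f quasi-separated; this row does, because the module Ω_{X/S} used here is defined for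
quasi-separated f. -/
theorem result {X S : Scheme.{u}} (f : X ⟶ S) [Flat f] [LocallyOfFinitePresentation f] [QuasiSeparated f]
    (d : ℕ) (hdim : ∀ s : ↥S, ∀ T ∈ irreducibleComponents ↥(f.fiber s), topologicalKrullDim ↥T = d) (x : ↥X) :
    x ∈ (Fitt.sheafIdeal (Omega.sheaf f) d).support ↔ ¬ ∃ U : X.Opens, x ∈ U ∧ Smooth (U.ι ≫ f) := by
  classical
  have hu := Groth.Agent.H8.OmegaUniv.isUniversal_dOmega f
  haveI hq : (Omega.sheaf f).IsQuasicoherent :=
    Groth.Agent.H39.DerFin.isQuasicoherent_of_isUniversal f hu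
  haveI hft : SheafOfModules.IsFiniteType (R := X.ringCatSheaf) (Omega.sheaf f) :=
    Groth.Agent.H39.DerFin.isFiniteType_of_isUniversal f hu
  have hfd : ∀ x : X, FlatMor.fibreDimAt f x = (d : WithBot ℕ∞) :=
    (Groth.Agent.H70.RelDimPointwise.hasRelDim_iff f d).mp hdim
  have hsm : (∃ U : X.Opens, x ∈ U ∧ Smooth (U.ι ≫ f)) ↔ x ∈ f.smoothLocus := by
    constructor
    · rintro ⟨U, hxU, hU⟩
      have h1 := Scheme.Hom.preimage_smoothLocus_eq U.ι f
      rw [Scheme.Hom.smoothLocus_eq_top (U.ι ≫ f)] at h1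
      have h2 : (⟨x, hxU⟩ : U) ∈ U.ι ⁻¹ᵁ f.smoothLocus := by rw [h1]; trivial
      exact h2
    · intro hx
      exact ⟨f.smoothLocus, hx,
        Groth.Agent.H49.SmoothFibre.smooth_comp_of_le_smoothLocus f.smoothLocus.ι f
          (fun w => w.2)⟩
  rw [hsm]
  -- support criterion on a chart
  have hsupp : ∀ (T : S.Opens) (hT : IsAffineOpen T) (W : X.Opens) (hW : IsAffineOpen W)
      (hWT : W ≤ f ⁻¹ᵁ T) (hxW : x ∈ W),
      letI := (f.appLE T W hWT).hom.toAlgebra
      (x ∈ (Fitt.sheafIdeal (Omega.sheaf f) d).support ↔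
        Fitt.ideal Γ(X, W) Ω[Γ(X, W)⁄Γ(S, T)] d ≤ (hW.primeIdealOf ⟨x, hxW⟩).asIdeal) := by
    intro T hT W hW hWT hxW
    letI := (f.appLE T W hWT).hom.toAlgebra
    obtain ⟨ψ⟩ := Groth.Agent.H39.DerFin.nonempty_sections_linearEquiv_kaehler f hu hT hW hWT
    rw [Scheme.IdealSheafData.mem_support_iff_of_mem (U := ⟨W, hW⟩) hxW,
      Groth.Agent.H17.FittSheaf.sheafIdeal_ideal, Scheme.mem_zeroLocus_iff,
      Groth.Agent.H70.FibreJacFitt.fitt_congr ψ d]
    constructor
    · intro h a ha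
      by_contra hap
      exact h a ha ((Groth.Agent.H8.mem_basicOpen_iff_notMem_primeIdealOf hW x hxW a).mpr hap)
    · intro h a ha hxa
      exact (Groth.Agent.H8.mem_basicOpen_iff_notMem_primeIdealOf hW x hxW a).mp hxa (h ha)
  obtain ⟨_, ⟨T, hT, rfl⟩, hsT, -⟩ :=
    S.isBasis_affineOpens.exists_subset_of_mem_open (Set.mem_univ (f x)) isOpen_univ
  constructor
  · intro hmem hx
    obtain ⟨-, U, n, hxU, ⟨e⟩, hn⟩ :=
      (Groth.Agent.S5022.result f _ (OmegaSh.dOmega f) hu x).mp hx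
    have hnd : n = d := by
      have := hn.symm.trans (hfd x)
      exact_mod_cast this
    subst hnd
    obtain ⟨_, ⟨W, hW, rfl⟩, hxW, hWsub⟩ :=
      X.isBasis_affineOpens.exists_subset_of_mem_open
        (show x ∈ ((f ⁻¹ᵁ T) ⊓ U : X.Opens) from ⟨hsT, hxU⟩) ((f ⁻¹ᵁ T) ⊓ U).2
    have hWT : W ≤ f ⁻¹ᵁ T := fun w hw => (hWsub hw).1
    have hWU : W ≤ U := fun w hw => (hWsub hw).2
    letI := (f.appLE T W hWT).hom.toAlgebra
    obtain ⟨φ⟩ := Groth.Agent.H8.nonempty_sections_equiv_of_le (Omega.sheaf f) e hWU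
    obtain ⟨ψ⟩ := Groth.Agent.H39.DerFin.nonempty_sections_linearEquiv_kaehler f hu hT hW hWT
    have hle := (hsupp T hT W hW hWT hxW).mp hmem
    rw [Groth.Agent.H70.FibreJacFitt.fitt_congr (ψ.symm ≪≫ₗ φ) n,
      Groth.Agent.H34.Fit.fittIdeal_eq_top_of_span
        (fun i : Fin n => (Pi.basisFun Γ(X, W) (Fin n)) i) (Pi.basisFun Γ(X, W) (Fin n)).span_eq]
      at hle
    exact (hW.primeIdealOf ⟨x, hxW⟩).isPrime.ne_top (top_le_iff.mp hle)
  · intro hx
    by_contra hmem
    apply hx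
    obtain ⟨_, ⟨W, hW, rfl⟩, hxW, hWsub⟩ :=
      X.isBasis_affineOpens.exists_subset_of_mem_open
        (show x ∈ (f ⁻¹ᵁ T : X.Opens) from hsT) (f ⁻¹ᵁ T).2
    have hWT : W ≤ f ⁻¹ᵁ T := hWsub
    have hF := fun h => hmem ((hsupp T hT W hW hWT hxW).mpr h)
    haveI : LocallyOfFinitePresentation (f.fiberToSpecResidueField (f x)) :=
      MorphismProperty.pullback_snd (P := @LocallyOfFinitePresentation) _ _ inferInstance
    have hz := Groth.Agent.H70.FibreJacFitt.asFiber_mem_smoothLocus_of_fitt f x T hT W hW hWT hxW d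
      hF (le_of_eq (hfd x).symm)
    exact (Groth.Agent.H49.SmoothFibre.mem_smoothLocus_iff_flat_and_fiber f x (f x) rfl
      (f.asFiber x) (Scheme.Hom.fiberι_asFiber f x)).mpr ⟨Flat.stalkMap f x, hz⟩

end Groth.Agent.S8916
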