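import Groth.Statements.S8917
-- import your own Groth.Agent.* helpers here
import Groth.Agent.H8.OmegaUniv
import Groth.Agent.H39.DerFin
import Groth.Agent.S8872
import Groth.Agent.S9370
import Groth.Agent.S9386

namespace Groth.Agent.S8917

open AlgebraicGeometry CategoryTheory

universe u

/-- Fitting ideal sheaves only depend on the isomorphism class of the module. -/
theorem sheafIdeal_congr {X : Scheme.{u}} {F G : X.Modules} (e : F ≅ G) (r : ℕ) :
    Fitt.sheafIdeal F r = Fitt.sheafIdeal G r := by
  have key : ∀ {F G : X.Modules} (e : F ≅ G) (U : X.Opens),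
      Fitt.ideal Γ(X, U) Γ(F, U) r ≤ Fitt.ideal Γ(X, U) Γ(G, U) r := by
    intro F G e U
    let φ : Γ(F, U) →ₗ[Γ(X, U)] Γ(G, U) :=
      { toFun := e.hom.app U
        map_add' := fun a b => map_add _ a b
        map_smul' := fun c a => Scheme.Modules.Hom.app_smul e.hom c a }
    refine Groth.Agent.H34.Fit.fittIdeal_le_of_surjective φ (fun y => ⟨e.inv.app U y, ?_⟩) r
    change e.hom.app U (e.inv.app U y) = y
    rw [← ConcreteCategory.comp_apply, ← Scheme.Modules.Hom.comp_app, e.inv_hom_id]
    rfl
  unfold Fitt.sheafIdeal
  congr 1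
  funext U
  exact le_antisymm (key e U.1) (key e.symm U.1)

end Groth.Agent.S8917


set_option autoImplicit false
universe u
open CategoryTheory CategoryTheory.Limits AlgebraicGeometry TopologicalSpace
open SDiv

namespace Groth.Agent.S8917

/-- Let f : X ⟶ S be locally of finite type and quasi-separated and let g : S' ⟶ S be a morphism, X' = X
×_S S' with projections g' : X' ⟶ X and f' : X' ⟶ S'. Then for every i the inverse image ideal sheaf
under g' of the i-th Fitting ideal of Ω_{X/S} is the i-th Fitting ideal of Ω_{X'/S'}: the Fitting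
subschemes of Ω are compatible with base change. The published statement does not assume f
quasi-separated; this row does, because the module Ω_{X/S} used here is defined for quasi-separated
f. -/
theorem result {X S S' : Scheme.{u}} (f : X ⟶ S) [LocallyOfFiniteType f] [QuasiSeparated f] (g : S' ⟶ S)
    (i : ℕ) :
    (Fitt.sheafIdeal (Omega.sheaf f) i).comap (pullback.fst f g) = Fitt.sheafIdeal (Omega.sheaf (pullback.snd f g)) i := by
  have hu := Groth.Agent.H8.OmegaUniv.isUniversal_dOmega f
  have hu' := Groth.Agent.H8.OmegaUniv.isUniversal_dOmega (pullback.snd f g)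
  haveI hq : (Omega.sheaf f).IsQuasicoherent :=
    Groth.Agent.H39.DerFin.isQuasicoherent_of_isUniversal f hu
  have hft : CohB1.IsFT (Omega.sheaf f) :=
    Groth.Agent.H39.DerFin.isFiniteType_of_isUniversal f hu
  rw [Groth.Agent.S8872.result (pullback.fst f g) (Omega.sheaf f) hq hft i]
  obtain ⟨c, hc, -⟩ := Groth.Agent.S9370.result f (pullback.snd f g) (pullback.fst f g) g
    pullback.condition.symm _ (OmegaSh.dOmega f) hu _ (OmegaSh.dOmega (pullback.snd f g)) hu'
  haveI : IsIso c := Groth.Agent.S9386.result f g (pullback.fst f g) (pullback.snd f g)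
    (IsPullback.of_hasPullback f g) _ _ hu _ _ hu' c hc
  exact sheafIdeal_congr (asIso c) i

end Groth.Agent.S8917
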