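import Groth.Statements.S8922
-- import your own Groth.Agent.* helpers here
import Groth.Agent.H8.AffBC
import Groth.Agent.H8.StrictQCoh2
import Groth.Agent.H21.EpiPush
import Groth.Agent.H9.ComapIdeal
import Groth.Agent.H8.PullbackFinType

set_option autoImplicit false
set_option linter.style.haveILetI false
universe u
open CategoryTheory CategoryTheory.Limits AlgebraicGeometry TopologicalSpace
open SDiv

namespace Groth.Agent.S8922

theorem isPullback_map {X Y S S' : Scheme.{u}} (hX : X ⟶ S) (hY : Y ⟶ S) (g : X ⟶ Y)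
    (h : g ≫ hY = hX) (b : S' ⟶ S) :
    IsPullback (pullback.fst hX b) (pullback.map hX b hY b g (𝟙 S') (𝟙 S)
          ((Category.comp_id hX).trans h.symm) ((Category.comp_id b).trans (Category.id_comp b).symm))
      g (pullback.fst hY b) := by
  refine IsPullback.of_bot (v₂₁ := pullback.snd hY b) (v₂₂ := hY) (h₃₁ := b) ?_ ?_
    (IsPullback.of_hasPullback hY b)
  · have h1 : pullback.map hX b hY b g (𝟙 S') (𝟙 S)
          ((Category.comp_id hX).trans h.symm) ((Category.comp_id b).trans (Category.id_comp b).symm) ≫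
        pullback.snd hY b = pullback.snd hX b := by
      rw [pullback.lift_snd, Category.comp_id]
    rw [h1, h]
    exact IsPullback.of_hasPullback hX b
  · exact (pullback.lift_fst _ _ _).symm

theorem forall_mem_map_smul_eq_zero_iff {A B : Type*} [CommRing A] [CommRing B] (φ : A →+* B)
    (J : Ideal A) {M : Type*} [AddCommGroup M] [Module B M] (x : M) :
    (∀ a ∈ J.map φ, a • x = 0) ↔ ∀ b ∈ J, φ b • x = 0 := by
  constructor
  · intro h b hb
    exact h _ (Ideal.mem_map_of_mem φ hb)
  · intro h a ha
    have h1 : J.map φ ≤ LinearMap.ker (LinearMap.toSpanSingleton B M x) := by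
      rw [Ideal.map_le_iff_le_comap]
      intro b hb
      simpa using h b hb
    simpa using h1 ha

/-- The general statement: strict transforms commute with affine pushforward in a cartesian
square. -/
theorem strict_push {X Y X' Y' : Scheme.{u}} (g : X ⟶ Y) [IsAffineHom g] (pY : Y' ⟶ Y)
    (pX : X' ⟶ X) (gm : X' ⟶ Y') (hpb : IsPullback pX gm g pY) (EY : Y.IdealSheafData)
    (EX : X.IdealSheafData) (hE : EY.comap g = EX)
    (hLP : Groth.Agent.H8.StrictQCoh2.IsLocPrincipal (EX.comap pX))
    (F : X.Modules) [F.IsQuasicoherent]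
    (F' : X'.Modules) (π : (Scheme.Modules.pullback pX).obj F ⟶ F')
    (hπ : BlowUp.IsStrictTransform pX EX F F' π) :
    ∃ π' : (Scheme.Modules.pullback pY).obj ((Scheme.Modules.pushforward g).obj F) ⟶
        (Scheme.Modules.pushforward gm).obj F',
      BlowUp.IsStrictTransform pY EY ((Scheme.Modules.pushforward g).obj F)
        ((Scheme.Modules.pushforward gm).obj F') π' := by
  haveI : IsAffineHom gm := MorphismProperty.of_isPullback hpb inferInstance
  let u := Groth.Agent.H8.AffBC.uMap g pY pX gm hpb.w F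
  haveI : IsIso u := Groth.Agent.H8.AffBC.isIso_uMap F hpb
  haveI : Epi π := hπ.1
  haveI : ((Scheme.Modules.pullback pX).obj F).IsQuasicoherent :=
    Groth.Agent.H8.isQuasicoherent_pullback pX F
  haveI : F'.IsQuasicoherent :=
    Groth.Agent.H8.StrictQCoh2.isQuasicoherent_of_killedByPower _ F' (EX.comap pX) hLP π hπ.2
  haveI : Epi ((Scheme.Modules.pushforward gm).map π) :=
    Groth.Agent.H21.EpiPush.epi_pushforward_map gm π
  have hEE : (EY.comap pY).comap gm = EX.comap pX := by
    rw [← Scheme.IdealSheafData.comap_comp, ← hpb.w, Scheme.IdealSheafData.comap_comp, hE]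
  refine ⟨u ≫ (Scheme.Modules.pushforward gm).map π, epi_comp _ _, ?_⟩
  intro V m
  have hVaff : IsAffineOpen (gm ⁻¹ᵁ V.1) := V.2.preimage gm
  let V' : X'.affineOpens := ⟨gm ⁻¹ᵁ V.1, hVaff⟩
  have happ : (u ≫ (Scheme.Modules.pushforward gm).map π).app V.1 m =
      π.app (gm ⁻¹ᵁ V.1) (u.app V.1 m) := rfl
  rw [happ]
  refine (hπ.2 V' (u.app V.1 m)).trans ?_
  unfold BlowUp.KilledByPowerNear
  refine exists_congr fun n => ?_
  have hid : ((BlowUp.exceptional pX EX) ^ n).ideal V' =
      (((BlowUp.exceptional pY EY) ^ n).ideal V).map (gm.app V.1).hom := by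
    rw [Scheme.IdealSheafData.ideal_pow, Scheme.IdealSheafData.ideal_pow]
    change ((EX.comap pX).ideal V') ^ n = (((EY.comap pY).ideal V) ^ n).map _
    rw [Ideal.map_pow, ← hEE, Groth.Agent.H9.comap_ideal gm (EY.comap pY) V V' le_rfl,
      Scheme.Hom.app_eq_appLE]
  have hinj : Function.Injective (u.app V.1) := Groth.Agent.H8.app_injective_of_mono u V.1
  have hlin : ∀ c : Γ(Y', V.1), u.app V.1 (c • m) = (gm.app V.1).hom c •
      (show Γ((Scheme.Modules.pullback pX).obj F, gm ⁻¹ᵁ V.1) from u.app V.1 m) := by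
    intro c
    rw [Scheme.Modules.Hom.app_smul]
    exact Groth.Agent.H8.pushforward_smul gm _ V.1 c _
  constructor
  · intro h1 c hc
    have h2 := h1 ((gm.app V.1).hom c) (by rw [hid]; exact Ideal.mem_map_of_mem _ hc)
    apply hinj
    rw [hlin c, map_zero]
    exact h2
  · intro h1
    have h3 : ∀ c ∈ ((BlowUp.exceptional pY EY) ^ n).ideal V, (gm.app V.1).hom c •
        (show Γ((Scheme.Modules.pullback pX).obj F, gm ⁻¹ᵁ V.1) from u.app V.1 m) = 0 := by
      intro c hc
      have h4 := hlin c
      rw [h1 c hc, map_zero] at h4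
      exact h4.symm
    rw [hid]
    exact (forall_mem_map_smul_eq_zero_iff (gm.app V.1).hom _
      (show Γ((Scheme.Modules.pullback pX).obj F, gm ⁻¹ᵁ V.1) from u.app V.1 m)).mpr h3


/-- Let S be a scheme, 𝓘 a quasi-coherent ideal sheaf on S with closed subscheme Z, b : S' ⟶ S a blowing
up of S in Z, g : X ⟶ Y an affine morphism of schemes over S, F a quasi-coherent O_X-module, and π :
pr_X^*F ⟶ F' a strict transform of F along b (on X ×_S S'). Write g' : X ×_S S' ⟶ Y ×_S S' for the
base change of g. Then g'_*F' is a strict transform of g_*F along b: there is an epimorphism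
pr_Y^*(g_*F) ⟶ g'_*F' whose kernel consists, affine-locally, exactly of the sections annihilated by
a power of the inverse image of 𝓘. The published statement identifies g'_*F' with the strict
transform through the canonical base-change isomorphism; this row asserts only that some epimorphism
from pr_Y^*(g_*F) onto g'_*F' has the strict-transform property. -/
theorem result {X Y S S' : Scheme.{u}} (hX : X ⟶ S) (hY : Y ⟶ S) (g : X ⟶ Y) [IsAffineHom g]
    (h : g ≫ hY = hX) (𝓘 : S.IdealSheafData) (b : S' ⟶ S) (hb : BlowUp.IsBlowUp b 𝓘) (F : X.Modules) (hF : Coh.IsQCoh F)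
    (F' : (pullback hX b).Modules) (π : (Scheme.Modules.pullback (pullback.fst hX b)).obj F ⟶ F')
    (hπ : BlowUp.IsStrictTransform (pullback.fst hX b) (𝓘.comap hX) F F' π) :
    ∃ π' : (Scheme.Modules.pullback (pullback.fst hY b)).obj ((Scheme.Modules.pushforward g).obj F) ⟶
        (Scheme.Modules.pushforward (pullback.map hX b hY b g (𝟙 S') (𝟙 S)
          ((Category.comp_id hX).trans h.symm) ((Category.comp_id b).trans (Category.id_comp b).symm))).obj F',
      BlowUp.IsStrictTransform (pullback.fst hY b) (𝓘.comap hY) ((Scheme.Modules.pushforward g).obj F)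
        ((Scheme.Modules.pushforward (pullback.map hX b hY b g (𝟙 S') (𝟙 S)
          ((Category.comp_id hX).trans h.symm) ((Category.comp_id b).trans (Category.id_comp b).symm))).obj F') π' := by
  haveI : F.IsQuasicoherent := hF
  refine strict_push g (pullback.fst hY b) (pullback.fst hX b) _ (isPullback_map hX hY g h b)
    (𝓘.comap hY) (𝓘.comap hX) ?_ ?_ F F' π hπ
  · rw [← Scheme.IdealSheafData.comap_comp, h]
  · have h1 : (𝓘.comap hX).comap (pullback.fst hX b) = (𝓘.comap b).comap (pullback.snd hX b) := by
      rw [← Scheme.IdealSheafData.comap_comp, ← Scheme.IdealSheafData.comap_comp,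
        pullback.condition]
    rw [h1]
    exact Groth.Agent.H8.StrictQCoh2.IsLocPrincipal.comap _
      (Groth.Agent.H8.StrictQCoh2.IsLocPrincipal.of_isEffCartierIdeal hb.1)

end Groth.Agent.S8922
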