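import Groth.Statements.S8923
import Groth.Agent.H95.SecOrd
import Groth.Agent.H8.AssPoints2

set_option autoImplicit false
universe u
open CategoryTheory CategoryTheory.Limits AlgebraicGeometry TopologicalSpace
open SDiv

namespace Groth.Agent.S8923

open Groth.Agent.H8 (pointOfPrime pointOfPrime_primeIdealOf pointOfPrime_congr
  mem_basicOpen_iff_notMem_primeIdealOf)
open Groth.Agent.H18.TensorGen (IsGen exists_isGen)
open Groth.Agent.H95.SecOrd

theorem locallyFinite_aux (X : Scheme.{u}) [IsIntegral X] [IsLocallyNoetherian X] (L : X.Modules)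
    (hL : PicF.IsInvertible L) (η : X) (hη : ∀ x : X, η ⤳ x) (s : Cyc.secFibre L η) (hs : s ≠ 0) :
    LocallyFinite (fun x : {x : ↥X // ringKrullDim ↑(X.presheaf.stalk x) = 1 ∧
        Cyc.secOrdAt L η x (hη x) s ≠ 0} => closure ({x.1} : Set ↥X)) := by
  intro p
  obtain ⟨V, τ₀, hpV, hτ₀⟩ := exists_isGen hL p
  obtain ⟨U, hU0, hpU, hUV⟩ := Opens.isBasis_iff_nbhd.mp X.isBasis_affineOpens hpV
  have hU : IsAffineOpen U := hU0
  obtain ⟨τ, hτdef⟩ : ∃ τ : Γ(L, U), τ = L.presheaf.map (homOfLE hUV).op τ₀ := ⟨_, rfl⟩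
  have hτ : IsGen L U τ := by
    rw [hτdef]
    exact hτ₀.res hUV
  have hηU : η ∈ U := (hη p).mem_open U.2 hpU
  obtain ⟨ψ, hsψ⟩ := exists_eq_smul_mk hτ η hηU s
  have hψu : IsUnit ψ := isUnit_of_mk_ne_zero η hηU s hs ψ hsψ
  haveI : IsNoetherianRing Γ(X, U) := IsLocallyNoetherian.component_noetherian ⟨U, hU⟩
  haveI : Nonempty U := ⟨⟨p, hpU⟩⟩
  haveI : IsDomain Γ(X, U) := inferInstance
  -- write `ψ = a / b`
  obtain ⟨a, b, hbu, hab⟩ : ∃ (a b : Γ(X, U)), IsUnit (X.presheaf.germ U η hηU b) ∧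
      ψ * X.presheaf.germ U η hηU b = X.presheaf.germ U η hηU a := by
    letI := X.presheaf.algebra_section_stalk ⟨η, hηU⟩
    haveI := hU.isLocalization_stalk ⟨η, hηU⟩
    obtain ⟨⟨a, b⟩, hab⟩ :=
      IsLocalization.surj (hU.primeIdealOf ⟨η, hηU⟩).asIdeal.primeCompl ψ
    exact ⟨a, b.1, IsLocalization.map_units (X.presheaf.stalk η) b, hab⟩
  have hau : IsUnit (X.presheaf.germ U η hηU a) := by
    rw [← hab]
    exact hψu.mul hbu
  have ha0 : a ≠ 0 := by
    intro h0
    rw [h0, map_zero] at hau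
    exact not_isUnit_zero hau
  have hb0 : b ≠ 0 := by
    intro h0
    rw [h0, map_zero] at hbu
    exact not_isUnit_zero hbu
  have hab0 : a * b ≠ 0 := mul_ne_zero ha0 hb0
  -- the order vanishes where `a` and `b` are units
  have hzero : ∀ (x : X) (hxU : x ∈ U), IsUnit (X.presheaf.germ U x hxU a) →
      IsUnit (X.presheaf.germ U x hxU b) → Cyc.secOrdAt L η x (hη x) s = 0 := by
    intro x hxU hxa hxb
    rw [secOrdAt_eq_of_isGen hτ (hη x) hxU hηU s ψ hsψ]
    have h1 : X.residue η ψ * Cyc.specMap x η (hη x) (X.presheaf.germ U x hxU b) =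
        Cyc.specMap x η (hη x) (X.presheaf.germ U x hxU a) := by
      rw [specMap_germ (hη x) hxU hηU b, specMap_germ (hη x) hxU hηU a, ← map_mul, hab]
    rw [← ordAt_mul_specMap_unit (hη x) (X.residue η ψ) hxb, h1]
    exact ordAt_specMap_unit (hη x) hxa
  -- the primes of the index points in `U` are minimal over `a * b`
  have hmin : ∀ (x : X) (hxU : x ∈ U), ringKrullDim ↑(X.presheaf.stalk x) = 1 →
      Cyc.secOrdAt L η x (hη x) s ≠ 0 →
      (hU.primeIdealOf ⟨x, hxU⟩).asIdeal ∈ (Ideal.span {a * b} : Ideal Γ(X, U)).minimalPrimes := by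
    intro x hxU hdim hord
    have habP : a * b ∈ (hU.primeIdealOf ⟨x, hxU⟩).asIdeal := by
      by_contra hnot
      have hx_ab : x ∈ X.basicOpen (a * b) :=
        (mem_basicOpen_iff_notMem_primeIdealOf hU x hxU (a * b)).mpr
          (Ideal.mem_primeCompl_iff.mpr hnot)
      have hu : IsUnit (X.presheaf.germ U x hxU (a * b)) :=
        (Scheme.mem_basicOpen X _ x hxU).mp hx_ab
      rw [map_mul] at hu
      exact hord (hzero x hxU (IsUnit.mul_iff.mp hu).1 (IsUnit.mul_iff.mp hu).2)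
    have hht : (hU.primeIdealOf ⟨x, hxU⟩).asIdeal.height = 1 := by
      letI := X.presheaf.algebra_section_stalk ⟨x, hxU⟩
      haveI := hU.isLocalization_stalk ⟨x, hxU⟩
      have hh := IsLocalization.AtPrime.ringKrullDim_eq_height
        (hU.primeIdealOf ⟨x, hxU⟩).asIdeal (X.presheaf.stalk x)
      rw [hdim] at hh
      exact WithBot.one_eq_coe.mp hh
    refine ⟨⟨inferInstance, Ideal.span_le.mpr (Set.singleton_subset_iff.mpr habP)⟩, ?_⟩
    rintro Q ⟨hQ, hIQ⟩ hQP
    by_contra hnle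
    have hlt : Q < (hU.primeIdealOf ⟨x, hxU⟩).asIdeal := lt_of_le_not_ge hQP hnle
    haveI := hQ
    have h1 : Q.height < (hU.primeIdealOf ⟨x, hxU⟩).asIdeal.height :=
      Ideal.height_strict_mono_of_isPrime_of_isPrime hlt
    rw [hht] at h1
    have h3 : Q = ⊥ := Ideal.height_eq_zero_iff_eq_bot.mp (ENat.lt_one_iff_eq_zero.mp h1)
    have h4 : a * b ∈ Q := hIQ (Ideal.subset_span (Set.mem_singleton _))
    rw [h3] at h4
    exact hab0 (Ideal.mem_bot.mp h4)
  have hTU : ∀ x : X, (closure ({x} : Set ↥X) ∩ (U : Set ↥X)).Nonempty → x ∈ U := by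
    rintro x ⟨y, hy1, hy2⟩
    have hsp : x ⤳ y := specializes_iff_mem_closure.mpr hy1
    exact hsp.mem_open U.2 hy2
  refine ⟨(U : Set ↥X), U.2.mem_nhds hpU, ?_⟩
  classical
  obtain ⟨g, hg⟩ : ∃ g : X → Ideal Γ(X, U), ∀ (x : X) (h : x ∈ U),
      g x = (hU.primeIdealOf ⟨x, h⟩).asIdeal :=
    ⟨fun x => if h : x ∈ U then (hU.primeIdealOf ⟨x, h⟩).asIdeal else ⊥, fun x h => dif_pos h⟩
  refine Set.Finite.of_injOn (f := fun i => g i.1)
    (t := (Ideal.span {a * b} : Ideal Γ(X, U)).minimalPrimes) ?_ ?_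
    (Ideal.finite_minimalPrimes_of_isNoetherianRing _ _)
  · intro i hi
    have hiU : i.1 ∈ U := hTU i.1 hi
    show g i.1 ∈ _
    rw [hg i.1 hiU]
    exact hmin i.1 hiU i.2.1 i.2.2
  · intro i hi j hj hij
    have hiU : i.1 ∈ U := hTU i.1 hi
    have hjU : j.1 ∈ U := hTU j.1 hj
    have hij' : g i.1 = g j.1 := hij
    rw [hg i.1 hiU, hg j.1 hjU] at hij'
    apply Subtype.ext
    calc i.1 = pointOfPrime hU (hU.primeIdealOf ⟨i.1, hiU⟩).asIdeal :=
          (pointOfPrime_primeIdealOf hU i.1 hiU).symm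
      _ = pointOfPrime hU (hU.primeIdealOf ⟨j.1, hjU⟩).asIdeal := pointOfPrime_congr hU _ _ hij'
      _ = j.1 := pointOfPrime_primeIdealOf hU j.1 hjU

/-- Let X be an integral scheme that is locally Noetherian, L an invertible O_X-module and s a nonzero
rational (regular meromorphic) section of L, viewed as a nonzero element of the stalk of L at the
generic point. Then the collection of prime divisors Z ⊆ X with ord_{Z,L}(s) ≠ 0, i.e. the closures
of the codimension-1 points x (dim O_{X,x} = 1) along which s has nonzero order, is locally finite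
in X. -/
theorem result (X : Scheme.{u}) [IsIntegral X] [IsLocallyNoetherian X] (L : X.Modules)
    (hL : PicF.IsInvertible L) (s : Cyc.secFibre L (genericPoint ↥X)) (hs : s ≠ 0) :
    LocallyFinite (fun x : {x : ↥X // ringKrullDim ↑(X.presheaf.stalk x) = 1 ∧
        Cyc.secOrdAt L (genericPoint ↥X) x ((genericPoint_spec ↥X).specializes (Set.mem_univ x)) s ≠ 0} => closure ({x.1} : Set ↥X)) := by
  exact locallyFinite_aux X L hL (genericPoint ↥X)
    (fun x => (genericPoint_spec ↥X).specializes (Set.mem_univ x)) s hs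

end Groth.Agent.S8923
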