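import Groth.Statements.S8928
import Groth.Agent.H45.FlatLoc
-- import your own Groth.Agent.* helpers here

set_option autoImplicit false
universe u
open scoped TensorProduct
open Disc

namespace Groth.Agent.S8928

/-- Let A → B be a map of Noetherian rings such that nonzerodivisors of A map to nonzerodivisors of B
and Q(A) ⊗_A B is flat over the total ring of fractions Q(A). Then B_q is flat over A for every
associated prime q of B and for every prime q of B lying over an associated prime of A. -/
theorem result (A B : Type u) [CommRing A] [CommRing B] [IsNoetherianRing A] [IsNoetherianRing B] [Algebra A B] (h1 : nonZeroDivisors A ≤ (nonZeroDivisors B).comap (algebraMap A B)) (h2 : Module.Flat (FractionRing A) (FractionRing A ⊗[A] B)) : (∀ (q : Ideal B) [q.IsPrime], IsAssociatedPrime q B → Module.Flat A (Localization.AtPrime q)) ∧ (∀ (q : Ideal B) [q.IsPrime], IsAssociatedPrime (q.comap (algebraMap A B)) A → Module.Flat A (Localization.AtPrime q)) := by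
  refine ⟨fun q _ hq => ?_, fun q _ hq => ?_⟩
  · apply Groth.Agent.H45.flat_localization_of_disjoint A B h2 q
    rw [Set.disjoint_left]
    rintro _ ⟨s, hs, rfl⟩ hsq
    obtain ⟨hqp, b, hb⟩ := isAssociatedPrime_iff.1 hq
    rw [SetLike.mem_coe, hb, Submodule.mem_colon_singleton, Submodule.mem_bot, smul_eq_mul] at hsq
    have hb0 : b = 0 := (mem_nonZeroDivisors_iff_left.1 (h1 hs)) b hsq
    apply hqp.ne_top
    rw [hb, hb0]
    ext r
    simp [Submodule.mem_colon_singleton]
  · apply Groth.Agent.H45.flat_localization_of_disjoint A B h2 q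
    rw [Set.disjoint_left]
    rintro _ ⟨s, hs, rfl⟩ hsq
    obtain ⟨hqp, a, ha⟩ := isAssociatedPrime_iff.1 hq
    have hsq' : s ∈ q.comap (algebraMap A B) := hsq
    rw [ha, Submodule.mem_colon_singleton, Submodule.mem_bot, smul_eq_mul] at hsq'
    have ha0 : a = 0 := (mem_nonZeroDivisors_iff_left.1 hs) a hsq'
    apply hqp.ne_top
    rw [ha, ha0]
    ext r
    simp [Submodule.mem_colon_singleton]

end Groth.Agent.S8928
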