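import Groth.Statements.S8929
import Groth.Agent.H45.FlatLoc
import Mathlib.RingTheory.Ideal.AssociatedPrime.Finiteness
-- import your own Groth.Agent.* helpers here

set_option autoImplicit false
universe u
open scoped TensorProduct
open Disc

namespace Groth.Agent.S8929

attribute [local instance] Algebra.TensorProduct.rightAlgebra in
/-- Let A → B be a map of Noetherian rings with the going-up property. If B_q is flat over A for every
associated prime q of B and for every prime q of B lying over an associated prime of A, then Q(A)
⊗_A B is flat over the total ring of fractions Q(A). -/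
theorem result (A B : Type u) [CommRing A] [CommRing B] [IsNoetherianRing A] [IsNoetherianRing B] [Algebra A B] [Algebra.HasGoingUp A B] (h3 : ∀ (q : Ideal B) [q.IsPrime], IsAssociatedPrime q B → Module.Flat A (Localization.AtPrime q)) (h4 : ∀ (q : Ideal B) [q.IsPrime], IsAssociatedPrime (q.comap (algebraMap A B)) A → Module.Flat A (Localization.AtPrime q)) : Module.Flat (FractionRing A) (FractionRing A ⊗[A] B) := by
  let K := FractionRing A
  let T := K ⊗[A] B
  let M := Algebra.algebraMapSubmonoid B (nonZeroDivisors A)
  have hloc : IsLocalization M T :=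
    IsLocalization.tensorRight (R := A) (S := B) K (nonZeroDivisors A)
  have claim : ∀ (q : Ideal B) [q.IsPrime], Disjoint (M : Set B) q →
      Module.Flat A (Localization.AtPrime q) := by
    intro q hqp hq
    have hdisj : Disjoint ((q.under A : Ideal A) : Set A) (nonZeroDivisors A) := by
      rw [Set.disjoint_left]
      intro s hs hsS
      exact (Set.disjoint_left.1 hq) ⟨s, hsS, rfl⟩ hs
    obtain ⟨P₁, hP₁, hle⟩ : ∃ P ∈ associatedPrimes A A, q.under A ≤ P :=
      ((q.under A).subset_union_prime_finite (associatedPrimes.finite ..) (f := id) 0 0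
        fun _ h _ _ ↦ h.1).1 <|
      biUnion_associatedPrimes_eq_compl_nonZeroDivisors A ▸ hdisj.subset_compl_right
    have hP₁p : P₁.IsPrime := hP₁.1
    obtain ⟨Q, hqQ, hQp, hQP₁⟩ := Ideal.exists_ideal_ge_liesOver_of_le (p := q.under A) (q := P₁) q hle
    have hQass : IsAssociatedPrime (Q.comap (algebraMap A B)) A := by
      have : Q.comap (algebraMap A B) = P₁ := (Q.over_def P₁).symm
      rw [this]
      exact hP₁
    have hflatQ : Module.Flat A (Localization.AtPrime Q) := h4 Q hQass
    refine Groth.Agent.H45.flat_atPrime_of_isLocalization A B Q.primeCompl (Localization.AtPrime Q)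
      hflatQ q ?_
    rw [Set.disjoint_left]
    intro x hx hxq
    exact hx (hqQ hxq)
  rw [Module.flat_iff_of_isLocalization K (nonZeroDivisors A) T]
  refine Module.flat_of_isLocalized_maximal T T (fun P _ => Localization.AtPrime P)
    (fun P _ => Algebra.linearMap T (Localization.AtPrime P)) (fun P hP => ?_)
  have hPp : P.IsPrime := hP.isPrime
  apply Groth.Agent.H45.flat_atPrime_of_comap A B M T P
  apply claim
  rw [Set.disjoint_left]
  intro x hx hxP
  have hunit : IsUnit (algebraMap B T x) := IsLocalization.map_units T ⟨x, hx⟩
  exact hPp.ne_top (Ideal.eq_top_of_isUnit_mem _ hxP hunit)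

end Groth.Agent.S8929
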