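import Groth.Statements.S8930
import Mathlib

set_option autoImplicit false
set_option linter.style.haveILetI false
set_option linter.unusedSectionVars false
set_option linter.unusedVariables false
universe u
open AlgebraicGeometry
open Disc

namespace Groth.Agent.S8930

section Helpers
open CategoryTheory AlgebraicGeometry TopologicalSpace Limits

theorem ker_SpecMap_eq_bot {R S : CommRingCat.{u}} (φ : R ⟶ S)
    (hφ : Function.Injective φ.hom) : (Spec.map φ).ker = ⊥ := by
  rw [← le_bot_iff]
  apply Scheme.IdealSheafData.le_of_isAffine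
  rw [Scheme.Hom.ker_apply]
  intro x hx
  rw [RingHom.mem_ker] at hx
  have h1 : (Scheme.ΓSpecIso S).hom ((Spec.map φ).appTop x) =
      φ ((Scheme.ΓSpecIso R).hom x) := by
    rw [← CommRingCat.comp_apply, ← CommRingCat.comp_apply, Scheme.ΓSpecIso_naturality]
  have h2 : (Spec.map φ).appTop x = 0 := hx
  rw [h2, map_zero] at h1
  have h3 : (Scheme.ΓSpecIso R).hom x = 0 := hφ (h1.symm.trans (map_zero _).symm)
  have h4 : x = 0 := by
    have := congrArg (Scheme.ΓSpecIso R).inv h3
    rw [← CommRingCat.comp_apply, Iso.hom_inv_id, CommRingCat.id_apply, map_zero] at this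
    exact this
  rw [h4]
  exact Ideal.zero_mem _

theorem isOpenImmersion_of_comp {X Y Z : Scheme.{u}} (f : X ⟶ Y) (g : Y ⟶ Z) [IsSeparated g]
    [IsOpenImmersion (f ≫ g)] [QuasiCompact f] (hf : f.ker = ⊥) : IsOpenImmersion f := by
  obtain ⟨s, hs1, hs2⟩ : ∃ s : X ⟶ pullback (f ≫ g) g,
      s ≫ pullback.fst (f ≫ g) g = 𝟙 X ∧ s ≫ pullback.snd (f ≫ g) g = f :=
    ⟨pullback.lift (𝟙 X) f (by simp), pullback.lift_fst _ _ _, pullback.lift_snd _ _ _⟩
  haveI : IsClosedImmersion (s ≫ pullback.fst (f ≫ g) g) := by rw [hs1]; infer_instance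
  haveI : IsClosedImmersion s := IsClosedImmersion.of_comp s (pullback.fst (f ≫ g) g)
  haveI : IsSchemeTheoreticallyDominant f := ⟨hf⟩
  haveI : IsSchemeTheoreticallyDominant s :=
    IsSchemeTheoreticallyDominant.of_isPullback
      (IsPullback.of_horiz_isIso_mono (fst := 𝟙 X) (snd := s) (f := f)
        (g := pullback.snd (f ≫ g) g) ⟨by rw [hs2, Category.id_comp]⟩)
  haveI : IsIso s := IsClosedImmersion.isIso_iff_ker_eq_bot.mpr s.ker_eq_bot
  rw [← hs2]
  infer_instance

theorem main (A B B' B'' : Type u) [CommRing A] [CommRing B] [CommRing B'] [CommRing B'']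
    [Algebra A B] [Algebra A B'] [Algebra A B''] [Algebra B' B] [Algebra B'' B]
    [IsScalarTower A B' B] [IsScalarTower A B'' B] [Module.Finite A B'] [Module.Finite A B'']
    (h' : IsOpenImmersion (Spec.map (CommRingCat.ofHom (algebraMap B' B))))
    (h'' : IsOpenImmersion (Spec.map (CommRingCat.ofHom (algebraMap B'' B)))) :
    ∃ C : Subalgebra A B, Module.Finite A C ∧ Set.range (algebraMap B' B) ⊆ (C : Set B) ∧
      Set.range (algebraMap B'' B) ⊆ (C : Set B) ∧
      IsOpenImmersion (Spec.map (CommRingCat.ofHom C.val.toRingHom)) := by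
  obtain ⟨C, hC⟩ : ∃ C : Subalgebra A B, C = (IsScalarTower.toAlgHom A B' B).range ⊔
      (IsScalarTower.toAlgHom A B'' B).range := ⟨_, rfl⟩
  have h1 : Set.range (algebraMap B' B) ⊆ (C : Set B) := by
    rintro _ ⟨b, rfl⟩
    rw [hC]
    exact (le_sup_left : (IsScalarTower.toAlgHom A B' B).range ≤ _) ⟨b, rfl⟩
  have h2 : Set.range (algebraMap B'' B) ⊆ (C : Set B) := by
    rintro _ ⟨b, rfl⟩
    rw [hC]
    exact (le_sup_right : (IsScalarTower.toAlgHom A B'' B).range ≤ _) ⟨b, rfl⟩
  refine ⟨C, ?_, h1, h2, ?_⟩
  · rw [hC]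
    haveI : Module.Finite A (IsScalarTower.toAlgHom A B' B).range :=
      Module.Finite.of_surjective (IsScalarTower.toAlgHom A B' B).rangeRestrict.toLinearMap
        (IsScalarTower.toAlgHom A B' B).rangeRestrict_surjective
    haveI : Module.Finite A (IsScalarTower.toAlgHom A B'' B).range :=
      Module.Finite.of_surjective (IsScalarTower.toAlgHom A B'' B).rangeRestrict.toLinearMap
        (IsScalarTower.toAlgHom A B'' B).rangeRestrict_surjective
    exact Subalgebra.finite_sup _ _
  · obtain ⟨φ, hφ⟩ : ∃ φ : B' →+* C, C.val.toRingHom.comp φ = algebraMap B' B :=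
      ⟨(algebraMap B' B).codRestrict C (fun x => h1 ⟨x, rfl⟩), rfl⟩
    have hcomp : Spec.map (CommRingCat.ofHom C.val.toRingHom) ≫ Spec.map (CommRingCat.ofHom φ) =
        Spec.map (CommRingCat.ofHom (algebraMap B' B)) := by
      rw [← Spec.map_comp, ← CommRingCat.ofHom_comp, hφ]
    haveI : IsOpenImmersion (Spec.map (CommRingCat.ofHom C.val.toRingHom) ≫
        Spec.map (CommRingCat.ofHom φ)) := by rw [hcomp]; exact h'
    exact isOpenImmersion_of_comp (Spec.map (CommRingCat.ofHom C.val.toRingHom))
      (Spec.map (CommRingCat.ofHom φ))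
      (ker_SpecMap_eq_bot _ (by
        show Function.Injective C.val.toRingHom
        exact Subtype.val_injective))

end Helpers


/-- Given two factorizations A → B' → B and A → B'' → B of a ring map with A → B' and A → B'' finite and
Spec(B) → Spec(B'), Spec(B) → Spec(B'') open immersions, there is an A-subalgebra C of B which is
finite over A, contains the images of B' and B'', and is such that Spec(B) → Spec(C) is an open
immersion. (Such an A → B is quasi-finite; that hypothesis of the published statement is implied by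
the factorizations and is not repeated.) -/
theorem result (A B B' B'' : Type u) [CommRing A] [CommRing B] [CommRing B'] [CommRing B''] [Algebra A B] [Algebra A B'] [Algebra A B''] [Algebra B' B] [Algebra B'' B] [IsScalarTower A B' B] [IsScalarTower A B'' B] [Module.Finite A B'] [Module.Finite A B''] (h' : IsOpenImmersion (Spec.map (CommRingCat.ofHom (algebraMap B' B)))) (h'' : IsOpenImmersion (Spec.map (CommRingCat.ofHom (algebraMap B'' B)))) : ∃ C : Subalgebra A B, Module.Finite A C ∧ Set.range (algebraMap B' B) ⊆ (C : Set B) ∧ Set.range (algebraMap B'' B) ⊆ (C : Set B) ∧ IsOpenImmersion (Spec.map (CommRingCat.ofHom C.val.toRingHom)) := by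
  exact main A B B' B'' h' h''

end Groth.Agent.S8930
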