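import Groth.Statements.S8934
import Groth.Agent.H56.CechBC
-- import your own Groth.Agent.* helpers here

set_option autoImplicit false
universe u
open CategoryTheory CategoryTheory.Limits
attribute [local instance] HasDerivedCategory.standard
open LocCoh

namespace Groth.Agent.S8934

open DerCA Groth.Agent.H46.CechTower Groth.Agent.H56.CechBC


/-- Let p be a prime, A a Noetherian ring of characteristic p with Frobenius endomorphism F, and I an
ideal of A. Then the derived base change of RΓ_I(A) along F is isomorphic to RΓ_I(A) in D(A)
(existence of an isomorphism only; RΓ_I, the derived I-power torsion functor, and the derived base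
change along F are assumed to exist). (The published statement is for any ring and a finitely
generated ideal, with local cohomology RΓ_Z; this row takes A Noetherian, where RΓ_Z is the derived
functor of I-power torsion.) -/
theorem result (p : ℕ) [Fact p.Prime] (A : Type u) [CommRing A] [IsNoetherianRing A] [CharP A p] (I : Ideal A) [DRing.HasRgammaI I] [DRing.HasLBaseChange (frobenius A p)] : Nonempty ((DRing.LBaseChange (frobenius A p)).obj ((DRing.RgammaI I).obj (Dual.inD A A)) ≅ (DRing.RgammaI I).obj (Dual.inD A A)) := by

  classical
  obtain ⟨fs, hfs⟩ := Groth.Agent.H46.LCDerived.exists_list_span I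
  have hp : 0 < p := (Fact.out : p.Prime).pos
  haveI : Module.Flat A ↑(ModuleCat.of A A) := (inferInstance : Module.Flat A A)
  -- the Čech tower over `A[0]`
  obtain ⟨pA, hA⟩ := isCech_extCech (ModuleCat.of A A) fs
  -- the Čech tower of the Frobenius pullback
  obtain ⟨pG, hG⟩ := isCech_ext_extCech (frobenius A p) id p hp (fun f => rfl) (ModuleCat.of A A) fs
  rw [List.map_id] at hG
  -- compare the bases
  have hG' := IsCech.of_iso fs hG (DerivedCategory.Q.mapIso (extSingleIso (frobenius A p)))
    (Iso.refl _) (p' := pG ≫ (DerivedCategory.Q.mapIso (extSingleIso (frobenius A p))).hom) (by simp)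
  obtain ⟨e, -⟩ := IsCech.unique fs hA hG'
  -- compare with `RΓ_I`
  have hR := Groth.Agent.H46.GammaTower.isCech_Rgamma fs I hfs (Dual.inD A A)
  have hA' := IsCech.of_iso fs hA
    ((DerivedCategory.singleFunctorIsoCompQ (ModuleCat.{u} A) 0).app (ModuleCat.of A A)).symm
    (Iso.refl _)
    (p' := pA ≫ ((DerivedCategory.singleFunctorIsoCompQ (ModuleCat.{u} A) 0).app
      (ModuleCat.of A A)).symm.hom) (by simp)
  obtain ⟨e₁, -⟩ := IsCech.unique fs hA' hR
  -- derived base change on the K-flat model
  have o := Groth.Agent.H53.LBaseChange.objIso (frobenius A p) (extCech (ModuleCat.of A A) fs)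
    (Groth.Agent.H56.DCompTri.extCech_isKFlat (ModuleCat.of A A) fs)
  exact ⟨(DRing.LBaseChange (frobenius A p)).mapIso e₁.symm ≪≫ o ≪≫ e.symm ≪≫ e₁⟩

end Groth.Agent.S8934
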