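import Groth.Statements.S8944
import Groth.Agent.H66.QFInv4
import Groth.Agent.S8964

set_option autoImplicit false
universe u
open AlgebraicGeometry
open scoped TensorProduct
open Disc

namespace Groth.Agent.S8944

/-- Let A → B be a flat homomorphism of Noetherian rings, and suppose it factors through a ring B′ as A
→ B′ → B, where B′ is finite over A and the induced map of spectra Spec(B) → Spec(B′) is an open
immersion, so that the relative dualizing module is ω_{B/A} = Hom_A(B′, A) ⊗_{B′} B (B′ acting on
Hom_A(B′, A) through the argument). Then ω_{B/A} is a flat A-module. -/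
theorem result (A B B' : Type u) [CommRing A] [CommRing B] [CommRing B'] [IsNoetherianRing A] [IsNoetherianRing B] [Algebra A B] [Module.Flat A B] [Algebra A B'] [Algebra B' B] [IsScalarTower A B' B] [Module.Finite A B'] (hopen : IsOpenImmersion (Spec.map (CommRingCat.ofHom (algebraMap B' B)))) : Module.Flat A (B ⊗[B'] Disc.Omega A B') := by
  classical
  obtain ⟨hflat, hepi⟩ := Groth.Agent.S8964.flat_isEpi_of_isOpenImmersion B' B hopen
  haveI := hflat
  haveI := hepi
  apply Groth.Agent.H66.QFInv4.flat_of_flat_cover A B (B ⊗[B'] Disc.Omega A B')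
  intro q hq
  haveI := hq.isPrime
  obtain ⟨Ah, _, _, _, _, hflatA, hcompl, hc, hres⟩ :=
    Groth.Agent.H66.QFInv3.exists_completion A (q.comap (algebraMap A B))
  haveI := hflatA
  haveI := hcompl
  obtain ⟨C, _, _, _, _, _, _, _, _, _, hflatC, hcomapC, hfin, hfree, ⟨e⟩⟩ :=
    Groth.Agent.H66.QFInv4.exists_local_cover' A B' B Ah q hc hres
  haveI := hflatC
  haveI := hfin
  haveI := hfree
  refine ⟨C, inferInstance, inferInstance, inferInstance, inferInstance, hflatC, ?_, ?_⟩
  · intro htop
    have h1 : q.map (algebraMap B C) ≤ IsLocalRing.maximalIdeal C := by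
      rw [Ideal.map_le_iff_le_comap, hcomapC]
    rw [htop] at h1
    exact (IsLocalRing.maximalIdeal.isMaximal C).ne_top (top_le_iff.mp h1)
  · let e0 : C ⊗[B] (B ⊗[B'] Disc.Omega A B') ≃ₗ[C] C ⊗[B'] Disc.Omega A B' :=
      TensorProduct.AlgebraTensorModule.cancelBaseChange B' B C C (Disc.Omega A B')
    letI modA : Module A (Disc.Omega Ah C) := Module.compHom _ (algebraMap A C)
    have hsm : ∀ (a : A) (φ : Disc.Omega Ah C), a • φ = algebraMap A C a • φ := fun _ _ => rfl
    haveI : IsScalarTower A C (Disc.Omega Ah C) := ⟨fun a c φ => by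
      show (a • c) • φ = algebraMap A C a • (c • φ)
      rw [Algebra.smul_def, mul_smul]⟩
    haveI : Module.Flat A (Disc.Omega Ah C) :=
      Groth.Agent.H66.QFInv4.flat_omega_of_free A Ah C
    exact Module.Flat.of_linearEquiv ((e0 ≪≫ₗ e).restrictScalars A)

end Groth.Agent.S8944
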