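import Groth.Statements.S8949
import Mathlib
import Groth.Agent.H60.GorFib
import Groth.Agent.H29.HomComp
import Groth.Agent.H34.FibLoc
import Groth.Agent.S0342

set_option autoImplicit false
universe u
open scoped TensorProduct
open Goren

namespace Groth.Agent.S8949

/-- Gorenstein fibres are preserved by composing with a regular map. For flat maps A → B → C of
Noetherian rings, if the fibres of A → B are Gorenstein rings and B → C is regular, then the fibres
of A → C are Gorenstein rings. -/
theorem result (A B C : Type u) [CommRing A] [CommRing B] [CommRing C] [IsNoetherianRing A] [IsNoetherianRing B] [IsNoetherianRing C] [Algebra A B] [Algebra B C] [Algebra A C] [IsScalarTower A B C] [Module.Flat A B] [Module.Flat B C] (hAB : ∀ (q : Ideal A) [q.IsPrime], LocCoh.IsGorensteinRing (q.Fiber B)) (hBC : CAlg.IsRegularHom B C) : ∀ (q : Ideal A) [q.IsPrime], LocCoh.IsGorensteinRing (q.Fiber C) := by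
  intro q _
  have hreg : ∀ (Q : Ideal B) [Q.IsPrime], IsRegularRing (Q.Fiber C) := by
    intro Q _
    have h : IsRegularRing (TensorProduct Q.ResidueField Q.ResidueField (Q.Fiber C)) :=
      (hBC.2 Q).2 Q.ResidueField (Module.Finite.self _)
    exact @IsRegularRing.of_ringEquiv _ _ _ _
      (Algebra.TensorProduct.lid Q.ResidueField (Q.Fiber C)).toRingEquiv h
  haveI : IsNoetherianRing (q.Fiber C) := Groth.Agent.H34.FibLoc.isNoetherianRing_fiber A C q
  refine ⟨fun Q _ => ?_⟩
  obtain ⟨h2, ⟨e⟩⟩ := Groth.Agent.H15.FibreSk.exists_fiber_equiv A C q Q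
  refine Groth.Agent.H60.GorTransfer.gor_of_ringEquiv e.symm ?_
  refine (Groth.Agent.H60.GorFib.gor_fib_comp A B C
    (Q.comap (Algebra.TensorProduct.includeRight : C →ₐ[A] q.Fiber C))).mpr ⟨?_, ?_⟩
  · have hP : ((Q.comap (Algebra.TensorProduct.includeRight : C →ₐ[A] q.Fiber C)).comap
        (algebraMap B C)).comap (algebraMap A B) = q := by
      rw [Ideal.comap_comap, ← IsScalarTower.algebraMap_eq]
      exact h2
    obtain ⟨QB, hQB, hQBeq⟩ := Groth.Agent.H15.FibreSk.exists_fiber_prime A B q
      ((Q.comap (Algebra.TensorProduct.includeRight : C →ₐ[A] q.Fiber C)).comap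
        (algebraMap B C)) hP
    haveI := hQB
    obtain ⟨-, ⟨eB⟩⟩ := Groth.Agent.H15.FibreSk.exists_fiber_equiv A B q QB
    have hG : LocCoh.IsGorensteinLocalRing (Localization.AtPrime QB) :=
      (hAB q).isGorensteinLocalRing_localization QB
    have h3 := Groth.Agent.H60.GorTransfer.gor_of_ringEquiv eB hG
    have gen : ∀ (I : Ideal B) [I.IsPrime],
        I = (Q.comap (Algebra.TensorProduct.includeRight : C →ₐ[A] q.Fiber C)).comap
          (algebraMap B C) →
        LocCoh.IsGorensteinLocalRing (EGA4.FibLocRing A B I) →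
        LocCoh.IsGorensteinLocalRing (EGA4.FibLocRing A B
          ((Q.comap (Algebra.TensorProduct.includeRight : C →ₐ[A] q.Fiber C)).comap
            (algebraMap B C))) := by
      intro I _ hI hc
      subst hI
      exact hc
    exact gen _ hQBeq h3
  · haveI := Groth.Agent.H29.HomComp.isRegularLocalRing_fibLocRing (R := B) (T := C) hreg
      (Q.comap (Algebra.TensorProduct.includeRight : C →ₐ[A] q.Fiber C))
    exact Groth.Agent.S0342.result _

end Groth.Agent.S8949
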