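import Groth.Statements.S8950
import Groth.Agent.H87.AvramovAscent
import Groth.Agent.H79.CIBaseChange
import Groth.Agent.H15.FibreSk
import Groth.Agent.Lead.GeomRegBC

set_option autoImplicit false
set_option maxHeartbeats 400000
universe u
open scoped TensorProduct
open CInt

namespace Groth.Agent.S8950

open scoped TensorProduct in
theorem lci_of_ringEquiv {X Y : Type u} [CommRing X] [CommRing Y] (e : X ≃+* Y)
    (h : ∀ (p : Ideal X) [p.IsPrime], Pi1.IsCompleteIntersection (Localization.AtPrime p))
    (q : Ideal Y) [q.IsPrime] : Pi1.IsCompleteIntersection (Localization.AtPrime q) :=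
  Groth.Agent.H79.CIOpen.isCI_of_ringEquiv
    (IsLocalization.ringEquivOfRingEquiv (Localization.AtPrime (q.comap e))
      (Localization.AtPrime q) e (e.map_primeCompl_comap_eq q)) (h (q.comap e))

/-- Base change of the local complete intersection property along finitely generated field extensions.
Suppose R is a Noetherian k-algebra, k a field, with every local ring of R a complete intersection,
and suppose K is finitely generated as a field over k; then the tensor product K ⊗_k R is again a
Noetherian ring, and every localization of it at a prime is a complete intersection. -/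
theorem result (k K R : Type u) [Field k] [Field K] [Algebra k K] (hK : ∃ s : Finset K, IntermediateField.adjoin k (s : Set K) = ⊤) [CommRing R] [Algebra k R] [IsNoetherianRing R] (hR : ∀ (p : Ideal R) [p.IsPrime], Pi1.IsCompleteIntersection (Localization.AtPrime p)) : IsNoetherianRing (K ⊗[k] R) ∧ ∀ (P : Ideal (K ⊗[k] R)) [P.IsPrime], Pi1.IsCompleteIntersection (Localization.AtPrime P) := by
  classical
  letI : ∀ (r : Ideal (R ⊗[k] K)) [r.IsPrime], IsLocalRing (EGA4.FibLocRing R (R ⊗[k] K) r) :=
    fun r _ => Groth.Agent.H15.FlatLoc.isLocalRing_fibLocRing R (R ⊗[k] K) r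
  haveI : Algebra.EssFiniteType k K := IntermediateField.fg_top_iff.1 hK
  haveI hN : IsNoetherianRing (K ⊗[k] R) := Groth.Agent.Lead.GeomRegBC.noeth_tensor k R K
  refine ⟨hN, ?_⟩
  haveI hNS : IsNoetherianRing (R ⊗[k] K) :=
    isNoetherianRing_of_ringEquiv (K ⊗[k] R) (Algebra.TensorProduct.comm k K R).toRingEquiv
  suffices hS : ∀ (P : Ideal (R ⊗[k] K)) [P.IsPrime],
      Pi1.IsCompleteIntersection (Localization.AtPrime P) from
    fun P _ => lci_of_ringEquiv (Algebra.TensorProduct.comm k R K).toRingEquiv hS P
  intro P _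
  haveI hlo : P.LiesOver (P.under R) := ⟨rfl⟩
  letI alg := Localization.AtPrime.algebraOfLiesOver (P.under R) P
  haveI hloc : IsLocalHom (algebraMap (Localization.AtPrime (P.under R))
      (Localization.AtPrime P)) := Localization.isLocalHom_localRingHom _ _ _ _
  refine Groth.Agent.H87.AvramovAscent.isCI_of_flat (hR (P.under R)) ?_
  obtain ⟨Q, hQ, hQeq⟩ := Groth.Agent.H15.FibreSk.exists_fiber_prime R (R ⊗[k] K) (P.under R) P rfl
  haveI := hQ
  obtain ⟨-, ⟨eQ⟩⟩ := Groth.Agent.H15.FibreSk.exists_fiber_equiv R (R ⊗[k] K) (P.under R) Q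
  have hfibCI : Pi1.IsCompleteIntersection (Localization.AtPrime Q) := by
    let e : (P.under R).Fiber (R ⊗[k] K) ≃ₐ[(P.under R).ResidueField]
        (P.under R).ResidueField ⊗[k] K :=
      Algebra.TensorProduct.cancelBaseChange k R (P.under R).ResidueField
        (P.under R).ResidueField K
    refine lci_of_ringEquiv e.symm.toRingEquiv (fun Q' _ => ?_) Q
    refine (Groth.Agent.H79.CIBaseChange.isCI_tensor_atPrime_iff k (P.under R).ResidueField K Q'
      (fun a ha => ?_)).1 (Groth.Agent.H79.CIOpen.isCI_of_isRegularLocalRing K)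
    rw [IsLocalRing.maximalIdeal_eq_bot, Ideal.mem_bot] at ha
    rw [ha, TensorProduct.tmul_zero]
    exact Q'.zero_mem
  have h1 := Groth.Agent.H79.CIOpen.isCI_of_ringEquiv eQ hfibCI
  have gen : ∀ (I I' : Ideal (R ⊗[k] K)) [I.IsPrime] [I'.IsPrime], I = I' →
      Pi1.IsCompleteIntersection (EGA4.FibLocRing R (R ⊗[k] K) I) →
      Pi1.IsCompleteIntersection (EGA4.FibLocRing R (R ⊗[k] K) I') := by
    intro I I' _ _ hI hc
    subst hI
    exact hc
  have h2 := gen _ _ hQeq h1
  have hK' : (IsLocalRing.maximalIdeal (Localization.AtPrime (P.under R))).map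
      (algebraMap (Localization.AtPrime (P.under R)) (Localization.AtPrime P)) =
      (P.comap (algebraMap R (R ⊗[k] K))).map (algebraMap R (Localization.AtPrime P)) := by
    rw [← Localization.AtPrime.map_eq_maximalIdeal, Ideal.map_map,
      ← IsScalarTower.algebraMap_eq R (Localization.AtPrime (P.under R)) (Localization.AtPrime P)]
  exact Groth.Agent.H79.CIOpen.isCI_of_ringEquiv (Ideal.quotEquivOfEq hK'.symm) h2

end Groth.Agent.S8950
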