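import Groth.Statements.S8951
import Groth.Agent.H87.CIFibres

set_option autoImplicit false
set_option maxHeartbeats 400000
universe u
open scoped TensorProduct
open CInt

namespace Groth.Agent.S8951

/-- Complete intersection fibres are preserved by composing with a regular map. For flat maps A → B → C
of Noetherian rings, if all local rings of the fibres of A → B are complete intersections and B → C
is regular, then all local rings of the fibres of A → C are complete intersections. -/
theorem result (A B C : Type u) [CommRing A] [CommRing B] [CommRing C] [IsNoetherianRing A] [IsNoetherianRing B] [IsNoetherianRing C] [Algebra A B] [Algebra B C] [Algebra A C] [IsScalarTower A B C] [Module.Flat A B] [Module.Flat B C] (hAB : ∀ (q : Ideal A) [q.IsPrime] (P : Ideal (q.Fiber B)) [P.IsPrime], Pi1.IsCompleteIntersection (Localization.AtPrime P)) (hBC : CAlg.IsRegularHom B C) : ∀ (q : Ideal A) [q.IsPrime] (P : Ideal (q.Fiber C)) [P.IsPrime], Pi1.IsCompleteIntersection (Localization.AtPrime P) := by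
  intro q _ P _
  classical
  letI : ∀ (r : Ideal C) [r.IsPrime], IsLocalRing (EGA4.FibLocRing A C r) :=
    fun r _ => Groth.Agent.H15.FlatLoc.isLocalRing_fibLocRing A C r
  letI : ∀ (r : Ideal B) [r.IsPrime], IsLocalRing (EGA4.FibLocRing A B r) :=
    fun r _ => Groth.Agent.H15.FlatLoc.isLocalRing_fibLocRing A B r
  obtain ⟨h2, ⟨eC⟩⟩ := Groth.Agent.H15.FibreSk.exists_fiber_equiv A C q P
  refine Groth.Agent.H79.CIOpen.isCI_of_ringEquiv eC.symm ?_
  -- the prime `p` of `B`
  have hP : ((P.comap (Algebra.TensorProduct.includeRight : C →ₐ[A] q.Fiber C)).comap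
      (algebraMap B C)).comap (algebraMap A B) = q := by
    rw [Ideal.comap_comap, ← IsScalarTower.algebraMap_eq]
    exact h2
  obtain ⟨QB, hQB, hQBeq⟩ := Groth.Agent.H15.FibreSk.exists_fiber_prime A B q
    ((P.comap (Algebra.TensorProduct.includeRight : C →ₐ[A] q.Fiber C)).comap (algebraMap B C)) hP
  haveI := hQB
  obtain ⟨-, ⟨eB⟩⟩ := Groth.Agent.H15.FibreSk.exists_fiber_equiv A B q QB
  have h3 := Groth.Agent.H79.CIOpen.isCI_of_ringEquiv eB (hAB q QB)
  have genB : ∀ (I I' : Ideal B) [I.IsPrime] [I'.IsPrime], I = I' →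
      Pi1.IsCompleteIntersection (EGA4.FibLocRing A B I) →
      Pi1.IsCompleteIntersection (EGA4.FibLocRing A B I') := by
    intro I I' _ _ hI hc
    subst hI
    exact hc
  have genC : ∀ (I I' : Ideal C) [I.IsPrime] [I'.IsPrime], I = I' →
      Pi1.IsCompleteIntersection (EGA4.FibLocRing A C I) →
      Pi1.IsCompleteIntersection (EGA4.FibLocRing A C I') := by
    intro I I' _ _ hI hc
    subst hI
    exact hc
  have h4 := genB _ _ hQBeq h3
  obtain ⟨Q', hQ', hQ'eq⟩ := Groth.Agent.H15.FibreSk.exists_fiber_prime B C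
    ((P.comap (Algebra.TensorProduct.includeRight : C →ₐ[A] q.Fiber C)).comap (algebraMap B C))
    (P.comap (Algebra.TensorProduct.includeRight : C →ₐ[A] q.Fiber C)) rfl
  haveI := hQ'
  have h5 := Groth.Agent.H87.CIFibres.isCI_fibLoc A hBC
    ((P.comap (Algebra.TensorProduct.includeRight : C →ₐ[A] q.Fiber C)).comap (algebraMap B C))
    Q' h4
  exact genC _ _ hQ'eq h5

end Groth.Agent.S8951
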