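import Groth.Statements.S8961
import Mathlib

set_option autoImplicit false
set_option linter.style.haveILetI false
universe u
open QFDual

namespace Groth.Agent.S8961


open Polynomial TensorProduct

/-- local-global membership in the image of `A` in an `A`-algebra `K`. -/
theorem mem_range_of_forall_maximal {A K : Type*} [CommRing A] [CommRing K] [Algebra A K]
    (c : K)
    (h : ∀ (p : Ideal A), p.IsMaximal →
      ∃ t ∉ p, ∃ a : A, algebraMap A K t * c = algebraMap A K a) :
    c ∈ (algebraMap A K).range := by
  let D : Ideal A :=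
    { carrier := {t | ∃ a : A, algebraMap A K t * c = algebraMap A K a}
      zero_mem' := ⟨0, by simp⟩
      add_mem' := by
        rintro x y ⟨a, ha⟩ ⟨b, hb⟩
        exact ⟨a + b, by rw [map_add, add_mul, ha, hb, map_add]⟩
      smul_mem' := by
        rintro r x ⟨a, ha⟩
        exact ⟨r * a, by rw [smul_eq_mul, map_mul, mul_assoc, ha, map_mul]⟩ }
  by_cases hD : D = ⊤
  · have h1 : (1 : A) ∈ D := hD ▸ Submodule.mem_top
    have h2 : ∃ a : A, algebraMap A K 1 * c = algebraMap A K a := h1
    obtain ⟨a, ha⟩ := h2
    exact ⟨a, by rw [← ha, map_one, one_mul]⟩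
  · obtain ⟨m, hm, hDm⟩ := Ideal.exists_le_maximal D hD
    obtain ⟨t, htm, a, ha⟩ := h m hm
    have : t ∈ D := ⟨a, ha⟩
    exact absurd (hDm this) htm

/-- trace of an element killed by a monic polynomial over `R`, in a finite-dimensional commutative
algebra over a field `F ⊇ R`, is integral over `R`. -/
theorem isIntegral_trace_of_eval₂ {R F E : Type*} [CommRing R] [Field F] [Algebra R F]
    [CommRing E] [Algebra F E] [Module.Finite F E] (y : E) (g : R[X]) (hg : g.Monic)
    (hy : eval₂ ((algebraMap F E).comp (algebraMap R F)) y g = 0) :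
    IsIntegral R (Algebra.trace F E y) := by
  classical
  let Fb := AlgebraicClosure F
  let E' := Fb ⊗[F] E
  let y' : E' := (1 : Fb) ⊗ₜ[F] y
  let f' : Module.End Fb E' := Algebra.lmul Fb E' y'
  have htr : LinearMap.trace Fb E' f' = algebraMap F Fb (Algebra.trace F E y) := by
    have h1 : f' = (Algebra.lmul F E y).baseChange Fb := (Algebra.baseChange_lmul (A := Fb) y).symm
    rw [h1, LinearMap.trace_baseChange, Algebra.trace_apply]
  let G : Fb[X] := g.map (algebraMap R Fb)
  have hGy : aeval y' G = 0 := by
    have hι : (Algebra.TensorProduct.includeRight : E →ₐ[F] Fb ⊗[F] E) y = y' := rfl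
    rw [aeval_def, eval₂_map]
    have hcomp : (algebraMap Fb E').comp (algebraMap R Fb) =
        ((Algebra.TensorProduct.includeRight : E →ₐ[F] Fb ⊗[F] E) : E →+* E').comp
          ((algebraMap F E).comp (algebraMap R F)) := by
      ext r
      simp only [RingHom.comp_apply, AlgHom.coe_toRingHom]
      rw [AlgHom.commutes, IsScalarTower.algebraMap_apply F Fb E',
        ← IsScalarTower.algebraMap_apply R F Fb]
    rw [hcomp, ← hι]
    erw [← Polynomial.hom_eval₂]
    rw [hy, map_zero]
  have hsplit : f'.charpoly.Splits := IsAlgClosed.splits _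
  have hsum : LinearMap.trace Fb E' f' = f'.charpoly.roots.sum :=
    Module.End.trace_eq_sum_roots_charpoly_of_splits hsplit
  have hroots : ∀ μ ∈ f'.charpoly.roots, IsIntegral R μ := by
    intro μ hμ
    have hroot : f'.charpoly.IsRoot μ :=
      (Polynomial.mem_roots (LinearMap.charpoly_monic f').ne_zero).mp hμ
    have hev : f'.HasEigenvalue μ := (Module.End.hasEigenvalue_iff_isRoot_charpoly f' μ).mpr hroot
    obtain ⟨v, hv⟩ := hev.exists_hasEigenvector
    have h1 : aeval f' G v = G.eval μ • v := Module.End.aeval_apply_of_hasEigenvector hv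
    have h2 : aeval f' G = 0 := by
      show aeval (Algebra.lmul Fb E' y') G = 0
      rw [Polynomial.aeval_algHom_apply, hGy, map_zero]
    rw [h2, LinearMap.zero_apply] at h1
    have h3 : G.eval μ = 0 := by
      rcases smul_eq_zero.mp h1.symm with h | h
      · exact h
      · exact absurd h hv.2
    refine ⟨g, hg, ?_⟩
    rw [← Polynomial.eval_map]; exact h3
  have : IsIntegral R (algebraMap F Fb (Algebra.trace F E y)) := by
    rw [← htr, hsum]
    exact IsIntegral.multiset_sum hroots
  exact (isIntegral_algebraMap_iff (algebraMap F Fb).injective).mp this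


/-- Suppose the Dedekind different of A → B is defined: A is Noetherian, B is a finite A-algebra,
nonzerodivisors of A are nonzerodivisors on B, and with K = Q(A) and L = B ⊗_A K the map K → L is
étale (here with L finite free over K). If A is a normal ring, i.e. every localization A_p at a
prime is an integrally closed domain, then Trace_{L/K}(b) lies in A for every b ∈ B; equivalently 1
∈ 𝓛_{B/A}. -/
theorem result (A K B L : Type u) [CommRing A] [CommRing K] [CommRing B] [CommRing L] [Algebra A K] [Algebra A B] [Algebra B L] [Algebra K L] [Algebra A L] [IsScalarTower A K L] [IsScalarTower A B L] (h : QFDual.IsDedekindDefined A K B L) (hA : EGA4.IsNormalRing A) : (1 : L) ∈ QFDual.complementary A K B L := by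
  show ∀ b : B, Algebra.trace K L ((1 : L) * algebraMap B L b) ∈ (algebraMap A K).range
  intro b
  rw [one_mul]
  haveI := h.isFractionRing
  haveI := h.isNoetherianRing
  haveI := h.finite
  haveI := h.free
  haveI := h.finiteKL
  apply mem_range_of_forall_maximal
  intro p hp
  haveI : p.IsPrime := hp.isPrime
  obtain ⟨hdom, hic⟩ := hA p
  haveI := hdom
  haveI := hic
  let R := Localization.AtPrime p
  let F := FractionRing R
  let ρ : A →+* F := (algebraMap R F).comp (algebraMap A R)
  have hunit : ∀ s : nonZeroDivisors A, IsUnit (ρ s) := by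
    intro s
    rw [isUnit_iff_ne_zero]
    intro h0
    have h1 : algebraMap A R s = 0 :=
      (IsFractionRing.injective R F) (by rw [map_zero]; exact h0)
    obtain ⟨t, ht⟩ := (IsLocalization.map_eq_zero_iff p.primeCompl R (s : A)).mp h1
    have ht0 : (t : A) = 0 := (mul_right_mem_nonZeroDivisors_eq_zero_iff s.2).mp ht
    exact t.2 (by rw [ht0]; exact zero_mem _)
  let ψ : K →+* F := IsLocalization.lift (M := nonZeroDivisors A) hunit
  have ψ_alg : ∀ x : A, ψ (algebraMap A K x) = algebraMap R F (algebraMap A R x) :=
    fun x => IsLocalization.lift_eq hunit x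
  letI : Algebra K F := ψ.toAlgebra
  have hψ : ∀ k : K, algebraMap K F k = ψ k := fun _ => rfl
  set β := algebraMap B L b with hβ
  set c := Algebra.trace K L β with hc
  have htr : Algebra.trace F (F ⊗[K] L) ((1 : F) ⊗ₜ[K] β) = ψ c := by
    rw [Algebra.trace_apply, ← Algebra.baseChange_lmul, LinearMap.trace_baseChange]; rfl
  obtain ⟨g, hgm, hgb⟩ := Algebra.IsIntegral.isIntegral (R := A) b
  have hint : IsIntegral R (Algebra.trace F (F ⊗[K] L) ((1 : F) ⊗ₜ[K] β)) := by
    refine isIntegral_trace_of_eval₂ _ (g.map (algebraMap A R)) (hgm.map _) ?_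
    rw [Polynomial.eval₂_map]
    let θ : B →+* F ⊗[K] L :=
      ((Algebra.TensorProduct.includeRight : L →ₐ[K] F ⊗[K] L) : L →+* F ⊗[K] L).comp
        (algebraMap B L)
    have hθb : θ b = (1 : F) ⊗ₜ[K] β := rfl
    have hcomp : ((algebraMap F (F ⊗[K] L)).comp (algebraMap R F)).comp (algebraMap A R) =
        θ.comp (algebraMap A B) := by
      ext a
      simp only [RingHom.comp_apply, θ, AlgHom.coe_toRingHom]
      rw [Algebra.TensorProduct.algebraMap_apply, Algebra.TensorProduct.includeRight_apply,
        ← IsScalarTower.algebraMap_apply A B L, IsScalarTower.algebraMap_apply A K L,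
        Algebra.algebraMap_eq_smul_one (algebraMap A K a), ← TensorProduct.smul_tmul,
        Algebra.smul_def, mul_one, hψ, ψ_alg]
      rfl
    rw [hcomp, ← hθb, ← Polynomial.hom_eval₂, hgb, map_zero]
  rw [htr] at hint
  obtain ⟨r, hr⟩ := IsIntegrallyClosed.isIntegral_iff.mp hint
  obtain ⟨a, t', hat⟩ := IsLocalization.exists_mk'_eq p.primeCompl r
  have hrt : r * algebraMap A R t' = algebraMap A R a := by
    rw [← hat]; exact IsLocalization.mk'_spec R a t'
  obtain ⟨u, s, hus⟩ := IsLocalization.exists_mk'_eq (nonZeroDivisors A) c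
  have hcs : c * algebraMap A K s = algebraMap A K u := by
    rw [← hus]; exact IsLocalization.mk'_spec K u s
  have h1 : algebraMap R F r * algebraMap R F (algebraMap A R s) =
      algebraMap R F (algebraMap A R u) := by
    have := congrArg ψ hcs
    rw [map_mul, ψ_alg, ψ_alg] at this
    rw [hr]; exact this
  have h2 : r * algebraMap A R s = algebraMap A R u :=
    IsFractionRing.injective R F (by rw [map_mul]; exact h1)
  have h3 : algebraMap A R (a * s) = algebraMap A R (u * t') := by
    rw [map_mul, map_mul, ← hrt, ← h2]; ring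
  obtain ⟨t'', ht''⟩ := (IsLocalization.eq_iff_exists p.primeCompl R).mp h3
  refine ⟨t'' * t', (t'' * t').2, t'' * a, ?_⟩
  have hsu : IsUnit (algebraMap A K s) := IsLocalization.map_units K s
  apply hsu.mul_right_cancel
  calc algebraMap A K (t'' * t') * c * algebraMap A K s
      = algebraMap A K (t'' * t') * algebraMap A K u := by rw [mul_assoc, hcs]
    _ = algebraMap A K (t'' * (u * t')) := by rw [← map_mul]; congr 1; ring
    _ = algebraMap A K (t'' * (a * s)) := by rw [ht'']
    _ = algebraMap A K (t'' * a) * algebraMap A K s := by rw [← map_mul]; congr 1; ring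

end Groth.Agent.S8961
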