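import Groth.Statements.S8963
import Groth.Agent.H66.QFInv6
import Groth.Agent.S8959
import Groth.Agent.S8964

set_option autoImplicit false
universe u
open TensorProduct
open QFDual

namespace Groth.Agent.S8963

open IsLocalRing in
attribute [local instance] Algebra.TensorProduct.rightAlgebra Groth.Agent.H66.QFInv3.algTTB in
theorem fibre_step (A B' B : Type u) [CommRing A] [CommRing B'] [CommRing B] [IsNoetherianRing A]
    [IsNoetherianRing B] [Algebra A B'] [Algebra B' B] [Algebra A B] [IsScalarTower A B' B]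
    [Module.Flat A B] (hf : QFDual.IsQFFactor A B' B)
    (hfib : ∀ (p : Ideal A) [p.IsPrime] (B'₁ B₁ : Type u) [CommRing B'₁] [CommRing B₁] [Algebra B' B'₁] [Algebra p.ResidueField B'₁] [Algebra A B'₁] [IsScalarTower A p.ResidueField B'₁] [IsScalarTower A B' B'₁] [Algebra B B₁] [Algebra p.ResidueField B₁] [Algebra A B₁] [IsScalarTower A p.ResidueField B₁] [IsScalarTower A B B₁] [Algebra B'₁ B₁] [Algebra B' B₁] [IsScalarTower B' B'₁ B₁] [IsScalarTower B' B B₁] [IsScalarTower p.ResidueField B'₁ B₁], Algebra.IsPushout A p.ResidueField B' B'₁ → Algebra.IsPushout A p.ResidueField B B₁ → Module.Invertible B₁ (QFDual.omega p.ResidueField B'₁ B₁))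
    (q : Ideal B) [q.IsPrime] (C Ah : Type u) [CommRing C] [IsLocalRing C] [Algebra B C]
    [Algebra B' C] [IsScalarTower B' B C] [CommRing Ah] [IsNoetherianRing Ah] [Algebra Ah C]
    [Algebra A C] [IsScalarTower A B C] [Module.Flat B C] [Module.Finite Ah C] [Module.Free Ah C]
    (hcomapC : (maximalIdeal C).comap (algebraMap B C) = q)
    (e : QFDual.omega A B' C ≃ₗ[C] Disc.Omega Ah C) :
    Nonempty (LocalizedModule q.primeCompl (QFDual.omega A B' B) ≃ₗ[Localization.AtPrime q]
      Localization.AtPrime q) := by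
  classical
  haveI hfin : Module.Finite A B' := hf.finite
  haveI : Module.Finite B' (Disc.Omega A B') := Groth.Agent.S8964.finite_omega A B'
  haveI : Module.Finite B (QFDual.omega A B' B) := inferInstance
  -- the prime of `A`
  let p : Ideal A := (maximalIdeal C).comap (algebraMap A C)
  haveI : p.IsPrime := Ideal.comap_isPrime _ _
  letI aB'B₁ : Algebra B' (p.ResidueField ⊗[A] B) :=
    ((algebraMap B (p.ResidueField ⊗[A] B)).comp (algebraMap B' B)).toAlgebra
  haveI t1 : IsScalarTower B' B (p.ResidueField ⊗[A] B) :=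
    IsScalarTower.of_algebraMap_eq (fun _ => rfl)
  haveI t2 : IsScalarTower B' (p.ResidueField ⊗[A] B') (p.ResidueField ⊗[A] B) :=
    IsScalarTower.of_algebraMap_eq (fun x => by
      show (1 : p.ResidueField) ⊗ₜ[A] algebraMap B' B x =
        algebraMap (p.ResidueField ⊗[A] B') (p.ResidueField ⊗[A] B) ((1 : p.ResidueField) ⊗ₜ[A] x)
      rw [Groth.Agent.H66.QFInv3.algebraMap_TTB_tmul])
  haveI t3 := Groth.Agent.H66.QFInv3.tower_Ah_T_TB A B' B p.ResidueField
  have h : Algebra.IsPushout A p.ResidueField B' (p.ResidueField ⊗[A] B') := inferInstance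
  have hB : Algebra.IsPushout A p.ResidueField B (p.ResidueField ⊗[A] B) := inferInstance
  have hinv := hfib p (p.ResidueField ⊗[A] B') (p.ResidueField ⊗[A] B) h hB
  have hbc := Groth.Agent.S8959.result A B' B p.ResidueField (p.ResidueField ⊗[A] B')
    (p.ResidueField ⊗[A] B) hf h hB
  have inv3 : Module.Invertible (ResidueField C) (QFDual.omega A B' (ResidueField C)) :=
    Groth.Agent.H66.QFInv6.invertible_residue A B' B C p rfl hbc hinv
  -- transport to `k ⊗_C Hom_{Ah}(C, Ah)`
  let c2 : ResidueField C ⊗[C] (C ⊗[B'] Disc.Omega A B') ≃ₗ[ResidueField C]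
      ResidueField C ⊗[B'] Disc.Omega A B' :=
    TensorProduct.AlgebraTensorModule.cancelBaseChange B' C (ResidueField C) (ResidueField C)
      (Disc.Omega A B')
  let e4 : ResidueField C ⊗[C] (C ⊗[B'] Disc.Omega A B') ≃ₗ[ResidueField C]
      ResidueField C ⊗[C] Disc.Omega Ah C := LinearEquiv.baseChange C (ResidueField C) _ _ e
  haveI := inv3
  haveI inv4 : Module.Invertible (ResidueField C) (ResidueField C ⊗[C] Disc.Omega Ah C) :=
    Module.Invertible.congr (c2.symm ≪≫ₗ e4)
  have h1 : Module.finrank (ResidueField C) (ResidueField C ⊗[C] Disc.Omega Ah C) = 1 :=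
    Module.Invertible.finrank_eq_one _ _
  obtain ⟨e'⟩ := Groth.Agent.H66.QFInv5.omega_equiv_self_of_finrank Ah C h1
  let e0 : C ⊗[B] (B ⊗[B'] Disc.Omega A B') ≃ₗ[C] C ⊗[B'] Disc.Omega A B' :=
    TensorProduct.AlgebraTensorModule.cancelBaseChange B' B C C (Disc.Omega A B')
  exact Groth.Agent.H66.QFInv1.localization_equiv_of_flat_local q hcomapC (e0 ≪≫ₗ e ≪≫ₗ e'.symm)


/-- Invertibility of the relative dualizing module is a fibrewise condition. Let A → B be a flat
homomorphism of Noetherian rings with a factorization A → B' → B, A → B' finite and Spec B → Spec B'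
an open immersion, so that A → B is quasi-finite and ω_{B/A} = B ⊗_{B'} Hom_A(B', A). The B-module
ω_{B/A} is invertible exactly when, for every prime p of A and every presentation of the fibre rings
B'_p = B' ⊗_A κ(p), B_p = B ⊗_A κ(p) as cocartesian squares over the residue field κ(p) (compatibly
with B' → B), the module ω_{B_p/κ(p)} = B_p ⊗_{B'_p} Hom_{κ(p)}(B'_p, κ(p)) is an invertible
B_p-module. -/
theorem result (A B' B : Type u) [CommRing A] [CommRing B'] [CommRing B] [IsNoetherianRing A] [IsNoetherianRing B] [Algebra A B'] [Algebra B' B] [Algebra A B] [IsScalarTower A B' B] [Module.Flat A B] (hf : QFDual.IsQFFactor A B' B) : Module.Invertible B (QFDual.omega A B' B) ↔ ∀ (p : Ideal A) [p.IsPrime] (B'₁ B₁ : Type u) [CommRing B'₁] [CommRing B₁] [Algebra B' B'₁] [Algebra p.ResidueField B'₁] [Algebra A B'₁] [IsScalarTower A p.ResidueField B'₁] [IsScalarTower A B' B'₁] [Algebra B B₁] [Algebra p.ResidueField B₁] [Algebra A B₁] [IsScalarTower A p.ResidueField B₁] [IsScalarTower A B B₁] [Algebra B'₁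 B₁] [Algebra B' B₁] [IsScalarTower B' B'₁ B₁] [IsScalarTower B' B B₁] [IsScalarTower p.ResidueField B'₁ B₁], Algebra.IsPushout A p.ResidueField B' B'₁ → Algebra.IsPushout A p.ResidueField B B₁ → Module.Invertible B₁ (QFDual.omega p.ResidueField B'₁ B₁) := by
  classical
  haveI hfin : Module.Finite A B' := hf.finite
  obtain ⟨hflat, hepi⟩ := Groth.Agent.S8964.flat_isEpi_of_isOpenImmersion B' B hf.isOpenImmersion
  haveI := hflat
  haveI := hepi
  constructor
  · intro hinv p hp B'₁ B₁ _ _ _ _ _ _ _ _ _ _ _ _ _ _ _ _ _ h hB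
    have hbc := Groth.Agent.S8959.result A B' B p.ResidueField B'₁ B₁ hf h hB
    let E := LinearEquiv.ofBijective (QFDual.omegaBC (B₁ := B₁) h) hbc
    let c : B₁ ⊗[B] (B ⊗[B'] Disc.Omega A B') ≃ₗ[B₁] B₁ ⊗[B'] Disc.Omega A B' :=
      TensorProduct.AlgebraTensorModule.cancelBaseChange B' B B₁ B₁ (Disc.Omega A B')
    haveI : Module.Invertible B₁ (B₁ ⊗[B] QFDual.omega A B' B) := inferInstance
    exact Module.Invertible.congr (c ≪≫ₗ E)
  · intro hfib
    haveI : Module.Finite B' (Disc.Omega A B') := Groth.Agent.S8964.finite_omega A B'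
    haveI : Module.Finite B (QFDual.omega A B' B) := inferInstance
    haveI : Module.FinitePresentation B (QFDual.omega A B' B) :=
      Module.finitePresentation_of_finite B _
    apply Groth.Agent.H66.QFInv1.invertible_of_forall_maximal
    intro q hq
    haveI := hq.isPrime
    obtain ⟨Ah, _, _, _, _, hflatA, hcompl, hc, hres⟩ :=
      Groth.Agent.H66.QFInv3.exists_completion A (q.comap (algebraMap A B))
    haveI := hflatA
    haveI := hcompl
    obtain ⟨C, _, _, _, _, _, _, _, _, _, hflatC, hcomapC, hfinC, hfreeC, ⟨e⟩⟩ :=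
      Groth.Agent.H66.QFInv4.exists_local_cover' A B' B Ah q hc hres
    haveI := hflatC
    haveI := hfinC
    haveI := hfreeC
    exact fibre_step A B' B hf hfib q C Ah hcomapC e

end Groth.Agent.S8963
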