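import Groth.Statements.S8970
import Groth.Agent.H12.AdjFin

set_option autoImplicit false
universe u
open CategoryTheory
attribute [local instance] HasDerivedCategory.standard
open Dual

namespace Groth.Agent.S8970

open Groth.Agent.H12.AdjFin DerivedCategory CategoryTheory.Limits in
theorem key {A B : Type*} [CommRing A] [CommRing B] (φ : A →+* B) (hs : Function.Surjective φ)
    (q : Ideal B) [q.IsPrime] {HB HA : Type*} [AddCommGroup HB] [Module B HB] [AddCommGroup HA]
    [Module A HA] (toA : HB → HA) (toB : HA → HB) (h1 : ∀ f, toA (toB f) = f)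
    (h2 : ∀ g, toB (toA g) = g) (hA0 : toA 0 = 0) (hB0 : toB 0 = 0)
    (hsm : ∀ (a : A) (f : HA), toB (a • f) = φ a • toB f) :
    Nontrivial (LocalizedModule q.primeCompl HB) ↔
      Nontrivial (LocalizedModule (q.comap φ).primeCompl HA) := by
  rw [← not_subsingleton_iff_nontrivial, ← not_subsingleton_iff_nontrivial,
    LocalizedModule.subsingleton_iff, LocalizedModule.subsingleton_iff]
  refine not_congr ⟨fun h m' => ?_, fun h m => ?_⟩
  · obtain ⟨r, hr, hr0⟩ := h (toB m')
    obtain ⟨a, rfl⟩ := hs r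
    refine ⟨a, fun ha => hr (Ideal.mem_comap.1 ha), ?_⟩
    rw [← h1 (a • m'), hsm, hr0, hA0]
  · obtain ⟨a, ha, ha0⟩ := h (toA m)
    refine ⟨φ a, fun hq => ha (Ideal.mem_comap.2 hq), ?_⟩
    rw [← h2 m, ← hsm, ha0, hB0]

/-- `A/φ⁻¹(q) ≃ B/q` as `A`-modules. -/
noncomputable def quotEquiv {A B : Type u} [CommRing A] [CommRing B] (φ : A →+* B)
    (hs : Function.Surjective φ) (q : Ideal B) :
    (A ⧸ q.comap φ) ≃ₗ[A]
      ((ModuleCat.restrictScalars.{u} φ).obj (ModuleCat.of B (B ⧸ q))) :=
  LinearEquiv.ofBijective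
    ({
      toFun := fun x => (Ideal.quotientMap q φ le_rfl x)
      map_add' := fun x y => map_add (Ideal.quotientMap q φ le_rfl) x y
      map_smul' := fun a x => by
        obtain ⟨x, rfl⟩ := Ideal.Quotient.mk_surjective x
        have h1 : a • (Ideal.Quotient.mk (q.comap φ) x) = Ideal.Quotient.mk _ (a * x) := rfl
        rw [h1, Ideal.quotientMap_mk, Ideal.quotientMap_mk, map_mul]
        rfl } : (A ⧸ q.comap φ) →ₗ[A]
      ((ModuleCat.restrictScalars.{u} φ).obj (ModuleCat.of B (B ⧸ q))))
    ⟨Ideal.quotientMap_injective, Ideal.quotientMap_surjective (H := le_rfl) hs⟩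


/-- For a Noetherian ring A with a dualizing complex ω, δ(p) denotes the integer such that the
localization at p of Hom(A/p, ω[i]) is nonzero exactly for i = −δ(p); this δ is the dimension
function of ω. Suppose A is a Noetherian ring equipped with a dualizing complex ω, fix a surjective
ring homomorphism A → B, and take R : D(A) → D(B) to be the right adjoint of restriction of scalars;
then ω_B = R(ω) = RHom_A(B, ω) is a dualizing complex for B. Then δ_{ω_B} is the restriction of δ_ω
to Spec B: for every prime q of B, with p its preimage in A, and every integer i, the localization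
at q of the B-module of maps B/q → ω_B[i] in D(B) is nonzero if and only if the localization at p of
the A-module of maps A/p → ω[i] in D(A) is nonzero. -/
theorem result (A B : Type u) [CommRing A] [CommRing B] [IsNoetherianRing A] [IsNoetherianRing B] [Algebra A B] (hs : Function.Surjective (algebraMap A B)) (R : Dual.D A ⥤ Dual.D B) (adj : DRing.restrictD (algebraMap A B) ⊣ R) (ω : Dual.D A) (hω : Dual.IsDualizing A ω) (q : PrimeSpectrum B) (i : ℤ) : Nontrivial (LocalizedModule q.asIdeal.primeCompl (Dual.inD B (B ⧸ q.asIdeal) ⟶ (R.obj ω)⟦i⟧)) ↔ Nontrivial (LocalizedModule (q.asIdeal.comap (algebraMap A B)).primeCompl (Dual.inD A (A ⧸ q.asIdeal.comap (algebraMap A B)) ⟶ ω⟦i⟧)) := by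
  obtain ⟨ι⟩ : Nonempty (R.obj (ω⟦i⟧) ≅ (R.obj ω)⟦i⟧) :=
    ⟨(Adjunction.RightAdjointCommShift.iso adj i).app ω⟩
  obtain ⟨θ⟩ : Nonempty ((Groth.Agent.H12.AdjFin.resD (algebraMap A B)).obj
      (Dual.inD B (B ⧸ q.asIdeal)) ≅
      Dual.inD A (A ⧸ q.asIdeal.comap (algebraMap A B))) :=
    ⟨((ModuleCat.restrictScalars.{u} (algebraMap A B)).mapDerivedCategorySingleFunctor 0).app
        (ModuleCat.of B (B ⧸ q.asIdeal)) ≪≫
      (DerivedCategory.singleFunctor (ModuleCat.{u} A) 0).mapIso
        ((quotEquiv (algebraMap A B) hs q.asIdeal).symm.toModuleIso)⟩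
  exact key (algebraMap A B) hs q.asIdeal
    (fun g => θ.inv ≫ (adj.homEquiv _ _).symm (g ≫ ι.inv))
    (fun f => adj.homEquiv _ _ (θ.hom ≫ f) ≫ ι.hom)
    (fun f => by simp) (fun g => by simp)
    (by rw [Limits.zero_comp, Adjunction.homAddEquiv_symm_zero, Limits.comp_zero])
    (by rw [Limits.comp_zero, Adjunction.homAddEquiv_zero, Limits.zero_comp])
    (fun a f => by
      rw [Linear.comp_smul, Groth.Agent.H12.AdjFin.homEquiv_smul (algebraMap A B) R adj,
        Linear.smul_comp])

end Groth.Agent.S8970
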