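import Groth.Statements.S8971
import Mathlib
import Groth.Agent.H13.AssFlatEpi
import Groth.Agent.H34.AssOmega

set_option autoImplicit false
universe u
open TensorProduct
open QFDual
open AlgebraicGeometry CategoryTheory

namespace Groth.Agent.S8971

/-- Let A → B be a quasi-finite homomorphism of Noetherian rings, presented by writing it as a composite
A → B' → B, where the map A → B' is finite and the induced morphism Spec B → Spec B' is an open
immersion, so that ω_{B/A} = B ⊗_{B'} Hom_A(B', A) (B' acting on Hom_A(B', A) through the argument).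
Then Ass_B(ω_{B/A}) is the set of primes of B whose preimage in A is an associated prime of A. -/
theorem result (A B' B : Type u) [CommRing A] [CommRing B'] [CommRing B] [IsNoetherianRing A] [IsNoetherianRing B] [Algebra A B'] [Algebra B' B] [Algebra A B] [IsScalarTower A B' B] (hf : QFDual.IsQFFactor A B' B) : associatedPrimes B (QFDual.omega A B' B) = {q : Ideal B | q.IsPrime ∧ q.comap (algebraMap A B) ∈ associatedPrimes A A} := by
  classical
  haveI : Module.Finite A B' := hf.finite
  haveI : IsNoetherianRing B' := IsNoetherianRing.of_finite A B'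
  have h := hf.isOpenImmersion
  haveI : Module.Flat B' B := by
    have h1 : Flat (Spec.map (CommRingCat.ofHom (algebraMap B' B))) := inferInstance
    have h2 : (algebraMap B' B).Flat := AlgebraicGeometry.Flat.SpecMap_iff.mp h1
    exact RingHom.flat_algebraMap_iff.mp h2
  have hepi : Epi (CommRingCat.ofHom (algebraMap B' B)) := by
    have hmono : Mono (Spec.map (CommRingCat.ofHom (algebraMap B' B))) := inferInstance
    have h2 : Mono (Scheme.Spec.map (CommRingCat.ofHom (algebraMap B' B)).op) := hmono
    have h3 : Mono (CommRingCat.ofHom (algebraMap B' B)).op := Scheme.Spec.mono_of_mono_map h2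
    exact unop_epi_of_mono (CommRingCat.ofHom (algebraMap B' B)).op
  have hepi' : ∀ s : B, s ⊗ₜ[B'] (1 : B) = (1 : B) ⊗ₜ[B'] s := by
    intro s
    let ι₁ : B →+* B ⊗[B'] B := Algebra.TensorProduct.includeLeftRingHom
    let ι₂ : B →+* B ⊗[B'] B := (Algebra.TensorProduct.includeRight (R := B') (A := B)).toRingHom
    have h12 : ι₁.comp (algebraMap B' B) = ι₂.comp (algebraMap B' B) := by
      ext b
      change algebraMap B' B b ⊗ₜ[B'] (1 : B) = (1 : B) ⊗ₜ[B'] algebraMap B' B b
      rw [Algebra.algebraMap_eq_smul_one, TensorProduct.smul_tmul]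
    have e1 : CommRingCat.ofHom (algebraMap B' B) ≫ CommRingCat.ofHom ι₁ =
        CommRingCat.ofHom (algebraMap B' B) ≫ CommRingCat.ofHom ι₂ := by
      rw [← CommRingCat.ofHom_comp, ← CommRingCat.ofHom_comp, h12]
    have e2 := (cancel_epi _).mp e1
    have e3 : ι₁ = ι₂ := congrArg CommRingCat.Hom.hom e2
    exact RingHom.congr_fun e3 s
  have hcomap : ∀ q : Ideal B, q.comap (algebraMap A B) =
      (q.comap (algebraMap B' B)).comap (algebraMap A B') := by
    intro q
    rw [Ideal.comap_comap, ← IsScalarTower.algebraMap_eq]
  have hfin := Groth.Agent.H34.AssOmega.main (A := A) (B := B')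
  ext q
  constructor
  · intro hq
    have hqp : q.IsPrime := IsAssociatedPrime.isPrime hq
    have h1 := H13.AssFlatEpi.comap_mem_associatedPrimes_of_flat (R := B') (S := B)
      (M := Disc.Omega A B') q hq
    rw [hfin] at h1
    exact ⟨hqp, by rw [hcomap]; exact h1.2⟩
  · rintro ⟨hqp, hq⟩
    haveI := hqp
    apply H13.AssFlatEpi.mem_associatedPrimes_of_flat_epi (R := B') (S := B)
      (M := Disc.Omega A B') hepi' q
    rw [hfin]
    exact ⟨Ideal.comap_isPrime _ _, by rw [← hcomap]; exact hq⟩

end Groth.Agent.S8971
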