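import Groth.Statements.S8972
import Mathlib

set_option autoImplicit false
open Synt

namespace Groth.Agent.S8972

open MvPolynomial


variable (n d : ℕ)

/-- the zero index -/
def zeroIdx : UnivIdx n d := ⟨fun _ => 0, by simp⟩

theorem zeroIdx_exponent : (zeroIdx n d).exponent = 0 := by
  ext i
  simp [zeroIdx, UnivIdx.exponent]

/-- variables other than the constant coefficients -/
abbrev S : Type := {p : Fin n × UnivIdx n d // p.2 ≠ zeroIdx n d}

instance : Finite (S n d) := by unfold S; infer_instance

abbrev C : Type := MvPolynomial (Fin n) (MvPolynomial (S n d) ℤ)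

/-- image of the coefficient variable a_{i,E} -/
noncomputable def gvar (p : Fin n × UnivIdx n d) : C n d :=
  if h : p.2 ≠ zeroIdx n d then MvPolynomial.C (X ⟨p, h⟩)
  else - ∑ E : UnivIdx n d, if h' : E ≠ zeroIdx n d then
      monomial E.exponent (X (⟨(p.1, E), h'⟩ : S n d) : MvPolynomial (S n d) ℤ) else 0

noncomputable def g : UnivBase n d →+* C n d :=
  eval₂Hom (Int.castRingHom (C n d)) (gvar n d)

noncomputable def φ : MvPolynomial (Fin n) (UnivBase n d) →+* C n d :=
  eval₂Hom (g n d) (fun j => X j)

theorem φ_monomial (e : Fin n →₀ ℕ) (a : UnivBase n d) :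
    φ n d (monomial e a) = g n d a * monomial e 1 := by
  unfold φ
  rw [coe_eval₂Hom, eval₂_monomial]
  congr 1
  rw [monomial_eq]
  simp

theorem φ_univPoly (i : Fin n) : φ n d (univPoly n d i) = 0 := by
  unfold univPoly
  rw [map_sum]
  simp_rw [φ_monomial]
  rw [← Finset.add_sum_erase _ _ (Finset.mem_univ (zeroIdx n d))]
  have h0 : g n d (X (i, zeroIdx n d)) = - ∑ E : UnivIdx n d, if h' : E ≠ zeroIdx n d then
      monomial E.exponent (X (⟨(i, E), h'⟩ : S n d) : MvPolynomial (S n d) ℤ) else 0 := by
    unfold g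
    rw [coe_eval₂Hom, eval₂_X]
    unfold gvar
    simp
  rw [h0, zeroIdx_exponent]
  have h1 : (monomial (0 : Fin n →₀ ℕ) (1 : MvPolynomial (S n d) ℤ)) = 1 := rfl
  rw [h1, mul_one, neg_add_eq_zero]
  rw [← Finset.add_sum_erase _ _ (Finset.mem_univ (zeroIdx n d))]
  rw [dif_neg (by simp), zero_add]
  apply Finset.sum_congr rfl
  intro E hE
  have hE' : E ≠ zeroIdx n d := Finset.ne_of_mem_erase hE
  rw [dif_pos hE']
  unfold g
  rw [coe_eval₂Hom, eval₂_X]
  unfold gvar
  rw [dif_pos (by exact hE')]
  rw [C_mul_monomial, mul_one]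



noncomputable def mkR : MvPolynomial (Fin n) (UnivBase n d) →+* UnivAlg n d :=
  (UnivAlg.mk n d).toRingHom

theorem mkR_univPoly (i : Fin n) : mkR n d (univPoly n d i) = 0 := by
  have : (Ideal.Quotient.mk (univIdeal n d)) (univPoly n d i) = 0 :=
    Ideal.Quotient.eq_zero_iff_mem.mpr (Ideal.subset_span ⟨i, rfl⟩)
  exact this

theorem mkR_surj : Function.Surjective (mkR n d) := by
  intro b
  obtain ⟨a, ha⟩ := Ideal.Quotient.mk_surjective (I := univIdeal n d) b
  exact ⟨a, ha⟩

theorem mkR_ker_le : RingHom.ker (mkR n d) ≤ RingHom.ker (φ n d) := by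
  intro a h
  have h' : (Ideal.Quotient.mk (univIdeal n d)) a = 0 := h
  have h2 : a ∈ univIdeal n d := Ideal.Quotient.eq_zero_iff_mem.mp h'
  have : univIdeal n d ≤ RingHom.ker (φ n d) := by
    unfold univIdeal
    rw [Ideal.span_le]
    rintro _ ⟨i, rfl⟩
    exact φ_univPoly n d i
  exact this h2

/-- induced map on the quotient -/
noncomputable def φbar : UnivAlg n d →+* C n d :=
  (mkR n d).liftOfSurjective (mkR_surj n d) ⟨φ n d, mkR_ker_le n d⟩

theorem φbar_mk (p : MvPolynomial (Fin n) (UnivBase n d)) : φbar n d (mkR n d p) = φ n d p :=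
  RingHom.liftOfSurjective_comp_apply (mkR n d) (mkR_surj n d) ⟨φ n d, mkR_ker_le n d⟩ p

noncomputable def ψ : C n d →+* UnivAlg n d :=
  eval₂Hom (eval₂Hom (Int.castRingHom (UnivAlg n d)) (fun s : S n d => mkR n d (MvPolynomial.C (X s.1))))
    (fun j => mkR n d (X j))

theorem ψ_C_X (s : S n d) : ψ n d (MvPolynomial.C (X s)) = mkR n d (MvPolynomial.C (X s.1)) := by
  unfold ψ
  rw [eval₂Hom_C]
  exact eval₂Hom_X' _ _ _

theorem ψ_X (j : Fin n) : ψ n d (X j) = mkR n d (X j) := by
  unfold ψ
  exact eval₂Hom_X' _ _ _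

theorem ψ_monomial (e : Fin n →₀ ℕ) (s : S n d) :
    ψ n d (monomial e (X s)) = mkR n d (monomial e (X s.1)) := by
  have h1 : (monomial e (X s : MvPolynomial (S n d) ℤ)) = MvPolynomial.C (X s) * monomial e 1 := by
    rw [C_mul_monomial, mul_one]
  have h2 : (monomial e (X s.1 : UnivBase n d)) = MvPolynomial.C (X s.1) * monomial e 1 := by
    rw [C_mul_monomial, mul_one]
  rw [h1, h2, map_mul, map_mul, ψ_C_X]
  congr 1
  rw [monomial_eq, monomial_eq]
  simp only [map_one, one_mul, Finsupp.prod, map_prod, map_pow, ψ_X]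

theorem φ_C_X_zero (i : Fin n) :
    φ n d (MvPolynomial.C (X (i, zeroIdx n d))) = - ∑ E : UnivIdx n d, if h' : E ≠ zeroIdx n d then
      monomial E.exponent (X (⟨(i, E), h'⟩ : S n d) : MvPolynomial (S n d) ℤ) else 0 := by
  unfold φ g
  rw [coe_eval₂Hom, eval₂_C, coe_eval₂Hom, eval₂_X]
  unfold gvar
  simp

theorem φ_C_X_ne (i : Fin n) (E : UnivIdx n d) (hE : E ≠ zeroIdx n d) :
    φ n d (MvPolynomial.C (X (i, E))) = MvPolynomial.C (X ⟨(i, E), hE⟩) := by
  unfold φ g
  rw [coe_eval₂Hom, eval₂_C, coe_eval₂Hom, eval₂_X]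
  unfold gvar
  rw [dif_pos (by exact hE)]

theorem φ_X (j : Fin n) : φ n d (X j) = X j := by
  unfold φ
  rw [coe_eval₂Hom, eval₂_X]

theorem ψ_φ : (ψ n d).comp (φ n d) = mkR n d := by
  apply MvPolynomial.ringHom_ext
  · intro a
    have : ((ψ n d).comp (φ n d)).comp MvPolynomial.C = (mkR n d).comp MvPolynomial.C := by
      apply MvPolynomial.ringHom_ext
      · intro z
        exact RingHom.congr_fun (RingHom.ext_int
          ((((ψ n d).comp (φ n d)).comp MvPolynomial.C).comp MvPolynomial.C)
          (((mkR n d).comp MvPolynomial.C).comp MvPolynomial.C)) z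
      · rintro ⟨i, E⟩
        simp only [RingHom.coe_comp, Function.comp_apply]
        by_cases hE : E = zeroIdx n d
        · subst hE
          rw [φ_C_X_zero, map_neg, map_sum]
          have key := mkR_univPoly n d i
          unfold univPoly at key
          rw [map_sum, ← Finset.add_sum_erase _ _ (Finset.mem_univ (zeroIdx n d))] at key
          rw [zeroIdx_exponent] at key
          have h1 : (monomial (0 : Fin n →₀ ℕ) (X (i, zeroIdx n d) : UnivBase n d)) =
              MvPolynomial.C (X (i, zeroIdx n d)) := rfl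
          rw [h1] at key
          rw [eq_neg_of_add_eq_zero_left key]
          congr 1
          rw [← Finset.add_sum_erase _ _ (Finset.mem_univ (zeroIdx n d))]
          rw [dif_neg (by simp), map_zero, zero_add]
          apply Finset.sum_congr rfl
          intro E hE
          have hE' : E ≠ zeroIdx n d := Finset.ne_of_mem_erase hE
          rw [dif_pos hE', ψ_monomial]
        · rw [φ_C_X_ne n d i E hE, ψ_C_X]
    exact RingHom.congr_fun this a
  · intro j
    simp only [RingHom.coe_comp, Function.comp_apply]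
    rw [φ_X, ψ_X]

theorem φbar_ψ : (φbar n d).comp (ψ n d) = RingHom.id _ := by
  apply MvPolynomial.ringHom_ext
  · intro a
    have : ((φbar n d).comp (ψ n d)).comp MvPolynomial.C = (RingHom.id _).comp MvPolynomial.C := by
      apply MvPolynomial.ringHom_ext
      · intro z
        simp
      · intro s
        simp only [RingHom.coe_comp, Function.comp_apply, RingHom.id_apply]
        rw [ψ_C_X, φbar_mk, φ_C_X_ne n d s.1.1 s.1.2 s.2]
    exact RingHom.congr_fun this a
  · intro j
    simp only [RingHom.coe_comp, Function.comp_apply, RingHom.id_apply]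
    rw [ψ_X, φbar_mk, φ_X]

noncomputable def iso : UnivAlg n d ≃+* C n d :=
  RingEquiv.ofRingHom (φbar n d) (ψ n d) (φbar_ψ n d)
    (by
      apply RingHom.ext
      intro b
      obtain ⟨a, rfl⟩ := mkR_surj n d b
      simp only [RingHom.coe_comp, Function.comp_apply, RingHom.id_apply]
      rw [φbar_mk]
      exact RingHom.congr_fun (ψ_φ n d) a)

theorem main : IsDomain (UnivAlg n d) ∧
    ∀ q : PrimeSpectrum (UnivAlg n d), IsRegularLocalRing (Localization.AtPrime q.asIdeal) := by
  haveI : IsRegularRing (C n d) := inferInstance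
  haveI : IsRegularRing (UnivAlg n d) := IsRegularRing.of_ringEquiv (iso n d).symm
  refine ⟨(iso n d).toMulEquiv.isDomain (C n d), fun q => ?_⟩
  exact IsRegularRing.isRegularLocalRing_localization q.asIdeal


/-- Let n, d ≥ 1 and let B = A[x_1, …, x_n]/(f_1, …, f_n) be the universal algebra over A = ℤ[a_{i,E}],
f_i = Σ_E a_{i,E} x^E summed over exponent vectors E with |E| ≤ d. Then B is an integral domain and
every localization of B at a prime ideal is a regular local ring. (The published statement says that
X_{n,d} = Spec A and the quasi-finite locus Y_{n,d} ⊆ Spec B are regular and irreducible; for A, a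
polynomial ring over ℤ, this is standard, and for the open Y_{n,d} it follows from the assertion
about all of Spec B made here, which is what the printed argument shows. The published statement
also asserts that Y_{n,d} → X_{n,d} is locally quasi-finite and syntomic, an instance of the general
characterisation of quasi-finite syntomic maps; that clause is not part of this row.) -/
theorem result (n d : ℕ) (hn : 1 ≤ n) (hd : 1 ≤ d) : IsDomain (Synt.UnivAlg n d) ∧ ∀ q : PrimeSpectrum (Synt.UnivAlg n d), IsRegularLocalRing (Localization.AtPrime q.asIdeal) := by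
  exact main n d

end Groth.Agent.S8972
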