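import Groth.Statements.S8973
import Mathlib

set_option autoImplicit false
open Synt

namespace Groth.Agent.S8973

open MvPolynomial

universe u v


section generic
variable {R : Type u} [CommRing R] {σ : Type} [Finite σ] (v : σ → MvPolynomial σ R)

/-- the naive presentation -/
noncomputable abbrev P₀ : Algebra.PreSubmersivePresentation R
    (MvPolynomial σ R ⧸ Ideal.span (Set.range v)) σ σ :=
  Algebra.PreSubmersivePresentation.naive (v := v) id Function.injective_id

theorem etale_away :
    Algebra.Etale R (Localization.Away (P₀ v).jacobian) := by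
  obtain ⟨Δ, hΔdef⟩ : ∃ Δ, Δ = (P₀ v).jacobian := ⟨_, rfl⟩
  rw [← hΔdef]
  have hΔ : IsUnit (algebraMap _ (Localization.Away Δ) Δ) :=
    IsLocalization.Away.algebraMap_isUnit _
  let P : Algebra.SubmersivePresentation R (Localization.Away Δ) _ _ :=
    { toPreSubmersivePresentation :=
        .comp (.localizationAway (Localization.Away Δ) Δ) (P₀ v),
      jacobian_isUnit := by
        rw [Algebra.PreSubmersivePresentation.comp_jacobian_eq_jacobian_smul_jacobian]
        simpa [Algebra.smul_def, -isUnit_map_iff, hΔ, ← hΔdef] using hΔ }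
  have : Algebra.IsStandardSmoothOfRelativeDimension 0 R (Localization.Away Δ) :=
    ⟨_, _, _, inferInstance, P, by
      simp only [Algebra.PreSubmersivePresentation.dimension_comp_eq_dimension_add_dimension, P]
      simp [Algebra.Presentation.dimension]⟩
  infer_instance

end generic


section loc
variable {R : Type u} {S : Type v} [CommRing R] [CommRing S] [Algebra R S]

theorem isEtaleAt_of_away (s : S) [Algebra.Etale R (Localization.Away s)]
    (q : Ideal S) [q.IsPrime] (hq : s ∉ q) : Algebra.IsEtaleAt R q := by
  have h : (↑(PrimeSpectrum.basicOpen s) : Set (PrimeSpectrum S)) ⊆ Algebra.etaleLocus R S :=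
    Algebra.basicOpen_subset_etaleLocus_iff.mpr inferInstance
  exact h (show (⟨q, inferInstance⟩ : PrimeSpectrum S) ∈ PrimeSpectrum.basicOpen s from hq)

theorem quasiFiniteAt_of_away (s : S) [Algebra.QuasiFinite R (Localization.Away s)]
    (q : Ideal S) [q.IsPrime] (hq : s ∉ q) : Algebra.QuasiFiniteAt R q := by
  have hdisj : Disjoint (Submonoid.powers s : Set S) (q : Set S) :=
    (Ideal.disjoint_powers_iff_notMem_of_isPrime s).mpr hq
  obtain ⟨q', hq'def⟩ : ∃ q' : Ideal (Localization.Away s),
      q' = Ideal.map (algebraMap S (Localization.Away s)) q := ⟨_, rfl⟩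
  haveI hq'prime : q'.IsPrime := by
    rw [hq'def]
    exact IsLocalization.isPrime_of_isPrime_disjoint (Submonoid.powers s) _ q inferInstance hdisj
  have hcomap : q'.comap (algebraMap S (Localization.Away s)) = q := by
    rw [hq'def]
    exact IsLocalization.comap_map_of_isPrime_disjoint (Submonoid.powers s) _ inferInstance hdisj
  haveI h1 : IsLocalization.AtPrime (Localization.AtPrime q')
      (q'.comap (algebraMap S (Localization.Away s))) := inferInstance
  haveI h2 : IsLocalization.AtPrime (Localization.AtPrime q') q := by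
    have := h1
    simp only [hcomap] at this
    exact this
  haveI : Algebra.QuasiFinite R (Localization.AtPrime q') := inferInstance
  let e : Localization.AtPrime q ≃ₐ[S] Localization.AtPrime q' :=
    IsLocalization.algEquiv q.primeCompl _ _
  exact (Algebra.QuasiFinite.iff_of_algEquiv (e.restrictScalars R)).mpr inferInstance

end loc


section spec
variable (n d : ℕ)

/-- the zero index -/
def zeroIdx : UnivIdx n d := ⟨fun _ => 0, by simp⟩

theorem exponent_injective : Function.Injective (UnivIdx.exponent : UnivIdx n d → (Fin n →₀ ℕ)) := by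
  intro E E' h
  apply Subtype.ext
  funext i
  apply Fin.ext
  have := DFunLike.congr_fun h i
  simpa [UnivIdx.exponent] using this

variable {d} in
/-- the i-th unit index -/
def unitIdx (hd : 1 ≤ d) (i : Fin n) : UnivIdx n d :=
  ⟨fun k => if k = i then ⟨1, by omega⟩ else ⟨0, by omega⟩, by
    have : ∀ k : Fin n, (((if k = i then (⟨1, by omega⟩ : Fin (d+1)) else ⟨0, by omega⟩) : Fin (d + 1)) : ℕ)
        = if k = i then 1 else 0 := by
      intro k; split_ifs <;> rfl
    simp only [this]
    simp
    exact hd⟩

variable {d} in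
theorem unitIdx_exponent (hd : 1 ≤ d) (i : Fin n) :
    (unitIdx n hd i).exponent = Finsupp.single i 1 := by
  ext k
  rw [Finsupp.single_apply]
  show ((if k = i then (⟨1, by omega⟩ : Fin (d+1)) else ⟨0, by omega⟩ : Fin (d+1)) : ℕ) = _
  by_cases h : k = i
  · subst h; simp
  · rw [if_neg h, if_neg (Ne.symm h)]

variable {d} in
theorem exponent_eq_single_iff (hd : 1 ≤ d) (i : Fin n) (E : UnivIdx n d) :
    E.exponent = Finsupp.single i 1 ↔ E = unitIdx n hd i := by
  constructor
  · intro h
    apply exponent_injective
    rw [h, unitIdx_exponent]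
  · rintro rfl
    exact unitIdx_exponent n hd i

variable {d} in
theorem unitIdx_injective (hd : 1 ≤ d) : Function.Injective (unitIdx n hd) := by
  intro i j h
  have := congrArg UnivIdx.exponent h
  rw [unitIdx_exponent, unitIdx_exponent] at this
  exact (Finsupp.single_left_inj one_ne_zero).mp this

variable {d} in
/-- evaluation of coefficients -/
noncomputable def evA (hd : 1 ≤ d) : UnivBase n d →+* ℤ :=
  MvPolynomial.eval (fun p : Fin n × UnivIdx n d => if p.2 = unitIdx n hd p.1 then (1 : ℤ) else 0)

variable {d} in
noncomputable def ev (hd : 1 ≤ d) : MvPolynomial (Fin n) (UnivBase n d) →+* ℤ :=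
  (evA n hd).comp MvPolynomial.constantCoeff

variable {d} in
theorem ev_univPoly (hd : 1 ≤ d) (j : Fin n) : ev n hd (univPoly n d j) = 0 := by
  unfold ev univPoly
  simp only [RingHom.coe_comp, Function.comp_apply, map_sum, constantCoeff_monomial]
  apply Finset.sum_eq_zero
  intro E _
  split_ifs with h
  · unfold evA
    rw [eval_X]
    rw [if_neg]
    intro h'
    dsimp only at h'
    rw [h', unitIdx_exponent] at h
    have := DFunLike.congr_fun h j
    simp at this
  · simp

variable {d} in
theorem ev_pderiv (hd : 1 ≤ d) (i j : Fin n) :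
    ev n hd (pderiv i (univPoly n d j)) = if i = j then 1 else 0 := by
  unfold ev
  simp only [RingHom.coe_comp, Function.comp_apply]
  rw [constantCoeff_eq, coeff_pderiv]
  simp only [zero_add, Finsupp.coe_zero, Pi.zero_apply, Nat.cast_zero, mul_one]
  unfold univPoly
  rw [coeff_sum, map_sum]
  simp only [coeff_monomial]
  rw [Finset.sum_eq_single (unitIdx n hd i)]
  · rw [if_pos (unitIdx_exponent n hd i)]
    unfold evA
    rw [eval_X]
    dsimp only
    by_cases h : i = j
    · subst h; simp
    · rw [if_neg h, if_neg]
      intro h'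
      exact h (unitIdx_injective n hd h')
  · intro E _ hE
    rw [if_neg, map_zero]
    intro h
    exact hE ((exponent_eq_single_iff n hd i E).mp h)
  · intro h
    exact absurd (Finset.mem_univ _) h

end spec

section fin
variable (n d : ℕ)

theorem ev_mem (hd : 1 ≤ d) : ∀ a ∈ univIdeal n d, ev n hd a = 0 := by
  have : univIdeal n d ≤ RingHom.ker (ev n hd) := by
    unfold univIdeal
    rw [Ideal.span_le]
    rintro _ ⟨i, rfl⟩
    exact ev_univPoly n hd i
  exact fun a ha => this ha

noncomputable def ev' (hd : 1 ≤ d) :
    (MvPolynomial (Fin n) (UnivBase n d) ⧸ univIdeal n d) →+* ℤ :=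
  Ideal.Quotient.lift (univIdeal n d) (ev n hd) (ev_mem n d hd)

theorem ev'_jacobian (hd : 1 ≤ d) : ev' n d hd (P₀ (univPoly n d)).jacobian = 1 := by
  classical
  rw [Algebra.PreSubmersivePresentation.jacobian_eq_jacobiMatrix_det]
  have h1 : ∀ x : MvPolynomial (Fin n) (UnivBase n d),
      ev' n d hd (algebraMap (P₀ (univPoly n d)).Ring
        (MvPolynomial (Fin n) (UnivBase n d) ⧸ univIdeal n d) x) = ev n hd x := by
    intro x
    exact Ideal.Quotient.lift_mk _ _ _
  rw [h1, RingHom.map_det]
  have h2 : (ev n hd).mapMatrix (P₀ (univPoly n d)).jacobiMatrix = 1 := by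
    ext i j
    rw [RingHom.mapMatrix_apply, Matrix.map_apply,
      Algebra.PreSubmersivePresentation.jacobiMatrix_naive]
    simp only [id_eq]
    rw [ev_pderiv, Matrix.one_apply]
  rw [h2, Matrix.det_one]

theorem mainQ (hd : 1 ≤ d) :
    ∃ q : PrimeSpectrum (MvPolynomial (Fin n) (UnivBase n d) ⧸ univIdeal n d),
      Algebra.QuasiFiniteAt (UnivBase n d)
        (S := MvPolynomial (Fin n) (UnivBase n d) ⧸ univIdeal n d) q.asIdeal ∧
      Algebra.IsEtaleAt (UnivBase n d)
        (A := MvPolynomial (Fin n) (UnivBase n d) ⧸ univIdeal n d) q.asIdeal := by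
  haveI hprime : (RingHom.ker (ev' n d hd)).IsPrime := RingHom.ker_isPrime _
  have hq : (P₀ (univPoly n d)).jacobian ∉ RingHom.ker (ev' n d hd) := by
    rw [RingHom.mem_ker, ev'_jacobian]
    exact one_ne_zero
  haveI := etale_away (univPoly n d)
  refine ⟨⟨RingHom.ker (ev' n d hd), hprime⟩, ?_, ?_⟩
  · exact quasiFiniteAt_of_away _ _ hq
  · exact isEtaleAt_of_away _ _ hq

theorem main (hd : 1 ≤ d) : ∃ q : PrimeSpectrum (Synt.UnivAlg n d),
    Algebra.QuasiFiniteAt (Synt.UnivBase n d) q.asIdeal ∧
      Algebra.IsEtaleAt (Synt.UnivBase n d) q.asIdeal := by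
  obtain ⟨q, h1, h2⟩ := mainQ n d hd
  exact ⟨q, h1, h2⟩

end fin


/-- Let n, d ≥ 1 and let B = A[x_1, …, x_n]/(f_1, …, f_n) be the universal algebra over A = ℤ[a_{i,E}],
f_i = Σ_E a_{i,E} x^E summed over exponent vectors E with |E| ≤ d. Then there is a prime q of B at
which B is quasi-finite over A and étale over A (that is, B_q is quasi-finite and formally étale
over A). (The published statement asserts a dense open V of the quasi-finite locus Y_{n,d} ⊆ Spec B
that is étale over Spec A; as Spec B is irreducible and the étale locus is open, that amounts to the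
existence of one such point, which is what is stated here and what the printed argument exhibits.) -/
theorem result (n d : ℕ) (hn : 1 ≤ n) (hd : 1 ≤ d) : ∃ q : PrimeSpectrum (Synt.UnivAlg n d), Algebra.QuasiFiniteAt (Synt.UnivBase n d) q.asIdeal ∧ Algebra.IsEtaleAt (Synt.UnivBase n d) q.asIdeal := by
  exact main n d hd

end Groth.Agent.S8973
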