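import Groth.Statements.S8975
import Mathlib

set_option autoImplicit false
set_option linter.style.haveILetI false
set_option linter.unusedSectionVars false
universe u
open TensorProduct
open QFDual

namespace Groth.Agent.S8975

section Helpers

variable {A B' B C' C : Type u} [CommRing A] [CommRing B'] [CommRing B] [CommRing C'] [CommRing C]
  [Algebra A B'] [Algebra A C']

def resL (φ : Disc.Omega A (B' × C')) : Disc.Omega A B' :=
  ⟨φ.toLinearMap ∘ₗ LinearMap.inl A B' C'⟩
def resR (φ : Disc.Omega A (B' × C')) : Disc.Omega A C' :=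
  ⟨φ.toLinearMap ∘ₗ LinearMap.inr A B' C'⟩
def extL (ψ : Disc.Omega A B') : Disc.Omega A (B' × C') :=
  ⟨ψ.toLinearMap ∘ₗ LinearMap.fst A B' C'⟩
def extR (ψ : Disc.Omega A C') : Disc.Omega A (B' × C') :=
  ⟨ψ.toLinearMap ∘ₗ LinearMap.snd A B' C'⟩

theorem resL_add (φ ψ : Disc.Omega A (B' × C')) : resL (φ + ψ) = resL φ + resL ψ := by
  refine Disc.Omega.ext (LinearMap.ext fun x => ?_)
  simp [resL]

theorem resR_add (φ ψ : Disc.Omega A (B' × C')) : resR (φ + ψ) = resR φ + resR ψ := by
  refine Disc.Omega.ext (LinearMap.ext fun x => ?_)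
  simp [resR]

theorem resL_smul (r : B' × C') (φ : Disc.Omega A (B' × C')) :
    resL (r • φ) = r.1 • resL φ := by
  obtain ⟨r1, r2⟩ := r
  refine Disc.Omega.ext (LinearMap.ext fun x => ?_)
  simp [resL]

theorem resR_smul (r : B' × C') (φ : Disc.Omega A (B' × C')) :
    resR (r • φ) = r.2 • resR φ := by
  obtain ⟨r1, r2⟩ := r
  refine Disc.Omega.ext (LinearMap.ext fun x => ?_)
  simp [resR]

theorem extL_add (φ ψ : Disc.Omega A B') :
    extL (C' := C') (φ + ψ) = extL φ + extL ψ := by
  refine Disc.Omega.ext (LinearMap.ext fun x => ?_)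
  simp [extL]

theorem extR_add (φ ψ : Disc.Omega A C') :
    extR (B' := B') (φ + ψ) = extR φ + extR ψ := by
  refine Disc.Omega.ext (LinearMap.ext fun x => ?_)
  simp [extR]

theorem extL_smul (r : B' × C') (ψ : Disc.Omega A B') :
    extL (C' := C') (r.1 • ψ) = r • extL ψ := by
  obtain ⟨r1, r2⟩ := r
  refine Disc.Omega.ext (LinearMap.ext fun x => ?_)
  obtain ⟨x1, x2⟩ := x
  simp [extL]

theorem extR_smul (r : B' × C') (ψ : Disc.Omega A C') :
    extR (B' := B') (r.2 • ψ) = r • extR ψ := by
  obtain ⟨r1, r2⟩ := r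
  refine Disc.Omega.ext (LinearMap.ext fun x => ?_)
  obtain ⟨x1, x2⟩ := x
  simp [extR]

theorem resL_extL (ψ : Disc.Omega A B') : resL (extL (C' := C') ψ) = ψ := by
  refine Disc.Omega.ext (LinearMap.ext fun x => ?_)
  simp [resL, extL]

theorem resR_extL (ψ : Disc.Omega A B') : resR (extL (C' := C') ψ) = 0 := by
  refine Disc.Omega.ext (LinearMap.ext fun x => ?_)
  simp [resR, extL]

theorem resR_extR (ψ : Disc.Omega A C') : resR (extR (B' := B') ψ) = ψ := by
  refine Disc.Omega.ext (LinearMap.ext fun x => ?_)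
  simp [resR, extR]

theorem resL_extR (ψ : Disc.Omega A C') : resL (extR (B' := B') ψ) = 0 := by
  refine Disc.Omega.ext (LinearMap.ext fun x => ?_)
  simp [resL, extR]

theorem decomp (φ : Disc.Omega A (B' × C')) :
    ((1, 0) : B' × C') • extL (resL φ) + ((0, 1) : B' × C') • extR (resR φ) = φ := by
  refine Disc.Omega.ext (LinearMap.ext fun x => ?_)
  obtain ⟨x1, x2⟩ := x
  simp only [Disc.Omega.add_toLinearMap, LinearMap.add_apply, Disc.Omega.smul_toLinearMap_apply,
    extL, extR, resL, resR, LinearMap.comp_apply, LinearMap.fst_apply, LinearMap.snd_apply,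
    LinearMap.inl_apply, LinearMap.inr_apply, Prod.mk_mul_mk, one_mul, zero_mul]
  rw [← map_add]
  simp

variable [Algebra B' B] [Algebra C' C] [Algebra (B' × C') (B × C)]

theorem smul_pair
    (halg : algebraMap (B' × C') (B × C) = (algebraMap B' B).prodMap (algebraMap C' C))
    (r : B' × C') (x : B × C) : r • x = (r.1 • x.1, r.2 • x.2) := by
  rw [Algebra.smul_def, halg]
  refine Prod.ext ?_ ?_ <;> simp [Algebra.smul_def]

variable (A B' B C' C)

noncomputable def fwd
    (halg : algebraMap (B' × C') (B × C) = (algebraMap B' B).prodMap (algebraMap C' C)) :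
    QFDual.omega A (B' × C') (B × C) →+ QFDual.omega A B' B × QFDual.omega A C' C :=
  TensorProduct.liftAddHom
    (AddMonoidHom.mk' (fun x : B × C =>
      AddMonoidHom.mk' (fun φ : Disc.Omega A (B' × C') =>
        ((x.1 ⊗ₜ[B'] resL φ, x.2 ⊗ₜ[C'] resR φ) :
          QFDual.omega A B' B × QFDual.omega A C' C))
        (by intro φ ψ; simp [resL_add, resR_add, tmul_add]))
      (by intro x y; ext φ <;> simp [add_tmul]))
    (by
      intro r x φ
      simp only [AddMonoidHom.mk'_apply, smul_pair halg, resL_smul, resR_smul, smul_tmul])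

theorem fwd_tmul
    (halg : algebraMap (B' × C') (B × C) = (algebraMap B' B).prodMap (algebraMap C' C))
    (x : B × C) (φ : Disc.Omega A (B' × C')) :
    fwd A B' B C' C halg (x ⊗ₜ[B' × C'] φ) = (x.1 ⊗ₜ[B'] resL φ, x.2 ⊗ₜ[C'] resR φ) := rfl

noncomputable def bwdL
    (halg : algebraMap (B' × C') (B × C) = (algebraMap B' B).prodMap (algebraMap C' C)) :
    QFDual.omega A B' B →+ QFDual.omega A (B' × C') (B × C) :=
  TensorProduct.liftAddHom
    (AddMonoidHom.mk' (fun b : B =>
      AddMonoidHom.mk' (fun ψ : Disc.Omega A B' =>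
        ((((b, 0) : B × C) ⊗ₜ[B' × C'] extL ψ) : QFDual.omega A (B' × C') (B × C)))
        (by intro φ ψ; simp [extL_add, tmul_add]))
      (by
        intro x y
        ext ψ
        simp only [AddMonoidHom.mk'_apply, AddMonoidHom.add_apply]
        rw [← add_tmul]
        congr 1
        simp))
    (by
      intro r b ψ
      simp only [AddMonoidHom.mk'_apply]
      have h1 := extL_smul (C' := C') ((r, 0) : B' × C') ψ
      simp only at h1
      rw [h1, ← smul_tmul, smul_pair halg]
      simp)

theorem bwdL_tmul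
    (halg : algebraMap (B' × C') (B × C) = (algebraMap B' B).prodMap (algebraMap C' C))
    (b : B) (ψ : Disc.Omega A B') :
    bwdL A B' B C' C halg (b ⊗ₜ[B'] ψ) = ((b, 0) : B × C) ⊗ₜ[B' × C'] extL ψ := rfl

noncomputable def bwdR
    (halg : algebraMap (B' × C') (B × C) = (algebraMap B' B).prodMap (algebraMap C' C)) :
    QFDual.omega A C' C →+ QFDual.omega A (B' × C') (B × C) :=
  TensorProduct.liftAddHom
    (AddMonoidHom.mk' (fun c : C =>
      AddMonoidHom.mk' (fun ψ : Disc.Omega A C' =>
        ((((0, c) : B × C) ⊗ₜ[B' × C'] extR ψ) : QFDual.omega A (B' × C') (B × C)))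
        (by intro φ ψ; simp [extR_add, tmul_add]))
      (by
        intro x y
        ext ψ
        simp only [AddMonoidHom.mk'_apply, AddMonoidHom.add_apply]
        rw [← add_tmul]
        congr 1
        simp))
    (by
      intro r c ψ
      simp only [AddMonoidHom.mk'_apply]
      have h1 := extR_smul (B' := B') ((0, r) : B' × C') ψ
      simp only at h1
      rw [h1, ← smul_tmul, smul_pair halg]
      simp)

theorem bwdR_tmul
    (halg : algebraMap (B' × C') (B × C) = (algebraMap B' B).prodMap (algebraMap C' C))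
    (c : C) (ψ : Disc.Omega A C') :
    bwdR A B' B C' C halg (c ⊗ₜ[C'] ψ) = ((0, c) : B × C) ⊗ₜ[B' × C'] extR ψ := rfl

theorem fwd_bwdL
    (halg : algebraMap (B' × C') (B × C) = (algebraMap B' B).prodMap (algebraMap C' C))
    (m : QFDual.omega A B' B) :
    fwd A B' B C' C halg (bwdL A B' B C' C halg m) = (m, 0) := by
  induction m using TensorProduct.induction_on with
  | zero => rw [map_zero, map_zero]; rfl
  | tmul b ψ =>
    rw [bwdL_tmul, fwd_tmul, resL_extL, resR_extL]
    simp
  | add x y hx hy =>
    rw [map_add, map_add, hx, hy]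
    simp

theorem fwd_bwdR
    (halg : algebraMap (B' × C') (B × C) = (algebraMap B' B).prodMap (algebraMap C' C))
    (n : QFDual.omega A C' C) :
    fwd A B' B C' C halg (bwdR A B' B C' C halg n) = (0, n) := by
  induction n using TensorProduct.induction_on with
  | zero => rw [map_zero, map_zero]; rfl
  | tmul c ψ =>
    rw [bwdR_tmul, fwd_tmul, resL_extR, resR_extR]
    simp
  | add x y hx hy =>
    rw [map_add, map_add, hx, hy]
    simp

theorem bwd_fwd
    (halg : algebraMap (B' × C') (B × C) = (algebraMap B' B).prodMap (algebraMap C' C))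
    (t : QFDual.omega A (B' × C') (B × C)) :
    bwdL A B' B C' C halg (fwd A B' B C' C halg t).1 +
      bwdR A B' B C' C halg (fwd A B' B C' C halg t).2 = t := by
  induction t using TensorProduct.induction_on with
  | zero => simp
  | tmul x φ =>
    rw [fwd_tmul]
    simp only
    rw [bwdL_tmul, bwdR_tmul]
    have h1 : ((x.1, 0) : B × C) = ((1, 0) : B' × C') • x := by
      rw [smul_pair halg]; simp
    have h2 : ((0, x.2) : B × C) = ((0, 1) : B' × C') • x := by
      rw [smul_pair halg]; simp
    rw [h1, h2, smul_tmul, smul_tmul, ← tmul_add, decomp]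
  | add x y hx hy =>
    conv_rhs => rw [← hx, ← hy]
    simp only [map_add, Prod.fst_add, Prod.snd_add]
    abel

end Helpers


/-- The relative dualizing module of a product. Suppose A, B, C are Noetherian rings and the ring maps A
→ B, A → C are quasi-finite, presented by factorizations A → B' → B and A → C' → C with A → B', A →
C' finite and Spec B → Spec B', Spec C → Spec C' open immersions, and let B × C carry the product
algebra structure over B' × C' (so that A → B' × C' → B × C is a factorization of the same kind).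
Then ω_{(B × C)/A} = (B × C) ⊗_{B' × C'} Hom_A(B' × C', A) is identified with ω_{B/A} × ω_{C/A}:
there is an A-linear isomorphism sending (b, c) ⊗ φ to (b ⊗ φ∘ι_{B'}, c ⊗ φ∘ι_{C'}), where ι_{B'},
ι_{C'} are the inclusions of the factors; this formula determines the isomorphism and makes it (B ×
C)-linear. -/
theorem result (A B' B C' C : Type u) [CommRing A] [CommRing B'] [CommRing B] [CommRing C'] [CommRing C] [IsNoetherianRing A] [IsNoetherianRing B] [IsNoetherianRing C] [Algebra A B'] [Algebra B' B] [Algebra A B] [IsScalarTower A B' B] [Algebra A C'] [Algebra C' C] [Algebra A C] [IsScalarTower A C' C] (hB : QFDual.IsQFFactor A B' B) (hC : QFDual.IsQFFactor A C' C) [Algebra (B' × C') (B × C)] [IsScalarTower A (B' × C') (B × C)] (halg : algebraMap (B' × C') (B × C) = (algebraMap B' B).prodMap (algebraMap C' C)) : ∃ e : QFDual.omega A (B' × C') (B × C) ≃ₗ[A] QFDual.omega A B' B × QFDual.omega A C' C, ∀ (b : B) (c : C) (φ : Disc.Omega A (B' × C')), e ((b, c) ⊗ₜ[B' × C'] φ) = (b ⊗ₜ[B'] Disc.Omega.mk (φ.toLinearMap ∘ₗ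 LinearMap.inl A B' C'), c ⊗ₜ[C'] Disc.Omega.mk (φ.toLinearMap ∘ₗ LinearMap.inr A B' C')) := by
  classical
  let e0 : QFDual.omega A (B' × C') (B × C) ≃+ QFDual.omega A B' B × QFDual.omega A C' C :=
    { toFun := fwd A B' B C' C halg
      invFun := fun p => bwdL A B' B C' C halg p.1 + bwdR A B' B C' C halg p.2
      left_inv := fun t => bwd_fwd A B' B C' C halg t
      right_inv := fun p => by
        simp only
        rw [map_add, fwd_bwdL, fwd_bwdR]
        simp
      map_add' := fun x y => map_add _ x y }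
  have hsmul : ∀ (a : A) (t : QFDual.omega A (B' × C') (B × C)), e0 (a • t) = a • e0 t := by
    intro a t
    show fwd A B' B C' C halg (a • t) = a • fwd A B' B C' C halg t
    induction t using TensorProduct.induction_on with
    | zero => simp
    | tmul x φ =>
      rw [smul_tmul', fwd_tmul, fwd_tmul]
      refine Prod.ext ?_ ?_
      · show (a • x).1 ⊗ₜ[B'] resL φ = a • (x.1 ⊗ₜ[B'] resL φ)
        rw [smul_tmul']; rfl
      · show (a • x).2 ⊗ₜ[C'] resR φ = a • (x.2 ⊗ₜ[C'] resR φ)
        rw [smul_tmul']; rfl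
    | add x y hx hy =>
      rw [smul_add, map_add, hx, hy, map_add, smul_add]
  refine ⟨e0.toLinearEquiv hsmul, fun b c φ => ?_⟩
  rfl

end Groth.Agent.S8975
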