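import Groth.Statements.S8982
import Mathlib
import Groth.Agent.H86.ABU_G2
import Groth.Agent.H63.ABU_G1H
import Groth.Agent.H27.ABU_KER
import Groth.Agent.H95.ABU_LP

set_option autoImplicit false
universe u
open HTop

namespace Groth.Agent.S8982

open CategoryTheory CategoryTheory.Limits AlgebraicGeometry

/-- killing the supported sections of a locally principal ideal makes it effective Cartier -/
theorem G1 {W : Scheme.{u}} (𝓙 : W.IdealSheafData) (h : HTop.IsLocPrincipal 𝓙) :
    BlowUp.IsEffCartierIdeal (𝓙.comap (HTop.supportedOn 𝓙).subschemeι) :=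
  Groth.Agent.H63.ABU_G1H.G1_of_KER 𝓙 h
    (fun U f hf a => Groth.Agent.H27.ABU_KER.KER 𝓙 h U f hf a)

/-- a morphism under which `𝓙` becomes effective Cartier kills the sections supported on `V(𝓙)` -/
theorem G2 {T W : Scheme.{u}} (t : T ⟶ W) (𝓙 : W.IdealSheafData)
    (h : BlowUp.IsEffCartierIdeal (𝓙.comap t)) : HTop.supportedOn 𝓙 ≤ t.ker :=
  Groth.Agent.H86.ABU_G2.G2 t 𝓙 h

/-- locally principal ideals pull back to locally principal ideals -/
theorem LP {X' X₁ : Scheme.{u}} (gX : X₁ ⟶ X') (𝓙 : X'.IdealSheafData)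
    (h : HTop.IsLocPrincipal 𝓙) : HTop.IsLocPrincipal (𝓙.comap gX) :=
  Groth.Agent.H95.ABU_LP.LP gX 𝓙 h

/-- the ideal of a base-changed closed immersion -/
theorem G0 {Z X Y Z₁ : Scheme.{u}} {i : Z ⟶ X} {g : Y ⟶ X} {i₁ : Z₁ ⟶ Y} {gZ : Z₁ ⟶ Z}
    [IsClosedImmersion i] (hZ : IsPullback gZ i₁ i g) : i₁.ker = i.ker.comap g := by
  have := hZ.flip.isoPullback_hom_fst
  rw [← this, Scheme.Hom.ker_comp_of_isIso, Scheme.IdealSheafData.ker_fst_of_isClosedImmersion]

open CategoryTheory CategoryTheory.Limits AlgebraicGeometry in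
/-- The base change of an almost blow up square along an arbitrary morphism Y → X is an almost blow up
square over Y. The base-changed corners are introduced through fibre-product squares; the morphism
from the new exceptional corner to the new centre is the one compatible with them. -/
theorem result {E Z X' X Y E₁ Z₁ X₁ : Scheme.{u}} {e : E ⟶ X'} {π : E ⟶ Z} {b : X' ⟶ X} {i : Z ⟶ X} (h : HTop.IsAlmostBlowUpSquare e π b i) (g : Y ⟶ X) {b₁ : X₁ ⟶ Y} {gX : X₁ ⟶ X'} (hX : IsPullback gX b₁ b g) {i₁ : Z₁ ⟶ Y} {gZ : Z₁ ⟶ Z} (hZ : IsPullback gZ i₁ i g) {e₁ : E₁ ⟶ X₁} {gE : E₁ ⟶ E} (hE : IsPullback gE e₁ e gX) {π₁ : E₁ ⟶ Z₁} (hπ : π₁ ≫ i₁ = e₁ ≫ b₁) : HTop.IsAlmostBlowUpSquare e₁ π₁ b₁ i₁ := by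
  have := h.isClosedImmersion
  have hci : IsClosedImmersion i₁ := MorphismProperty.of_isPullback hZ h.isClosedImmersion
  have hker : i₁.ker = i.ker.comap g := G0 hZ
  have hJ : i₁.ker.comap b₁ = (i.ker.comap b).comap gX := by
    rw [hker, ← Scheme.IdealSheafData.comap_comp, ← Scheme.IdealSheafData.comap_comp, hX.w]
  have hLP : HTop.IsLocPrincipal (i₁.ker.comap b₁) := by
    rw [hJ]; exact LP gX _ h.locPrincipal
  -- the pullback square
  have hcomm : π₁ ≫ gZ = gE ≫ π := by
    rw [← cancel_mono i, Category.assoc, Category.assoc, hZ.w, ← h.isPullback.w, ← Category.assoc,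
      hπ, Category.assoc, ← hX.w, ← Category.assoc, ← hE.w, Category.assoc]
  have houter : IsPullback (π₁ ≫ gZ) e₁ i (b₁ ≫ g) := by
    have := hE.paste_horiz h.isPullback.flip
    rw [hcomm, ← hX.w]; exact this
  have hpb : IsPullback e₁ π₁ b₁ i₁ := (IsPullback.of_right houter hπ hZ).flip
  refine ⟨hci, MorphismProperty.of_isPullback hZ h.finitePresentation_base, hpb, hLP,
    MorphismProperty.of_isPullback hX h.isProper,
    MorphismProperty.of_isPullback hX h.finitePresentation, ?_, ?_⟩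
  · rw [Scheme.IdealSheafData.comap_comp]
    exact G1 _ hLP
  · intro T t ht
    have hEC : BlowUp.IsEffCartierIdeal (i.ker.comap (t ≫ g)) := by
      rw [Scheme.IdealSheafData.comap_comp, ← hker]; exact ht
    obtain ⟨l, hl, hluniq⟩ := h.isBlowUp.2 T (t ≫ g) hEC
    have hl' : (l ≫ (HTop.supportedOn (i.ker.comap b)).subschemeι) ≫ b = t ≫ g := by
      rw [Category.assoc]; exact hl
    have hm1 : hX.lift _ _ hl' ≫ gX = l ≫ (HTop.supportedOn (i.ker.comap b)).subschemeι :=
      hX.lift_fst _ _ hl'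
    have hm2 : hX.lift _ _ hl' ≫ b₁ = t := hX.lift_snd _ _ hl'
    have hmEC : BlowUp.IsEffCartierIdeal ((i₁.ker.comap b₁).comap (hX.lift _ _ hl')) := by
      rw [← Scheme.IdealSheafData.comap_comp, hm2]; exact ht
    have hle := G2 (hX.lift _ _ hl') (i₁.ker.comap b₁) hmEC
    have hle' : (HTop.supportedOn (i₁.ker.comap b₁)).subschemeι.ker ≤ (hX.lift _ _ hl').ker := by
      rw [Scheme.IdealSheafData.ker_subschemeι]; exact hle
    refine ⟨IsClosedImmersion.lift _ _ hle', ?_, ?_⟩
    · show _ ≫ _ ≫ _ = _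
      rw [← Category.assoc, IsClosedImmersion.lift_fac, hm2]
    · intro n' hn'
      have hn'' : (n' ≫ (HTop.supportedOn (i₁.ker.comap b₁)).subschemeι) ≫ b₁ = t := by
        rw [Category.assoc]; exact hn'
      have hcomp : ((n' ≫ (HTop.supportedOn (i₁.ker.comap b₁)).subschemeι) ≫ gX) ≫ b = t ≫ g := by
        rw [Category.assoc, hX.w, ← Category.assoc, hn'']
      have hEC' : BlowUp.IsEffCartierIdeal ((i.ker.comap b).comap
          ((n' ≫ (HTop.supportedOn (i₁.ker.comap b₁)).subschemeι) ≫ gX)) := by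
        rw [← Scheme.IdealSheafData.comap_comp, hcomp]; exact hEC
      have hle2 := G2 _ _ hEC'
      have hle2' : (HTop.supportedOn (i.ker.comap b)).subschemeι.ker ≤
          ((n' ≫ (HTop.supportedOn (i₁.ker.comap b₁)).subschemeι) ≫ gX).ker := by
        rw [Scheme.IdealSheafData.ker_subschemeι]; exact hle2
      have hl2 : IsClosedImmersion.lift _ _ hle2' = l := by
        apply hluniq
        show _ ≫ _ ≫ _ = _
        rw [← Category.assoc, IsClosedImmersion.lift_fac, hcomp]
      have hmm : n' ≫ (HTop.supportedOn (i₁.ker.comap b₁)).subschemeι = hX.lift _ _ hl' := by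
        apply hX.hom_ext
        · rw [hm1, ← hl2, IsClosedImmersion.lift_fac]
        · rw [hm2, hn'']
      rw [← cancel_mono (HTop.supportedOn (i₁.ker.comap b₁)).subschemeι, hmm,
        IsClosedImmersion.lift_fac]

end Groth.Agent.S8982
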