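import Groth.Statements.S8983
import Mathlib
import Groth.Agent.S8982
import Groth.Agent.H11.ABU_SEP
import Groth.Agent.H11.ABU_TOP
import Groth.Agent.H11.ABU_ECT

set_option autoImplicit false
universe u
open HTop

namespace Groth.Agent.S8983

open CategoryTheory CategoryTheory.Limits AlgebraicGeometry
open Groth.Agent.S8982 (G1 G2 LP)

theorem SEP {W X Y Z : Scheme.{u}} {f g : X ⟶ Y} (s : Y ⟶ Z) [IsSeparated s]
    (h : f ≫ s = g ≫ s) (ι : W ⟶ X) (hι : ι.ker = ⊥) (hU : ι ≫ f = ι ≫ g) : f = g :=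
  Groth.Agent.H11.ABU_SEP.SEP s h ι hι hU

theorem TOP {X : Scheme.{u}} (𝓘 : X.IdealSheafData) : 𝓘.comap (HTop.awayFrom 𝓘).ι = ⊤ :=
  Groth.Agent.H11.ABU_TOP.TOP 𝓘

theorem ECT (X : Scheme.{u}) : BlowUp.IsEffCartierIdeal (⊤ : X.IdealSheafData) :=
  Groth.Agent.H11.ABU_ECT.ECT X

/-- schematic density of the complement of an effective Cartier divisor -/
theorem ker_awayFrom_eq_bot {B : Scheme.{u}} (𝓘 : B.IdealSheafData)
    (h : BlowUp.IsEffCartierIdeal 𝓘) : (HTop.awayFrom 𝓘).ι.ker = ⊥ := by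
  have h1 : BlowUp.IsEffCartierIdeal (𝓘.comap (𝟙 B)) := by
    rw [Scheme.IdealSheafData.comap_id]; exact h
  have h2 := G2 (𝟙 B) 𝓘 h1
  rw [Scheme.Hom.ker_eq_bot_of_isIso] at h2
  exact le_bot_iff.mp h2

/-- `b` is a monomorphism on morphisms avoiding the exceptional locus -/
theorem mono_away {X' X V : Scheme.{u}} {b : X' ⟶ X} (𝓘 : X.IdealSheafData)
    (hb : BlowUp.IsBlowUp ((HTop.supportedOn (𝓘.comap b)).subschemeι ≫ b) 𝓘)
    (v₁ v₂ : V ⟶ X') (hv : v₁ ≫ b = v₂ ≫ b) (h1 : (𝓘.comap b).comap v₁ = ⊤) : v₁ = v₂ := by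
  have h2 : (𝓘.comap b).comap v₂ = ⊤ := by
    rw [← Scheme.IdealSheafData.comap_comp, ← hv, Scheme.IdealSheafData.comap_comp]; exact h1
  have hE1 : BlowUp.IsEffCartierIdeal ((𝓘.comap b).comap v₁) := by rw [h1]; exact ECT V
  have hE2 : BlowUp.IsEffCartierIdeal ((𝓘.comap b).comap v₂) := by rw [h2]; exact ECT V
  have hl1 := G2 v₁ _ hE1
  have hl2 := G2 v₂ _ hE2
  have hl1' : (HTop.supportedOn (𝓘.comap b)).subschemeι.ker ≤ v₁.ker := by
    rw [Scheme.IdealSheafData.ker_subschemeι]; exact hl1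
  have hl2' : (HTop.supportedOn (𝓘.comap b)).subschemeι.ker ≤ v₂.ker := by
    rw [Scheme.IdealSheafData.ker_subschemeι]; exact hl2
  have hEC : BlowUp.IsEffCartierIdeal (𝓘.comap (v₁ ≫ b)) := by
    rw [Scheme.IdealSheafData.comap_comp]; exact hE1
  obtain ⟨l, _, hluniq⟩ := hb.2 V (v₁ ≫ b) hEC
  have e1 : IsClosedImmersion.lift _ _ hl1' = l := by
    apply hluniq
    rw [← Category.assoc, IsClosedImmersion.lift_fac]
  have e2 : IsClosedImmersion.lift _ _ hl2' = l := by
    apply hluniq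
    rw [← Category.assoc, IsClosedImmersion.lift_fac, hv]
  rw [← IsClosedImmersion.lift_fac _ _ hl1', ← IsClosedImmersion.lift_fac _ _ hl2', e1, e2]

theorem blowup_of_factor {X' X W : Scheme.{u}} {b : X' ⟶ X} (𝓘 : X.IdealSheafData)
    (hb : BlowUp.IsBlowUp ((HTop.supportedOn (𝓘.comap b)).subschemeι ≫ b) 𝓘)
    (w : W ⟶ X') [IsClosedImmersion w] (bW : W ⟶ X) (hbW : w ≫ b = bW)
    (hLP : HTop.IsLocPrincipal (𝓘.comap bW)) (hle : w.ker ≤ HTop.supportedOn (𝓘.comap b)) :
    BlowUp.IsBlowUp ((HTop.supportedOn (𝓘.comap bW)).subschemeι ≫ bW) 𝓘 := by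
  refine ⟨?_, ?_⟩
  · rw [Scheme.IdealSheafData.comap_comp]
    exact G1 _ hLP
  · intro T t ht
    obtain ⟨l, hl, hluniq⟩ := hb.2 T t ht
    have hle' : w.ker ≤ (HTop.supportedOn (𝓘.comap b)).subschemeι.ker := by
      rw [Scheme.IdealSheafData.ker_subschemeι]; exact hle
    have hc : IsClosedImmersion.lift w _ hle' ≫ w =
        (HTop.supportedOn (𝓘.comap b)).subschemeι := IsClosedImmersion.lift_fac _ _ _
    have hm : (l ≫ IsClosedImmersion.lift w _ hle') ≫ bW = t := by
      rw [← hbW, Category.assoc, ← Category.assoc (IsClosedImmersion.lift w _ hle'), hc]; exact hl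
    have hmEC : BlowUp.IsEffCartierIdeal
        ((𝓘.comap bW).comap (l ≫ IsClosedImmersion.lift w _ hle')) := by
      rw [← Scheme.IdealSheafData.comap_comp, hm]; exact ht
    have hle2 := G2 _ _ hmEC
    have hle2' : (HTop.supportedOn (𝓘.comap bW)).subschemeι.ker ≤
        (l ≫ IsClosedImmersion.lift w _ hle').ker := by
      rw [Scheme.IdealSheafData.ker_subschemeι]; exact hle2
    refine ⟨IsClosedImmersion.lift _ _ hle2', ?_, ?_⟩
    · show _ ≫ _ ≫ _ = _
      rw [← Category.assoc, IsClosedImmersion.lift_fac, hm]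
    · intro n' hn'
      have hn'' : ((n' ≫ (HTop.supportedOn (𝓘.comap bW)).subschemeι) ≫ w) ≫ b = t := by
        rw [Category.assoc, hbW, Category.assoc]; exact hn'
      have hEC' : BlowUp.IsEffCartierIdeal ((𝓘.comap b).comap
          ((n' ≫ (HTop.supportedOn (𝓘.comap bW)).subschemeι) ≫ w)) := by
        rw [← Scheme.IdealSheafData.comap_comp, hn'']; exact ht
      have hle3 := G2 _ _ hEC'
      have hle3' : (HTop.supportedOn (𝓘.comap b)).subschemeι.ker ≤
          ((n' ≫ (HTop.supportedOn (𝓘.comap bW)).subschemeι) ≫ w).ker := by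
        rw [Scheme.IdealSheafData.ker_subschemeι]; exact hle3
      have hl2 : IsClosedImmersion.lift _ _ hle3' = l := by
        apply hluniq
        rw [← Category.assoc, IsClosedImmersion.lift_fac, hn'']
      have hmm : n' ≫ (HTop.supportedOn (𝓘.comap bW)).subschemeι =
          l ≫ IsClosedImmersion.lift w _ hle' := by
        rw [← cancel_mono w, Category.assoc l, hc, ← hl2, IsClosedImmersion.lift_fac]
      rw [← cancel_mono (HTop.supportedOn (𝓘.comap bW)).subschemeι, hmm,
        IsClosedImmersion.lift_fac]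

theorem le_of_blowup {X' X W : Scheme.{u}} {b : X' ⟶ X} [IsSeparated b] (𝓘 : X.IdealSheafData)
    (hb : BlowUp.IsBlowUp ((HTop.supportedOn (𝓘.comap b)).subschemeι ≫ b) 𝓘)
    (w : W ⟶ X') (bW : W ⟶ X) (hbW : w ≫ b = bW)
    (hW : BlowUp.IsBlowUp ((HTop.supportedOn (𝓘.comap bW)).subschemeι ≫ bW) 𝓘) :
    w.ker ≤ HTop.supportedOn (𝓘.comap b) := by
  have hβ : BlowUp.IsEffCartierIdeal
      (𝓘.comap ((HTop.supportedOn (𝓘.comap b)).subschemeι ≫ b)) := hb.1
  obtain ⟨ψ, hψ, -⟩ := hW.2 _ _ hβ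
  have hu : ((ψ ≫ (HTop.supportedOn (𝓘.comap bW)).subschemeι) ≫ w) ≫ b =
      (HTop.supportedOn (𝓘.comap b)).subschemeι ≫ b := by
    rw [Category.assoc, hbW, Category.assoc]; exact hψ
  have hEq : (ψ ≫ (HTop.supportedOn (𝓘.comap bW)).subschemeι) ≫ w =
      (HTop.supportedOn (𝓘.comap b)).subschemeι := by
    refine SEP b hu (HTop.awayFrom (𝓘.comap
      ((HTop.supportedOn (𝓘.comap b)).subschemeι ≫ b))).ι (ker_awayFrom_eq_bot _ hβ) ?_
    refine (mono_away 𝓘 hb _ _ ?_ ?_).symm
    · rw [Category.assoc, Category.assoc, hu]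
    · have e1 : (𝓘.comap b).comap ((HTop.awayFrom (𝓘.comap
          ((HTop.supportedOn (𝓘.comap b)).subschemeι ≫ b))).ι ≫
          (HTop.supportedOn (𝓘.comap b)).subschemeι) =
          (𝓘.comap ((HTop.supportedOn (𝓘.comap b)).subschemeι ≫ b)).comap
            (HTop.awayFrom (𝓘.comap
          ((HTop.supportedOn (𝓘.comap b)).subschemeι ≫ b))).ι := by
        rw [← Scheme.IdealSheafData.comap_comp 𝓘, ← Scheme.IdealSheafData.comap_comp 𝓘,
          Category.assoc]
      rw [e1]
      exact TOP _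
  calc w.ker ≤ ((ψ ≫ (HTop.supportedOn (𝓘.comap bW)).subschemeι) ≫ w).ker :=
        Scheme.Hom.le_ker_comp _ _
    _ = (HTop.supportedOn (𝓘.comap b)).subschemeι.ker := by rw [hEq]
    _ = _ := Scheme.IdealSheafData.ker_subschemeι _

open CategoryTheory CategoryTheory.Limits AlgebraicGeometry in
/-- Given an almost blow up square with top right corner X' and a closed immersion W → X' of finite
presentation, the ideal of W lies inside the ideal of sections of the structure sheaf of X'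
supported on the exceptional locus E (this single condition expresses both that X' minus E is
scheme-theoretically contained in W and that the blow up of X in Z is, the two being the same
containment of ideal sheaves here) if and only if replacing X' by W and E by the scheme-theoretic
intersection of E and W gives again an almost blow up square. -/
theorem result {E Z X' X W EW : Scheme.{u}} {e : E ⟶ X'} {π : E ⟶ Z} {b : X' ⟶ X} {i : Z ⟶ X} (h : HTop.IsAlmostBlowUpSquare e π b i) (w : W ⟶ X') [IsClosedImmersion w] [LocallyOfFinitePresentation w] {eW : EW ⟶ W} {gE : EW ⟶ E} (hEW : IsPullback gE eW e w) : w.ker ≤ HTop.supportedOn (i.ker.comap b) ↔ HTop.IsAlmostBlowUpSquare eW (gE ≫ π) (w ≫ b) i := by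
  have hJ : i.ker.comap (w ≫ b) = (i.ker.comap b).comap w := Scheme.IdealSheafData.comap_comp _ _ _
  have hLP : HTop.IsLocPrincipal (i.ker.comap (w ≫ b)) := by
    rw [hJ]; exact LP w _ h.locPrincipal
  have := h.isProper
  have := h.finitePresentation
  constructor
  · intro hle
    have hpb : IsPullback eW (gE ≫ π) (w ≫ b) i := hEW.flip.paste_vert h.isPullback
    have hprop : IsProper (w ≫ b) := inferInstance
    have hlfp : LocallyOfFinitePresentation (w ≫ b) := inferInstance
    exact ⟨h.isClosedImmersion, h.finitePresentation_base, hpb, hLP, hprop, hlfp,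
      blowup_of_factor i.ker h.isBlowUp w (w ≫ b) rfl hLP hle⟩
  · intro hW
    exact le_of_blowup i.ker h.isBlowUp w (w ≫ b) rfl hW.isBlowUp

end Groth.Agent.S8983
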