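import Groth.Statements.S8993
import Groth.Agent.H69.PerfAWN

set_option autoImplicit false
universe u
open HTop

namespace Groth.Agent.S8993

/-- For a ring A of prime characteristic p, the map from A to the direct limit of A along Frobenius (the
perfect closure) is an absolute weak normalization of A. (The published statement also identifies,
over a base of characteristic p, the h sheafification of the structure sheaf on quasi-compact
quasi-separated objects with this colimit; that part is not stated here.) -/
theorem result (p : ℕ) [Fact p.Prime] (A : Type u) [CommRing A] [CharP A p] : HTop.IsRingAWN (PerfectClosure.of A p) := by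
  have hp : p.Prime := Fact.out
  have hpA' : ((p : ℕ) : PerfectClosure A p) = 0 := CharP.cast_eq_zero _ p
  have hUH := Groth.Agent.H69.ringUH_of_isPRadical p hp hpA' (PerfectClosure.of A p)
  letI : Algebra (ZMod p) (PerfectClosure A p) := ZMod.algebra _ p
  have hAWN : HTop.IsAWNRing (PerfectClosure A p) :=
    (Groth.Agent.S8992.result p _).mpr inferInstance
  obtain ⟨W, _, φW, hW⟩ := Groth.Agent.S7422.result A
  obtain ⟨χ₀, hχ₀, -⟩ := hW.2 _ (PerfectClosure.of A p)
    (Groth.Agent.H69.isUnivHomeo_of_ringUH _ hUH)
  exact Groth.Agent.H69.isRingAWN_of_bijective_comparison φW hW _ hUH χ₀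
    (Groth.Agent.H69.bijective_of_isAWNRing φW hW _ hUH χ₀ hχ₀ hAWN) hχ₀

end Groth.Agent.S8993
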