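import Groth.Statements.S8998
import Groth.Agent.H99.PureBC
import Groth.Agent.H99.PureDesc2
import Groth.Agent.H99.HensNhd2
import Groth.Agent.H99.PureLoc
import Groth.Agent.S1247
import Groth.Agent.S1246
import Groth.Agent.S1248

set_option autoImplicit false
set_option linter.style.haveILetI false
universe u
open FlatMor

namespace Groth.Agent.S8998

/-- For an affine finite type morphism Spec B → Spec A: if the local ring of A at the prime p is
Noetherian, then a finite B-module is pure along the fibre over p if and only if it is universally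
pure along it. -/
theorem result {A B : Type u} [CommRing A] [CommRing B] [Algebra A B] [Algebra.FiniteType A B] (N : Type u) [AddCommGroup N] [Module B N] [Module.Finite B N] (p : Ideal A) [p.IsPrime] [IsNoetherianRing (Localization.AtPrime p)] : FlatCA.IsPureAlong A B N p ↔ FlatCA.IsUnivPureAlong A B N p := by
  classical
  constructor
  · intro hpure
    obtain ⟨BL, _, _, _, _, _, _, hpoL⟩ :=
      Groth.Agent.H99.PureBC.exists_pushout_ring A B (Localization.AtPrime p)
    haveI := hpoL
    obtain ⟨NL, _, _, _, _, g, hg⟩ := Groth.Agent.H99.PureBC.exists_baseChange_module B BL N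
    haveI hover𝔪 : (IsLocalRing.maximalIdeal (Localization.AtPrime p)).LiesOver p :=
      ⟨(IsLocalization.AtPrime.under_maximalIdeal (Localization.AtPrime p) p).symm⟩
    haveI : Module.Flat A (Localization.AtPrime p) := IsLocalization.flat _ p.primeCompl
    haveI : Module.Flat A
        (Localization.AtPrime (IsLocalRing.maximalIdeal (Localization.AtPrime p))) :=
      Module.Flat.trans A (Localization.AtPrime p) _
    refine Groth.Agent.H99.PureBC.isUnivPureAlong_of_flat_baseChange N p (Localization.AtPrime p)
      BL NL g hg (IsLocalRing.maximalIdeal (Localization.AtPrime p)) ?_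
    intro A₁ B₁ N₁ _ _ _ _ _ _ _ _ _ _ _ _ _ _ f₁ t₁' t₁ _ _ P₁ _ himp
    have h0 : FlatCA.HasImpurity (Localization.AtPrime p) BL NL
        (IsLocalRing.maximalIdeal (Localization.AtPrime p)) (fun _ _ _ _ => True) :=
      ⟨A₁, B₁, N₁, inferInstance, inferInstance, inferInstance, inferInstance, inferInstance,
        inferInstance, inferInstance, inferInstance, inferInstance, inferInstance, inferInstance,
        inferInstance, inferInstance, inferInstance, f₁, t₁', t₁, inferInstance, inferInstance,
        P₁, inferInstance, himp, trivial⟩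
    haveI hpoLs : Algebra.IsPushout A (Localization.AtPrime p) B BL := hpoL.symm
    haveI ftBL : Algebra.FiniteType (Localization.AtPrime p) BL :=
      Algebra.FiniteType.equiv
        (inferInstance : Algebra.FiniteType (Localization.AtPrime p)
          (TensorProduct A (Localization.AtPrime p) B))
        (Algebra.IsPushout.equiv A (Localization.AtPrime p) B BL)
    haveI finNL : Module.Finite BL NL := Module.Finite.equiv hg.equiv
    have h1 := Groth.Agent.S1247.result NL
      (IsLocalRing.maximalIdeal (Localization.AtPrime p)) h0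
    have h2 := Groth.Agent.S1246.result NL
      (IsLocalRing.maximalIdeal (Localization.AtPrime p)) h1
    obtain ⟨A₂, B₂, N₂, _, _, _, _, _, _, _, _, _, _, _, _, _, _, f₂, t₂', t₂, _, _, P₂, _, himp₂,
      ht₂, hét⟩ := h2
    obtain ⟨φ, hφ⟩ := Groth.Agent.H99.HensNhd.exists_algHom_of_etaleNhd A₂ t₂ hét
    haveI hE : Algebra.Etale (Localization.AtPrime p) A₂ := hét.1
    -- the `A`-level structures
    letI algAA₂ : Algebra A A₂ :=
      ((algebraMap (Localization.AtPrime p) A₂).comp (algebraMap A (Localization.AtPrime p))).toAlgebra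
    haveI tALA₂ : IsScalarTower A (Localization.AtPrime p) A₂ :=
      IsScalarTower.of_algebraMap_eq (fun _ => rfl)
    letI algBB₂ : Algebra B B₂ := ((algebraMap BL B₂).comp (algebraMap B BL)).toAlgebra
    haveI tBBLB₂ : IsScalarTower B BL B₂ := IsScalarTower.of_algebraMap_eq (fun _ => rfl)
    letI algAB₂ : Algebra A B₂ := ((algebraMap A₂ B₂).comp (algebraMap A A₂)).toAlgebra
    haveI tAA₂B₂ : IsScalarTower A A₂ B₂ := IsScalarTower.of_algebraMap_eq (fun _ => rfl)
    haveI tABB₂ : IsScalarTower A B B₂ :=
      IsScalarTower.of_algebraMap_eq (fun a => by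
        show algebraMap A₂ B₂ (algebraMap (Localization.AtPrime p) A₂
          (algebraMap A (Localization.AtPrime p) a)) = algebraMap BL B₂ (algebraMap B BL
            (algebraMap A B a))
        rw [← IsScalarTower.algebraMap_apply (Localization.AtPrime p) A₂ B₂,
          IsScalarTower.algebraMap_apply (Localization.AtPrime p) BL B₂,
          ← IsScalarTower.algebraMap_apply A (Localization.AtPrime p) BL,
          ← IsScalarTower.algebraMap_apply A B BL])
    letI modBN₂ : Module B N₂ := Module.compHom N₂ (algebraMap B B₂)
    haveI tBB₂N₂ : IsScalarTower B B₂ N₂ := IsScalarTower.of_algebraMap_smul (fun _ _ => rfl)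
    haveI tBBLN₂ : IsScalarTower B BL N₂ :=
      IsScalarTower.of_algebraMap_smul (fun b x => by
        show algebraMap B BL b • x = algebraMap BL B₂ (algebraMap B BL b) • x
        rw [algebraMap_smul B₂ (algebraMap B BL b) x])
    have himpA := Groth.Agent.H99.PureLoc.impurity_of_baseChange N p (Localization.AtPrime p)
      BL NL g hg (IsLocalRing.maximalIdeal (Localization.AtPrime p)) A₂ B₂ N₂ f₂ t₂' t₂ P₂ himp₂
    -- ascend to the henselization
    letI algH : Algebra A₂ (Groth.Agent.H47.Hens.H (Localization.AtPrime p)
        (IsLocalRing.maximalIdeal (Localization.AtPrime p))) := φ.toRingHom.toAlgebra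
    haveI towH : IsScalarTower (Localization.AtPrime p) A₂
        (Groth.Agent.H47.Hens.H (Localization.AtPrime p)
          (IsLocalRing.maximalIdeal (Localization.AtPrime p))) :=
      IsScalarTower.of_algebraMap_eq (fun a => (φ.commutes a).symm)
    letI algAH : Algebra A (Groth.Agent.H47.Hens.H (Localization.AtPrime p)
        (IsLocalRing.maximalIdeal (Localization.AtPrime p))) :=
      ((algebraMap (Localization.AtPrime p) (Groth.Agent.H47.Hens.H (Localization.AtPrime p)
        (IsLocalRing.maximalIdeal (Localization.AtPrime p)))).comp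
          (algebraMap A (Localization.AtPrime p))).toAlgebra
    haveI tALH : IsScalarTower A (Localization.AtPrime p)
        (Groth.Agent.H47.Hens.H (Localization.AtPrime p)
          (IsLocalRing.maximalIdeal (Localization.AtPrime p))) :=
      IsScalarTower.of_algebraMap_eq (fun _ => rfl)
    haveI tAA₂H : IsScalarTower A A₂ (Groth.Agent.H47.Hens.H (Localization.AtPrime p)
        (IsLocalRing.maximalIdeal (Localization.AtPrime p))) :=
      IsScalarTower.of_algebraMap_eq (fun a =>
        (φ.commutes (algebraMap A (Localization.AtPrime p) a)).symm)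
    haveI flatH : Module.Flat A₂ (Groth.Agent.H47.Hens.H (Localization.AtPrime p)
        (IsLocalRing.maximalIdeal (Localization.AtPrime p))) :=
      Algebra.FormallyUnramified.flat_of_restrictScalars (Localization.AtPrime p) A₂ _
    haveI hoverH : (IsLocalRing.maximalIdeal (Groth.Agent.H47.Hens.H (Localization.AtPrime p)
        (IsLocalRing.maximalIdeal (Localization.AtPrime p)))).LiesOver t₂ := ⟨hφ.symm⟩
    have hle₂ : t₂' ≤ t₂ := himp₂.2.2.1
    obtain ⟨t₃', hle₃, hprime₃, hover₃'⟩ :=
      Ideal.exists_ideal_le_liesOver_of_le (p := t₂') (q := t₂)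
        (IsLocalRing.maximalIdeal (Groth.Agent.H47.Hens.H (Localization.AtPrime p)
          (IsLocalRing.maximalIdeal (Localization.AtPrime p)))) hle₂
    haveI := hprime₃
    haveI := hover₃'
    have h3 := Groth.Agent.H99.PureDesc.impurity_ascend N p A₂ B₂ N₂ _ t₂' t₂ P₂ himpA
      (Groth.Agent.H47.Hens.H (Localization.AtPrime p)
        (IsLocalRing.maximalIdeal (Localization.AtPrime p))) t₃' (IsLocalRing.maximalIdeal _) hle₃
      (fun A' _ _ t => ∃ (_ : IsLocalRing A') (_ : Algebra (Localization.AtPrime p) A')
        (_ : IsScalarTower A (Localization.AtPrime p) A')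
        (_ : IsLocalHom (algebraMap (Localization.AtPrime p) A')),
        Hensel.IsHenselization (Localization.AtPrime p) A' ∧ t = IsLocalRing.maximalIdeal A')
      ⟨inferInstance, inferInstance, tALH, inferInstance,
        Groth.Agent.H47.Hens.isHenselization (Localization.AtPrime p), rfl⟩
    obtain ⟨A₄, B₄, N₄, _, _, _, _, _, _, _, _, _, _, _, _, _, _, f₄, t₄', t₄, _, _, P₄, _, himp₄,
      ht₄, hét₄⟩ := Groth.Agent.S1248.result N p h3
    exact hpure A₄ B₄ N₄ f₄ t₄' t₄ P₄ hét₄ himp₄
  · intro h A' B' N' _ _ _ _ _ _ _ _ _ _ _ _ _ _ f t' t _ _ P _ _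
    exact h A' B' N' f t' t P

end Groth.Agent.S8998
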