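import Groth.Statements.S8999
import Mathlib
import Groth.Agent.H20.PureSurj
-- import your own Groth.Agent.* helpers here

set_option autoImplicit false
universe u
open FlatMor

set_option linter.style.haveILetI false
set_option linter.unusedSectionVars false
set_option linter.unusedVariables false

namespace Groth.Agent.S8999


/-- For affine finite type schemes over Spec A: purity and universal purity along a fibre of a finite
module are unchanged when the module is pushed forward along a closed immersion Spec C → Spec B (a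
surjective algebra map B → C). -/
theorem result {A B C : Type u} [CommRing A] [CommRing B] [CommRing C] [Algebra A B] [Algebra B C] [Algebra A C] [IsScalarTower A B C] [Algebra.FiniteType A B] (hBC : Function.Surjective (algebraMap B C)) (N : Type u) [AddCommGroup N] [Module C N] [Module B N] [IsScalarTower B C N] [Module.Finite C N] (p : Ideal A) [p.IsPrime] : (FlatCA.IsPureAlong A C N p ↔ FlatCA.IsPureAlong A B N p) ∧ (FlatCA.IsUnivPureAlong A C N p ↔ FlatCA.IsUnivPureAlong A B N p) := by
  refine ⟨⟨fun h => ?_, fun h => ?_⟩, ⟨fun h => ?_, fun h => ?_⟩⟩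
  · intro A' B' N' _ _ _ _ _ _ _ _ _ _ _ _ _ _ f t' t _ _ P _ hét himp
    obtain ⟨C', N₂, i1, i2, i3, i4, i5, i6, g1, g2, g3, g4, g5, g6, fC, PC, hPC, himpC⟩ :=
      Groth.Agent.H20.PureSurj.exists_impurity_C N p hBC A' B' N' f t' t P himp
    exact h A' C' N₂ fC t' t PC hét himpC
  · intro A' C' N' _ _ _ _ _ _ _ _ _ _ _ _ _ _ f t' t _ _ P _ hét himp
    obtain ⟨B', i1, i2, i3, i4, i5, i6, m1, m2, m3, m4, fB, PB, hPB, himpB⟩ :=
      Groth.Agent.H20.PureSurj.exists_impurity_B N p hBC A' C' N' f t' t P himp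
    exact h A' B' N' fB t' t PB hét himpB
  · intro A' B' N' _ _ _ _ _ _ _ _ _ _ _ _ _ _ f t' t _ _ P _ himp
    obtain ⟨C', N₂, i1, i2, i3, i4, i5, i6, g1, g2, g3, g4, g5, g6, fC, PC, hPC, himpC⟩ :=
      Groth.Agent.H20.PureSurj.exists_impurity_C N p hBC A' B' N' f t' t P himp
    exact h A' C' N₂ fC t' t PC himpC
  · intro A' C' N' _ _ _ _ _ _ _ _ _ _ _ _ _ _ f t' t _ _ P _ himp
    obtain ⟨B', i1, i2, i3, i4, i5, i6, m1, m2, m3, m4, fB, PB, hPB, himpB⟩ :=
      Groth.Agent.H20.PureSurj.exists_impurity_B N p hBC A' C' N' f t' t P himp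
    exact h A' B' N' fB t' t PB himpB

end Groth.Agent.S8999
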