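import Groth.Statements.S9000
import Groth.Agent.H99.PureDesc2
import Groth.Agent.H99.HensNhd2

set_option autoImplicit false
set_option linter.style.haveILetI false
universe u
open FlatMor

namespace Groth.Agent.S9000

open IsLocalRing in
/-- For Spec B → Spec A of finite type, a finite B-module N and a prime p of A, an impurity of N above p
over an elementary etale neighbourhood of (A, p) yields an impurity of N above p over the
henselization of the local ring of A at p, based at its closed point. (The other implications of the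
published equivalence are separate results: from the henselization to an elementary etale
neighbourhood, and between elementary etale neighbourhoods and base rings quasi-finite at the
point.) -/
theorem result {A B : Type u} [CommRing A] [CommRing B] [Algebra A B] [Algebra.FiniteType A B] (N : Type u) [AddCommGroup N] [Module B N] [Module.Finite B N] (p : Ideal A) [p.IsPrime] (h : FlatCA.HasImpurity A B N p (fun A' _ _ t => ∃ _ : t.IsPrime, FlatCA.IsEtaleNhd A A' p t)) : FlatCA.HasImpurity A B N p (fun A' _ _ t => ∃ (_ : IsLocalRing A') (_ : Algebra (Localization.AtPrime p) A') (_ : IsScalarTower A (Localization.AtPrime p) A') (_ : IsLocalHom (algebraMap (Localization.AtPrime p) A')), Hensel.IsHenselization (Localization.AtPrime p) A' ∧ t = maximalIdeal A') := by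
  classical
  obtain ⟨A₁, B₁, N₁, _, _, _, _, _, _, _, _, _, _, _, _, _, _, f₁, t₁', t₁, _, _, P₁, _, himp,
    ht₁, hét⟩ := h
  obtain ⟨φ, hφ⟩ := Groth.Agent.H99.HensNhd.exists_algHom_of_etaleNhd A₁ t₁ hét
  haveI hE : Algebra.Etale A A₁ := hét.1
  letI algH : Algebra A₁ (Groth.Agent.H47.Hens.H A p) := φ.toRingHom.toAlgebra
  haveI towH : IsScalarTower A A₁ (Groth.Agent.H47.Hens.H A p) :=
    IsScalarTower.of_algebraMap_eq (fun a => (φ.commutes a).symm)
  haveI flatH : Module.Flat A₁ (Groth.Agent.H47.Hens.H A p) :=
    Algebra.FormallyUnramified.flat_of_restrictScalars A A₁ (Groth.Agent.H47.Hens.H A p)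
  haveI hover : (IsLocalRing.maximalIdeal (Groth.Agent.H47.Hens.H A p)).LiesOver t₁ := ⟨hφ.symm⟩
  have hle₁ : t₁' ≤ t₁ := himp.2.2.1
  obtain ⟨t₂', hle₂, hprime, hover'⟩ :=
    Ideal.exists_ideal_le_liesOver_of_le (p := t₁') (q := t₁)
      (IsLocalRing.maximalIdeal (Groth.Agent.H47.Hens.H A p)) hle₁
  haveI := hprime
  haveI := hover'
  obtain ⟨i1, i2, i3, i4, i5, -⟩ := Groth.Agent.H99.HensNhd.exists_hens_structure A p
  exact Groth.Agent.H99.PureDesc.impurity_ascend N p A₁ B₁ N₁ f₁ t₁' t₁ P₁ himp
    (Groth.Agent.H47.Hens.H A p) t₂' (IsLocalRing.maximalIdeal _) hle₂ _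
    ⟨i1, i2, i3, i4, i5, rfl⟩

end Groth.Agent.S9000
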