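import Groth.Statements.S9001
import Groth.Agent.S0589
import Groth.Agent.S1213

set_option linter.unusedSectionVars false
set_option linter.unusedVariables false


set_option autoImplicit false
universe u
open FlatMor

namespace Groth.Agent.S9001

open TensorProduct IsLocalRing Groth.Agent.S1213 in
/-- core of S1213 (helper6), extracted: if `a + b = 1` with `b ∈ 𝔪S` and `a • z = 0` then `z = 0`. -/
theorem eq_zero_of_smul_eq_zero {R S : Type u} [CommRing R] [IsLocalRing R] [CommRing S] [Algebra R S]
    (N : Type u) [AddCommGroup N] [Module S N] [Module R N] [IsScalarTower R S N]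
    (ι : Type u) (F : ι → Submodule R N) (hsup : iSup F = ⊤) (hind : iSupIndep F)
    (hfin : ∀ i, Module.Finite R (F i))
    (M : Type u) [AddCommGroup M] [Module R M] (z : N ⊗[R] M)
    (a b : S) (hb : b ∈ (maximalIdeal R).map (algebraMap R S)) (hab : a + b = 1)
    (haz : a • z = 0) : z = 0 := by
  classical
  obtain ⟨J, z', hz'⟩ := exists_finset_mem_range F hsup z
  have hcompl : IsCompl (⨆ i ∈ J, F i) (⨆ i ∈ ((J : Set ι)ᶜ), F i) := by
    constructor
    · exact hind.disjoint_biSup_biSup' (s := (J : Set ι)) disjoint_compl_right J.finite_toSet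
    · rw [codisjoint_iff, eq_top_iff, ← hsup]
      refine iSup_le (fun i => ?_)
      by_cases hi : i ∈ J
      · exact le_sup_of_le_left (le_biSup F (show i ∈ (J : Set ι) from hi))
      · exact le_sup_of_le_right (le_biSup F (show i ∈ ((J : Set ι)ᶜ) from hi))
  haveI hfinN' : Module.Finite R ↥(⨆ i ∈ J, F i) :=
    Module.Finite.iff_fg.2 (Submodule.fg_biSup J F (fun i _ => Module.Finite.iff_fg.1 (hfin i)))
  have hmulA : ∀ t : N ⊗[R] M,
      LinearMap.rTensor M (DistribSMul.toLinearMap R N a) t = a • t := by
    intro t
    induction t using TensorProduct.induction_on with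
    | zero => simp
    | tmul n m =>
      rw [LinearMap.rTensor_tmul, TensorProduct.smul_tmul']
      rfl
    | add x y hx hy => rw [map_add, hx, hy, smul_add]
  have hb' : ∀ b ∈ (IsLocalRing.maximalIdeal R).map (algebraMap R S), ∀ n : N,
      Submodule.projectionOnto _ _ hcompl (b • n) ∈
        (IsLocalRing.maximalIdeal R) • (⊤ : Submodule R ↥(⨆ i ∈ J, F i)) := by
    intro b hb
    refine Submodule.span_induction ?_ ?_ ?_ ?_ hb
    · rintro _ ⟨r, hr, rfl⟩ n
      rw [algebraMap_smul, map_smul]
      exact Submodule.smul_mem_smul hr trivial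
    · intro n
      rw [zero_smul, map_zero]
      exact zero_mem _
    · intro x y _ _ hx hy n
      rw [add_smul, map_add]
      exact add_mem (hx n) (hy n)
    · intro s x _ hx n
      have e : (s • x) • n = x • (s • n) := by
        rw [smul_eq_mul, mul_comm, mul_smul]
      rw [e]
      exact hx (s • n)
  have hsurj : Function.Surjective ((Submodule.projectionOnto _ _ hcompl) ∘ₗ
      (DistribSMul.toLinearMap R N a) ∘ₗ (⨆ i ∈ J, F i).subtype) := by
    rw [← LinearMap.range_eq_top, eq_top_iff]
    apply Submodule.le_of_le_smul_of_le_jacobson_bot Module.Finite.fg_top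
      (IsLocalRing.maximalIdeal_le_jacobson _)
    intro n _
    have hn : n = ((Submodule.projectionOnto _ _ hcompl) ∘ₗ
        (DistribSMul.toLinearMap R N a) ∘ₗ (⨆ i ∈ J, F i).subtype) n +
        Submodule.projectionOnto _ _ hcompl (b • (n : N)) := by
      have e1 : ((Submodule.projectionOnto _ _ hcompl) ∘ₗ
        (DistribSMul.toLinearMap R N a) ∘ₗ (⨆ i ∈ J, F i).subtype) n =
          Submodule.projectionOnto _ _ hcompl (a • (n : N)) := rfl
      rw [e1, ← map_add, ← add_smul, hab, one_smul, Submodule.projectionOnto_apply_left]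
    rw [hn]
    exact Submodule.add_mem_sup (LinearMap.mem_range_self _ _) (hb' b hb _)
  have hinj := OrzechProperty.injective_of_surjective_endomorphism _ hsurj
  have h0 : LinearMap.rTensor M ((Submodule.projectionOnto _ _ hcompl) ∘ₗ
      (DistribSMul.toLinearMap R N a) ∘ₗ (⨆ i ∈ J, F i).subtype) z' = 0 := by
    rw [LinearMap.rTensor_comp, LinearMap.rTensor_comp, LinearMap.comp_apply,
      LinearMap.comp_apply, hz', hmulA, haz, map_zero]
  have hz'0 : z' = 0 := by
    have hinj' : Function.Injective (LinearMap.rTensor M ((Submodule.projectionOnto _ _ hcompl) ∘ₗ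
        (DistribSMul.toLinearMap R N a) ∘ₗ (⨆ i ∈ J, F i).subtype)) :=
      (LinearEquiv.rTensor M (LinearEquiv.ofBijective _ ⟨hinj, hsurj⟩)).injective
    exact hinj' (by rw [h0, map_zero])
  have hz0 : z = 0 := by rw [← hz', hz'0, map_zero]
  exact hz0

end Groth.Agent.S9001

namespace Groth.Agent.S9001

open IsLocalRing TensorProduct in
/-- Over a henselian local ring R with maximal ideal m, for an R-algebra S and an S-module N which is
countably generated and Mittag-Leffler as an R-module, every associated prime q of the S-module N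
⊗_R M (M any R-module) satisfies q + mS ≠ S. (Associated primes are taken here in the sense of
primes equal to the radical of the annihilator of some element, a larger set than the annihilators
of elements used in the published statement; the published argument goes through once the chosen
element of q is replaced by a suitable power of it, so the row states this slightly stronger form.) -/
theorem result {R S : Type u} [CommRing R] [HenselianLocalRing R] [CommRing S] [Algebra R S] (N : Type u) [AddCommGroup N] [Module S N] [Module R N] [IsScalarTower R S N] (hcg : CAlg.IsCountablyGenerated R N) (hML : CAlg.IsMittagLeffler R N) (M : Type u) [AddCommGroup M] [Module R M] (q : Ideal S) [q.IsPrime] (hq : q ∈ associatedPrimes S (N ⊗[R] M)) : q ⊔ (maximalIdeal R).map (algebraMap R S) ≠ ⊤ := by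
  classical
  intro htop
  obtain ⟨ι, F, hF, hfp⟩ := Groth.Agent.S0589.result R N hcg hML
  have hsup : iSup F = ⊤ := hF.submodule_iSup_eq_top
  have hind : iSupIndep F := hF.submodule_iSupIndep
  have hfin : ∀ i, Module.Finite R (F i) := fun i => by
    haveI := hfp i
    infer_instance
  rw [AssociatedPrimes.mem_iff] at hq
  obtain ⟨hqp, z, hz⟩ := hq
  have h1 : (1 : S) ∈ q ⊔ (maximalIdeal R).map (algebraMap R S) := by
    rw [htop]; trivial
  obtain ⟨a, ha, b, hb, hab⟩ := Submodule.mem_sup.1 h1
  rw [hz] at ha
  obtain ⟨n, hn⟩ := ha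
  rw [Submodule.mem_colon_singleton, Submodule.mem_bot] at hn
  have hb' : 1 - a ^ n ∈ (maximalIdeal R).map (algebraMap R S) := by
    obtain ⟨c, hc⟩ := sub_dvd_pow_sub_pow (a + b) a n
    have e : a + b - a = b := by ring
    rw [e, hab, one_pow] at hc
    rw [hc]
    exact Ideal.mul_mem_right _ _ hb
  have hz0 : z = 0 :=
    eq_zero_of_smul_eq_zero N ι F hsup hind hfin M z (a ^ n) (1 - a ^ n) hb' (by ring) hn
  apply hqp.ne_top
  rw [hz, hz0, eq_top_iff]
  intro s _
  apply Ideal.le_radical
  rw [Submodule.mem_colon_singleton, smul_zero]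
  exact Submodule.zero_mem _

end Groth.Agent.S9001
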