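import Groth.Statements.S9007
import Mathlib

set_option autoImplicit false
universe u
open FlatMor

namespace Groth.Agent.S9007

open AlgebraicGeometry CategoryTheory Limits


open CategoryTheory CategoryTheory.Limits AlgebraicGeometry in
/-- For a morphism f of compactifications of X over a quasi-compact quasi-separated S whose source
contains X as a dense open, the preimage under f of the image of X in the target is the image of X
in the source. -/
theorem result {X S : Scheme.{u}} [CompactSpace S] [QuasiSeparatedSpace S] (p : X ⟶ S) [IsSeparated p] [QuasiCompact p] [LocallyOfFiniteType p] {Y Y' : Scheme.{u}} (j : X ⟶ Y) (q : Y ⟶ S) [IsOpenImmersion j] [IsProper q] (h : j ≫ q = p) (j' : X ⟶ Y') (q' : Y' ⟶ S) [IsOpenImmersion j'] [IsProper q'] (h' : j' ≫ q' = p) (f : Y' ⟶ Y) (hf : f ≫ q = q') (hfj : j' ≫ f = j) (hd : Dense (Set.range j'.base)) : f ⁻¹ᵁ j.opensRange = j'.opensRange := by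
  have hle : j'.opensRange ≤ f ⁻¹ᵁ j.opensRange := by
    rintro _ ⟨x, rfl⟩
    show f (j' x) ∈ j.opensRange
    rw [← Scheme.Hom.comp_apply, hfj]
    exact ⟨x, rfl⟩
  refine le_antisymm ?_ hle
  have hr : Set.range (((f ⁻¹ᵁ j.opensRange).ι ≫ f)) ⊆ Set.range j := by
    rintro _ ⟨w, rfl⟩
    exact w.2
  let r : (f ⁻¹ᵁ j.opensRange).toScheme ⟶ X :=
    IsOpenImmersion.lift j ((f ⁻¹ᵁ j.opensRange).ι ≫ f) hr
  have hrj : r ≫ j = (f ⁻¹ᵁ j.opensRange).ι ≫ f := IsOpenImmersion.lift_fac _ _ _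
  have hs' : Set.range j' ⊆ Set.range (f ⁻¹ᵁ j.opensRange).ι := by
    rw [Scheme.Opens.range_ι]
    rintro _ ⟨x, rfl⟩
    exact hle ⟨x, rfl⟩
  let s : X ⟶ (f ⁻¹ᵁ j.opensRange).toScheme :=
    IsOpenImmersion.lift (f ⁻¹ᵁ j.opensRange).ι j' hs'
  have hsι : s ≫ (f ⁻¹ᵁ j.opensRange).ι = j' := IsOpenImmersion.lift_fac _ _ _
  have hsr : s ≫ r = 𝟙 X := by
    rw [← cancel_mono j, Category.assoc, hrj, ← Category.assoc, hsι, hfj, Category.id_comp]
  haveI : IsSeparated r := by
    haveI : IsSeparated (r ≫ (j ≫ q)) := by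
      rw [← Category.assoc, hrj, Category.assoc, hf]
      infer_instance
    exact IsSeparated.of_comp r (j ≫ q)
  haveI : IsClosedImmersion (s ≫ r) := by
    rw [hsr]; infer_instance
  haveI : IsClosedImmersion s := IsClosedImmersion.of_comp s r
  have hcl : IsClosed (Set.range s) := s.isClosedEmbedding.isClosed_range
  have hdense : Dense (Set.range s) := by
    rw [dense_iff_inter_open]
    intro O hO hOne
    have hO' : IsOpen ((f ⁻¹ᵁ j.opensRange).ι '' O) :=
      (f ⁻¹ᵁ j.opensRange).ι.isOpenEmbedding.isOpenMap O hO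
    obtain ⟨_, ⟨o, ho, rfl⟩, ⟨x, hx⟩⟩ := hd.inter_open_nonempty _ hO' (hOne.image _)
    refine ⟨o, ho, x, ?_⟩
    apply (f ⁻¹ᵁ j.opensRange).ι.isOpenEmbedding.injective
    rw [← Scheme.Hom.comp_apply, hsι]
    exact hx
  have huniv : Set.range s = Set.univ := by
    rw [← hcl.closure_eq]; exact hdense.closure_eq
  intro y hy
  obtain ⟨x, hx⟩ : (⟨y, hy⟩ : (f ⁻¹ᵁ j.opensRange).toScheme) ∈ Set.range s := by
    rw [huniv]; exact Set.mem_univ _
  refine ⟨x, ?_⟩
  have h1 := congrArg (f ⁻¹ᵁ j.opensRange).ι hx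
  rw [← Scheme.Hom.comp_apply, hsι] at h1
  exact h1

end Groth.Agent.S9007
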