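import Groth.Statements.S9008
import Mathlib

set_option autoImplicit false
universe u
open FlatMor

namespace Groth.Agent.S9008

set_option linter.style.haveILetI false

/-- For Spec B → Spec A affine of finite type: a finite B-module is universally pure along the fibre
over a prime p of A exactly when every base change of it along a ring map A → A' is pure along the
fibre over every prime of A' above p. -/
theorem result {A B : Type u} [CommRing A] [CommRing B] [Algebra A B] [Algebra.FiniteType A B] (N : Type u) [AddCommGroup N] [Module B N] [Module.Finite B N] (p : Ideal A) [p.IsPrime] : FlatCA.IsUnivPureAlong A B N p ↔ ∀ (A' B' N' : Type u) [CommRing A'] [CommRing B'] [Algebra A A'] [Algebra B B'] [Algebra A' B'] [Algebra A B'] [IsScalarTower A B B'] [IsScalarTower A A' B'] [Algebra.IsPushout A B A' B'] [AddCommGroup N'] [Module B' N'] [Module B N'] [IsScalarTower B B' N'] (g : N →ₗ[B] N'), IsBaseChange B' g → ∀ (p' : Ideal A') [p'.IsPrime], p'.LiesOver p → FlatCA.IsPureAlong A' B' N' p' := by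
  constructor
  · intro huniv A' B' N' _ _ _ _ _ _ _ _ hpoA' _ _ _ _ g hg p' hp' hlies
    intro A'' B'' N'' _ _ _ _ _ _ _ _ _ _ _ _ _ _ f' t' t _ _ P _ _het himp
    obtain ⟨hpo, hbc, hle, hlies', hPlies, hass, hno⟩ := himp
    letI algAA'' : Algebra A A'' := ((algebraMap A' A'').comp (algebraMap A A')).toAlgebra
    haveI twAA'A'' : IsScalarTower A A' A'' := IsScalarTower.of_algebraMap_eq (fun _ => rfl)
    letI algBB'' : Algebra B B'' := ((algebraMap B' B'').comp (algebraMap B B')).toAlgebra
    haveI twBB'B'' : IsScalarTower B B' B'' := IsScalarTower.of_algebraMap_eq (fun _ => rfl)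
    letI algAB'' : Algebra A B'' := ((algebraMap A'' B'').comp (algebraMap A A'')).toAlgebra
    haveI twAA''B'' : IsScalarTower A A'' B'' := IsScalarTower.of_algebraMap_eq (fun _ => rfl)
    haveI twAA'B'' : IsScalarTower A A' B'' := IsScalarTower.of_algebraMap_eq (fun a => by
      show algebraMap A'' B'' (algebraMap A' A'' (algebraMap A A' a)) = _
      rw [← IsScalarTower.algebraMap_apply A' A'' B''])
    haveI twAB'B'' : IsScalarTower A B' B'' := IsScalarTower.of_algebraMap_eq (fun a => by
      rw [IsScalarTower.algebraMap_apply A A' B'', IsScalarTower.algebraMap_apply A' B' B'',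
        ← IsScalarTower.algebraMap_apply A A' B'])
    haveI twABB'' : IsScalarTower A B B'' := IsScalarTower.of_algebraMap_eq (fun a => by
      rw [IsScalarTower.algebraMap_apply A B' B'', IsScalarTower.algebraMap_apply A B B',
        ← IsScalarTower.algebraMap_apply B B' B''])
    letI modBN'' : Module B N'' := Module.compHom N'' (algebraMap B B')
    haveI twBB'N'' : IsScalarTower B B' N'' := IsScalarTower.of_algebraMap_smul (fun _ _ => rfl)
    haveI twBB''N'' : IsScalarTower B B'' N'' := IsScalarTower.of_algebraMap_smul (fun b n => by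
      rw [IsScalarTower.algebraMap_apply B B' B'', algebraMap_smul, algebraMap_smul])
    -- pushout
    haveI hpo1 : Algebra.IsPushout A A' B B' := Algebra.IsPushout.symm hpoA'
    haveI hpo2 : Algebra.IsPushout A' A'' B' B'' := Algebra.IsPushout.symm hpo
    have hpo3 : Algebra.IsPushout A A'' B B'' :=
      (Algebra.IsPushout.comp_iff A A' B (S' := B') (T := A'') (T' := B'')).mpr hpo2
    have hpo4 : Algebra.IsPushout A B A'' B'' := hpo3.symm
    have hbc' : IsBaseChange B'' ((f'.restrictScalars B).comp g) := IsBaseChange.comp hg hbc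
    haveI : t.LiesOver p' := hlies'
    haveI : p'.LiesOver p := hlies
    have hliesA : t.LiesOver p := Ideal.LiesOver.trans t p' p
    exact huniv A'' B'' N'' ((f'.restrictScalars B).comp g) t' t P
      ⟨hpo4, hbc', hle, hliesA, hPlies, hass, hno⟩
  · intro H A' B' N' _ _ _ _ _ _ _ _ _ _ _ _ _ _ f t' t _ _ P _ himp
    obtain ⟨hpo, hbc, hle, hlies, hPlies, hass, hno⟩ := himp
    haveI := hpo
    have hpure := H A' B' N' f hbc t hlies
    refine hpure A' B' N' (LinearMap.id : N' →ₗ[B'] N') t' t P ?_ ?_
    · refine ⟨inferInstance, ⟨by simp [Ideal.under]⟩, ?_⟩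
      have h1 : Ideal.ResidueField.mapₐ t t (Algebra.ofId A' A') (by simp) =
          AlgHom.id A' t.ResidueField := by
        ext
      rw [h1]
      exact Function.bijective_id
    · refine ⟨inferInstance, ?_, hle, ⟨by simp [Ideal.under]⟩, hPlies, hass, hno⟩
      exact IsBaseChange.of_equiv (TensorProduct.lid B' N') (fun x => by simp)

end Groth.Agent.S9008
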