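import Groth.Statements.S9011
import Groth.Agent.H57.ProjUnivInj
import Groth.Agent.H48.PtFlat10

set_option autoImplicit false
universe u
open FlatMor
open TensorProduct

namespace Groth.Agent.S9011

open IsLocalRing in
/-- For a local ring R with maximal ideal m, an R-algebra S with S/mS Noetherian and an S-module N with
N/mN finite over S/mS which is projective as an R-module, every element of S that is a
nonzerodivisor on N/mN acts R-universally injectively on N, and the map from N to its localization
at all such elements is R-universally injective. -/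
theorem result {R S : Type u} [CommRing R] [IsLocalRing R] [CommRing S] [Algebra R S] (N : Type u) [AddCommGroup N] [Module S N] [Module R N] [IsScalarTower R S N] [IsNoetherianRing ((maximalIdeal R).Fiber S)] [Module.Finite ((maximalIdeal R).Fiber S) (FlatCA.fiberMod (maximalIdeal R) S N)] [Module.Projective R N] : (∀ s ∈ FlatCA.nzdFiber R S N, FlatCA.UnivInj R ((LinearMap.lsmul S N s).restrictScalars R)) ∧ FlatCA.UnivInj R ((LocalizedModule.mkLinearMap (FlatCA.nzdFiber R S N) N).restrictScalars R) := by
  have part1 : ∀ s ∈ FlatCA.nzdFiber R S N,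
      FlatCA.UnivInj R ((LinearMap.lsmul S N s).restrictScalars R) := by
    intro s hs Q _ _
    apply Groth.Agent.H57.ProjUnivInj.lTensor_injective_of_projective
    intro x hx
    change s • x ∈ maximalIdeal R • (⊤ : Submodule R N) at hx
    rw [← Groth.Agent.H48.PtFlat.mem_map_smul_top_iff (A := S)] at hx ⊢
    exact Groth.Agent.H48.PtFlat.smul_mem_of_mem_nzdFiber N s hs x hx
  refine ⟨part1, ?_⟩
  intro Q _ _
  rw [LinearMap.lTensor_inj_iff_rTensor_inj, injective_iff_map_eq_zero]
  intro z hz
  have key : ∀ z : N ⊗[R] Q,
      ((LocalizedModule.mkLinearMap (FlatCA.nzdFiber R S N) N).restrictScalars R).rTensor Q z =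
      AlgebraTensorModule.rTensor R Q (LocalizedModule.mkLinearMap (FlatCA.nzdFiber R S N) N) z := by
    intro z
    induction z using TensorProduct.induction_on with
    | zero => simp
    | tmul m p => rfl
    | add a b ha hb => simp only [map_add, ha, hb]
  rw [key] at hz
  obtain ⟨t, ht⟩ := (IsLocalizedModule.eq_zero_iff (FlatCA.nzdFiber R S N)
    (AlgebraTensorModule.rTensor R Q
      (LocalizedModule.mkLinearMap (FlatCA.nzdFiber R S N) N))).mp hz
  have key2 : ∀ z : N ⊗[R] Q, (t : S) • z =
      ((LinearMap.lsmul S N (t : S)).restrictScalars R).rTensor Q z := by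
    intro z
    induction z using TensorProduct.induction_on with
    | zero => simp
    | tmul m p => rw [TensorProduct.smul_tmul']; rfl
    | add a b ha hb => rw [smul_add, map_add, ha, hb]
  have h1 := part1 t t.2 Q
  rw [LinearMap.lTensor_inj_iff_rTensor_inj] at h1
  apply h1
  rw [map_zero, ← key2]
  exact ht

end Groth.Agent.S9011
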