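import Groth.Statements.S9016
import Groth.Agent.H45.FpqcModDescent

set_option autoImplicit false
universe u
open FlatMor

namespace Groth.Agent.S9016

open CategoryTheory CategoryTheory.Limits AlgebraicGeometry Opposite in
/-- For f : X → S and a homomorphism u : F → G of quasi-coherent O_X-modules, the functor on schemes
over S with one point on T when the base change u_T on X_T = X ×_S T is zero and empty otherwise,
written as the subfunctor of the final functor generated by that condition, satisfies the sheaf
condition for the fpqc topology. -/
theorem result {X S : Scheme.{u}} (f : X ⟶ S) {F G : X.Modules} [Coh.IsQCoh F] [Coh.IsQCoh G] (u : F ⟶ G) :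
    Presheaf.IsSheaf (QuotSh.J Scheme.fpqcPrecoverage S)
      (FlatFun.genPSp S (fun T => ((Scheme.Modules.pullback (pullback.fst f T.hom)).map u) = 0)) := by
  refine Groth.Agent.H45.FpqcModDescent.isSheaf_genPSp_of_prop (fun v => v = 0) ?_ ?_ ?_ f u
  · intro Z Z' h A B v hv
    haveI : (Scheme.Modules.pullback h).IsLeftAdjoint :=
      (Scheme.Modules.pullbackPushforwardAdjunction h).isLeftAdjoint
    haveI : (Scheme.Modules.pullback h).Additive :=
      Functor.additive_of_preserves_binary_products _
    rw [hv, Functor.map_zero]
  · intro Z W P₁ P₂ α A B v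
    exact Groth.Agent.H45.FpqcModDescent.map_eq_zero_iff_of_natIso α v
  · intro Y ι Yi h _ hsurj A B v hall
    exact (Groth.Agent.H45.FpqcModDescent.eq_zero_iff_of_flat_jointly_surjective h hsurj v).2 hall

end Groth.Agent.S9016
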