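import Groth.Statements.S9017
import Groth.Agent.S6514
import Groth.Agent.H8.PullbackFaithful

set_option autoImplicit false
set_option linter.style.haveILetI false
universe u
open FlatMor

namespace Groth.Agent.S9017

open AlgebraicGeometry CategoryTheory in
/-- Monos are detected through naturally isomorphic functors. -/
theorem mono_map_iff_of_natIso {A B : Type*} [Category A] [Category B] {P Q : A ⥤ B} (α : P ≅ Q)
    {M N : A} (u : M ⟶ N) : Mono (P.map u) ↔ Mono (Q.map u) := by
  constructor
  · intro h
    rw [← NatIso.naturality_1 α u]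
    infer_instance
  · intro h
    rw [← NatIso.naturality_2 α u]
    infer_instance

open AlgebraicGeometry CategoryTheory Limits in
/-- A jointly surjective family of flat morphisms detects monomorphisms of modules. -/
theorem mono_iff_of_flat_jointly_surjective {Y : Scheme.{u}} {ι : Type*} {Yi : ι → Scheme.{u}}
    (h : ∀ i, Yi i ⟶ Y) [∀ i, Flat (h i)] (hsurj : ∀ y : Y, ∃ (i : ι) (z : Yi i), (h i) z = y)
    {A B : Y.Modules} (v : A ⟶ B) :
    Mono v ↔ ∀ i, Mono ((Scheme.Modules.pullback (h i)).map v) := by
  constructor
  · intro hv i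
    exact Groth.Agent.S6514.mono_pullback_map (h i) v
  · intro hall
    refine Preadditive.mono_of_cancel_zero v (fun {P} g hg => ?_)
    apply Groth.Agent.H8.eq_zero_of_stk_map_eq_zero
    intro y
    obtain ⟨i, z, rfl⟩ := hsurj y
    haveI : (Scheme.Modules.pullback (h i)).IsLeftAdjoint :=
      (Scheme.Modules.pullbackPushforwardAdjunction (h i)).isLeftAdjoint
    haveI : (Scheme.Modules.pullback (h i)).Additive :=
      Functor.additive_of_preserves_binary_products _
    haveI := hall i
    have h0 : (Scheme.Modules.pullback (h i)).map g = 0 := by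
      rw [← cancel_mono ((Scheme.Modules.pullback (h i)).map v), ← Functor.map_comp, hg,
        Functor.map_zero, zero_comp]
    exact Groth.Agent.H8.stk_map_eq_zero_of_pullback_map_eq_zero (h i) z (Flat.stalkMap (h i) z) g h0

open CategoryTheory CategoryTheory.Limits AlgebraicGeometry Opposite in
/-- For f : X → S, a homomorphism u : F → G of quasi-coherent O_X-modules, a scheme T over S and an fpqc
covering family of S-morphisms T_i → T, the base change u_T on X_T = X ×_S T is injective (a
monomorphism in the abelian category of O-modules) if and only if u_{T_i} is injective for every i.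
(Injectivity of u_T is not preserved by arbitrary base change, so this variant is a sheaf condition
on coverings rather than a subfunctor of the final functor.) -/
theorem result {X S : Scheme.{u}} (f : X ⟶ S) {F G : X.Modules} [Coh.IsQCoh F] [Coh.IsQCoh G] (u : F ⟶ G)
    (T : Over S) {ι : Type u} (Ti : ι → Over S) (g : ∀ i, Ti i ⟶ T)
    (hcov : Presieve.ofArrows (fun i => (Ti i).left) (fun i => (g i).left) ∈ Scheme.fpqcPrecoverage T.left) :
    Mono ((Scheme.Modules.pullback (pullback.fst f T.hom)).map u) ↔
      ∀ i, Mono ((Scheme.Modules.pullback (pullback.fst f (Ti i).hom)).map u) := by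
  have hcov' := (Scheme.propQCPrecoverage_le_precoverage (P := @Flat)) _ hcov
  obtain ⟨hjs, hfl⟩ := (Scheme.ofArrows_mem_precoverage_iff (P := @Flat)).1 hcov'
  -- the base-changed family
  let h : ∀ i, pullback f (Ti i).hom ⟶ pullback f T.hom := fun i =>
    pullback.map f (Ti i).hom f T.hom (𝟙 X) (g i).left (𝟙 S) (by simp)
      (by rw [Category.comp_id, Over.w])
  have hfst : ∀ i, h i ≫ pullback.fst f T.hom = pullback.fst f (Ti i).hom := fun i =>
    (pullback.lift_fst _ _ _).trans (Category.comp_id _)
  have hsnd : ∀ i, h i ≫ pullback.snd f T.hom = pullback.snd f (Ti i).hom ≫ (g i).left :=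
    fun i => pullback.lift_snd _ _ _
  have sq : ∀ i, IsPullback (h i) (pullback.snd f (Ti i).hom) (pullback.snd f T.hom) (g i).left := by
    intro i
    refine IsPullback.of_right (h₁₂ := pullback.fst f T.hom) (v₁₃ := f) (h₂₂ := T.hom) ?_ (hsnd i)
      (IsPullback.of_hasPullback f T.hom)
    rw [hfst i, Over.w]
    exact IsPullback.of_hasPullback f (Ti i).hom
  haveI hflat : ∀ i, Flat (h i) := fun i =>
    MorphismProperty.of_isPullback (P := @Flat) (sq i).flip (hfl i)
  have hsurj : ∀ y : ↑(pullback f T.hom), ∃ (i : ι) (z : ↑(pullback f (Ti i).hom)), (h i) z = y := by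
    intro y
    obtain ⟨i, ti, hti⟩ := hjs ((pullback.snd f T.hom) y)
    obtain ⟨z', hz1, -⟩ := Scheme.Pullback.exists_preimage_pullback
      (f := pullback.snd f T.hom) (g := (g i).left) y ti hti.symm
    refine ⟨i, (sq i).isoPullback.inv z', ?_⟩
    rw [← hz1, ← Scheme.Hom.comp_apply, IsPullback.isoPullback_inv_fst]
  rw [mono_iff_of_flat_jointly_surjective h hsurj]
  refine forall_congr' (fun i => ?_)
  exact mono_map_iff_of_natIso
    (Scheme.Modules.pullbackComp (h i) (pullback.fst f T.hom) ≪≫
      Scheme.Modules.pullbackCongr (hfst i)) u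

end Groth.Agent.S9017
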