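import Groth.Statements.S9023
import Groth.Agent.H45.ResTrdeg

set_option autoImplicit false
set_option linter.style.haveILetI false
universe u
open FlatMor

namespace Groth.Agent.S9023

open CategoryTheory CategoryTheory.Limits AlgebraicGeometry Opposite in
/-- For f : X → S locally of finite type, F a quasi-coherent O_X-module of finite type and n ≥ 0, the
functor F_n on schemes over S (one point on T when the base change F_T on X_T = X ×_S T is flat over
T in dimensions ≥ n, that is every point of X_T at which F_T is not flat over T has residue field of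
transcendence degree less than n over the residue field of its image in T; empty otherwise; written
as the subfunctor of the final functor generated by that condition) satisfies the sheaf condition
for the fpqc topology. -/
theorem result {X S : Scheme.{u}} (f : X ⟶ S) [LocallyOfFiniteType f] (F : X.Modules) [Coh.IsQCoh F] (hF : CohB1.IsFT F)
    (n : ℕ) :
    Presheaf.IsSheaf (QuotSh.J Scheme.fpqcPrecoverage S)
      (FlatFun.genPSp S (fun T => FlatFun.DimFibresLT n (PicF.XTproj f T)
        {x | ¬ FlatMod.IsFlatOverAt (PicF.XTproj f T) (FGA.ET f F T) x})) := by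
  haveI hFq : F.IsQuasicoherent := ‹Coh.IsQCoh F›
  apply Groth.Agent.H45.FpqcModDescent.isSheaf_genPSp
  · intro T T₀ k hT₀ z hz
    have hz₀ : (PicF.XTmap f k).base z ∈
        {x | ¬ FlatMod.IsFlatOverAt (PicF.XTproj f T₀) (FGA.ET f F T₀) x} := by
      intro hfl
      apply hz
      haveI : (FGA.ET f F T₀).IsQuasicoherent := Groth.Agent.H8.isQuasicoherent_pullback _ F
      refine Groth.Agent.H45.FpqcFlatDescent.isFlatOverAt_of_iso _ (FGA.ETiso f F k) z ?_
      exact Groth.Agent.S1391.result (PicF.XTproj f T₀) (PicF.XTproj f T) (PicF.XTmap f k) k.left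
        (Groth.Agent.H45.FpqcFlatDescent.isPullback_XTmap f k) (FGA.ET f F T₀) inferInstance z hfl
    exact lt_of_le_of_lt
      (Groth.Agent.H45.ResTrdeg.trdeg_le_of_isPullback
        (Groth.Agent.H45.FpqcFlatDescent.isPullback_XTmap f k) z)
      (hT₀ _ hz₀)
  · intro T ι Ti g hcov hall x hx
    have hcov' := (Scheme.propQCPrecoverage_le_precoverage (P := @Flat)) _ hcov
    obtain ⟨hjs, hfl⟩ := (Scheme.ofArrows_mem_precoverage_iff (P := @Flat)).1 hcov'
    obtain ⟨i, ti, hti⟩ := hjs ((PicF.XTproj f T).base x)
    obtain ⟨z, hz, hle⟩ := Groth.Agent.H45.ResTrdeg.exists_point_trdeg_ge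
      (Groth.Agent.H45.FpqcFlatDescent.isPullback_XTmap f (g i)) x ti hti
    haveI : Flat (g i).left := hfl i
    have hznf : z ∈ {x | ¬ FlatMod.IsFlatOverAt (PicF.XTproj f (Ti i)) (FGA.ET f F (Ti i)) x} := by
      intro hflz
      apply hx
      haveI : (FGA.ET f F T).IsQuasicoherent := Groth.Agent.H8.isQuasicoherent_pullback _ F
      have h1 := Groth.Agent.S1392.result (PicF.XTproj f T) (PicF.XTproj f (Ti i))
        (PicF.XTmap f (g i)) (g i).left
        (Groth.Agent.H45.FpqcFlatDescent.isPullback_XTmap f (g i)) (FGA.ET f F T) inferInstance z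
        (Flat.stalkMap (g i).left _)
        (Groth.Agent.H45.FpqcFlatDescent.isFlatOverAt_of_iso _ (FGA.ETiso f F (g i)).symm z hflz)
      rw [hz] at h1
      exact h1
    exact lt_of_le_of_lt hle (hall i z hznf)

end Groth.Agent.S9023
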