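import Groth.Statements.S9027
import Groth.Agent.S9350
import Groth.Agent.H45.FpqcFlatDescent
import Groth.Agent.H8.PullbackStalk

set_option autoImplicit false
set_option linter.style.haveILetI false
universe u
open FlatMor

namespace Groth.Agent.S9027

section Helpers

open CategoryTheory CategoryTheory.Limits AlgebraicGeometry Opposite

/-- Transcendence degree of residue fields does not change along a formally unramified morphism
locally of finite type. -/
theorem trdeg_comp_lt {A B C : Scheme.{u}} (g : A ⟶ B) (q : B ⟶ C) [FormallyUnramified g]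
    [LocallyOfFiniteType g] (a : A) (n : ℕ)
    (h : letI := (q.residueFieldMap (g.base a)).hom.toAlgebra
      Algebra.trdeg (C.residueField (q.base (g.base a))) (B.residueField (g.base a)) <
        (n : Cardinal.{u})) :
    letI := ((g ≫ q).residueFieldMap a).hom.toAlgebra
    Algebra.trdeg (C.residueField ((g ≫ q).base a)) (A.residueField a) < (n : Cardinal.{u}) := by
  letI algKL : Algebra (C.residueField (q.base (g.base a))) (B.residueField (g.base a)) :=
    (q.residueFieldMap (g.base a)).hom.toAlgebra
  letI algLL' : Algebra (B.residueField (g.base a)) (A.residueField a) :=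
    (g.residueFieldMap a).hom.toAlgebra
  letI algKL' : Algebra (C.residueField (q.base (g.base a))) (A.residueField a) :=
    ((g ≫ q).residueFieldMap a).hom.toAlgebra
  haveI : IsScalarTower (C.residueField (q.base (g.base a))) (B.residueField (g.base a))
      (A.residueField a) := by
    apply IsScalarTower.of_algebraMap_eq'
    show ((g ≫ q).residueFieldMap a).hom =
      ((g.residueFieldMap a).hom).comp ((q.residueFieldMap (g.base a)).hom)
    rw [Scheme.residueFieldMap_comp]
    rfl
  haveI hsep : Algebra.IsSeparable (B.residueField (g.base a)) (A.residueField a) := inferInstance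
  haveI : Algebra.IsAlgebraic (B.residueField (g.base a)) (A.residueField a) :=
    Algebra.IsSeparable.isAlgebraic _ _
  have h0 : Algebra.trdeg (B.residueField (g.base a)) (A.residueField a) = 0 := trdeg_eq_zero
  have h1 := trdeg_add_eq (C.residueField (q.base (g.base a))) (B.residueField (g.base a))
    (A := A.residueField a)
  rw [h0, add_zero] at h1
  show Algebra.trdeg (C.residueField (q.base (g.base a))) (A.residueField a) < (n : Cardinal.{u})
  rw [← h1]
  exact h

theorem trdeg_lt_congr {A C : Scheme.{u}} {q q' : A ⟶ C} (e : q = q') (a : A) (n : ℕ)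
    (h : letI := (q.residueFieldMap a).hom.toAlgebra
      Algebra.trdeg (C.residueField (q.base a)) (A.residueField a) < (n : Cardinal.{u})) :
    letI := (q'.residueFieldMap a).hom.toAlgebra
    Algebra.trdeg (C.residueField (q'.base a)) (A.residueField a) < (n : Cardinal.{u}) := by
  subst e
  exact h

theorem isFlatOverAt_congr {A C : Scheme.{u}} {q q' : A ⟶ C} (e : q = q') (M : A.Modules) (a : A)
    (h : FlatMod.IsFlatOverAt q M a) : FlatMod.IsFlatOverAt q' M a := by
  subst e
  exact h

end Helpers


open CategoryTheory CategoryTheory.Limits AlgebraicGeometry Opposite in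
/-- For f : X → S locally of finite type, F a quasi-coherent O_X-module of finite type, an etale
morphism h : X' → X and n ≥ 0, the functor F_n of F over S is a subfunctor of the functor F_n of the
pullback h^*F on X' over S: for every scheme T over S, if the base change F_T on X ×_S T is flat
over T in dimensions ≥ n (transcendence-degree form) then so is the base change of h^*F on X' ×_S T. -/
theorem result {X X' S : Scheme.{u}} (f : X ⟶ S) [LocallyOfFiniteType f] (F : X.Modules) [Coh.IsQCoh F] (hF : CohB1.IsFT F)
    (h : X' ⟶ X) [Etale h] (n : ℕ) (T : Over S)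
    (hT : FlatFun.DimFibresLT n (PicF.XTproj f T)
        {x | ¬ FlatMod.IsFlatOverAt (PicF.XTproj f T) (FGA.ET f F T) x}) :
    FlatFun.DimFibresLT n (PicF.XTproj (h ≫ f) T)
        {x | ¬ FlatMod.IsFlatOverAt (PicF.XTproj (h ≫ f) T) (FGA.ET (h ≫ f) ((Scheme.Modules.pullback h).obj F) T) x} := by
  -- the base change `h_T : X'_T ⟶ X_T` of `h`
  let hT' : pullback (h ≫ f) T.hom ⟶ pullback f T.hom :=
    pullback.map (h ≫ f) T.hom f T.hom h (𝟙 T.left) (𝟙 S) (by simp) (by simp)
  have e_fst : hT' ≫ pullback.fst f T.hom = pullback.fst (h ≫ f) T.hom ≫ h :=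
    pullback.lift_fst _ _ _
  have e_snd : hT' ≫ pullback.snd f T.hom = pullback.snd (h ≫ f) T.hom :=
    (pullback.lift_snd _ _ _).trans (Category.comp_id _)
  have s0 : IsPullback (hT' ≫ pullback.snd f T.hom) (pullback.fst (h ≫ f) T.hom) T.hom (h ≫ f) := by
    rw [e_snd]
    exact (IsPullback.of_hasPullback (h ≫ f) T.hom).flip
  have sq : IsPullback hT' (pullback.fst (h ≫ f) T.hom) (pullback.fst f T.hom) h :=
    IsPullback.of_right s0 e_fst (IsPullback.of_hasPullback f T.hom).flip
  haveI het : Etale hT' := MorphismProperty.of_isPullback (P := @Etale) sq.flip inferInstance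
  haveI : Flat hT' := inferInstance
  haveI : FormallyUnramified hT' := inferInstance
  haveI : LocallyOfFiniteType hT' := inferInstance
  -- the module comparison
  let G : (pullback f T.hom).Modules := (Scheme.Modules.pullback (pullback.fst f T.hom)).obj F
  haveI hFq : F.IsQuasicoherent := ‹Coh.IsQCoh F›
  have hG : Coh.IsQCoh G := Groth.Agent.H8.isQuasicoherent_pullback (pullback.fst f T.hom) F
  let eM : (Scheme.Modules.pullback hT').obj G ≅
      (Scheme.Modules.pullback (pullback.fst (h ≫ f) T.hom)).obj ((Scheme.Modules.pullback h).obj F) :=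
    (Scheme.Modules.pullbackComp hT' (pullback.fst f T.hom)).app F ≪≫
      (Scheme.Modules.pullbackCongr e_fst).app F ≪≫
      ((Scheme.Modules.pullbackComp (pullback.fst (h ≫ f) T.hom) h).app F).symm
  intro x' hx'
  have hx : hT'.base x' ∈ {x | ¬ FlatMod.IsFlatOverAt (PicF.XTproj f T) (FGA.ET f F T) x} := by
    intro hfl
    apply hx'
    have h1 := (Groth.Agent.S9350.result hT' (pullback.snd f T.hom) G hG x'
      (Flat.stalkMap hT' x')).1 hfl
    have h2 := Groth.Agent.H45.FpqcFlatDescent.isFlatOverAt_of_iso _ eM x' h1
    exact isFlatOverAt_congr e_snd _ x' h2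
  have h3 := hT (hT'.base x') hx
  have h4 := trdeg_comp_lt hT' (pullback.snd f T.hom) x' n h3
  exact trdeg_lt_congr e_snd x' n h4

end Groth.Agent.S9027
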