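import Groth.Statements.S9033
import Mathlib

set_option autoImplicit false
universe u
open Cpct

namespace Groth.Agent.S9033

open AlgebraicGeometry CategoryTheory Limits Cpct

/-- compactness transfers along an iso of open subschemes. -/
theorem isCompact_of_isIso {P Q : Scheme.{u}} (U' : P.Opens) (U : Q.Opens)
    (r : (U' : Scheme.{u}) ⟶ (U : Scheme.{u})) [IsIso r] (hU : IsCompact (U : Set Q)) :
    IsCompact (U' : Set P) := by
  have h1 : CompactSpace ↥U := isCompact_iff_compactSpace.mp hU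
  haveI h2 : CompactSpace ↥(U : Scheme.{u}) := h1
  have h3 : CompactSpace ↥(U' : Scheme.{u}) := (Scheme.homeoOfIso (asIso r)).symm.compactSpace
  have h4 : CompactSpace ↥U' := h3
  exact isCompact_iff_compactSpace.mpr h4

/-- Ore iso lemma at the level of schemes. -/
theorem ore_iso {Ab Bb Cb : Scheme.{u}} (UA : Ab.Opens) (UB : Bb.Opens) (UC : Cb.Opens)
    (f : Ab ⟶ Cb) (s : Bb ⟶ Cb) (hf : UA ≤ f ⁻¹ᵁ UC) (hs : UB ≤ s ⁻¹ᵁ UC)
    [IsIso (s.resLE UC UB hs)] :
    IsIso ((pullback.fst f s).resLE UA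
      ((pullback.fst f s) ⁻¹ᵁ UA ⊓ (pullback.snd f s) ⁻¹ᵁ UB) inf_le_left) := by
  set U' := (pullback.fst f s) ⁻¹ᵁ UA ⊓ (pullback.snd f s) ⁻¹ᵁ UB with hU'
  set r := (pullback.fst f s).resLE UA U' inf_le_left with hr
  set q := (pullback.snd f s).resLE UB U' inf_le_right with hq
  set f₀ := f.resLE UC UA hf with hf₀
  set s₀ := s.resLE UC UB hs with hs₀
  have hrι : r ≫ UA.ι = U'.ι ≫ pullback.fst f s := Scheme.Hom.resLE_comp_ι _ _
  have hqι : q ≫ UB.ι = U'.ι ≫ pullback.snd f s := Scheme.Hom.resLE_comp_ι _ _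
  have hf₀ι : f₀ ≫ UC.ι = UA.ι ≫ f := Scheme.Hom.resLE_comp_ι _ _
  have hs₀ι : s₀ ≫ UC.ι = UB.ι ≫ s := Scheme.Hom.resLE_comp_ι _ _
  have hsq : r ≫ f₀ = q ≫ s₀ := by
    rw [← cancel_mono UC.ι, Category.assoc, Category.assoc, hf₀ι, hs₀ι, ← Category.assoc,
      ← Category.assoc, hrι, hqι, Category.assoc, Category.assoc, pullback.condition]
  -- the inverse
  have hcond : UA.ι ≫ f = (f₀ ≫ inv s₀ ≫ UB.ι) ≫ s := by
    rw [Category.assoc, Category.assoc, ← hs₀ι, IsIso.inv_hom_id_assoc, hf₀ι]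
  let l : (UA : Scheme.{u}) ⟶ pullback f s := pullback.lift UA.ι (f₀ ≫ inv s₀ ≫ UB.ι) hcond
  have hl1 : l ≫ pullback.fst f s = UA.ι := pullback.lift_fst _ _ _
  have hl2 : l ≫ pullback.snd f s = f₀ ≫ inv s₀ ≫ UB.ι := pullback.lift_snd _ _ _
  have hrange : Set.range l ⊆ Set.range U'.ι := by
    rintro _ ⟨x, rfl⟩
    rw [Scheme.Opens.range_ι]
    refine ⟨?_, ?_⟩
    · show (pullback.fst f s) (l x) ∈ UA
      rw [← Scheme.Hom.comp_apply, hl1]; exact x.2
    · show (pullback.snd f s) (l x) ∈ UB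
      rw [← Scheme.Hom.comp_apply, hl2]
      exact ((f₀ ≫ inv s₀) x).2
  let rinv : (UA : Scheme.{u}) ⟶ (U' : Scheme.{u}) := IsOpenImmersion.lift U'.ι l hrange
  have hrinv : rinv ≫ U'.ι = l := IsOpenImmersion.lift_fac _ _ _
  refine ⟨rinv, ?_, ?_⟩
  · rw [← cancel_mono U'.ι, Category.assoc, hrinv, Category.id_comp]
    apply pullback.hom_ext
    · rw [Category.assoc, hl1, hrι]
    · rw [Category.assoc, hl2, ← hqι]
      have hq' : r ≫ f₀ ≫ inv s₀ = q := by
        rw [← Category.assoc, hsq, Category.assoc, IsIso.hom_inv_id, Category.comp_id]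
      rw [← hq']
      simp only [Category.assoc]
  · rw [← cancel_mono UA.ι, Category.assoc, hrι, ← Category.assoc, hrinv, hl1, Category.id_comp]


section pair
variable {S : Scheme.{u}}

lemma restr_ι {A B : Pair S} (f : A ⟶ B) : restr f ≫ B.U.ι = A.U.ι ≫ f.bar.left :=
  Scheme.Hom.resLE_comp_ι _ _

lemma restr_id (A : Pair S) : restr (𝟙 A) = 𝟙 _ := by
  rw [← cancel_mono A.U.ι, restr_ι]
  simp

lemma restr_comp {A B C : Pair S} (f : A ⟶ B) (g : B ⟶ C) :
    restr (f ≫ g) = restr f ≫ restr g := by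
  rw [← cancel_mono C.U.ι, restr_ι, Category.assoc, restr_ι, ← Category.assoc, restr_ι]
  simp

instance instMult : (isoOpen S).IsMultiplicative where
  id_mem A := by
    show IsIso (restr (𝟙 A))
    rw [restr_id]; infer_instance
  comp_mem f g hf hg := by
    show IsIso (restr (f ≫ g))
    rw [restr_comp]
    haveI : IsIso (restr f) := hf
    haveI : IsIso (restr g) := hg
    infer_instance

theorem ore {A B C : Pair S} (f : A ⟶ C) (s : B ⟶ C) (hs : isoOpen S s) :
    ∃ (A' : Pair S) (s' : A' ⟶ A) (f' : A' ⟶ B), isoOpen S s' ∧ s' ≫ f = f' ≫ s := by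
  haveI : IsIso (s.bar.left.resLE C.U B.U (fun x hx => Pair.Hom.le s x hx)) := hs
  have hiso := ore_iso A.U B.U C.U f.bar.left s.bar.left (fun x hx => Pair.Hom.le f x hx)
    (fun x hx => Pair.Hom.le s x hx)
  haveI := A.isProper
  haveI := B.isProper
  haveI := C.isProper
  haveI : IsProper (s.bar.left ≫ C.bar.hom) := by rw [Over.w]; infer_instance
  haveI : IsProper s.bar.left := IsProper.of_comp s.bar.left C.bar.hom
  let U' := (pullback.fst f.bar.left s.bar.left) ⁻¹ᵁ A.U ⊓
    (pullback.snd f.bar.left s.bar.left) ⁻¹ᵁ B.U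
  have hcomp : IsCompact (U' : Set ↥(pullback f.bar.left s.bar.left)) :=
    @isCompact_of_isIso _ _ U' A.U _ hiso A.isCompact
  let A' : Pair S :=
    { bar := Over.mk (pullback.fst f.bar.left s.bar.left ≫ A.bar.hom)
      U := U'
      isProper := by show IsProper (pullback.fst f.bar.left s.bar.left ≫ A.bar.hom); infer_instance
      isCompact := hcomp }
  let s' : A' ⟶ A := ⟨Over.homMk (pullback.fst f.bar.left s.bar.left) rfl, fun x hx => hx.1⟩
  let f' : A' ⟶ B := ⟨Over.homMk (pullback.snd f.bar.left s.bar.left) (by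
    show pullback.snd f.bar.left s.bar.left ≫ B.bar.hom =
      pullback.fst f.bar.left s.bar.left ≫ A.bar.hom
    rw [← Over.w s.bar, ← Over.w f.bar, ← Category.assoc, ← Category.assoc, pullback.condition]),
    fun x hx => hx.2⟩
  refine ⟨A', s', f', hiso, ?_⟩
  apply Pair.Hom.ext
  apply Over.OverMorphism.ext
  exact pullback.condition


theorem ext_lemma {A B : Pair S} (f₁ f₂ : A ⟶ B) (hr : restr f₁ = restr f₂) :
    ∃ (A' : Pair S) (t : A' ⟶ A), isoOpen S t ∧ t ≫ f₁ = t ≫ f₂ := by
  haveI := A.isProper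
  haveI := B.isProper
  haveI : IsSeparated B.bar.hom := inferInstance
  let e := equalizer.ι (Pair.Hom.bar f₁) (Pair.Hom.bar f₂)
  haveI : IsClosedImmersion e.left := inferInstance
  let U' := e.left ⁻¹ᵁ A.U
  let AU : Over S := Over.mk (A.U.ι ≫ A.bar.hom)
  let j : AU ⟶ A.bar := Over.homMk A.U.ι rfl
  have hj : j ≫ Pair.Hom.bar f₁ = j ≫ Pair.Hom.bar f₂ := by
    ext1
    show A.U.ι ≫ (Pair.Hom.bar f₁).left = A.U.ι ≫ (Pair.Hom.bar f₂).left
    rw [← restr_ι, ← restr_ι, hr]
  let l : AU ⟶ equalizer (Pair.Hom.bar f₁) (Pair.Hom.bar f₂) := equalizer.lift j hj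
  have hl : l.left ≫ e.left = A.U.ι := by
    rw [← Over.comp_left, equalizer.lift_ι]; rfl
  let r := e.left.resLE A.U U' le_rfl
  have hrι : r ≫ A.U.ι = U'.ι ≫ e.left := Scheme.Hom.resLE_comp_ι _ _
  have hrange : Set.range l.left ⊆ Set.range U'.ι := by
    rintro _ ⟨x, rfl⟩
    rw [Scheme.Opens.range_ι]
    show e.left (l.left x) ∈ A.U
    rw [← Scheme.Hom.comp_apply, hl]
    exact x.2
  let rinv := IsOpenImmersion.lift U'.ι l.left hrange
  have hrinv : rinv ≫ U'.ι = l.left := IsOpenImmersion.lift_fac _ _ _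
  have hiso : IsIso r := by
    refine ⟨rinv, ?_, ?_⟩
    · rw [← cancel_mono U'.ι, ← cancel_mono e.left]
      simp only [Category.assoc, Category.id_comp]
      rw [reassoc_of% hrinv, hl, hrι]
    · rw [← cancel_mono A.U.ι, Category.assoc, hrι, ← Category.assoc, hrinv, hl, Category.id_comp]
  have hcomp := @isCompact_of_isIso _ _ U' A.U r hiso A.isCompact
  let A' : Pair S :=
    { bar := equalizer (Pair.Hom.bar f₁) (Pair.Hom.bar f₂)
      U := U'
      isProper := by
        rw [← Over.w e]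
        infer_instance
      isCompact := hcomp }
  let t : A' ⟶ A := ⟨e, fun x hx => hx⟩
  refine ⟨A', t, hiso, ?_⟩
  apply Pair.Hom.ext
  exact equalizer.condition _ _

theorem main (S : Scheme.{u}) : (isoOpen S).HasRightCalculusOfFractions where
  exists_rightFraction A B φ := by
    obtain ⟨A', s', f', hs', h⟩ := ore φ.f φ.s φ.hs
    exact ⟨⟨s', hs', f'⟩, h⟩
  ext A B C f₁ f₂ s hs h := by
    haveI : IsIso (restr s) := hs
    have hr : restr f₁ = restr f₂ := by
      rw [← cancel_mono (restr s), ← restr_comp, ← restr_comp, h]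
    obtain ⟨A', t, ht, h'⟩ := ext_lemma f₁ f₂ hr
    exact ⟨A', t, ht, h'⟩

end pair


open CategoryTheory CategoryTheory.Limits AlgebraicGeometry Opposite in
/-- Let S be a quasi-compact and quasi-separated scheme. In the category of compactifications over S —
objects the pairs (X, X̄) with X̄ proper over S and X a quasi-compact open of X̄, morphisms the
morphisms X̄' → X̄ over S mapping X' into X — the collection of morphisms (u, ū) : (X', X̄') → (X,
X̄) with u : X' → X an isomorphism is a right multiplicative system: it contains the identities and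
is closed under composition; for f : (Y, Ȳ) → (X, X̄) and (u, ū) : (X', X̄') → (X, X̄) in the
collection there are (v, v̄) : (Y', Ȳ') → (Y, Ȳ) in the collection and g : (Y', Ȳ') → (X', X̄') with
f ∘ (v, v̄) = (u, ū) ∘ g; and if two morphisms (X, X̄) → (Y, Ȳ) become equal after composing with
some (Y, Ȳ) → (Y', Ȳ') of the collection, they become equal after precomposing with some (X', X̄') →
(X, X̄) of the collection. -/
theorem result (S : Scheme.{u}) [CompactSpace S] [QuasiSeparatedSpace S] :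
    (Cpct.isoOpen S).HasRightCalculusOfFractions := by
  exact main S

end Groth.Agent.S9033
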