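import Groth.Statements.S9034
import Mathlib
import Groth.Agent.S9033

set_option autoImplicit false
universe u
open Cpct

namespace Groth.Agent.S9034

open AlgebraicGeometry CategoryTheory Limits Cpct Groth.Agent.S9033

variable {S : Scheme.{u}}

/-- The roof lemma: any morphism between open parts over `S` is induced by a roof. -/
theorem roof [CompactSpace S] [QuasiSeparatedSpace S] (A B : Pair S)
    (ψ : (A.U : Scheme.{u}) ⟶ (B.U : Scheme.{u}))
    (hψ : ψ ≫ B.U.ι ≫ B.bar.hom = A.U.ι ≫ A.bar.hom) :
    ∃ (A' : Pair S) (s : A' ⟶ A) (f : A' ⟶ B), isoOpen S s ∧ restr s ≫ ψ = restr f := by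
  haveI := A.isProper
  haveI := B.isProper
  let P := pullback A.bar.hom B.bar.hom
  let γ : (A.U : Scheme.{u}) ⟶ P := pullback.lift A.U.ι (ψ ≫ B.U.ι) (by
    rw [Category.assoc, hψ])
  have hγ1 : γ ≫ pullback.fst A.bar.hom B.bar.hom = A.U.ι := pullback.lift_fst _ _ _
  have hγ2 : γ ≫ pullback.snd A.bar.hom B.bar.hom = ψ ≫ B.U.ι := pullback.lift_snd _ _ _
  haveI : IsImmersion (γ ≫ pullback.fst A.bar.hom B.bar.hom) := by rw [hγ1]; infer_instance
  haveI : IsImmersion γ := IsImmersion.of_comp γ (pullback.fst A.bar.hom B.bar.hom)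
  haveI : CompactSpace (A.U : Scheme.{u}) := isCompact_iff_compactSpace.mp A.isCompact
  haveI : QuasiSeparatedSpace P :=
    quasiSeparatedSpace_of_quasiSeparated (pullback.fst A.bar.hom B.bar.hom ≫ A.bar.hom)
  haveI : QuasiCompact γ := inferInstance
  haveI : IsOpenImmersion γ.toImage := inferInstance
  let U' : γ.image.Opens := γ.toImage.opensRange
  let τ : (A.U : Scheme.{u}) ≅ (U' : Scheme.{u}) :=
    IsOpenImmersion.isoOfRangeEq γ.toImage U'.ι (by
      rw [Scheme.Opens.range_ι]; rfl)
  have hτ : τ.hom ≫ U'.ι = γ.toImage := IsOpenImmersion.isoOfRangeEq_hom_fac _ _ _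
  have hcomp : IsCompact (U' : Set γ.image) :=
    @isCompact_of_isIso _ _ U' A.U τ.inv inferInstance A.isCompact
  let sb : γ.image ⟶ A.bar.left := γ.imageι ≫ pullback.fst A.bar.hom B.bar.hom
  let fb : γ.image ⟶ B.bar.left := γ.imageι ≫ pullback.snd A.bar.hom B.bar.hom
  have hsb : γ.toImage ≫ sb = A.U.ι := by
    show γ.toImage ≫ γ.imageι ≫ _ = _
    rw [← Category.assoc, γ.toImage_imageι, hγ1]
  have hfb : γ.toImage ≫ fb = ψ ≫ B.U.ι := by
    show γ.toImage ≫ γ.imageι ≫ _ = _
    rw [← Category.assoc, γ.toImage_imageι, hγ2]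
  let A' : Pair S :=
    { bar := Over.mk (sb ≫ A.bar.hom)
      U := U'
      isProper := by
        show IsProper ((γ.imageι ≫ pullback.fst A.bar.hom B.bar.hom) ≫ A.bar.hom)
        infer_instance
      isCompact := hcomp }
  let s : A' ⟶ A := ⟨Over.homMk sb rfl, by
    rintro x ⟨a, rfl⟩
    show sb (γ.toImage a) ∈ A.U
    rw [← Scheme.Hom.comp_apply, hsb]
    exact a.2⟩
  let f : A' ⟶ B := ⟨Over.homMk fb (by
    show (γ.imageι ≫ pullback.snd A.bar.hom B.bar.hom) ≫ B.bar.hom =
      (γ.imageι ≫ pullback.fst A.bar.hom B.bar.hom) ≫ A.bar.hom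
    rw [Category.assoc, Category.assoc, pullback.condition]), by
    rintro x ⟨a, rfl⟩
    show fb (γ.toImage a) ∈ B.U
    rw [← Scheme.Hom.comp_apply, hfb]
    exact (ψ a).2⟩
  have h1 : τ.hom ≫ restr s = 𝟙 _ := by
    rw [← cancel_mono A.U.ι, Category.assoc, restr_ι]
    show τ.hom ≫ U'.ι ≫ sb = _
    rw [← Category.assoc, hτ, hsb, Category.id_comp]
  have h2 : restr s = τ.inv := by
    rw [← Category.comp_id τ.inv, ← h1, Iso.inv_hom_id_assoc]
  refine ⟨A', s, f, ?_, ?_⟩
  · show IsIso (restr s)
    rw [h2]; infer_instance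
  · rw [h2, Iso.inv_comp_eq, ← cancel_mono B.U.ι, Category.assoc, restr_ι]
    show ψ ≫ B.U.ι = τ.hom ≫ U'.ι ≫ fb
    rw [← Category.assoc, hτ, hfb]


section loc
variable (S)

lemma map_hom_left {A B : Pair S} (f : A ⟶ B) : ((openFunctor S).map f).hom.left = restr f := rfl

lemma inverts : (isoOpen S).IsInvertedBy (openFunctor S) := by
  intro A B f hf
  haveI : IsIso (restr f) := hf
  haveI : IsIso ((Over.forget S).map ((openFunctor S).map f).hom) := by
    show IsIso ((openFunctor S).map f).hom.left
    rw [map_hom_left]; exact hf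
  haveI : IsIso ((openFunctor S).map f).hom := isIso_of_reflects_iso _ (Over.forget S)
  haveI : IsIso ((ObjectProperty.ι (IsCompactifyable S)).map ((openFunctor S).map f)) := this
  exact isIso_of_reflects_iso _ (ObjectProperty.ι (IsCompactifyable S))

lemma restr_eq_of_map_eq {A B : Pair S} (f g : A ⟶ B)
    (h : (openFunctor S).map f = (openFunctor S).map g) : restr f = restr g := by
  have := congrArg (fun m => m.hom.left) h
  exact this

end loc


section equiv
variable (S) [CompactSpace S] [QuasiSeparatedSpace S]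

instance instCalc : (isoOpen S).HasRightCalculusOfFractions := Groth.Agent.S9033.main S

noncomputable def G : (isoOpen S).Localization ⥤ Cfy S :=
  Localization.lift (openFunctor S) (inverts S) (isoOpen S).Q

noncomputable def e : (isoOpen S).Q ⋙ G S ≅ openFunctor S := Localization.fac _ _ _

lemma G_map_Q {A B : Pair S} (f : A ⟶ B) :
    (G S).map ((isoOpen S).Q.map f) =
      (e S).hom.app A ≫ (openFunctor S).map f ≫ (e S).inv.app B := by
  have h := (e S).hom.naturality f
  rw [← Category.assoc, ← h]
  simp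

lemma G_map_frac {A B : Pair S} (φ : (isoOpen S).RightFraction A B) :
    (G S).map (φ.map (isoOpen S).Q (Localization.inverts _ _)) =
      (e S).hom.app A ≫ φ.map (openFunctor S) (inverts S) ≫ (e S).inv.app B := by
  haveI : IsIso ((isoOpen S).Q.map φ.s) := Localization.inverts _ _ _ φ.hs
  rw [← cancel_epi ((G S).map ((isoOpen S).Q.map φ.s)), ← Functor.map_comp,
    MorphismProperty.RightFraction.map_s_comp_map, G_map_Q, G_map_Q]
  simp only [Category.assoc, Iso.inv_hom_id_app_assoc,
    MorphismProperty.RightFraction.map_s_comp_map_assoc]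

lemma faithful_aux {A B : Pair S} (a b : (isoOpen S).Q.obj A ⟶ (isoOpen S).Q.obj B)
    (hab : (G S).map a = (G S).map b) : a = b := by
  obtain ⟨φ, rfl⟩ := Localization.exists_rightFraction (isoOpen S).Q (isoOpen S) a
  obtain ⟨ψ, rfl⟩ := Localization.exists_rightFraction (isoOpen S).Q (isoOpen S) b
  rw [MorphismProperty.RightFraction.map_eq_iff]
  have key : φ.map (openFunctor S) (inverts S) = ψ.map (openFunctor S) (inverts S) := by
    have h1 := G_map_frac S φ
    have h2 := G_map_frac S ψ
    have h3 : (e S).hom.app A ≫ φ.map (openFunctor S) (inverts S) ≫ (e S).inv.app B =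
        (e S).hom.app A ≫ ψ.map (openFunctor S) (inverts S) ≫ (e S).inv.app B := by
      rw [← h1, ← h2]; exact hab
    rw [cancel_epi, cancel_mono] at h3
    exact h3
  obtain ⟨Z, t₁, t₂, ht₁, hcomm⟩ := Groth.Agent.S9033.ore φ.s ψ.s ψ.hs
  have hL : (openFunctor S).map (t₁ ≫ φ.f) = (openFunctor S).map (t₂ ≫ ψ.f) := by
    calc (openFunctor S).map (t₁ ≫ φ.f)
        = (openFunctor S).map t₁ ≫ (openFunctor S).map φ.s ≫
            φ.map (openFunctor S) (inverts S) := by
          rw [MorphismProperty.RightFraction.map_s_comp_map, Functor.map_comp]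
      _ = (openFunctor S).map (t₂ ≫ ψ.s) ≫ ψ.map (openFunctor S) (inverts S) := by
          rw [← Category.assoc, ← Functor.map_comp, hcomm, key]
      _ = (openFunctor S).map (t₂ ≫ ψ.f) := by
          rw [Functor.map_comp, Category.assoc,
            MorphismProperty.RightFraction.map_s_comp_map, ← Functor.map_comp]
  obtain ⟨Z', t, ht, heq⟩ := Groth.Agent.S9033.ext_lemma (t₁ ≫ φ.f) (t₂ ≫ ψ.f)
    (restr_eq_of_map_eq S _ _ hL)
  refine ⟨Z', t ≫ t₁, t ≫ t₂, ?_, ?_, ?_⟩
  · rw [Category.assoc, Category.assoc, hcomm]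
  · rw [Category.assoc, Category.assoc, heq]
  · exact (isoOpen S).comp_mem _ _ ((isoOpen S).comp_mem _ _ ht ht₁) φ.hs

instance instFaithful : (G S).Faithful := by
  constructor
  intro X Y a b hab
  obtain ⟨A, rfl⟩ := (Localization.Construction.objEquiv (isoOpen S)).surjective X
  obtain ⟨B, rfl⟩ := (Localization.Construction.objEquiv (isoOpen S)).surjective Y
  exact faithful_aux S a b hab


lemma full_aux {A B : Pair S} (φ : (G S).obj ((isoOpen S).Q.obj A) ⟶ (G S).obj ((isoOpen S).Q.obj B)) :
    ∃ a : (isoOpen S).Q.obj A ⟶ (isoOpen S).Q.obj B, (G S).map a = φ := by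
  let ψ : (openFunctor S).obj A ⟶ (openFunctor S).obj B :=
    (e S).inv.app A ≫ φ ≫ (e S).hom.app B
  obtain ⟨A', s, f, hs, hsf⟩ := roof A B ψ.hom.left (Over.w ψ.hom)
  have hL : (openFunctor S).map s ≫ ψ = (openFunctor S).map f := by
    apply (ObjectProperty.ι (IsCompactifyable S)).map_injective
    apply Over.OverMorphism.ext
    exact hsf
  let ρ : (isoOpen S).RightFraction A B := ⟨s, hs, f⟩
  refine ⟨ρ.map (isoOpen S).Q (Localization.inverts _ _), ?_⟩
  rw [G_map_frac]
  have hρ : ρ.map (openFunctor S) (inverts S) = ψ := by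
    haveI : IsIso ((openFunctor S).map s) := inverts S s hs
    rw [← cancel_epi ((openFunctor S).map s)]
    exact (MorphismProperty.RightFraction.map_s_comp_map ρ (openFunctor S) (inverts S)).trans hL.symm
  rw [hρ]
  simp [ψ]

instance instFull : (G S).Full := by
  constructor
  intro X Y φ
  obtain ⟨A, rfl⟩ := (Localization.Construction.objEquiv (isoOpen S)).surjective X
  obtain ⟨B, rfl⟩ := (Localization.Construction.objEquiv (isoOpen S)).surjective Y
  exact full_aux S φ

instance instEssSurj : (G S).EssSurj := by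
  constructor
  intro X
  obtain ⟨A, ⟨i⟩⟩ := X.property
  exact ⟨(isoOpen S).Q.obj A,
    ⟨(e S).app A ≪≫ (ObjectProperty.fullyFaithfulι (IsCompactifyable S)).preimageIso i⟩⟩

theorem main : (openFunctor S).IsLocalization (isoOpen S) := by
  haveI : (G S).IsEquivalence := { }
  exact Functor.IsLocalization.of_equivalence_target (isoOpen S).Q (isoOpen S) (openFunctor S)
    (G S).asEquivalence (e S)

end equiv


open CategoryTheory CategoryTheory.Limits AlgebraicGeometry Opposite in
/-- Fix a scheme S which is quasi-separated and quasi-compact. Sending a pair (X, X̄) to X gives a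
functor from the category of compactifications over S (pairs of a scheme X̄ proper over S and a
quasi-compact open X ⊆ X̄, with morphisms the S-morphisms X̄' → X̄ sending X' into X) to the
category of compactifyable schemes over S (the full subcategory of schemes over S that are the open
part of such a pair), and this functor is a localization functor for the class of morphisms whose
open part X' → X is an isomorphism: it inverts that class and the induced functor from the localized
category is an equivalence. -/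
theorem result (S : Scheme.{u}) [CompactSpace S] [QuasiSeparatedSpace S] :
    (Cpct.openFunctor S).IsLocalization (Cpct.isoOpen S) := by
  exact main S

end Groth.Agent.S9034
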