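import Groth.Statements.S9036
import Groth.Agent.H33.CompactRetract
import Groth.Agent.H33.CoprodSectQc
import Groth.Agent.S6152
import Groth.Agent.H31.GrothAb

set_option autoImplicit false
universe u
open CategoryTheory CategoryTheory.Limits Opposite
open ModSite

namespace Groth.Agent.S9036

/-- Let (C, O) be a ringed site in which every object has a covering by quasi-compact objects (an object
U is called quasi-compact here when the sheaf h_U^# is a quasi-compact object of the topos, which is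
equivalent to the site-level definition). Then every compact object of D(O) is a retract in D(O) of
the image of a bounded complex whose terms are finite direct sums of modules of the form j_{U!} O_U
with U quasi-compact. The derived category of O-modules, direct sums in it and finite biproducts of
O-modules (automatic) are instance hypotheses. -/
theorem result
    {C : Type u} [SmallCategory C] {J : GrothendieckTopology C} (O : Sheaf J CommRingCat.{u})
    [HasFiniteBiproducts (ModSite.Mod O)]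
    [HasDerivedCategory.{u} (ModSite.Mod O)] [HasCoproducts.{u} (DerivedCategory (ModSite.Mod O))]
    (hC : ∀ V : C, ∃ R ∈ J V, ∀ ⦃W : C⦄ (g : W ⟶ V), R g →
      ∃ (U : C) (a : W ⟶ U) (b : U ⟶ V), CohCx.IsQcObject ((presheafToSheaf J (Type u)).obj (yoneda.obj U)) ∧ a ≫ b = g)
    (K : DerivedCategory (ModSite.Mod O)) (hK : CohDer.IsCompactObject K) :
    ∃ (L : CochainComplex (ModSite.Mod O) ℤ) (a b : ℤ),
      (∀ i : ℤ, i < a ∨ b < i → IsZero (L.X i)) ∧
      (∀ i : ℤ, ∃ (n : ℕ) (U : Fin n → C),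
        (∀ j, CohCx.IsQcObject ((presheafToSheaf J (Type u)).obj (yoneda.obj (U j)))) ∧
        Nonempty (L.X i ≅ ⨁ fun j => ModSite.freeOn O (U j))) ∧
      Nonempty (Retract K (DerivedCategory.Q.obj L)) := by
  classical
  let G : Set C := {U | CohCx.IsQcObject (ToposFin.eps J U)}
  let S : Set (ModSite.Mod O) := {M | ∃ U : C, U ∈ G ∧ M = ModSite.freeOn O U}
  haveI : IsGrothendieckAbelian.{u} (ModSite.Mod O) :=
    Groth.Agent.H31.GrothAb.isGrothendieckAbelian J (ModSite.ringSh O)
  have h2 : ∀ E ∈ S, ∀ ι : Type u,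
      PreservesColimitsOfShape (Discrete ι) (preadditiveCoyoneda.obj (op E)) := by
    rintro E ⟨U, hU, rfl⟩ ι
    exact Groth.Agent.H33.CoprodSectQc.preservesColimitsOfShape_coyoneda_freeOn O U hU ι
  have hG : ∀ X : C, ∃ (ι : Type u) (Y : ι → C) (f : ∀ i, Y i ⟶ X),
      Sieve.ofArrows Y f ∈ J X ∧ ∀ i, Y i ∈ G := by
    intro X
    obtain ⟨R, hR, hR'⟩ := hC X
    refine ⟨Σ (U : {U : C // U ∈ G}), (U.1 ⟶ X), fun i => i.1.1, fun i => i.2, ?_,
      fun i => i.1.2⟩
    refine J.superset_covering ?_ hR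
    intro W g hg
    obtain ⟨U, a, b, hU, hab⟩ := hR' g hg
    rw [← hab]
    exact (Sieve.ofArrows (fun i : Σ (U : {U : C // U ∈ G}), (U.1 ⟶ X) => i.1.1)
      (fun i => i.2)).downward_closed (Sieve.ofArrows_mk _ _ ⟨⟨U, hU⟩, b⟩) a
  have hsep := (Groth.Agent.S6152.result O G hG).2
  have h1 : ∀ X : ModSite.Mod O, ∃ (ι : Type u) (E : ι → ModSite.Mod O) (π : ∐ E ⟶ X),
      (∀ i, E i ∈ S) ∧ Epi π := by
    intro X
    refine ⟨Σ (U : G), (ModSite.freeOn O (U : C) ⟶ X), fun i => ModSite.freeOn O (i.1 : C),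
      Sigma.desc (fun i => i.2), fun i => ⟨i.1.1, i.1.2, rfl⟩, ?_⟩
    apply Preadditive.epi_of_cancel_zero
    intro Z g hg
    refine hsep g 0 ?_
    rintro _ ⟨U⟩ h
    rw [comp_zero]
    calc h ≫ g = (Sigma.ι (fun i : Σ (U : G), (ModSite.freeOn O (U : C) ⟶ X) =>
            ModSite.freeOn O (i.1 : C)) ⟨U, h⟩ ≫ Sigma.desc (fun i => i.2)) ≫ g := by
          rw [Sigma.ι_desc]
      _ = 0 := by rw [Category.assoc, hg, comp_zero]
  obtain ⟨L, a, b, hz, hf, hr⟩ := Groth.Agent.H33.CompactRetract.main S h1 h2 K hK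
  refine ⟨L, a, b, hz, fun i => ?_, hr⟩
  obtain ⟨n, E, hE, ⟨iso⟩⟩ := hf i
  choose U hU hEU using hE
  obtain rfl : E = fun j => ModSite.freeOn O (U j) := funext hEU
  exact ⟨n, U, hU, ⟨iso⟩⟩

end Groth.Agent.S9036
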