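import Groth.Statements.S9037
import Groth.Agent.H33.CoprodSectQc
import Groth.Agent.H33.CompactSingle
import Groth.Agent.H31.GrothAb

set_option autoImplicit false
universe u
open CategoryTheory CategoryTheory.Limits Opposite
open ModSite

namespace Groth.Agent.S9037

/-- On a ringed site (C, O), if U is a quasi-compact object (h_U^# is a quasi-compact object of the
topos, which is equivalent to the site-level notion) which is weakly contractible, then j_{U!} O_U,
placed in degree zero, is a compact object of the derived category D(O). The derived category of
O-modules and direct sums in it are instance hypotheses. -/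
theorem result
    {C : Type u} [SmallCategory C] {J : GrothendieckTopology C} (O : Sheaf J CommRingCat.{u})
    [HasDerivedCategory.{u} (ModSite.Mod O)] [HasCoproducts.{u} (DerivedCategory (ModSite.Mod O))]
    (U : C) (hqc : CohCx.IsQcObject ((presheafToSheaf J (Type u)).obj (yoneda.obj U)))
    (hwc : CohSite.IsWeaklyContractible J U) :
    CohDer.IsCompactObject ((DerivedCategory.singleFunctor (ModSite.Mod O) 0).obj (ModSite.freeOn O U)) := by
  haveI := Groth.Agent.H31.GrothAb.isGrothendieckAbelian J (ModSite.ringSh O)
  haveI := Groth.Agent.H33.CoprodSectQc.projective_freeOn O U hwc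
  have h := Groth.Agent.H33.CompactSingle.isCompactObject_single (ModSite.freeOn O U)
    (fun Y c hc => Groth.Agent.H33.CoprodSectQc.finFac_freeOn O U hqc c hc) 0
  exact Groth.Agent.H6.isCompactObject_of_iso
    ((DerivedCategory.singleFunctorIsoCompQ (ModSite.Mod O) 0).app (ModSite.freeOn O U)).symm h

end Groth.Agent.S9037
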