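import Groth.Statements.S9041
import Groth.Agent.H53.SliceLift

set_option autoImplicit false
universe u
open CategoryTheory CategoryTheory.Limits Opposite
open ModSite

namespace Groth.Agent.S9041

lemma transport {A B : Type*} [Category A] [Category B] (F₁ F₂ : A ⥤ B) (e : F₁ ≅ F₂)
    {X Y Z : A} (p : Y ⟶ Z) (φ : X ⟶ Z) (ψ : F₁.obj X ⟶ F₁.obj Y)
    (h : ψ ≫ F₁.map p = F₁.map φ) :
    (e.inv.app X ≫ ψ ≫ e.hom.app Y) ≫ F₂.map p = F₂.map φ := by
  rw [Category.assoc, Category.assoc, ← e.hom.naturality p, ← Category.assoc ψ, h,
    e.hom.naturality φ, Iso.inv_hom_id_app_assoc]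


/-- On a ringed site (C, O), let E be a direct summand of a finite free O-module, p : G → F a surjection
of O-modules and φ : E → F a morphism. Then locally φ lifts through p: every object V has a covering
sieve such that over each of its arrows W → V there is a morphism E|_W → G|_W whose composite with
p|_W is φ|_W. (The published statement is phrased for modules over the localisation (C/U, O_U) at an
object U and a covering of U; a localised ringed site is again a ringed site, and this row states
the conclusion at every object of an arbitrary ringed site.) -/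
theorem result
    {C : Type u} [SmallCategory C] {J : GrothendieckTopology C} (O : Sheaf J CommRingCat.{u})
    (E F G : ModSite.Mod O) (hE : DCoh.IsFinFreeSummandMod (ModSite.ringSh O) E)
    (p : G ⟶ F) [Epi p] (φ : E ⟶ F) (V : C) :
    ∃ R ∈ J V, ∀ ⦃W : C⦄ (g : W ⟶ V), R g →
      ∃ l : (ModSite.restr O W).obj E ⟶ (ModSite.restr O W).obj G,
        l ≫ (ModSite.restr O W).map p = (ModSite.restr O W).map φ := by
  classical
  have : (SheafOfModules.overFunctor (ModSite.ringSh O) V).Additive :=
    Groth.Agent.H92.RestrExact.restr_additive O V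
  have hM : DCoh.IsFinFreeSummandMod ((ModSite.ringSh O).over V) ((ModSite.restr O V).obj E) :=
    Groth.Agent.H53.SliceLift.isFinFreeSummand_map (ModSite.restr O V)
      (Groth.Agent.H53.SliceLift.restrUnitIso V) hE
  have : PreservesFiniteColimits (ModSite.restr O V) :=
    Groth.Agent.H92.RestrExact.restr_preservesFiniteColimits O V
  have hEpi : Epi ((ModSite.restr O V).map p) := inferInstance
  have hL := Groth.Agent.H53.SliceLift.locLift_of_isFinFreeSummand hM
  obtain ⟨S, hS, h⟩ := @hL _ _ ((ModSite.restr O V).map p) hEpi ((ModSite.restr O V).map φ)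
  refine ⟨S, hS, fun W g hg => ?_⟩
  obtain ⟨ψ, hψ⟩ := h g hg
  let e := SheafOfModules.overFunctorMap (ModSite.ringSh O) g
  exact ⟨e.inv.app E ≫ ψ ≫ e.hom.app G, transport _ _ e p φ ψ hψ⟩

end Groth.Agent.S9041
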