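import Groth.Statements.S9042
-- import your own Groth.Agent.* helpers here
import Groth.Agent.H5.RlimMod.ModExt
import Groth.Agent.H5.RlimMod.Cov
import Groth.Agent.H31.GrothAb

set_option autoImplicit false
universe u
open CategoryTheory CategoryTheory.Limits Opposite
open ModSite

namespace Groth.Agent.S9042

/-- Let (C, O) be a ringed site, E an object of D(O), B a class of objects such that every object has a
covering by members of B, and p : ℤ → ℤ a function such that H^k(V, H^{m-k}(E)) = 0 for every V in
B, every m and every k > p(m). Then the canonical map from E to the derived limit of its truncations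
τ_{≥ -n} E is an isomorphism, i.e. E is a derived limit of that tower through the canonical maps.
The derived category of O-modules and the product of the truncations are instance hypotheses; H^k(V,
-) of an O-module is the cohomology of its underlying abelian sheaf. -/
theorem result
    {C : Type u} [SmallCategory C] {J : GrothendieckTopology C} (O : Sheaf J CommRingCat.{u})
    [HasDerivedCategory.{u} (ModSite.Mod O)] (E : DerivedCategory (ModSite.Mod O))
    [HasProduct (CohCx.truncTower E)] (B : Set C)
    (hB : ∀ U : C, ∃ (ι : Type u) (Y : ι → C) (f : ∀ i, Y i ⟶ U), Sieve.ofArrows Y f ∈ J U ∧ ∀ i, Y i ∈ B)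
    (p : ℤ → ℤ)
    (h : ∀ V ∈ B, ∀ (m : ℤ) (k : ℕ), p m < k →
      Subsingleton (ModSite.HU O ((DerivedCategory.homologyFunctor (ModSite.Mod O) (m - k)).obj E) k V)) :
    CohCx.IsRlimVia (CohCx.truncTower E) (CohCx.truncTowerMap E) E (CohCx.toTruncTower E) := by
  haveI : IsGrothendieckAbelian.{u} (ModSite.Mod O) :=
    Groth.Agent.H31.GrothAb.isGrothendieckAbelian J (ModSite.ringSh O)
  haveI : HasExt.{u} (ModSite.Mod O) := hasExt_of_hasDerivedCategory _
  refine (Groth.Agent.H5.RlimMod.modSec O).isRlimVia_truncTower E B hB ?_
  intro V hV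
  refine ⟨p, fun T hT => ?_⟩
  obtain ⟨ι, Y, f, hf, hcov, hY⟩ := Groth.Agent.H5.RlimMod.exists_family_in B hB V T hT
  refine ⟨ι, Y, f, hf, hcov, fun i m k hk => ?_⟩
  exact Groth.Agent.H5.RlimMod.subsingleton_ext_freeOn O (Y i) _ k (h (Y i) (hY i) m k hk)

end Groth.Agent.S9042
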