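import Groth.Statements.S9043
-- import your own Groth.Agent.* helpers here
import Groth.Agent.H5.RlimMod.ModExt
import Groth.Agent.H31.GrothAb

set_option autoImplicit false
universe u
open CategoryTheory CategoryTheory.Limits Opposite
open ModSite

namespace Groth.Agent.S9043

/-- Let (C, O) be a ringed site, E an object of D(O) and B a class of objects such that every object has
a covering by members of B and every V in B admits an integer d_V ≥ 0 and a cofinal system of
coverings {V_i → V} with H^k(V_i, H^q(E)) = 0 for k > d_V and q < 0. Then E is the derived limit of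
its truncations τ_{≥ -n} E through the canonical maps. The derived category of O-modules and the
product of the truncations are instance hypotheses; H^k(V, -) of an O-module is the cohomology of
its underlying abelian sheaf; cofinality is expressed by asking every covering sieve of V to contain
such a covering family. -/
theorem result
    {C : Type u} [SmallCategory C] {J : GrothendieckTopology C} (O : Sheaf J CommRingCat.{u})
    [HasDerivedCategory.{u} (ModSite.Mod O)] (E : DerivedCategory (ModSite.Mod O))
    [HasProduct (CohCx.truncTower E)] (B : Set C)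
    (hB : ∀ U : C, ∃ (ι : Type u) (Y : ι → C) (f : ∀ i, Y i ⟶ U), Sieve.ofArrows Y f ∈ J U ∧ ∀ i, Y i ∈ B)
    (h : ∀ V ∈ B, ∃ d : ℕ, ∀ T ∈ J V, ∃ (ι : Type u) (Y : ι → C) (f : ∀ i, Y i ⟶ V),
      (∀ i, T.arrows (f i)) ∧ Sieve.ofArrows Y f ∈ J V ∧
      ∀ (i : ι) (q : ℤ) (k : ℕ), q < 0 → d < k →
        Subsingleton (ModSite.HU O ((DerivedCategory.homologyFunctor (ModSite.Mod O) q).obj E) k (Y i))) :
    CohCx.IsRlimVia (CohCx.truncTower E) (CohCx.truncTowerMap E) E (CohCx.toTruncTower E) := by
  haveI : IsGrothendieckAbelian.{u} (ModSite.Mod O) :=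
    Groth.Agent.H31.GrothAb.isGrothendieckAbelian J (ModSite.ringSh O)
  haveI : HasExt.{u} (ModSite.Mod O) := hasExt_of_hasDerivedCategory _
  refine (Groth.Agent.H5.RlimMod.modSec O).isRlimVia_truncTower E B hB ?_
  intro V hV
  obtain ⟨d, hd⟩ := h V hV
  refine ⟨fun m => max (d : ℤ) m, fun T hT => ?_⟩
  obtain ⟨ι, Y, f, hf, hcov, hY⟩ := hd T hT
  refine ⟨ι, Y, f, hf, hcov, fun i m k hk => ?_⟩
  have hk1 : (d : ℤ) < k := lt_of_le_of_lt (le_max_left _ _) hk
  have hk2 : m < k := lt_of_le_of_lt (le_max_right _ _) hk
  exact Groth.Agent.H5.RlimMod.subsingleton_ext_freeOn O (Y i) _ k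
    (hY i (m - k) k (by omega) (by exact_mod_cast hk1))

end Groth.Agent.S9043
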