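import Groth.Statements.S9052
import Groth.Agent.H31.KFlatCycles
import Groth.Agent.H31.KFlatQuasiIsoSite

set_option autoImplicit false
universe u
open CategoryTheory CategoryTheory.Limits Opposite
open ModSite

namespace Groth.Agent.S9052

/-- On a ringed site (C, O), let K be a K-flat, acyclic complex of O-modules whose terms are flat. Then
for every n the kernel of K^n → K^{n+1} (the module of n-cycles) is a flat O-module. Here a complex
K of O-modules is called K-flat when for every acyclic complex L of O-modules the total complex
Tot(L ⊗_O K) is acyclic; this property enters only as a hypothesis. The instance binders saying that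
the tensor bifunctor preserves zero morphisms always hold and are needed only to form total
complexes. -/
theorem result
    {C : Type u} [SmallCategory C] {J : GrothendieckTopology C} (O : Sheaf J CommRingCat.{u})
    [(ModSite.tensorBi O).PreservesZeroMorphisms] [∀ X : ModSite.Mod O, ((ModSite.tensorBi O).obj X).PreservesZeroMorphisms]
    (K : CochainComplex (ModSite.Mod O) ℤ)
    (hK : ∀ L : CochainComplex (ModSite.Mod O) ℤ, L.Acyclic →
      (HomologicalComplex.mapBifunctor L K (ModSite.tensorBi O) (ComplexShape.up ℤ)).Acyclic)
    (hac : K.Acyclic) (hfl : ∀ i : ℤ, ModSite.IsFlat (K.X i)) (n : ℤ) :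
    ModSite.IsFlat (K.cycles n) := by
  have := Groth.Agent.H31.KFlat.hasExactColimitsOfShape_nat_Mod (O := O)
  exact (Groth.Agent.H31.isFlat_iff_preservesMonomorphisms _).2
    (Groth.Agent.H31.KFlat.flat_cycles_of_kflat_acyclic (ModSite.tensorBi O)
      Groth.Agent.H31.tensorLike_tensorBi K hK hac
      (fun i => (Groth.Agent.H31.isFlat_iff_preservesMonomorphisms _).1 (hfl i)) n)

end Groth.Agent.S9052
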