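import Groth.Statements.S9071
-- import your own Groth.Agent.* helpers here
import Groth.Agent.H5.SiteEq.Main
import Groth.Agent.H5.SiteEq.Pull
import Groth.Agent.H5.SiteEq.Local
import Groth.Agent.H5.SiteEq.Affine
import Groth.Agent.H5.SiteEq.EpsFF
import Groth.Agent.H5.SiteEq.PushImage
import Groth.Agent.H5.SiteEq.PushUnit
import Groth.Agent.H5.RlimMod.ModExt
import Groth.Agent.H5.KInj.DerivedAdj
import Groth.Agent.H31.GrothAb
import Groth.Agent.H33.Leray

set_option autoImplicit false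
universe u
open CategoryTheory CategoryTheory.Limits Opposite
attribute [local instance] HasDerivedCategory.standard
open SiteCmp

namespace Groth.Agent.S9071


open Groth.Agent.H5.SiteEq Groth.Agent.H5.RlimMod Groth.Agent.H5.KInjDer

/-- Let τ' be a coarser topology than τ on a category C, O a τ-sheaf of rings and ε the comparison
morphism from (C_τ, O) to (C_τ', O). Let B be a set of objects and A a full subcategory of
presheaves of O-modules such that (1) every object of A is a τ-sheaf, (2) A forms a weak Serre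
subcategory inside Mod(O_τ), (3) each object of C admits a τ'-covering by members of B, and (4)
H^p_τ(U, F) = 0 for U ∈ B, F ∈ A, p > 0. Then the essential image of A under ε_* forms a weak Serre
subcategory inside Mod(O_τ') and ε^*, Rε_* are quasi-inverse equivalences between D_A(O_τ') and
D_A(O_τ): on objects with cohomology sheaves in the respective subcategory, ε^* and Rε_* preserve
that condition and the unit and counit are isomorphisms. In the order of topologies used here the
finer topology τ is the larger one, J, and τ' is J' ≤ J; A is given as a property of τ-sheaves of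
modules (condition (1) built in); flatness of ε, existence of the unbounded Rε_* and an adjunction
ε^* ⊣ Rε_* are hypotheses. -/
theorem result
    {C : Type u} [SmallCategory C] {J J' : GrothendieckTopology C} (h : J' ≤ J) (O : Sheaf J CommRingCat.{u})
    [PreservesFiniteLimits (SiteCmp.eps h O).pull] [SiteCmp.HasRpushD (SiteCmp.eps h O)]
    (adj : SiteCmp.pullD (SiteCmp.eps h O) ⊣ SiteCmp.RpushD (SiteCmp.eps h O))
    (A : ObjectProperty (ModSite.Mod O)) [WSerre.IsWeakSerre A] (B : Set C)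
    (h3 : ∀ U : C, ∃ (ι : Type u) (Y : ι → C) (g : ∀ i, Y i ⟶ U), Sieve.ofArrows Y g ∈ J' U ∧ ∀ i, Y i ∈ B)
    (h4 : ∀ U ∈ B, ∀ F : ModSite.Mod O, A F → ∀ p : ℕ, 0 < p → Subsingleton (ModSite.HU O F p U)) :
    WSerre.IsWeakSerre (A.map (SiteCmp.eps h O).push) ∧
    (∀ Y : DerivedCategory (ModSite.Mod (SiteCmp.epsRing h O)), WSerre.cohIn (A.map (SiteCmp.eps h O).push) Y →
      WSerre.cohIn A ((SiteCmp.pullD (SiteCmp.eps h O)).obj Y) ∧ IsIso (adj.unit.app Y)) ∧
    (∀ X : DerivedCategory (ModSite.Mod O), WSerre.cohIn A X →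
      WSerre.cohIn (A.map (SiteCmp.eps h O).push) ((SiteCmp.RpushD (SiteCmp.eps h O)).obj X) ∧
      IsIso (adj.counit.app X)) := by
  haveI : IsGrothendieckAbelian.{u} (ModSite.Mod O) :=
    Groth.Agent.H31.GrothAb.isGrothendieckAbelian J (ModSite.ringSh O)
  haveI : IsGrothendieckAbelian.{u} (ModSite.Mod (SiteCmp.epsRing h O)) :=
    Groth.Agent.H31.GrothAb.isGrothendieckAbelian J' (ModSite.ringSh (SiteCmp.epsRing h O))
  haveI : HasExt.{u + 1} (ModSite.Mod O) := hasExt_of_hasDerivedCategory _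
  haveI : HasExt.{u + 1} (ModSite.Mod (SiteCmp.epsRing h O)) := hasExt_of_hasDerivedCategory _
  let E := SiteCmp.eps h O
  let S := modSec O
  let S' := modSec (SiteCmp.epsRing h O)
  haveI hfull : E.push.Full := (epsPushFullyFaithful h O).full
  haveI hfaith : E.push.Faithful := (epsPushFullyFaithful h O).faithful
  -- `Ext` vanishing on `B`
  have hExt : ∀ V ∈ B, ∀ M : ModSite.Mod O, A M → ∀ k : ℕ, 0 < k →
      Subsingleton (Abelian.Ext.{u + 1} (ModSite.freeOn O V) M k) :=
    fun V hV M hM k hk => subsingleton_ext_freeOn O V M k (h4 V hV M hM k hk)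
  have hBJ : ∀ U : C, ∃ (ι : Type u) (Y : ι → C) (g : ∀ i, Y i ⟶ U),
      Sieve.ofArrows Y g ∈ J U ∧ ∀ i, Y i ∈ B := by
    intro U
    obtain ⟨ι, Y, g, hcov, hYB⟩ := h3 U
    exact ⟨ι, Y, g, h _ hcov, hYB⟩
  -- `ε_*` preserves epimorphisms with kernel in `A`
  have hKL : ∀ T : ShortComplex (ModSite.Mod O), T.ShortExact → A T.X₁ →
      Epi (E.push.map T.g) := by
    intro T hT hT1
    refine S'.epi_of_isLocallySurjective _ ⟨fun {U} s => ?_⟩
    obtain ⟨ι, Z, g, hcov, hYB⟩ := h3 U
    refine J'.superset_covering ?_ hcov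
    rw [Sieve.ofArrows, Sieve.generate_le_iff]
    intro W f hf
    obtain ⟨i⟩ := hf
    let a : ModSite.freeOn (SiteCmp.epsRing h O) (Z i) ⟶ E.push.obj T.X₃ :=
      S'.ofS (Z i) _ (S'.rs _ (g i) s)
    let a'' : ModSite.freeOn O (E.fn.obj (Z i)) ⟶ T.X₃ :=
      (pullFreeOnIso E (Z i)).inv ≫ (E.adj.homEquiv _ _).symm a
    obtain ⟨b'', hb''⟩ := Groth.Agent.H33.Leray.hom_surjective_of_ext_one
      (ModSite.freeOn O (E.fn.obj (Z i))) hT (hExt (Z i) (hYB i) _ hT1 1 one_pos) a''
    let b : ModSite.freeOn (SiteCmp.epsRing h O) (Z i) ⟶ E.push.obj T.X₂ :=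
      E.adj.homEquiv _ _ ((pullFreeOnIso E (Z i)).hom ≫ b'')
    have hb : b ≫ E.push.map T.g = a := by
      rw [← Adjunction.homEquiv_naturality_right, Category.assoc, hb'']
      simp [a'']
    refine ⟨S'.ev (Z i) _ b, ?_⟩
    exact ((S'.ev_comp (Z i) b (E.push.map T.g)).symm.trans
      (congrArg (S'.ev (Z i) (E.push.obj T.X₃)) hb)).trans (S'.ev_ofS (Z i) _ _)
  have hWS' : WSerre.IsWeakSerre (A.map E.push) := isWeakSerre_map E.adj A hKL
  haveI := hWS'
  -- the derived counit is an isomorphism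
  let β := (SiteCmp.pushKh E).totalRightDerivedUnit DerivedCategory.Qh
    (HomotopyCategory.quasiIso (ModSite.Mod O) (ComplexShape.up ℤ))
  have hβ : (SiteCmp.RpushD E).IsRightDerivedFunctor β
      (HomotopyCategory.quasiIso (ModSite.Mod O) (ComplexShape.up ℤ)) := inferInstance
  have hα := isRightDerivedFunctor_unitC E.push (SiteCmp.RpushD E) β
  obtain ⟨adjD, hfac⟩ := exists_derivedAdj E.adj (SiteCmp.RpushD E)
    (unitC E.push (SiteCmp.RpushD E) β)
  haveI : IsIso E.adj.counit := isIso_counit_eps h O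
  haveI : IsIso adjD.counit := isIso_counit_of_isIso_counit E.adj (SiteCmp.RpushD E)
    (unitC E.push (SiteCmp.RpushD E) β) adjD hfac
  haveI : (SiteCmp.RpushD E).Full := adjD.fullyFaithfulROfIsIsoCounit.full
  haveI : (SiteCmp.RpushD E).Faithful := adjD.fullyFaithfulROfIsIsoCounit.faithful
  haveI : IsIso adj.counit := inferInstance
  -- the derived unit is an isomorphism on `ε_* A`
  have hunit : ∀ N : ModSite.Mod (SiteCmp.epsRing h O), (A.map E.push) N →
      IsIso (adj.unit.app (SiteCmp.inD (SiteCmp.epsRing h O) N)) := by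
    intro N hN
    obtain ⟨M, hM, ⟨eN⟩⟩ := (ObjectProperty.prop_map_iff _ _ _).1 hN
    refine isIso_unit_single_of_vanishing E.pull E.adj adj M ?_ N eN
    intro p hp
    refine S'.isZero_homology_of_local_vanishing _ p B h3 (fun V hV => ?_)
    refine subsingleton_hom_shift_right E.pull adj _ _ p ?_
    have h1 : Subsingleton ((DerivedCategory.singleFunctor (ModSite.Mod O) 0).obj
        (ModSite.freeOn O (E.fn.obj V)) ⟶
        ((DerivedCategory.singleFunctor (ModSite.Mod O) 0).obj M)⟦p⟧) :=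
      subsingleton_hom_single_shift_pos _ M p hp (fun k hk => hExt V hV M hM k hk)
    let e1 : E.pull.mapDerivedCategory.obj
        ((DerivedCategory.singleFunctor _ 0).obj (ModSite.freeOn (SiteCmp.epsRing h O) V)) ≅
        (DerivedCategory.singleFunctor (ModSite.Mod O) 0).obj (ModSite.freeOn O (E.fn.obj V)) :=
      (E.pull.mapDerivedCategorySingleFunctor 0).app _ ≪≫
        (DerivedCategory.singleFunctor _ 0).mapIso (pullFreeOnIso E V)
    exact ⟨fun x y => (cancel_epi e1.inv).1 (h1.elim (e1.inv ≫ x) (e1.inv ≫ y))⟩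
  -- hypotheses of the equivalence theorem
  have h2a : ∀ M' : ModSite.Mod (SiteCmp.epsRing h O), (A.map E.push) M' → A (E.pull.obj M') := by
    intro M' hM'
    rw [map_eq_unitProp E.adj A] at hM'
    exact hM'.1
  have h2b : ∀ M' N' : ModSite.Mod (SiteCmp.epsRing h O), (A.map E.push) M' → (A.map E.push) N' →
      Function.Bijective (fun φ : M' ⟶ N' => E.pull.map φ) := by
    intro M' N' _ hN'
    rw [map_eq_unitProp E.adj A] at hN'
    haveI := hN'.2
    exact bijective_map_of_isIso_unit E.adj M' N'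
  have h2c : ∀ M : ModSite.Mod O, A M → ∃ M' : ModSite.Mod (SiteCmp.epsRing h O),
      (A.map E.push) M' ∧ Nonempty (E.pull.obj M' ≅ M) :=
    fun M hM => ⟨E.push.obj M, A.prop_map_obj E.push hM, ⟨asIso (E.adj.counit.app M)⟩⟩
  have hA : ∀ V ∈ B, ∃ d : ℕ, ∀ T ∈ J V, ∃ (ι : Type u) (Y : ι → C) (g : ∀ i, Y i ⟶ V),
      (∀ i, T.arrows (g i)) ∧ Sieve.ofArrows Y g ∈ J V ∧
      ∀ (i : ι) (M : ModSite.Mod O), A M → ∀ k : ℕ, d < k →
        Subsingleton (Abelian.Ext.{u + 1} (S.P (Y i)) M k) := by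
    intro V _
    refine ⟨0, fun T hT => ?_⟩
    obtain ⟨ι, Y, g, hg, hcov, hYB⟩ := exists_family_in B hBJ V T hT
    exact ⟨ι, Y, g, hg, hcov, fun i M hM k hk => hExt (Y i) (hYB i) M hM k hk⟩
  have hA' : ∀ V ∈ B, ∃ d : ℕ, ∀ T ∈ J' V, ∃ (ι : Type u) (Y : ι → C) (g : ∀ i, Y i ⟶ V),
      (∀ i, T.arrows (g i)) ∧ Sieve.ofArrows Y g ∈ J' V ∧
      ∀ (i : ι) (M' : ModSite.Mod (SiteCmp.epsRing h O)), (A.map E.push) M' → ∀ k : ℕ, d < k →
        Subsingleton (Abelian.Ext.{u + 1} (S'.P (Y i)) M' k) := by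
    intro V _
    refine ⟨0, fun T hT => ?_⟩
    obtain ⟨ι, Y, g, hg, hcov, hYB⟩ := exists_family_in B h3 V T hT
    exact ⟨ι, Y, g, hg, hcov, fun i M' hM' k hk =>
      subsingleton_ext_of_map E.pull (SiteCmp.RpushD E) adj
        (ModSite.freeOn (SiteCmp.epsRing h O) (Y i)) M' (ModSite.freeOn O (E.fn.obj (Y i)))
        (pullFreeOnIso E (Y i)) k (hunit M' hM')
        (hExt (Y i) (hYB i) (E.pull.obj M') (h2a M' hM') k hk)⟩
  obtain ⟨hI, hII⟩ := equivalence_unbounded S S' E.pull (SiteCmp.RpushD E) adj A (A.map E.push)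
    h2a h2b h2c hunit B B hBJ hA h3 hA'
  exact ⟨hWS', hI, hII⟩

end Groth.Agent.S9071
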