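import Groth.Statements.S9074
import Groth.Agent.H67.SiteCmpE

set_option autoImplicit false
universe u
open CategoryTheory CategoryTheory.Limits Opposite
open SiteCmp

namespace Groth.Agent.S9074

/-- Setting (two topologies τ' coarser than τ on a category C, rendered as J' ≤ J with J the finer one;
for each object X the comparison morphism ε_X between the localised sites C_τ/X and C_τ'/X, whose
direct image ε_{X,*} regards a τ-sheaf as a τ'-sheaf): P is a class of arrows of C and for every X a
weak Serre subcategory A'_X of the abelian τ'-sheaves on C/X is given, such that (1) arrows of P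
admit all base changes and these stay in P; (2) restriction along any f : X → Y sends A'_Y into
A'_X; (3) members of A'_X satisfy the sheaf condition for τ; (4) for f : X → Y in P the higher
direct images R^i f_{τ',*} (right derived functors of the relocalisation pushforward on τ'-sheaves)
send A'_X into A'_Y for all i ≥ 0; (5) every τ-covering of any U is refined by a family obtained
from a τ'-covering {V_j → U}, single arrows W_j → V_j in P that are τ-coverings, and τ'-coverings
{W_jk → W_j}. Write A_X for the abelian τ-sheaves F on C/X with ε_{X,*}F in A'_X. Then for every X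
the subcategory A_X of the abelian τ-sheaves on C/X is a weak Serre subcategory. (The published
lemma also asserts that Rε_{X,*} is an equivalence from the bounded below derived category with
cohomology in A_X to that with cohomology in A'_X, with quasi-inverse ε_X^{-1}; that part is not
stated here.) -/
theorem result
    {C : Type u} [SmallCategory C] {J J' : GrothendieckTopology C} (h : J' ≤ J)
    (P : MorphismProperty C)
    (A' : ∀ X : C, ObjectProperty (Sheaf (J'.over X) AddCommGrpCat.{u})) [∀ X : C, WSerre.IsWeakSerre (A' X)]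
    (h1 : ∀ ⦃X Y : C⦄ (f : X ⟶ Y), P f → ∀ ⦃Y' : C⦄ (g : Y' ⟶ Y),
      ∃ (W : C) (p : W ⟶ Y') (q : W ⟶ X), IsPullback p q g f ∧ P p)
    (h2 : ∀ ⦃X Y : C⦄ (f : X ⟶ Y) (F' : Sheaf (J'.over Y) AddCommGrpCat.{u}), A' Y F' →
      A' X ((CohSite.push (J'.over Y) (J'.over X) (Over.map f)).obj F'))
    (h3 : ∀ (X : C) (F' : Sheaf (J'.over X) AddCommGrpCat.{u}), A' X F' → Presheaf.IsSheaf (J.over X) F'.obj)
    (h4 : ∀ ⦃X Y : C⦄ (f : X ⟶ Y)
      [((Over.map f).sheafPushforwardCocontinuous AddCommGrpCat.{u} (J'.over X) (J'.over Y)).Additive],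
      P f → ∀ (F' : Sheaf (J'.over X) AddCommGrpCat.{u}), A' X F' → ∀ i : ℕ,
        A' Y ((((Over.map f).sheafPushforwardCocontinuous AddCommGrpCat.{u} (J'.over X) (J'.over Y)).rightDerived i).obj F'))
    (h5 : ∀ (U : C) (S : Sieve U), S ∈ J U → ∃ (ι : Type u) (V : ι → C) (v : ∀ j, V j ⟶ U),
      Sieve.ofArrows V v ∈ J' U ∧ ∀ j, ∃ (W : C) (w : W ⟶ V j), P w ∧
        Sieve.ofArrows (fun _ : PUnit.{u + 1} => W) (fun _ => w) ∈ J (V j) ∧
        ∃ (κ : Type u) (Wk : κ → C) (wk : ∀ k, Wk k ⟶ W), Sieve.ofArrows Wk wk ∈ J' W ∧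
          ∀ k, S.arrows (wk k ≫ w ≫ v j))
    (X : C) :
    WSerre.IsWeakSerre ((A' X).inverseImage (SiteCmp.epsSh (SiteCmp.over_le h X) AddCommGrpCat.{u})) := by
  have S : Groth.Agent.H67.SiteCmpE.Sit h P A' := ⟨h1, h2, h3, h4, h5⟩
  have hV1 := Groth.Agent.H67.SiteCmpE.Vn_all S 1
  haveI := Groth.Agent.H67.SiteCmpB.preservesFiniteLimits_eps (SiteCmp.over_le h X)
  exact
    { exists_zero := by
        obtain ⟨Z₀, hZ₀, hP⟩ := (A' X).exists_prop_of_containsZero
        obtain ⟨Z₁, hZ₁⟩ := HasZeroObject.zero (C := Sheaf (J.over X) AddCommGrpCat.{u})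
        refine ⟨Z₁, hZ₁, ?_⟩
        show A' X ((SiteCmp.epsSh (SiteCmp.over_le h X) AddCommGrpCat.{u}).obj Z₁)
        exact (A' X).prop_of_iso (hZ₀.iso (Functor.map_isZero
          (SiteCmp.epsSh (SiteCmp.over_le h X) AddCommGrpCat.{u}) hZ₁)) hP
      kernels_le := by
        rintro _ ⟨f, k, hk, ⟨hX, hY⟩⟩
        show A' X ((SiteCmp.epsSh (SiteCmp.over_le h X) AddCommGrpCat.{u}).obj k.pt)
        have hker : A' X (kernel ((SiteCmp.epsSh (SiteCmp.over_le h X) AddCommGrpCat.{u}).map f)) :=
          (A' X).prop_kernel _ hX hY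
        exact (A' X).prop_of_iso
          ((PreservesKernel.iso (SiteCmp.epsSh (SiteCmp.over_le h X) AddCommGrpCat.{u}) f).symm ≪≫
            (SiteCmp.epsSh (SiteCmp.over_le h X) AddCommGrpCat.{u}).mapIso
              (IsLimit.conePointUniqueUpToIso hk (kernelIsKernel f)).symm) hker
      cokernels_le := by
        rintro _ ⟨f, k, hk, ⟨hX, hY⟩⟩
        show A' X ((SiteCmp.epsSh (SiteCmp.over_le h X) AddCommGrpCat.{u}).obj k.pt)
        have hcok : A' X (cokernel ((SiteCmp.epsSh (SiteCmp.over_le h X) AddCommGrpCat.{u}).map f)) :=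
          (A' X).prop_cokernel _ hX hY
        obtain ⟨e⟩ := (Groth.Agent.H67.SiteCmpD.eps_cokernel (SiteCmp.over_le h X) f
          (h3 X _ hcok)).2
        exact (A' X).prop_of_iso
          (e.symm ≪≫ (SiteCmp.epsSh (SiteCmp.over_le h X) AddCommGrpCat.{u}).mapIso
            (IsColimit.coconePointUniqueUpToIso hk (cokernelIsCokernel f)).symm) hcok
      prop_X₂_of_shortExact := by
        intro S' hS' h₁ h₃
        show A' X ((SiteCmp.epsSh (SiteCmp.over_le h X) AddCommGrpCat.{u}).obj S'.X₂)
        have hεS := Groth.Agent.H67.SiteCmpD.map_shortExact_of_isZero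
          (SiteCmp.epsSh (SiteCmp.over_le h X) AddCommGrpCat.{u}) hS' (hV1 X S'.X₁ h₁ 1 le_rfl le_rfl)
        exact (A' X).prop_X₂_of_shortExact hεS h₁ h₃ }

end Groth.Agent.S9074
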