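import Groth.Statements.S9075
import Groth.Agent.H67.SiteCmpA

set_option autoImplicit false
universe u
open CategoryTheory CategoryTheory.Limits Opposite
open SiteCmp

namespace Groth.Agent.S9075

/-- Setting (two topologies τ' coarser than τ on a category C, rendered as J' ≤ J with J the finer one;
for each object X the comparison morphism ε_X between the localised sites C_τ/X and C_τ'/X, whose
direct image ε_{X,*} regards a τ-sheaf as a τ'-sheaf): P is a class of arrows of C and for every X a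
weak Serre subcategory A'_X of the abelian τ'-sheaves on C/X is given, such that (1) arrows of P
admit all base changes and these stay in P; (2) restriction along any f : X → Y sends A'_Y into
A'_X; (3) members of A'_X satisfy the sheaf condition for τ; (4) for f : X → Y in P the higher
direct images R^i f_{τ',*} (right derived functors of the relocalisation pushforward on τ'-sheaves)
send A'_X into A'_Y for all i ≥ 0; (5) every τ-covering of any U is refined by a family obtained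
from a τ'-covering {V_j → U}, single arrows W_j → V_j in P that are τ-coverings, and τ'-coverings
{W_jk → W_j}. Write A_X for the abelian τ-sheaves F on C/X with ε_{X,*}F in A'_X. Let f : X → Y be
in P such that {X → Y} is a τ-covering, F' in A'_Y, n ≥ 0, and θ ∈ H^{n+1}_{τ'}(X, F') a class whose
two restrictions to X ×_Y X coincide. Then there is a τ'-covering {Y_i → Y} such that θ restricts to
zero in H^{n+1}_{τ'}(Y_i ×_Y X, F') for every i. Cohomology over an object Z → Y of C/Y is that of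
the τ'-sheaf F' on the localised site at that object; fibre products are expressed through pullback
squares. -/
theorem result
    {C : Type u} [SmallCategory C] {J J' : GrothendieckTopology C} (h : J' ≤ J)
    (P : MorphismProperty C)
    (A' : ∀ X : C, ObjectProperty (Sheaf (J'.over X) AddCommGrpCat.{u})) [∀ X : C, WSerre.IsWeakSerre (A' X)]
    (h1 : ∀ ⦃X Y : C⦄ (f : X ⟶ Y), P f → ∀ ⦃Y' : C⦄ (g : Y' ⟶ Y),
      ∃ (W : C) (p : W ⟶ Y') (q : W ⟶ X), IsPullback p q g f ∧ P p)
    (h2 : ∀ ⦃X Y : C⦄ (f : X ⟶ Y) (F' : Sheaf (J'.over Y) AddCommGrpCat.{u}), A' Y F' →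
      A' X ((CohSite.push (J'.over Y) (J'.over X) (Over.map f)).obj F'))
    (h3 : ∀ (X : C) (F' : Sheaf (J'.over X) AddCommGrpCat.{u}), A' X F' → Presheaf.IsSheaf (J.over X) F'.obj)
    (h4 : ∀ ⦃X Y : C⦄ (f : X ⟶ Y)
      [((Over.map f).sheafPushforwardCocontinuous AddCommGrpCat.{u} (J'.over X) (J'.over Y)).Additive],
      P f → ∀ (F' : Sheaf (J'.over X) AddCommGrpCat.{u}), A' X F' → ∀ i : ℕ,
        A' Y ((((Over.map f).sheafPushforwardCocontinuous AddCommGrpCat.{u} (J'.over X) (J'.over Y)).rightDerived i).obj F'))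
    (h5 : ∀ (U : C) (S : Sieve U), S ∈ J U → ∃ (ι : Type u) (V : ι → C) (v : ∀ j, V j ⟶ U),
      Sieve.ofArrows V v ∈ J' U ∧ ∀ j, ∃ (W : C) (w : W ⟶ V j), P w ∧
        Sieve.ofArrows (fun _ : PUnit.{u + 1} => W) (fun _ => w) ∈ J (V j) ∧
        ∃ (κ : Type u) (Wk : κ → C) (wk : ∀ k, Wk k ⟶ W), Sieve.ofArrows Wk wk ∈ J' W ∧
          ∀ k, S.arrows (wk k ≫ w ≫ v j))
    {X Y : C} (f : X ⟶ Y) (hf : P f) (hcov : Sieve.ofArrows (fun _ : PUnit.{u + 1} => X) (fun _ => f) ∈ J Y)
    (F' : Sheaf (J'.over Y) AddCommGrpCat.{u}) (hF' : A' Y F') (n : ℕ)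
    (θ : CohSite.HU F' (n + 1) (Over.mk f))
    (hθ : ∀ (W : C) (p q : W ⟶ X) (hW : IsPullback p q f f),
      CohSite.res F' (n + 1) (Over.homMk p rfl : Over.mk (p ≫ f) ⟶ Over.mk f) θ =
        CohSite.res F' (n + 1) (Over.homMk q hW.w.symm : Over.mk (p ≫ f) ⟶ Over.mk f) θ) :
    ∃ (ι : Type u) (Z : ι → C) (g : ∀ i, Z i ⟶ Y), Sieve.ofArrows Z g ∈ J' Y ∧
      ∀ (i : ι) (W : C) (p : W ⟶ Z i) (q : W ⟶ X), IsPullback p q (g i) f →
        CohSite.res F' (n + 1) (Over.homMk q rfl : Over.mk (q ≫ f) ⟶ Over.mk f) θ = 0 := by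
  haveI : HasPullbacksAlong f := fun {W} g => by
    obtain ⟨W', p, q, hpb, _⟩ := h1 f hf g
    exact hpb.hasPullback
  have hR := h4 f hf ((CohSite.push (J'.over Y) (J'.over X) (Over.map f)).obj F')
    (h2 f F' hF') (n + 1)
  have hRsh := h3 Y _ hR
  obtain ⟨e⟩ := Groth.Agent.H67.SiteCmpA.key_iso J' f F' (n + 1)
  have hsh : Presheaf.IsSheaf (J.over Y)
      ((presheafToSheaf (J'.over Y) AddCommGrpCat.{u}).obj
        (Groth.Agent.H67.SiteCmpA.Hpre J' f F' (n + 1))).obj :=
    (Presheaf.isSheaf_of_iso_iff ((sheafToPresheaf _ _).mapIso e)).1 hRsh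
  obtain ⟨S₀, hS₀, hz⟩ := Groth.Agent.H67.SiteCmpA.main (J := J) J' f F' n hcov hsh θ
    (hθ (pullback f f) (pullback.fst f f) (pullback.snd f f) (IsPullback.of_hasPullback f f))
  have hS' : Sieve.overEquiv (Over.mk (𝟙 Y)) S₀ ∈ J' Y := hS₀
  refine ⟨Σ Z : C, {g : Z ⟶ Y // (Sieve.overEquiv (Over.mk (𝟙 Y)) S₀).arrows g},
    fun i => i.1, fun i => i.2.1, ?_, ?_⟩
  · refine J'.superset_covering ?_ hS'
    intro Z g hg
    exact Sieve.ofArrows_mk _ _
      (⟨Z, g, hg⟩ : Σ Z : C, {g : Z ⟶ Y // (Sieve.overEquiv (Over.mk (𝟙 Y)) S₀).arrows g})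
  · rintro ⟨Z, g, hg⟩ W p q hpb
    have hg' : S₀.arrows (Over.homMk g : Over.mk (g ≫ (Over.mk (𝟙 Y)).hom) ⟶ Over.mk (𝟙 Y)) :=
      (Sieve.overEquiv_iff S₀ g).1 hg
    have h0 := hz _ hg'
    have hcond : p ≫ (Over.mk (g ≫ (Over.mk (𝟙 Y)).hom)).hom = q ≫ f := by
      show p ≫ (g ≫ 𝟙 Y) = q ≫ f
      rw [Category.comp_id]; exact hpb.w
    have hm : (Over.homMk q rfl : Over.mk (q ≫ f) ⟶ Over.mk f) =
        (Over.homMk (pullback.lift p q hcond) (by
          show pullback.lift p q hcond ≫ (pullback.snd _ f ≫ f) = q ≫ f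
          rw [pullback.lift_snd_assoc]) :
          Over.mk (q ≫ f) ⟶ (Over.pullback f ⋙ Over.map f).obj
            (Over.mk (g ≫ (Over.mk (𝟙 Y)).hom))) ≫
        Groth.Agent.H67.SiteCmpA.σ f (Over.mk (g ≫ (Over.mk (𝟙 Y)).hom)) := by
      apply Over.OverMorphism.ext
      show q = pullback.lift p q hcond ≫ pullback.snd _ f
      rw [pullback.lift_snd]
    rw [hm, Groth.Agent.H67.SiteCmpA.res_comp, h0, map_zero]

end Groth.Agent.S9075
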