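import Groth.Statements.S9089
-- import your own Groth.Agent.* helpers here

set_option autoImplicit false
universe u
open CategoryTheory Opposite
open ModSite

namespace Groth.Agent.S9089

theorem res_comp {C : Type u} [SmallCategory C] (J : GrothendieckTopology C)
    (O : Sheaf J CommRingCat.{u}) {U V W : C} (g : V ⟶ U) (k : W ⟶ V) (x : O.obj.obj (op U)) :
    (O.obj.map (k ≫ g).op).hom x = (O.obj.map k.op).hom ((O.obj.map g.op).hom x) := by
  simp

theorem aux {C : Type u} [SmallCategory C] (J : GrothendieckTopology C)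
    (O : Sheaf J CommRingCat.{u})
    (h1 : ∀ (U : C) (f : O.obj.obj (op U)), ∃ S ∈ J U, ∀ ⦃V : C⦄ (g : V ⟶ U), S g →
        IsUnit ((O.obj.map g.op).hom f) ∨ IsUnit ((O.obj.map g.op).hom (1 - f))) :
    ∀ (n : ℕ) (U : C) (f : Fin (n + 1) → O.obj.obj (op U)), Ideal.span (Set.range f) = ⊤ →
        ∃ S ∈ J U, ∀ ⦃V : C⦄ (g : V ⟶ U), S g → ∃ i, IsUnit ((O.obj.map g.op).hom (f i)) := by
  intro n
  induction n with
  | zero =>
    intro U f hf
    refine ⟨⊤, J.top_mem U, fun V g _ => ⟨0, ?_⟩⟩
    have : Set.range f = {f 0} := by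
      ext x
      constructor
      · rintro ⟨i, rfl⟩
        have : i = 0 := Fin.ext (by omega)
        rw [this]
        rfl
      · rintro rfl
        exact ⟨0, rfl⟩
    rw [this, Ideal.span_singleton_eq_top] at hf
    exact hf.map _
  | succ n ih =>
    intro U f hf
    have h1mem : (1 : O.obj.obj (op U)) ∈ Ideal.span (Set.range f) := by rw [hf]; trivial
    obtain ⟨a, ha⟩ := (Ideal.mem_span_range_iff_exists_fun).1 h1mem
    obtain ⟨S, hS, hSu⟩ := h1 U (a 0 * f 0)
    have key : ∀ ⦃V : C⦄ (g : V ⟶ U), S g → ∃ R ∈ J V, ∀ ⦃W : C⦄ (k : W ⟶ V), R k →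
        ∃ i, IsUnit ((O.obj.map (k ≫ g).op).hom (f i)) := by
      intro V g hg
      rcases hSu g hg with hu | hu
      · refine ⟨⊤, J.top_mem V, fun W k _ => ⟨0, ?_⟩⟩
        rw [res_comp]
        rw [map_mul] at hu
        exact (isUnit_of_mul_isUnit_right hu).map _
      · have hsum : (1 : O.obj.obj (op U)) - a 0 * f 0 = ∑ i : Fin (n + 1), a i.succ * f i.succ := by
          rw [← ha, Fin.sum_univ_succ]
          ring
        have hspan : Ideal.span (Set.range fun i : Fin (n + 1) => (O.obj.map g.op).hom (f i.succ)) = ⊤ := by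
          refine Ideal.eq_top_of_isUnit_mem _ ?_ hu
          rw [hsum, map_sum]
          refine Submodule.sum_mem _ (fun i _ => ?_)
          rw [map_mul]
          exact Ideal.mul_mem_left _ _ (Ideal.subset_span ⟨i, rfl⟩)
        obtain ⟨R, hR, hRu⟩ := ih V (fun i => (O.obj.map g.op).hom (f i.succ)) hspan
        refine ⟨R, hR, fun W k hk => ?_⟩
        obtain ⟨i, hi⟩ := hRu k hk
        exact ⟨i.succ, by rw [res_comp]; exact hi⟩
    choose R hR hRu using key
    refine ⟨Sieve.bind S (fun V g hg => R g hg), J.bind_covering hS (fun V g hg => hR g hg), ?_⟩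
    rintro W m ⟨V, k, g, hg, hk, rfl⟩
    exact hRu g hg k hk

/-- Part (1): ⇔ (2), for a ringed site (C, O) with C small and O a sheaf of commutative rings: the
following are equivalent. (1) For every object U and every section f of O over U there is a covering
sieve on U on each of whose arrows either f or 1 - f restricts to a unit. (2) For every object U,
every n ≥ 1 and all sections f₁, …, fₙ of O over U generating the unit ideal of O(U), there is a
covering sieve on U on each of whose arrows some fᵢ restricts to a unit. -/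
theorem result {C : Type u} [SmallCategory C] (J : GrothendieckTopology C)
    (O : Sheaf J CommRingCat.{u}) :
    (∀ (U : C) (f : O.obj.obj (op U)), ∃ S ∈ J U, ∀ ⦃V : C⦄ (g : V ⟶ U), S g →
        IsUnit ((O.obj.map g.op).hom f) ∨ IsUnit ((O.obj.map g.op).hom (1 - f))) ↔
    (∀ (U : C) (n : ℕ) (f : Fin n → O.obj.obj (op U)), 1 ≤ n → Ideal.span (Set.range f) = ⊤ →
        ∃ S ∈ J U, ∀ ⦃V : C⦄ (g : V ⟶ U), S g → ∃ i, IsUnit ((O.obj.map g.op).hom (f i))) := by
  constructor
  · intro h1 U n f hn hf
    obtain ⟨m, rfl⟩ : ∃ m, n = m + 1 := ⟨n - 1, by omega⟩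
    exact aux J O h1 m U f hf
  · intro h2 U f
    have hspan : Ideal.span (Set.range ![f, 1 - f]) = ⊤ := by
      rw [Ideal.eq_top_iff_one]
      have h01 : (1 : O.obj.obj (op U)) = f + (1 - f) := by ring
      have hA : f ∈ Ideal.span (Set.range ![f, 1 - f]) := Ideal.subset_span ⟨0, rfl⟩
      have hB : (1 - f) ∈ Ideal.span (Set.range ![f, 1 - f]) := Ideal.subset_span ⟨1, rfl⟩
      have := Ideal.add_mem _ hA hB
      rwa [← h01] at this
    obtain ⟨S, hS, hSu⟩ := h2 U 2 ![f, 1 - f] (by norm_num) hspan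
    refine ⟨S, hS, fun V g hg => ?_⟩
    obtain ⟨i, hi⟩ := hSu g hg
    fin_cases i
    · exact Or.inl hi
    · exact Or.inr hi

end Groth.Agent.S9089
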