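import Groth.Statements.S9091
import Mathlib.CategoryTheory.Sites.Point.Conservative
-- import your own Groth.Agent.* helpers here

set_option autoImplicit false
universe u
open CategoryTheory Opposite
open ModSite

namespace Groth.Agent.S9091

theorem exists_isUnit_of_isUnit_germ {C : Type u} [SmallCategory C] {J : GrothendieckTopology C}
    (O : Sheaf J CommRingCat.{u}) (p : GrothendieckTopology.Point.{u} J) (X : C)
    (x : p.fiber.obj X) (r : O.obj.obj (op X))
    (hr : IsUnit ((p.toPresheafFiber X x O.obj).hom r)) :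
    ∃ (Y : C) (g : Y ⟶ X) (y : p.fiber.obj Y), p.fiber.map g y = x ∧
      IsUnit ((O.obj.map g.op).hom r) := by
  obtain ⟨b, hb⟩ := hr.exists_right_inv
  obtain ⟨X', x', s, rfl⟩ := p.toPresheafFiber_jointly_surjective (P := O.obj) b
  let W := IsCofiltered.min (Functor.elementsMk p.fiber X x) (Functor.elementsMk p.fiber X' x')
  let gX := IsCofiltered.minToLeft (Functor.elementsMk p.fiber X x) (Functor.elementsMk p.fiber X' x')
  let gX' := IsCofiltered.minToRight (Functor.elementsMk p.fiber X x) (Functor.elementsMk p.fiber X' x')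
  have hX : (p.toPresheafFiber X x O.obj).hom r =
      (p.toPresheafFiber W.1 W.2 O.obj).hom ((O.obj.map gX.1.op).hom r) :=
    ((congrArg (fun t => (p.toPresheafFiber X t O.obj).hom r) gX.2).symm).trans
      (p.toPresheafFiber_w_apply gX.1 W.2 O.obj r).symm
  have hX' : (p.toPresheafFiber X' x' O.obj).hom s =
      (p.toPresheafFiber W.1 W.2 O.obj).hom ((O.obj.map gX'.1.op).hom s) :=
    ((congrArg (fun t => (p.toPresheafFiber X' t O.obj).hom s) gX'.2).symm).trans
      (p.toPresheafFiber_w_apply gX'.1 W.2 O.obj s).symm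
  rw [hX, hX', ← map_mul, ← map_one (p.toPresheafFiber W.1 W.2 O.obj).hom] at hb
  obtain ⟨Y, f, y, hy, hf⟩ := (p.toPresheafFiber_eq_iff' (P := O.obj) W.1 W.2 _ _).1 hb
  refine ⟨Y, f ≫ gX.1, y, ?_, ?_⟩
  · rw [Functor.map_comp_apply, hy]
    exact gX.2
  · have hf' : (O.obj.map f.op).hom ((O.obj.map gX.1.op).hom r * (O.obj.map gX'.1.op).hom s) =
        (O.obj.map f.op).hom 1 := hf
    rw [map_mul, map_one] at hf'
    have : (O.obj.map (f ≫ gX.1).op).hom r = (O.obj.map f.op).hom ((O.obj.map gX.1.op).hom r) := by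
      simp
    rw [this]
    exact IsUnit.of_mul_eq_one _ hf'

/-- Part (2): ⇒ (1) when the site has enough points, for a ringed site (C, O) with C small and O a sheaf
of commutative rings: if at every point p of the site the stalk O_p is the zero ring or is local,
then for every object U and every section f of O over U there is a covering sieve on U on each of
whose arrows either f or 1 - f restricts to a unit. -/
theorem result {C : Type u} [SmallCategory C] {J : GrothendieckTopology C}
    (O : Sheaf J CommRingCat.{u}) [GrothendieckTopology.HasEnoughPoints.{u} J]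
    (h : ∀ p : GrothendieckTopology.Point.{u} J, Subsingleton (ModSite.stalkRing p O) ∨ IsLocalRing (ModSite.stalkRing p O))
    (U : C) (f : O.obj.obj (op U)) :
    ∃ S ∈ J U, ∀ ⦃V : C⦄ (g : V ⟶ U), S g →
        IsUnit ((O.obj.map g.op).hom f) ∨ IsUnit ((O.obj.map g.op).hom (1 - f)) := by
  obtain ⟨P, hPs, hP⟩ := GrothendieckTopology.HasEnoughPoints.exists_objectProperty.{u} J
  let ι : Type u := Σ V : C, {g : V ⟶ U //
    IsUnit ((O.obj.map g.op).hom f) ∨ IsUnit ((O.obj.map g.op).hom (1 - f))}
  refine ⟨Sieve.ofArrows (fun i : ι => i.1) (fun i => i.2.1), ?_, ?_⟩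
  · rw [hP.jointly_reflect_ofArrows_mem_of_small]
    intro Φ x
    have key : IsUnit ((Φ.obj.toPresheafFiber U x O.obj).hom f) ∨
        IsUnit ((Φ.obj.toPresheafFiber U x O.obj).hom (1 - f)) := by
      rcases h Φ.obj with hs | hl
      · left
        have hs' : Subsingleton ↑(Φ.obj.presheafFiber.obj O.obj) := hs
        exact isUnit_of_subsingleton _
      · rw [map_sub, map_one]
        have hl' : IsLocalRing ↑(Φ.obj.presheafFiber.obj O.obj) := hl
        exact IsLocalRing.isUnit_or_isUnit_one_sub_self _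
    rcases key with hu | hu
    · obtain ⟨Y, g, y, hy, hg⟩ := exists_isUnit_of_isUnit_germ O Φ.obj U x f hu
      exact ⟨⟨Y, g, Or.inl hg⟩, y, hy⟩
    · obtain ⟨Y, g, y, hy, hg⟩ := exists_isUnit_of_isUnit_germ O Φ.obj U x (1 - f) hu
      exact ⟨⟨Y, g, Or.inr hg⟩, y, hy⟩
  · rintro V g ⟨W, k, _, ⟨i⟩, rfl⟩
    have hcomp : ∀ s : O.obj.obj (op U), (O.obj.map (k ≫ i.2.1).op).hom s =
        (O.obj.map k.op).hom ((O.obj.map i.2.1.op).hom s) := by
      intro s
      simp
    rw [hcomp, hcomp]
    rcases i.2.2 with hu | hu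
    · exact Or.inl (hu.map _)
    · exact Or.inr (hu.map _)

end Groth.Agent.S9091
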