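import Groth.Statements.S9097
import Mathlib.CategoryTheory.Sites.PreservesSheafification
import Mathlib.Algebra.Homology.ShortComplex.ExactFunctor
import Mathlib.CategoryTheory.Sites.Limits
import Mathlib.Algebra.Category.Grp.EpiMono
-- import your own Groth.Agent.* helpers here

set_option autoImplicit false
universe u
open CategoryTheory Opposite
open CohSite

namespace Groth.Agent.S9097

open CategoryTheory.Limits

theorem t1 {C : Type u} [SmallCategory C] (J : GrothendieckTopology C) :
    PreservesFiniteLimits (constantSheaf J AddCommGrpCat.{u}) := by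
  unfold constantSheaf
  have : PreservesFiniteLimits (Functor.const Cᵒᵖ : AddCommGrpCat.{u} ⥤ _) :=
    ⟨fun _ _ _ => inferInstance⟩
  exact comp_preservesFiniteLimits _ _

theorem t2 {C : Type u} [SmallCategory C] (J : GrothendieckTopology C) (U : C) :
    PreservesFiniteLimits ((sheafSections J AddCommGrpCat.{u}).obj (op U)) := by
  have : PreservesFiniteLimits
      (sheafToPresheaf J AddCommGrpCat.{u} ⋙ (evaluation _ _).obj (op U)) := by
    have : PreservesFiniteLimits ((evaluation Cᵒᵖ AddCommGrpCat.{u}).obj (op U)) :=
      ⟨fun _ _ _ => inferInstance⟩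
    have : PreservesFiniteLimits (sheafToPresheaf J AddCommGrpCat.{u}) :=
      ⟨fun _ _ _ => inferInstance⟩
    exact comp_preservesFiniteLimits _ _
  exact this

/-- sections of the constant sheaf functor send surjections to surjections -/
theorem surj {C : Type u} [SmallCategory C] (J : GrothendieckTopology C) (U : C)
    {B D : AddCommGrpCat.{u}} (g : B ⟶ D) (hg : Function.Surjective g) :
    Function.Surjective (((constantSheaf J AddCommGrpCat.{u}).map g).hom.app (op U)) := by
  let Fg := forget AddCommGrpCat.{u}
  let cS := constantSheaf J AddCommGrpCat.{u}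
  let cT := constantSheaf J (Type u)
  let e : cS ⋙ sheafCompose J Fg ≅ Fg ⋙ cT := constantCommuteCompose J Fg
  let σ' : Fg.obj D ⟶ Fg.obj B := TypeCat.ofHom (Function.surjInv hg)
  have hσ : σ' ≫ Fg.map g = 𝟙 _ := by
    ext x
    exact Function.surjInv_eq hg x
  let s : (sheafCompose J Fg).obj (cS.obj D) ⟶ (sheafCompose J Fg).obj (cS.obj B) :=
    e.hom.app D ≫ cT.map σ' ≫ e.inv.app B
  have hs : s ≫ (sheafCompose J Fg).map (cS.map g) = 𝟙 _ := by
    have nat := e.inv.naturality g
    simp only [Functor.comp_map] at nat
    simp only [s, Category.assoc]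
    rw [← nat, ← cT.map_comp_assoc, hσ, cT.map_id, Category.id_comp]
    exact e.hom_inv_id_app D
  intro x
  have h1 := congrArg (fun t => t.hom.app (op U)) hs
  have h2 := congrFun (congrArg (fun (t : _ ⟶ _) => (t : _ → _)) h1) x
  exact ⟨(s.hom.app (op U)) x, h2⟩

/-- If 0 → A → B → C → 0 is short exact in the category of abelian groups then, for every object U, the
sequence 0 → A̲(U) → B̲(U) → C̲(U) → 0 of sections of the constant abelian sheaves is short exact;
in other words the sequence of constant sheaves is exact even as a sequence of abelian presheaves.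
The instance binder on the sections-of-constant-sheaf functor (it preserves zero morphisms) always
holds and is only needed to form the complex. -/
theorem result {C : Type u} [SmallCategory C] (J : GrothendieckTopology C)
    (S : ShortComplex AddCommGrpCat.{u}) (hS : S.ShortExact) (U : C)
    [(constantSheaf J AddCommGrpCat.{u} ⋙ (sheafSections J AddCommGrpCat.{u}).obj (op U)).PreservesZeroMorphisms] :
    (S.map (constantSheaf J AddCommGrpCat.{u} ⋙ (sheafSections J AddCommGrpCat.{u}).obj (op U))).ShortExact := by
  have hlim : PreservesFiniteLimits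
      (constantSheaf J AddCommGrpCat.{u} ⋙ (sheafSections J AddCommGrpCat.{u}).obj (op U)) := by
    have := t1 J
    have := t2 J U
    exact comp_preservesFiniteLimits _ _
  have hadd : (constantSheaf J AddCommGrpCat.{u} ⋙
      (sheafSections J AddCommGrpCat.{u}).obj (op U)).Additive :=
    Functor.additive_of_preserves_binary_products _
  have h := (Functor.preservesFiniteLimits_iff_forall_exact_map_and_mono _).1 hlim S hS
  have hepi : Epi ((constantSheaf J AddCommGrpCat.{u} ⋙
      (sheafSections J AddCommGrpCat.{u}).obj (op U)).map S.g) := by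
    rw [AddCommGrpCat.epi_iff_surjective]
    exact surj J U S.g ((AddCommGrpCat.epi_iff_surjective _).1 hS.epi_g)
  exact { exact := h.1, mono_f := h.2, epi_g := hepi }

end Groth.Agent.S9097
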