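import Groth.Statements.S9108
import Mathlib.CategoryTheory.Adjunction.Triple
import Mathlib.CategoryTheory.Functor.KanExtension.Adjunction
-- import your own Groth.Agent.* helpers here

set_option autoImplicit false
universe u
open CategoryTheory
open CohSite

namespace Groth.Agent.S9108

/-- Let u : C ⥤ D be a functor between small sites which is cocontinuous, continuous (restriction along
u preserves sheaves, and u sends covering families to covering families) and fully faithful; let g
be the morphism of topoi attached to u, so that g⁻¹ is restriction along u, g_* its right adjoint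
and g_! its left adjoint on abelian sheaves. Then for every abelian sheaf F on C the canonical maps
F → g⁻¹g_!F (unit) and g⁻¹g_*F → F (counit) are isomorphisms. -/
theorem result {C D : Type u} [SmallCategory C] [SmallCategory D]
    (J : GrothendieckTopology C) (K : GrothendieckTopology D) (u : C ⥤ D)
    [u.IsCocontinuous J K] [u.IsContinuous J K] (hu : CoverPreserving J K u) [u.Full] [u.Faithful]
    (F : Sheaf J AddCommGrpCat.{u}) :
    IsIso ((u.sheafAdjunctionContinuous AddCommGrpCat.{u} J K).unit.app F) ∧
      IsIso ((u.sheafAdjunctionCocontinuous AddCommGrpCat.{u} J K).counit.app F) := by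
  let t : Adjunction.Triple (u.sheafPullback AddCommGrpCat.{u} J K)
      (u.sheafPushforwardContinuous AddCommGrpCat.{u} J K)
      (u.sheafPushforwardCocontinuous AddCommGrpCat.{u} J K) :=
    ⟨u.sheafAdjunctionContinuous AddCommGrpCat.{u} J K,
      u.sheafAdjunctionCocontinuous AddCommGrpCat.{u} J K⟩
  have hcounit : IsIso t.adj₂.counit := by
    apply +allowSynthFailures NatIso.isIso_of_isIso_app
    intro G
    have h1 : IsIso ((sheafToPresheaf J AddCommGrpCat.{u}).map
        ((u.sheafAdjunctionCocontinuous AddCommGrpCat.{u} J K).counit.app G)) := by
      change IsIso ((u.sheafAdjunctionCocontinuous AddCommGrpCat.{u} J K).counit.app G).hom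
      rw [Functor.sheafAdjunctionCocontinuous_counit_app_hom]
      have h0 : IsIso ((u.op.ranAdjunction AddCommGrpCat.{u}).counit.app G.obj) := inferInstance
      exact h0
    exact isIso_of_reflects_iso _ (sheafToPresheaf J AddCommGrpCat.{u})
  have hunit : IsIso t.adj₁.unit := t.isIso_unit_iff_isIso_counit.2 hcounit
  exact ⟨inferInstance, inferInstance⟩

end Groth.Agent.S9108
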