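import Groth.Statements.S9109
import Mathlib.Algebra.Category.Grp.AB
import Mathlib.Algebra.Homology.ShortComplex.ExactFunctor
-- import your own Groth.Agent.* helpers here

set_option autoImplicit false
universe u
open CategoryTheory CategoryTheory.Limits
open CohSite

namespace Groth.Agent.S9109

theorem epi_piMap {α : Type u} {X Y : α → AddCommGrpCat.{u}} (f : ∀ a, X a ⟶ Y a)
    [∀ a, Epi (f a)] : Epi (Limits.Pi.map f) := by
  have h : Epi (Discrete.natTrans (fun i : Discrete α => f i.as) :
      Discrete.functor X ⟶ Discrete.functor Y) := by
    apply +allowSynthFailures NatTrans.epi_of_epi_app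
    intro i
    dsimp
    infer_instance
  have : Limits.Pi.map f = (lim (J := Discrete α) (C := AddCommGrpCat.{u})).map
      (Discrete.natTrans (fun i : Discrete α => f i.as)) := rfl
  rw [this]
  infer_instance

/-- Part (1): on a small site (C, J) with a point p: the skyscraper functor p_* from abelian groups to
abelian sheaves on C (right adjoint to the stalk functor at p; its value on A is the sheaf U ↦ ∏_{x
∈ p⁻¹U} A) is exact. As a right adjoint it preserves limits; the statement here is that it also
preserves finite colimits. -/
theorem result {C : Type u} [SmallCategory C] {J : GrothendieckTopology C}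
    (p : GrothendieckTopology.Point.{u} J) :
    PreservesFiniteColimits (p.skyscraperSheafFunctor (A := AddCommGrpCat.{u})) := by
  have hlim : PreservesLimits (p.skyscraperSheafFunctor (A := AddCommGrpCat.{u})) :=
    p.skyscraperSheafAdjunction.rightAdjoint_preservesLimits
  have hadd : (p.skyscraperSheafFunctor (A := AddCommGrpCat.{u})).Additive :=
    Functor.additive_of_preserves_binary_products _
  rw [Functor.preservesFiniteColimits_iff_forall_exact_map_and_epi]
  intro S hS
  refine ⟨hS.exact.map_of_mono_of_preservesKernel _ hS.mono_f inferInstance, ?_⟩
  have : Epi S.g := hS.epi_g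
  apply +allowSynthFailures Sheaf.Hom.epi_of_presheaf_epi
  apply +allowSynthFailures NatTrans.epi_of_epi_app
  intro X
  exact epi_piMap (fun _ => S.g)

end Groth.Agent.S9109
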