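import Groth.Statements.S9110
import Mathlib.RingTheory.Flat.CategoryTheory
import Mathlib.Algebra.Category.ModuleCat.Monoidal.Closed
-- import your own Groth.Agent.* helpers here

set_option autoImplicit false
universe u
open CategoryTheory CategoryTheory.Limits
open ModSite

namespace Groth.Agent.S9110

open MonoidalCategory in
/-- evaluation commutes with tensoring on the right -/
noncomputable def evalIso {C : Type u} [SmallCategory C] (O : Cᵒᵖ ⥤ CommRingCat.{u})
    (F : PresheafOfModules.{u} (O ⋙ forget₂ CommRingCat.{u} RingCat.{u})) (X : Cᵒᵖ) :
    tensorRight F ⋙ PresheafOfModules.evaluation _ X ≅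
      PresheafOfModules.evaluation _ X ⋙ tensorRight (C := ModuleCat.{u} (O.obj X)) (F.obj X) :=
  NatIso.ofComponents (fun G => Iso.refl _) (by
    intro G G' f
    simp only [Functor.comp_obj, Functor.comp_map, Iso.refl_hom]
    rfl)

theorem tensorRight_preservesFiniteColimits (R : CommRingCat.{u}) (M : ModuleCat.{u} R) :
    PreservesFiniteColimits (MonoidalCategory.tensorRight M) := by
  have : PreservesColimits (MonoidalCategory.tensorRight M) :=
    preservesColimits_of_natIso (BraidedCategory.tensorLeftIsoTensorRight M)
  infer_instance

/-- Let C be a small category, O a presheaf of commutative rings on C and F a presheaf of O-modules such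
that each F(U) is a flat O(U)-module. Then F is flat as a presheaf of modules, i.e. the functor G ↦
G ⊗_{p,O} F given by the sectionwise tensor product of presheaves of modules is exact (preserves
finite limits and finite colimits). -/
theorem result {C : Type u} [SmallCategory C] (O : Cᵒᵖ ⥤ CommRingCat.{u})
    (F : PresheafOfModules.{u} (O ⋙ forget₂ CommRingCat.{u} RingCat.{u}))
    (hF : ∀ X : Cᵒᵖ, Module.Flat (O.obj X) (F.obj X)) :
    PreservesFiniteLimits (MonoidalCategory.tensorRight F) ∧ PreservesFiniteColimits (MonoidalCategory.tensorRight F) := by
  constructor
  · constructor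
    intro J _ _
    constructor
    intro K
    constructor
    intro c hc
    constructor
    apply PresheafOfModules.evaluationJointlyReflectsLimits
    intro X
    have h0 : PreservesFiniteLimits
        (MonoidalCategory.tensorRight (C := ModuleCat.{u} (O.obj X)) (F.obj X)) :=
      (Module.Flat.iff_preservesFiniteLimits_tensorRight (R := O.obj X) (F.obj X)).1 (hF X)
    have h1 : PreservesLimit K (PresheafOfModules.evaluation _ X ⋙
        MonoidalCategory.tensorRight (C := ModuleCat.{u} (O.obj X)) (F.obj X)) :=
      comp_preservesLimit _ _
    have h2 : PreservesLimit K (MonoidalCategory.tensorRight F ⋙ PresheafOfModules.evaluation _ X) :=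
      preservesLimit_of_natIso K (evalIso O F X).symm
    exact isLimitOfPreserves (MonoidalCategory.tensorRight F ⋙ PresheafOfModules.evaluation _ X) hc
  · constructor
    intro J _ _
    constructor
    intro K
    constructor
    intro c hc
    constructor
    apply PresheafOfModules.evaluationJointlyReflectsColimits
    intro X
    have h0 := tensorRight_preservesFiniteColimits (O.obj X) (F.obj X)
    have h1 : PreservesColimit K (PresheafOfModules.evaluation _ X ⋙
        MonoidalCategory.tensorRight (C := ModuleCat.{u} (O.obj X)) (F.obj X)) :=
      comp_preservesColimit _ _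
    have h2 : PreservesColimit K (MonoidalCategory.tensorRight F ⋙ PresheafOfModules.evaluation _ X) :=
      preservesColimit_of_natIso K (evalIso O F X).symm
    exact isColimitOfPreserves (MonoidalCategory.tensorRight F ⋙ PresheafOfModules.evaluation _ X) hc

end Groth.Agent.S9110
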