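import Groth.Statements.S9115
import Groth.Agent.H92.FreeOnQc

set_option autoImplicit false
universe u
open CategoryTheory CategoryTheory.Limits Opposite
open ModSite

namespace Groth.Agent.S9115

/-- Let (C, O) be a small ringed site with O commutative and B a set of objects of C such that every
object has a covering family by members of B and each member of B is quasi-compact (its sheaf h_U^#
is a quasi-compact object of the topos). If F and G are O-modules of the form Coker(⊕_{j≤m}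
j_{V_j!}O_{V_j} → ⊕_{i≤n} j_{U_i!}O_{U_i}) with finitely many Uᵢ, Vⱼ in B, then so is the cokernel
of any morphism F → G. -/
theorem result {C : Type u} [SmallCategory C] {J : GrothendieckTopology C}
    (O : Sheaf J CommRingCat.{u}) (B : Set C)
    (hB₁ : ∀ X : C, ∃ (κ : Type u) (Y : κ → C) (g : ∀ k, Y k ⟶ X), Sieve.ofArrows Y g ∈ J X ∧ ∀ k, Y k ∈ B)
    (hB₂ : ∀ U ∈ B, CohCx.IsQcObject ((presheafToSheaf J (Type u)).obj (yoneda.obj U))) (F G : ModSite.Mod O) (α : F ⟶ G)
    (hF : (∃ (m' n' : ℕ) (V' : Fin m' → C) (U' : Fin n' → C)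
        (ψ : (∐ fun j => ModSite.freeOn O (V' j)) ⟶ ∐ fun i => ModSite.freeOn O (U' i)),
        (∀ j, V' j ∈ B) ∧ (∀ i, U' i ∈ B) ∧ Nonempty (F ≅ cokernel ψ)))
    (hG : (∃ (m' n' : ℕ) (V' : Fin m' → C) (U' : Fin n' → C)
        (ψ : (∐ fun j => ModSite.freeOn O (V' j)) ⟶ ∐ fun i => ModSite.freeOn O (U' i)),
        (∀ j, V' j ∈ B) ∧ (∀ i, U' i ∈ B) ∧ Nonempty (G ≅ cokernel ψ))) :
    (∃ (m' n' : ℕ) (V' : Fin m' → C) (U' : Fin n' → C)
        (ψ : (∐ fun j => ModSite.freeOn O (V' j)) ⟶ ∐ fun i => ModSite.freeOn O (U' i)),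
        (∀ j, V' j ∈ B) ∧ (∀ i, U' i ∈ B) ∧ Nonempty (cokernel α ≅ cokernel ψ)) := by
  classical
  obtain ⟨mF, nF, VF, UF, ψF, hVF, hUF, ⟨iF⟩⟩ := hF
  obtain ⟨mG, nG, VG, UG, ψG, hVG, hUG, ⟨iG⟩⟩ := hG
  let p : (∐ fun i => ModSite.freeOn O (UF i)) ⟶ F := cokernel.π ψF ≫ iF.inv
  let q : (∐ fun i => ModSite.freeOn O (UG i)) ⟶ G := cokernel.π ψG ≫ iG.inv
  haveI : Epi p := epi_comp _ _
  haveI : Epi q := epi_comp _ _
  have hl := fun i : Fin nF => Groth.Agent.H92.FreeOnQc.exists_finite_lift O B hB₁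
    (hB₂ (UF i) (hUF i)) q (Sigma.ι (fun i => ModSite.freeOn O (UF i)) i ≫ p ≫ α)
  choose n W f β hWB hβ hext using hl
  let T := Fin mG ⊕ (Σ i : Fin nF, Fin (n i))
  let e : T ≃ Fin (Fintype.card T) := Fintype.equivFin T
  let VT : T → C := Sum.elim VG (fun x => W x.1 x.2)
  let c' : ∀ s : T, ModSite.freeOn O (VT s) ⟶ ∐ fun i => ModSite.freeOn O (UG i) := fun s =>
    Sum.rec (motive := fun s => ModSite.freeOn O (VT s) ⟶ ∐ fun i => ModSite.freeOn O (UG i))
      (fun j => Sigma.ι (fun j => ModSite.freeOn O (VG j)) j ≫ ψG) (fun x => β x.1 x.2) s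
  let ρ : (∐ fun k : Fin (Fintype.card T) => ModSite.freeOn O (VT (e.symm k))) ⟶
      ∐ fun i => ModSite.freeOn O (UG i) := Sigma.desc (fun k => c' (e.symm k))
  have hVT : ∀ s : T, VT s ∈ B := by
    rintro (j | x)
    · exact hVG j
    · exact hWB x.1 x.2
  refine ⟨Fintype.card T, nG, fun k => VT (e.symm k), UG, ρ, fun k => hVT _, hUG, ?_⟩
  apply Groth.Agent.H92.FreeOnQc.nonempty_cokernel_iso q α ρ
  · have hc : ∀ s : T, c' s ≫ q ≫ cokernel.π α = 0 := by
      rintro (j | x)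
      · show (Sigma.ι (fun j => ModSite.freeOn O (VG j)) j ≫ ψG) ≫ (cokernel.π ψG ≫ iG.inv) ≫
          cokernel.π α = 0
        simp only [Category.assoc, cokernel.condition_assoc, zero_comp, comp_zero]
      · show β x.1 x.2 ≫ q ≫ cokernel.π α = 0
        rw [← Category.assoc, hβ]
        simp only [Category.assoc, cokernel.condition, comp_zero]
    apply Sigma.hom_ext
    intro k
    rw [Sigma.ι_desc_assoc, comp_zero]
    exact hc _
  · intro Z h hh
    have hs : ∀ s : T, c' s ≫ h = 0 := by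
      intro s
      obtain ⟨k, rfl⟩ := e.symm.surjective s
      have h1 := Sigma.ι (fun k : Fin (Fintype.card T) => ModSite.freeOn O (VT (e.symm k))) k ≫= hh
      rw [Sigma.ι_desc_assoc, comp_zero] at h1
      exact h1
    have h1 : ψG ≫ h = 0 := by
      apply Sigma.hom_ext
      intro j
      rw [comp_zero, ← Category.assoc]
      exact hs (Sum.inl j)
    refine ⟨iG.hom ≫ cokernel.desc ψG h h1, ?_, ?_⟩
    · show (cokernel.π ψG ≫ iG.inv) ≫ iG.hom ≫ cokernel.desc ψG h h1 = h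
      simp only [Category.assoc, Iso.inv_hom_id_assoc, cokernel.π_desc]
    · rw [← cancel_epi p]
      apply Sigma.hom_ext
      intro i
      rw [comp_zero, comp_zero]
      have h2 := hext i ((Sigma.ι (fun i => ModSite.freeOn O (UF i)) i ≫ p ≫ α) ≫
        iG.hom ≫ cokernel.desc ψG h h1) 0 (fun k => by
          rw [comp_zero, ← Category.assoc, ← hβ i k]
          have h3 : q ≫ iG.hom ≫ cokernel.desc ψG h h1 = h := by
            show (cokernel.π ψG ≫ iG.inv) ≫ iG.hom ≫ cokernel.desc ψG h h1 = h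
            simp only [Category.assoc, Iso.inv_hom_id_assoc, cokernel.π_desc]
          rw [Category.assoc, h3]
          exact hs (Sum.inr ⟨i, k⟩))
      simpa only [Category.assoc] using h2

end Groth.Agent.S9115
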