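import Groth.Statements.S9121
import Mathlib.Algebra.Homology.ShortComplex.ExactFunctor
import Mathlib.CategoryTheory.Sites.EpiMono
import Mathlib.CategoryTheory.Sites.LocallySurjective
-- import your own Groth.Agent.* helpers here

set_option autoImplicit false
universe u
open CategoryTheory CategoryTheory.Limits
open CohSite

namespace Groth.Agent.S9121

/-- Part (1): for the morphism of topoi f : Sh(C) → Sh(D) attached to a continuous functor u : D ⥤ C
between small sites whose induced pullback of sheaves of sets is exact (f_* is restriction along u):
if f_* transforms epimorphisms of sheaves of sets into epimorphisms, then f_* on abelian sheaves is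
exact; being a right adjoint it preserves finite limits, and the statement is that it also preserves
finite colimits. -/
theorem result {C D : Type u} [SmallCategory C] [SmallCategory D]
    (J : GrothendieckTopology C) (K : GrothendieckTopology D) (u : D ⥤ C) [u.IsContinuous K J]
    [PreservesFiniteLimits (u.sheafPullback (Type u) K J)]
    [(u.sheafPushforwardContinuous (Type u) K J).PreservesEpimorphisms] :
    PreservesFiniteColimits (u.sheafPushforwardContinuous AddCommGrpCat.{u} K J) := by
  have hlim : PreservesLimits (u.sheafPushforwardContinuous AddCommGrpCat.{u} K J) :=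
    (u.sheafAdjunctionContinuous AddCommGrpCat.{u} K J).rightAdjoint_preservesLimits
  have hadd : (u.sheafPushforwardContinuous AddCommGrpCat.{u} K J).Additive :=
    Functor.additive_of_preserves_binary_products _
  rw [Functor.preservesFiniteColimits_iff_forall_exact_map_and_epi]
  intro S hS
  refine ⟨hS.exact.map_of_mono_of_preservesKernel _ hS.mono_f inferInstance, ?_⟩
  have hepi : Epi S.g := hS.epi_g
  have h1 : Sheaf.IsLocallySurjective S.g := (Sheaf.isLocallySurjective_iff_epi' _ S.g).2 hepi
  have h2 : Sheaf.IsLocallySurjective ((sheafCompose J (forget AddCommGrpCat.{u})).map S.g) :=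
    inferInstance
  have h3 : Epi ((sheafCompose J (forget AddCommGrpCat.{u})).map S.g) :=
    (Sheaf.isLocallySurjective_iff_epi _).1 h2
  have h4 : Epi ((u.sheafPushforwardContinuous (Type u) K J).map
      ((sheafCompose J (forget AddCommGrpCat.{u})).map S.g)) := inferInstance
  have h5 := (Sheaf.isLocallySurjective_iff_epi _).2 h4
  have h6 : Sheaf.IsLocallySurjective
      ((u.sheafPushforwardContinuous AddCommGrpCat.{u} K J).map S.g) := by
    rw [Sheaf.IsLocallySurjective, Presheaf.isLocallySurjective_iff_whisker_forget]
    exact h5
  infer_instance

end Groth.Agent.S9121
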