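import Groth.Statements.S9130
import Mathlib
import Groth.Agent.H46.FibreHt1

set_option autoImplicit false
set_option linter.style.haveILetI false
universe u
open CAlg

namespace Groth.Agent.S9130

/-- Let A ⊆ B be domains with B of finite type over A and A Noetherian, and assume every element of B is
algebraic over A. For a height-one prime p of A, only finitely many primes of B lie over p and each
of them has height one. (The published statement assumes that Frac(B) is finite over Frac(A); this
row assumes B algebraic over A, which is equivalent for a finite type extension of domains.) -/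
theorem result (A B : Type u) [CommRing A] [IsDomain A]
    [IsNoetherianRing A] [CommRing B] [IsDomain B] [Algebra A B] [FaithfulSMul A B]
    [Algebra.FiniteType A B] [Algebra.IsAlgebraic A B] (p : Ideal A) [p.IsPrime]
    (hp : p.height = 1) :
    (p.primesOver B).Finite ∧ ∀ q ∈ p.primesOver B, q.height = 1 := by
  classical
  haveI : IsNoetherianRing B := Algebra.FiniteType.isNoetherianRing A B
  have hinjAB : Function.Injective (algebraMap A B) := FaithfulSMul.algebraMap_injective A B
  have hp0 : p ≠ ⊥ := by
    intro h
    rw [h, Ideal.height_bot] at hp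
    exact zero_ne_one hp
  -- key: nonzero primes below a prime over p are equal to it
  have key : ∀ q : Ideal B, q.IsPrime → q.LiesOver p → ∀ q' : Ideal B, q'.IsPrime → q' ≤ q →
      q' ≠ ⊥ → q' = q := by
    intro q hqp hqo q' hq'p hle hne
    have hdim := Groth.Agent.H46.FH.dimLEOne_of_loc A B (Localization.AtPrime p)
      (Localization (Algebra.algebraMapSubmonoid B p.primeCompl)) p hp
    have hM : Algebra.algebraMapSubmonoid B p.primeCompl ≤ nonZeroDivisors B := by
      rintro _ ⟨a, ha, rfl⟩
      apply mem_nonZeroDivisors_of_ne_zero
      intro h0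
      apply ha
      have : a = 0 := hinjAB (by rw [h0, map_zero])
      rw [this]; exact p.zero_mem
    have hdq : Disjoint (Algebra.algebraMapSubmonoid B p.primeCompl : Set B) (q : Set B) := by
      rw [Set.disjoint_left]
      rintro _ ⟨a, ha, rfl⟩ haq
      apply ha
      rw [hqo.over]
      exact haq
    have hdq' : Disjoint (Algebra.algebraMapSubmonoid B p.primeCompl : Set B) (q' : Set B) :=
      Set.disjoint_of_subset_right hle hdq
    set Bp := Localization (Algebra.algebraMapSubmonoid B p.primeCompl) with hBp
    have hQp := IsLocalization.isPrime_of_isPrime_disjoint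
      (Algebra.algebraMapSubmonoid B p.primeCompl) Bp q hqp hdq
    have hQ'p := IsLocalization.isPrime_of_isPrime_disjoint
      (Algebra.algebraMapSubmonoid B p.primeCompl) Bp q' hq'p hdq'
    have hcq := IsLocalization.under_map_of_isPrime_disjoint
      (Algebra.algebraMapSubmonoid B p.primeCompl) Bp hqp hdq
    have hcq' := IsLocalization.under_map_of_isPrime_disjoint
      (Algebra.algebraMapSubmonoid B p.primeCompl) Bp hq'p hdq'
    have hQ'0 : q'.map (algebraMap B Bp) ≠ ⊥ := by
      intro h0
      apply hne
      rw [← hcq', h0]
      exact Ideal.comap_bot_of_injective _ (IsLocalization.injective Bp hM)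
    have hmax := hdim.maximalOfPrime hQ'0 hQ'p
    have heq : q'.map (algebraMap B Bp) = q.map (algebraMap B Bp) :=
      hmax.eq_of_le hQp.ne_top (Ideal.map_mono hle)
    rw [← hcq', heq, hcq]
  have hht : ∀ q ∈ p.primesOver B, q.height = 1 := by
    rintro q ⟨hqp, hqo⟩
    apply le_antisymm
    · have h1 : q.height ≤ ((1 : ℕ) : ℕ∞) := by
        rw [Ideal.height_le_iff]
        intro q' hq' hlt
        have : q' = ⊥ := by
          by_contra hne
          exact hlt.ne (key q hqp hqo q' hq' hlt.le hne)
        rw [this, Ideal.height_bot]
        exact_mod_cast zero_lt_one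
      exact_mod_cast h1
    · rw [Order.one_le_iff_pos, pos_iff_ne_zero, Ne, Ideal.height_eq_zero_iff_eq_bot]
      intro h
      apply hp0
      rw [hqo.over, h]
      exact Ideal.comap_bot_of_injective _ hinjAB
  refine ⟨?_, hht⟩
  apply Set.Finite.subset
    (Ideal.finite_minimalPrimes_of_isNoetherianRing B (p.map (algebraMap A B)))
  rintro q ⟨hqp, hqo⟩
  have hpq : p.map (algebraMap A B) ≤ q := by
    rw [Ideal.map_le_iff_le_comap]
    exact hqo.over.le
  refine ⟨⟨hqp, hpq⟩, ?_⟩
  rintro q' ⟨hq'p, hq'le⟩ hq'q
  have hq'0 : q' ≠ ⊥ := by
    intro h0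
    apply hp0
    rw [h0, le_bot_iff, Ideal.map_eq_bot_iff_of_injective hinjAB] at hq'le
    exact hq'le
  exact (key q hqp hqo q' hq'p hq'q hq'0).ge

end Groth.Agent.S9130
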