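import Groth.Statements.S9131
import Groth.Agent.H99.ComplProj

set_option autoImplicit false
universe u
open CAlg

namespace Groth.Agent.S9131

open TensorProduct in
theorem lTensor_rTensor_comm {R : Type u} [CommRing R] {Q Q' X Y : Type u} [AddCommGroup Q]
    [Module R Q] [AddCommGroup Q'] [Module R Q'] [AddCommGroup X] [Module R X] [AddCommGroup Y]
    [Module R Y] (i : Q →ₗ[R] Q') (φ : X →ₗ[R] Y) (z : Q ⊗[R] X) :
    φ.lTensor Q' (i.rTensor X z) = i.rTensor Y (φ.lTensor Q z) :=
  (LinearMap.congr_fun (LinearMap.lTensor_comp_rTensor _ i φ) z).trans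
    (LinearMap.congr_fun (LinearMap.rTensor_comp_lTensor _ i φ) z).symm

open TensorProduct in
/-- `Tor₁(R/J, M) = 0` for flat `M`, in elementary form. -/
theorem lTensor_quot_injective {R : Type u} [CommRing R] {K P M : Type u} [AddCommGroup K]
    [Module R K] [AddCommGroup P] [Module R P] [AddCommGroup M] [Module R M]
    (f : K →ₗ[R] P) (g : P →ₗ[R] M) (hf : Function.Injective f) (hg : Function.Surjective g)
    (hfg : Function.Exact f g) [Module.Flat R M] (J : Ideal R) :
    Function.Injective (f.lTensor (R ⧸ J)) := by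
  have hexact : Function.Exact (Submodule.subtype J) ((Ideal.Quotient.mkₐ R J).toLinearMap) := by
    intro b
    constructor
    · intro hb
      have hb' : b ∈ J := Ideal.Quotient.eq_zero_iff_mem.mp hb
      exact ⟨⟨b, hb'⟩, rfl⟩
    · rintro ⟨y, rfl⟩
      exact Ideal.Quotient.eq_zero_iff_mem.mpr y.2
  have hsurj : Function.Surjective ((Ideal.Quotient.mkₐ R J).toLinearMap) :=
    Ideal.Quotient.mk_surjective
  have rowK := rTensor_exact K hexact hsurj
  have rowP := rTensor_exact P hexact hsurj
  have surK := LinearMap.rTensor_surjective K hsurj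
  have colJ := lTensor_exact J hfg hg
  have injR : Function.Injective (f.lTensor R) :=
    Module.Flat.lTensor_preserves_injective_linearMap (M := R) f hf
  have injM : Function.Injective ((Submodule.subtype J).rTensor M) :=
    Module.Flat.rTensor_preserves_injective_linearMap (M := M) (Submodule.subtype J)
      (Submodule.injective_subtype J)
  rw [injective_iff_map_eq_zero]
  intro z hz
  obtain ⟨z₁, rfl⟩ := surK z
  have h1 : ((Ideal.Quotient.mkₐ R J).toLinearMap).rTensor P (f.lTensor R z₁) = 0 := by
    rw [← lTensor_rTensor_comm]; exact hz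
  obtain ⟨v, hv⟩ := (rowP _).mp h1
  have h2 : g.lTensor J v = 0 := by
    apply injM
    rw [map_zero, ← lTensor_rTensor_comm, hv, ← LinearMap.comp_apply, ← LinearMap.lTensor_comp,
      hfg.linearMap_comp_eq_zero, LinearMap.lTensor_zero, LinearMap.zero_apply]
  obtain ⟨v', rfl⟩ := (colJ v).mp h2
  have h3 : z₁ = (Submodule.subtype J).rTensor K v' := by
    apply injR
    rw [lTensor_rTensor_comm, hv]
  rw [h3]
  exact (rowK _).mpr ⟨v', rfl⟩

theorem mem_smul_top_of_map_mem {R : Type u} [CommRing R] {K P M : Type u} [AddCommGroup K]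
    [Module R K] [AddCommGroup P] [Module R P] [AddCommGroup M] [Module R M]
    (f : K →ₗ[R] P) (g : P →ₗ[R] M) (hf : Function.Injective f) (hg : Function.Surjective g)
    (hfg : Function.Exact f g) [Module.Flat R M] (J : Ideal R) (k : K)
    (hk : f k ∈ (J • ⊤ : Submodule R P)) : k ∈ (J • ⊤ : Submodule R K) := by
  apply (Groth.Agent.H99.ComplProj.one_tmul_eq_zero_iff J k).mp
  apply lTensor_quot_injective f g hf hg hfg J
  rw [LinearMap.lTensor_tmul, map_zero]
  exact (Groth.Agent.H99.ComplProj.one_tmul_eq_zero_iff J (f k)).mpr hk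

theorem exists_sub_mem {R : Type u} [CommRing R] {K P M : Type u} [AddCommGroup K]
    [Module R K] [AddCommGroup P] [Module R P] [AddCommGroup M] [Module R M]
    (f : K →ₗ[R] P) (g : P →ₗ[R] M) (hg : Function.Surjective g)
    (hfg : Function.Exact f g) (J : Ideal R) (p : P)
    (hp : g p ∈ (J • ⊤ : Submodule R M)) : ∃ k, p - f k ∈ (J • ⊤ : Submodule R P) := by
  have h1 : (J • ⊤ : Submodule R M) = (J • ⊤ : Submodule R P).map g := by
    rw [Submodule.map_smul'', Submodule.map_top, LinearMap.range_eq_top.mpr hg]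
  rw [h1] at hp
  obtain ⟨p', hp', hpp'⟩ := hp
  have h2 : g (p - p') = 0 := by rw [map_sub, hpp', sub_self]
  obtain ⟨k, hk⟩ := (hfg _).mp h2
  refine ⟨k, ?_⟩
  rw [hk, sub_sub_cancel]
  exact hp'

theorem injective_map {R : Type u} [CommRing R] (J : Ideal R) {K P : Type u} [AddCommGroup K]
    [Module R K] [AddCommGroup P] [Module R P] (f : K →ₗ[R] P)
    (hinj : ∀ (n : ℕ) (k : K), f k ∈ (J ^ n • ⊤ : Submodule R P) →
      k ∈ (J ^ n • ⊤ : Submodule R K)) :
    Function.Injective (AdicCompletion.map J f) := by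
  rw [injective_iff_map_eq_zero]
  intro x hx
  apply AdicCompletion.ext
  intro n
  obtain ⟨m, hm⟩ := Submodule.Quotient.mk_surjective _ (x.val n)
  have h1 : (AdicCompletion.map J f x).val n = 0 := by rw [hx]; rfl
  rw [AdicCompletion.map_val_apply, ← hm, LinearMap.reduceModIdeal_apply,
    Submodule.Quotient.mk_eq_zero] at h1
  rw [← hm, AdicCompletion.val_zero_apply, Submodule.Quotient.mk_eq_zero]
  exact hinj n m h1

theorem exact_map {R : Type u} [CommRing R] (J : Ideal R) {K P M : Type u} [AddCommGroup K]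
    [Module R K] [AddCommGroup P] [Module R P] [AddCommGroup M] [Module R M]
    (f : K →ₗ[R] P) (g : P →ₗ[R] M) (hgf : ∀ k, g (f k) = 0)
    (hinj : ∀ (n : ℕ) (k : K), f k ∈ (J ^ n • ⊤ : Submodule R P) →
      k ∈ (J ^ n • ⊤ : Submodule R K))
    (hex : ∀ (n : ℕ) (p : P), g p ∈ (J ^ n • ⊤ : Submodule R M) →
      ∃ k, p - f k ∈ (J ^ n • ⊤ : Submodule R P)) :
    Function.Exact (AdicCompletion.map J f) (AdicCompletion.map J g) := by
  intro y
  constructor
  · intro hy
    choose yn hyn using fun n =>
      Submodule.Quotient.mk_surjective (J ^ n • ⊤ : Submodule R P) (y.val n)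
    have hgy : ∀ n, g (yn n) ∈ (J ^ n • ⊤ : Submodule R M) := by
      intro n
      have h1 : (AdicCompletion.map J g y).val n = 0 := by rw [hy]; rfl
      rw [AdicCompletion.map_val_apply, ← hyn n, LinearMap.reduceModIdeal_apply,
        Submodule.Quotient.mk_eq_zero] at h1
      exact h1
    choose kn hkn using fun n => hex n (yn n) (hgy n)
    have hydiff : ∀ {a b : ℕ} (hab : a ≤ b), yn b - yn a ∈ (J ^ a • ⊤ : Submodule R P) := by
      intro a b hab
      rw [← Submodule.Quotient.mk_eq_zero, Submodule.Quotient.mk_sub, sub_eq_zero]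
      have h1 : (Submodule.Quotient.mk (yn a) : P ⧸ (J ^ a • ⊤ : Submodule R P)) = y.val a :=
        hyn a
      have h2 : (Submodule.Quotient.mk (yn b) : P ⧸ (J ^ a • ⊤ : Submodule R P)) = y.val a := by
        rw [← AdicCompletion.transitionMap_comp_eval_apply J P hab y, ← hyn b]
        rfl
      rw [h1, h2]
    have hkdiff : ∀ {a b : ℕ} (hab : a ≤ b), kn b - kn a ∈ (J ^ a • ⊤ : Submodule R K) := by
      intro a b hab
      apply hinj
      have hle : (J ^ b • ⊤ : Submodule R P) ≤ J ^ a • ⊤ :=
        Submodule.smul_mono_left (Ideal.pow_le_pow_right hab)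
      have : f (kn b - kn a) = (yn b - yn a) - (yn b - f (kn b)) + (yn a - f (kn a)) := by
        rw [map_sub]; abel
      rw [this]
      exact Submodule.add_mem _ (Submodule.sub_mem _ (hydiff hab) (hle (hkn b))) (hkn a)
    let x : AdicCompletion J K := ⟨fun n => Submodule.Quotient.mk (kn n), fun {a b} hab => by
      show (Submodule.Quotient.mk (kn b) : K ⧸ (J ^ a • ⊤ : Submodule R K)) =
        Submodule.Quotient.mk (kn a)
      rw [Submodule.Quotient.eq]
      exact hkdiff hab⟩
    refine ⟨x, AdicCompletion.ext fun n => ?_⟩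
    rw [AdicCompletion.map_val_apply]
    show (f.reduceModIdeal (J ^ n)) (Submodule.Quotient.mk (kn n)) = y.val n
    rw [LinearMap.reduceModIdeal_apply, ← hyn n, eq_comm, Submodule.Quotient.eq]
    exact hkn n
  · rintro ⟨x, rfl⟩
    apply AdicCompletion.ext
    intro n
    obtain ⟨m, hm⟩ := Submodule.Quotient.mk_surjective _ (x.val n)
    rw [AdicCompletion.map_val_apply, AdicCompletion.map_val_apply, ← hm,
      LinearMap.reduceModIdeal_apply, LinearMap.reduceModIdeal_apply, hgf,
      Submodule.Quotient.mk_zero, AdicCompletion.val_zero_apply]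


/-- Let R be a ring, I an ideal, and 0 → K → P → M → 0 a short exact sequence of R-modules with M flat
over R and M/IM projective over R/I. Then the induced sequence of I-adic completions is split short
exact: the map on completions of K → P is injective, the sequence is exact in the middle, and the
map on completions of P → M has a section linear over the completion of R (so it is surjective). -/
theorem result (R : Type u) [CommRing R] (I : Ideal R)
    (K P M : Type u) [AddCommGroup K] [Module R K] [AddCommGroup P] [Module R P]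
    [AddCommGroup M] [Module R M] (f : K →ₗ[R] P) (g : P →ₗ[R] M)
    (hf : Function.Injective f) (hg : Function.Surjective g) (hfg : Function.Exact f g)
    [Module.Flat R M] [Module.Projective (R ⧸ I) (M ⧸ (I • ⊤ : Submodule R M))] :
    Function.Injective (AdicCompletion.map I f) ∧
      Function.Exact (AdicCompletion.map I f) (AdicCompletion.map I g) ∧
      ∃ s : AdicCompletion I M →ₗ[AdicCompletion I R] AdicCompletion I P,
        AdicCompletion.map I g ∘ₗ s = LinearMap.id := by
  have hg' := hg
  have hinj : ∀ (n : ℕ) (k : K), f k ∈ (I ^ n • ⊤ : Submodule R P) →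
      k ∈ (I ^ n • ⊤ : Submodule R K) :=
    fun n k hk => mem_smul_top_of_map_mem f g hf hg hfg (I ^ n) k hk
  have hex : ∀ (n : ℕ) (p : P), g p ∈ (I ^ n • ⊤ : Submodule R M) →
      ∃ k, p - f k ∈ (I ^ n • ⊤ : Submodule R P) :=
    fun n p hp => exists_sub_mem f g hg hfg (I ^ n) p hp
  refine ⟨injective_map I f hinj, exact_map I f g hfg.apply_apply_eq_zero hinj hex, ?_⟩
  obtain ⟨β, φ, hφ⟩ := Groth.Agent.H99.ComplProj.exists_free_lift R I M
  haveI : Module.Flat R (M × (β →₀ R)) := Groth.Agent.H99.ComplProj.flat_prod M (β →₀ R)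
  have hbij := Groth.Agent.H99.ComplProj.completion_map_bijective I φ hφ
  choose lift hlift using hg'
  obtain ⟨ψ, hψ⟩ : ∃ ψ : (β →₀ R) →ₗ[R] P,
      ∀ j, ψ (Finsupp.single j 1) = lift (φ (Finsupp.single j 1)).1 :=
    ⟨Finsupp.linearCombination R (fun j => lift (φ (Finsupp.single j 1)).1), fun j => by
      rw [Finsupp.linearCombination_single, one_smul]⟩
  have hgψ : g ∘ₗ ψ = LinearMap.fst R M (β →₀ R) ∘ₗ φ := by
    apply Finsupp.lhom_ext
    intro j r
    rw [← Finsupp.smul_single_one j r, map_smul, map_smul, LinearMap.comp_apply,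
      LinearMap.comp_apply, hψ, hlift, LinearMap.fst_apply]
  let Φ : AdicCompletion I (β →₀ R) ≃ₗ[AdicCompletion I R] AdicCompletion I (M × (β →₀ R)) :=
    LinearEquiv.ofBijective (AdicCompletion.map I φ) hbij
  refine ⟨(AdicCompletion.map I ψ) ∘ₗ (Φ.symm.toLinearMap ∘ₗ
    AdicCompletion.map I (LinearMap.inl R M (β →₀ R))), ?_⟩
  apply LinearMap.ext
  intro x
  show AdicCompletion.map I g (AdicCompletion.map I ψ
    (Φ.symm (AdicCompletion.map I (LinearMap.inl R M (β →₀ R)) x))) = x
  have h2 : AdicCompletion.map I φ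
      (Φ.symm (AdicCompletion.map I (LinearMap.inl R M (β →₀ R)) x)) =
      AdicCompletion.map I (LinearMap.inl R M (β →₀ R)) x := Φ.apply_symm_apply _
  rw [AdicCompletion.map_comp_apply, hgψ, ← AdicCompletion.map_comp_apply, h2,
    AdicCompletion.map_comp_apply, LinearMap.fst_comp_inl, AdicCompletion.map_id,
    LinearMap.id_apply]

end Groth.Agent.S9131
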