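import Groth.Statements.S9132
import Mathlib

set_option autoImplicit false
set_option linter.style.haveILetI false
universe u
open CAlg

namespace Groth.Agent.S9132

/-- A Noetherian local domain R that is not a field is dominated by a Noetherian local ring R' of
dimension one lying between R and its fraction field, with R' essentially of finite type over R. -/
theorem result (R : Type u) [CommRing R] [IsDomain R]
    [IsNoetherianRing R] [IsLocalRing R] (hR : ¬ IsField R) :
    ∃ R' : Subalgebra R (FractionRing R), ∃ _ : IsLocalRing R',
      IsNoetherianRing R' ∧ ringKrullDim R' = 1 ∧ IsLocalHom (algebraMap R R') ∧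
        Algebra.EssFiniteType R R' := by
  classical
  let K := FractionRing R
  -- generators of the maximal ideal
  obtain ⟨ys, hys⟩ := (IsNoetherian.noetherian (IsLocalRing.maximalIdeal R))
  -- a valuation ring dominating R
  obtain ⟨V, hV, hloc⟩ := IsLocalRing.exists_factor_valuationRing (algebraMap R K)
  have hinj : Function.Injective (algebraMap R K) := IsFractionRing.injective R K
  -- maximal ideal is nonzero
  have hm : IsLocalRing.maximalIdeal R ≠ ⊥ := by
    intro h
    exact hR (IsLocalRing.isField_iff_maximalIdeal_eq.mpr h)
  -- ys nonempty with a nonzero element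
  have hne : ys.Nonempty := by
    rcases ys.eq_empty_or_nonempty with h | h
    · exfalso; apply hm; rw [← hys, h]; simp
    · exact h
  obtain ⟨x, hx, hxmax⟩ := Finset.exists_max_image ys
    (fun y => V.valuation (algebraMap R K y)) hne
  have hx0 : x ≠ 0 := by
    intro hx0
    apply hm
    rw [← hys, Submodule.span_eq_bot]
    intro y hy
    have h1 := hxmax y hy
    rw [hx0, map_zero, map_zero] at h1
    have h2 : V.valuation (algebraMap R K y) = 0 := le_antisymm h1 zero_le
    rw [map_eq_zero] at h2
    exact hinj (by rw [h2, map_zero])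
  have hxK : algebraMap R K x ≠ 0 := fun h => hx0 (hinj (by rw [h, map_zero]))
  have hxm : x ∈ IsLocalRing.maximalIdeal R := by
    rw [← hys]; exact Submodule.subset_span hx
  -- the generating fractions lie in V
  have hfrac : ∀ y ∈ ys, algebraMap R K y / algebraMap R K x ∈ V := by
    intro y hy
    rw [← ValuationSubring.valuation_le_one_iff, map_div₀]
    have hxv : V.valuation (algebraMap R K x) ≠ 0 := by
      rw [Ne, map_eq_zero]; exact hxK
    exact div_le_one_of_le₀ (hxmax y hy) zero_le
  -- the finitely generated subalgebra
  let gens : Finset K := ys.image (fun y => algebraMap R K y / algebraMap R K x)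
  let S : Subalgebra R K := Algebra.adjoin R (gens : Set K)
  have hSfg : S.FG := Subalgebra.fg_adjoin_finset gens
  haveI hSft : Algebra.FiniteType R S := (Subalgebra.fg_iff_finiteType S).mp hSfg
  haveI hSnoeth : IsNoetherianRing S := Algebra.FiniteType.isNoetherianRing R S
  have hSV : ∀ z ∈ S, z ∈ V := by
    intro z hz
    induction hz using Algebra.adjoin_induction with
    | mem z hz =>
      simp only [gens, Finset.coe_image, Set.mem_image, Finset.mem_coe] at hz
      obtain ⟨y, hy, rfl⟩ := hz
      exact hfrac y hy
    | algebraMap r => exact hV r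
    | add a b _ _ ha hb => exact V.add_mem _ _ ha hb
    | mul a b _ _ ha hb => exact V.mul_mem _ _ ha hb
  let xS : S := algebraMap R S x
  have hxS0 : xS ≠ 0 := by
    intro h
    apply hxK
    have := congrArg (Subtype.val) h
    simpa [xS] using this
  -- x is not a unit of S
  have hxSnu : ¬ IsUnit xS := by
    intro hu
    obtain ⟨w, hw⟩ := hu.exists_right_inv
    -- x * w = 1 in K with w ∈ V
    have hwV : (w : K) ∈ V := hSV _ w.2
    have h1 : algebraMap R K x * (w : K) = 1 := by
      have := congrArg (Subtype.val) hw
      simpa [xS] using this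
    have hu' : IsUnit ((algebraMap R K).codRestrict V.toSubring hV x) := by
      refine IsUnit.of_mul_eq_one ⟨(w : K), hwV⟩ ?_
      apply Subtype.ext
      simpa using h1
    have := hloc.map_nonunit x hu'
    exact hxm this
  -- the maximal ideal generates inside span{xS}
  have hmS : ∀ r ∈ IsLocalRing.maximalIdeal R, algebraMap R S r ∈ Ideal.span {xS} := by
    intro r hr
    rw [← hys] at hr
    induction hr using Submodule.span_induction with
    | mem y hy =>
      have hyg : algebraMap R K y / algebraMap R K x ∈ S := by
        apply Algebra.subset_adjoin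
        simp only [gens, Finset.coe_image, Set.mem_image, Finset.mem_coe]
        exact ⟨y, hy, rfl⟩
      rw [Ideal.mem_span_singleton']
      refine ⟨⟨_, hyg⟩, ?_⟩
      apply Subtype.ext
      simp only [xS, Subalgebra.coe_mul, Subalgebra.coe_algebraMap]
      exact div_mul_cancel₀ _ hxK
    | zero => rw [map_zero]; exact Ideal.zero_mem _
    | add a b _ _ ha hb => rw [map_add]; exact Ideal.add_mem _ ha hb
    | smul a b _ hb => rw [smul_eq_mul, map_mul]; exact Ideal.mul_mem_left _ _ hb
  -- a minimal prime over span{xS}
  have hspan_ne : Ideal.span {xS} ≠ ⊤ := by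
    rw [Ne, Ideal.span_singleton_eq_top]; exact hxSnu
  obtain ⟨q, hq⟩ := Ideal.nonempty_minimalPrimes hspan_ne
  haveI hqp : q.IsPrime := hq.1.1
  have hxq : xS ∈ q := hq.1.2 (Ideal.subset_span rfl)
  have hqh1 : q.height ≤ 1 :=
    Ideal.height_le_one_of_isPrincipal_of_mem_minimalPrimes (Ideal.span {xS}) q hq
  have hqh0 : q.height ≠ 0 := by
    rw [Ne, Ideal.height_eq_zero_iff_eq_bot]
    intro h
    rw [h] at hxq
    exact hxS0 ((Submodule.mem_bot _).mp hxq)
  have hqh : q.height = 1 := le_antisymm hqh1 (Order.one_le_iff_pos.mpr (pos_iff_ne_zero.mpr hqh0))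
  let T : Subalgebra S K :=
    Localization.subalgebra.ofField K q.primeCompl (Ideal.primeCompl_le_nonZeroDivisors q)
  haveI hTloc : IsLocalization.AtPrime T q :=
    Localization.subalgebra.isLocalization_ofField K q.primeCompl
      (Ideal.primeCompl_le_nonZeroDivisors q)
  haveI hTlocal : IsLocalRing T := IsLocalization.AtPrime.isLocalRing T q
  haveI hTnoeth : IsNoetherianRing T := IsLocalization.isNoetherianRing q.primeCompl T hSnoeth
  have hTdim : ringKrullDim T = 1 := by
    rw [IsLocalization.AtPrime.ringKrullDim_eq_height q T, hqh]; rfl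
  refine ⟨T.restrictScalars R, hTlocal, hTnoeth, hTdim, ?_, ?_⟩
  · refine ⟨fun r hr => ?_⟩
    by_contra hru
    have hrm : r ∈ IsLocalRing.maximalIdeal R := (IsLocalRing.mem_maximalIdeal r).mpr hru
    have hrq : algebraMap R S r ∈ q := hq.1.2 (hmS r hrm)
    have hmem : algebraMap S T (algebraMap R S r) ∈ IsLocalRing.maximalIdeal T :=
      (IsLocalization.AtPrime.to_map_mem_maximal_iff T q _).mpr hrq
    have hnu : ¬ IsUnit (algebraMap S T (algebraMap R S r)) :=
      (IsLocalRing.mem_maximalIdeal _).mp hmem
    exact hnu hr
  · haveI : IsScalarTower R S T := IsScalarTower.of_algebraMap_eq (fun r => Subtype.ext rfl)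
    haveI : Algebra.EssFiniteType S T := Algebra.EssFiniteType.of_isLocalization T q.primeCompl
    exact Algebra.EssFiniteType.comp R S T

end Groth.Agent.S9132
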