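import Groth.Statements.S9133
import Mathlib
import Groth.Agent.H46.KrullAkizuki

set_option autoImplicit false
set_option linter.style.haveILetI false
universe u
open CAlg

namespace Groth.Agent.S9133

/-- Let R → S be a homomorphism of domains compatible with field maps K → L of their fraction fields (so
R → S is injective), where R is Noetherian local of dimension one and L is finite over K. Then each
prime n of S whose contraction to R is the maximal ideal of R is a maximal ideal of S, only finitely
many such n exist, and each quotient S/n is a finite R-module (its residue field is a finite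
extension of that of R). -/
theorem result (R S K L : Type u)
    [CommRing R] [IsDomain R] [IsNoetherianRing R] [IsLocalRing R] (hdim : ringKrullDim R = 1)
    [CommRing S] [IsDomain S] [Algebra R S] [Field K] [Field L] [Algebra R K] [IsFractionRing R K]
    [Algebra S L] [IsFractionRing S L] [Algebra K L] [Algebra R L] [IsScalarTower R K L]
    [IsScalarTower R S L] [FiniteDimensional K L] :
    (∀ n ∈ (IsLocalRing.maximalIdeal R).primesOver S, n.IsMaximal) ∧
      ((IsLocalRing.maximalIdeal R).primesOver S).Finite ∧
      ∀ n ∈ (IsLocalRing.maximalIdeal R).primesOver S, Module.Finite R (S ⧸ n) := by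
  classical
  haveI : Ring.KrullDimLE 1 R := Ring.krullDimLE_iff.mpr (by rw [hdim, Nat.cast_one])
  have hA : Function.Injective (algebraMap S L) := IsFractionRing.injective S L
  have hRS : Function.Injective (algebraMap R S) :=
    Groth.Agent.H46.KA.algebraMap_injective_of_between R K L S
  have hnf : ¬ IsField R := by
    intro hf
    have h0 := ringKrullDim_eq_zero_of_isField hf
    rw [hdim] at h0
    exact one_ne_zero h0
  have hm : IsLocalRing.maximalIdeal R ≠ ⊥ :=
    Ring.ne_bot_of_isMaximal_of_not_isField (IsLocalRing.maximalIdeal.isMaximal R) hnf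
  obtain ⟨a, ham, ha0⟩ := Submodule.exists_mem_ne_zero_of_ne_bot hm
  have ha' : algebraMap R S a ≠ 0 := fun h => ha0 (hRS (by rw [h, map_zero]))
  haveI := Groth.Agent.H46.KA.isNoetherianRing_of_between R K L S hA
  have hnebot : ∀ q : Ideal S,
      (IsLocalRing.maximalIdeal R).map (algebraMap R S) ≤ q → q ≠ ⊥ := by
    intro q hle hbot
    have hmem : algebraMap R S a ∈ q := hle (Ideal.mem_map_of_mem _ ham)
    rw [hbot, Ideal.mem_bot] at hmem
    exact ha' hmem
  have key : ∀ q : Ideal S, q.IsPrime →
      (IsLocalRing.maximalIdeal R).map (algebraMap R S) ≤ q → q.IsMaximal := by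
    intro q hq hle
    haveI := hq
    exact Groth.Agent.H46.KA.isMaximal_of_isPrime_of_ne_bot R K L S hA q (hnebot q hle)
  have hover : ∀ n ∈ (IsLocalRing.maximalIdeal R).primesOver S,
      (IsLocalRing.maximalIdeal R).map (algebraMap R S) ≤ n := by
    rintro n ⟨hn, hlo⟩
    rw [Ideal.map_le_iff_le_comap]
    exact hlo.over.le
  refine ⟨fun n hn => key n hn.1 (hover n hn), ?_, ?_⟩
  · refine Set.Finite.subset (Ideal.finite_minimalPrimes_of_isNoetherianRing S
      ((IsLocalRing.maximalIdeal R).map (algebraMap R S))) ?_
    intro n hn
    refine ⟨⟨hn.1, hover n hn⟩, ?_⟩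
    rintro q ⟨hq, hle⟩ hqn
    have hqmax := key q hq hle
    exact (hqmax.eq_of_le hn.1.ne_top hqn).ge
  · intro n hn
    exact Groth.Agent.H46.KA.finite_quotient R K L S hA n (hnebot n (hover n hn))

end Groth.Agent.S9133
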