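import Groth.Statements.S9135
import Mathlib

set_option autoImplicit false
universe u
open CAlg

namespace Groth.Agent.S9135

section Aux

open TensorProduct

theorem assemble {R S : Type u} [CommRing R] [CommRing S] [Algebra R S] [Algebra.FiniteType R S]
    (p : Ideal R) [hpp : p.IsPrime]
    (key : ∀ s : S, ∃ P : Polynomial R, Polynomial.aeval s P = 0 ∧ P.leadingCoeff ∉ p) :
    ∃ g : R, g ∉ p ∧ (Localization.awayMap (algebraMap R S) g).Finite := by
  classical
  obtain ⟨σ, hσ⟩ := (Algebra.FiniteType.out : (⊤ : Subalgebra R S).FG)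
  choose P hP0 hPlc using key
  set g : R := ∏ s ∈ σ, (P s).leadingCoeff with hg
  have hgp : g ∉ p := by
    intro h
    obtain ⟨s, -, hs⟩ := (Ideal.IsPrime.prod_mem_iff).mp h
    exact hPlc s hs
  have hg0 : g ≠ 0 := fun h => hgp (h ▸ p.zero_mem)
  refine ⟨g, hgp, ?_⟩
  have hP' : ∀ s ∈ σ, ∃ P' : Polynomial R, Polynomial.aeval s P' = 0 ∧ P'.leadingCoeff = g := by
    intro s hs
    refine ⟨Polynomial.C (∏ t ∈ σ.erase s, (P t).leadingCoeff) * P s, ?_, ?_⟩
    · rw [map_mul, hP0 s, mul_zero]
    · have hne : (Polynomial.C (∏ t ∈ σ.erase s, (P t).leadingCoeff)).leadingCoeff *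
          (P s).leadingCoeff ≠ 0 := by
        rw [Polynomial.leadingCoeff_C, Finset.prod_erase_mul σ _ hs]
        exact hg0
      rw [Polynomial.leadingCoeff_mul' hne, Polynomial.leadingCoeff_C,
        Finset.prod_erase_mul σ _ hs]
  have hloc : IsLocalization (Algebra.algebraMapSubmonoid S (Submonoid.powers g))
      (Localization.Away (algebraMap R S g)) := by
    rw [Algebra.algebraMapSubmonoid, Submonoid.map_powers]; infer_instance
  set φ := Localization.awayMap (algebraMap R S) g with hφdef
  have hφcomp : φ.comp (algebraMap R (Localization.Away g)) =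
      (algebraMap S (Localization.Away (algebraMap R S g))).comp (algebraMap R S) := by
    simp only [hφdef, Localization.awayMap, IsLocalization.Away.map, IsLocalization.map_comp]
  have hφapply : ∀ r, φ (algebraMap R (Localization.Away g) r) =
      algebraMap S (Localization.Away (algebraMap R S g)) (algebraMap R S r) :=
    fun r => RingHom.congr_fun hφcomp r
  have hint_gen : ∀ s ∈ σ,
      φ.IsIntegralElem (algebraMap S (Localization.Away (algebraMap R S g)) s) := by
    intro s hs
    obtain ⟨P', hP'0, hP'lc⟩ := hP' s hs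
    have := is_integral_localization_at_leadingCoeff (M := Submonoid.powers g)
      (Rₘ := Localization.Away g) (Sₘ := Localization.Away (algebraMap R S g)) P' hP'0
      (hP'lc ▸ Submonoid.mem_powers g)
    have hψ : φ = IsLocalization.map (Localization.Away (algebraMap R S g)) (algebraMap R S)
        (show _ ≤ (Algebra.algebraMapSubmonoid S (Submonoid.powers g)).comap _ from
          (Submonoid.powers g).le_comap_map) := by
      apply IsLocalization.ringHom_ext (Submonoid.powers g)
      rw [hφcomp, IsLocalization.map_comp]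
    rw [hψ]; exact this
  have hint_S : ∀ x : S,
      φ.IsIntegralElem (algebraMap S (Localization.Away (algebraMap R S g)) x) := by
    intro x
    have hx : x ∈ Algebra.adjoin R (σ : Set S) := by rw [hσ]; trivial
    induction hx using Algebra.adjoin_induction with
    | mem x hx => exact hint_gen x hx
    | algebraMap r => rw [← hφapply]; exact φ.isIntegralElem_map
    | add x y _ _ hx hy => rw [map_add]; exact RingHom.IsIntegralElem.add φ hx hy
    | mul x y _ _ hx hy => rw [map_mul]; exact RingHom.IsIntegralElem.mul φ hx hy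
  have hint : φ.IsIntegral := by
    intro y
    obtain ⟨⟨x, ⟨m, n, rfl⟩⟩, hxy⟩ :=
      IsLocalization.surj (Submonoid.powers (algebraMap R S g)) y
    simp only at hxy
    obtain ⟨v, hv⟩ := (IsLocalization.map_units (Localization.Away g)
      (⟨g ^ n, n, rfl⟩ : Submonoid.powers g)).exists_right_inv
    have e1 : algebraMap S (Localization.Away (algebraMap R S g)) ((algebraMap R S g) ^ n) =
        φ (algebraMap R _ (g ^ n)) := by
      simp only [hφapply, map_pow]
    have hy : y = algebraMap S _ x * φ v := by
      rw [← hxy, e1, mul_assoc, ← map_mul, hv, map_one, mul_one]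
    rw [hy]
    exact RingHom.IsIntegralElem.mul φ (hint_S x) φ.isIntegralElem_map
  have hft : φ.FiniteType := by
    letI := φ.toAlgebra
    have : IsScalarTower R (Localization.Away g) (Localization.Away (algebraMap R S g)) :=
      IsScalarTower.of_algebraMap_eq' (by
        rw [IsScalarTower.algebraMap_eq R S (Localization.Away (algebraMap R S g))]
        exact hφcomp.symm)
    exact RingHom.finiteType_algebraMap.mpr
      (Algebra.FiniteType.of_restrictScalars_finiteType R _ _)
  exact RingHom.finite_iff_isIntegral_and_finiteType.mpr ⟨hint, hft⟩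

attribute [local instance] Algebra.TensorProduct.rightAlgebra

theorem key_lemma {R S : Type u} [CommRing R] [CommRing S] [Algebra R S]
    (p : Ideal R) (hp : p ∈ minimalPrimes R) [hpp : p.IsPrime]
    [hMF : Module.Finite p.ResidueField (p.Fiber S)] (s : S) :
    ∃ P : Polynomial R, Polynomial.aeval s P = 0 ∧ P.leadingCoeff ∉ p := by
  classical
  have hint : IsIntegral p.ResidueField ((1 : p.ResidueField) ⊗ₜ[R] s : p.Fiber S) :=
    Algebra.IsIntegral.isIntegral _
  obtain ⟨Q, hQm, hQ0⟩ := hint
  set Q₁ := IsLocalization.integerNormalization (nonZeroDivisors (R ⧸ p)) Q with hQ₁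
  have hQ₁0 : Q₁ ≠ 0 := by
    rw [hQ₁, Ne, IsLocalization.integerNormalization_eq_zero_iff le_rfl]
    exact hQm.ne_zero
  have hQ₁ev : Polynomial.eval₂ ((algebraMap p.ResidueField (p.Fiber S)).comp
      (algebraMap (R ⧸ p) p.ResidueField)) ((1 : p.ResidueField) ⊗ₜ[R] s) Q₁ = 0 :=
    IsLocalization.integerNormalization_eval₂_eq_zero (nonZeroDivisors (R ⧸ p))
      (algebraMap p.ResidueField (p.Fiber S)) Q hQ0
  obtain ⟨P₀, hP₀map, hP₀deg⟩ := Polynomial.exists_natDegree_eq_of_mem_lifts
    (Polynomial.mem_lifts_of_surjective (f := Ideal.Quotient.mk p)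
      Ideal.Quotient.mk_surjective Q₁)
  have hlc : P₀.leadingCoeff ∉ p := by
    intro h
    apply hQ₁0
    rw [← Polynomial.leadingCoeff_eq_zero, Polynomial.leadingCoeff, ← hP₀deg, ← hP₀map,
      Polynomial.coeff_map]
    exact Ideal.Quotient.eq_zero_iff_mem.mpr h
  have hcomp : ((algebraMap p.ResidueField (p.Fiber S)).comp
      (algebraMap (R ⧸ p) p.ResidueField)).comp (Ideal.Quotient.mk p) =
      algebraMap R (p.Fiber S) := by
    rw [IsScalarTower.algebraMap_eq R p.ResidueField (p.Fiber S),
      IsScalarTower.algebraMap_eq R (R ⧸ p) p.ResidueField, RingHom.comp_assoc]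
    rfl
  have haev : Polynomial.aeval ((1 : p.ResidueField) ⊗ₜ[R] s : p.Fiber S) P₀ = 0 := by
    rw [Polynomial.aeval_def, ← hcomp, ← Polynomial.eval₂_map, hP₀map]
    exact hQ₁ev
  have ht0 : (1 : p.ResidueField) ⊗ₜ[R] (Polynomial.aeval s P₀) = (0 : p.Fiber S) := by
    have h := Polynomial.aeval_algHom_apply
      (Algebra.TensorProduct.includeRight : S →ₐ[R] p.Fiber S) s P₀
    simp only [Algebra.TensorProduct.includeRight_apply] at h
    rw [← h]; exact haev
  set t := Polynomial.aeval s P₀ with ht
  have hmem : algebraMap S (Localization (Algebra.algebraMapSubmonoid S p.primeCompl)) t ∈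
      ((p.map (algebraMap R S)).map
        (algebraMap S (Localization (Algebra.algebraMapSubmonoid S p.primeCompl)))) := by
    have h1 : (Ideal.Fiber.algEquivAux₁ p (S := S)) (algebraMap S (p.Fiber S) t) = 0 := by
      rw [show algebraMap S (p.Fiber S) t = (1 : p.ResidueField) ⊗ₜ[R] t from rfl, ht0, map_zero]
    rw [AlgEquiv.commutes] at h1
    exact Ideal.Quotient.eq_zero_iff_mem.mp h1
  have hJ : (p.map (algebraMap R S)).map
      (algebraMap S (Localization (Algebra.algebraMapSubmonoid S p.primeCompl))) ≤
      nilradical (Localization (Algebra.algebraMapSubmonoid S p.primeCompl)) := by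
    rw [Ideal.map_le_iff_le_comap, Ideal.map_le_iff_le_comap]
    intro r hr
    rw [Ideal.mem_comap, Ideal.mem_comap, mem_nilradical,
      ← IsScalarTower.algebraMap_apply R S
        (Localization (Algebra.algebraMapSubmonoid S p.primeCompl)),
      IsScalarTower.algebraMap_apply R (Localization.AtPrime p)
        (Localization (Algebra.algebraMapSubmonoid S p.primeCompl))]
    apply IsNilpotent.map
    have h2 := IsLocalization.AtPrime.radical_map_of_mem_minimalPrimes
      (A := Localization.AtPrime p) p ⊥ hp
    rw [Ideal.map_bot] at h2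
    have h3 : algebraMap R (Localization.AtPrime p) r ∈
        (⊥ : Ideal (Localization.AtPrime p)).radical := by
      rw [h2]; exact Ideal.mem_map_of_mem _ hr
    obtain ⟨n, hn⟩ := Ideal.mem_radical_iff.mp h3
    exact ⟨n, Ideal.mem_bot.mp hn⟩
  obtain ⟨N, hN⟩ := mem_nilradical.mp (hJ hmem)
  rw [← map_pow] at hN
  obtain ⟨m, hm⟩ := (IsLocalization.map_eq_zero_iff (Algebra.algebraMapSubmonoid S p.primeCompl)
    (Localization (Algebra.algebraMapSubmonoid S p.primeCompl)) (t ^ N)).mp hN
  obtain ⟨c, hc, hcm⟩ := Submonoid.mem_map.mp m.2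
  have hc' : c ∉ p := hc
  refine ⟨Polynomial.C c * P₀ ^ N, ?_, ?_⟩
  · rw [map_mul, map_pow, Polynomial.aeval_C, ← ht]
    change algebraMap R S c * t ^ N = 0
    have hcm' : algebraMap R S c = (m : S) := hcm
    rw [hcm']; exact hm
  · have hne : c * P₀.leadingCoeff ^ N ∉ p := fun h =>
      (hpp.mem_or_mem h).elim hc' (fun h' => hlc (hpp.mem_of_pow_mem N h'))
    have hne0 : c * P₀.leadingCoeff ^ N ≠ 0 := fun h => hne (h ▸ p.zero_mem)
    have hpow : (P₀ ^ N).leadingCoeff = P₀.leadingCoeff ^ N :=
      Polynomial.leadingCoeff_pow' (fun h => hne0 (by rw [h, mul_zero]))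
    rw [Polynomial.leadingCoeff_mul' (by rw [Polynomial.leadingCoeff_C, hpow]; exact hne0),
      Polynomial.leadingCoeff_C, hpow]
    exact hne

end Aux

/-- Let R → S be of finite type and p a minimal prime of R over which only finitely many primes of S
lie. Then for some g ∈ R outside p the localized map R_g → S_g is finite. -/
theorem result (R S : Type u) [CommRing R] [CommRing S]
    [Algebra R S] [Algebra.FiniteType R S] (p : Ideal R) (hp : p ∈ minimalPrimes R)
    (hfin : (p.primesOver S).Finite) :
    ∃ g : R, g ∉ p ∧ (Localization.awayMap (algebraMap R S) g).Finite := by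
  classical
  have hpp : p.IsPrime := hp.1.1
  have hFfin : Finite (PrimeSpectrum (p.Fiber S)) := by
    have : Finite (p.primesOver S) := hfin.to_subtype
    exact Finite.of_equiv _ (PrimeSpectrum.primesOverOrderIsoFiber R S p).toEquiv
  have hMF : Module.Finite p.ResidueField (p.Fiber S) := by
    rw [Module.finite_iff_isArtinianRing, isArtinianRing_iff_isNoetherianRing_krullDimLE_zero]
    have : IsJacobsonRing (p.Fiber S) := isJacobsonRing_of_finiteType (A := p.ResidueField)
    exact ⟨Algebra.FiniteType.isNoetherianRing p.ResidueField _,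
      (PrimeSpectrum.discreteTopology_iff_finite_and_krullDimLE_zero.mp inferInstance).right⟩
  exact assemble p (fun s => key_lemma p hp s)

end Groth.Agent.S9135
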