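import Groth.Statements.S9137
import Mathlib.RingTheory.ZariskisMainTheorem

set_option autoImplicit false
set_option linter.style.haveILetI false
universe u
open CAlg

namespace Groth.Agent.S9137

/-- a finite algebra is quasi-finite (explicit form of the low-priority instance) -/
theorem qf_of_finite (R S : Type u) [CommRing R] [CommRing S] [Algebra R S] [Module.Finite R S] :
    Algebra.QuasiFinite R S := inferInstance

open IsLocalRing in
/-- The closed fibre of an essentially finite type local homomorphism with finite residue field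
extension and zero-dimensional closed fibre is a finite module. -/
theorem finite_fibre (R S : Type u) [CommRing R] [CommRing S]
    [IsLocalRing R] [IsLocalRing S] [Algebra R S] [IsLocalHom (algebraMap R S)]
    [Algebra.EssFiniteType R S]
    (hres : Module.Finite (IsLocalRing.ResidueField R) (IsLocalRing.ResidueField S))
    (hdim : ringKrullDim (S ⧸ (IsLocalRing.maximalIdeal R).map (algebraMap R S)) = 0) :
    Module.Finite R (S ⧸ (IsLocalRing.maximalIdeal R).map (algebraMap R S)) := by
  have hIle : (maximalIdeal R).map (algebraMap R S) ≤ maximalIdeal S :=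
    ((local_hom_TFAE (algebraMap R S)).out 0 2 rfl rfl).mp inferInstance
  have hne : (maximalIdeal R).map (algebraMap R S) ≠ ⊤ := fun h =>
    (maximalIdeal.isMaximal S).ne_top (top_le_iff.mp (h ▸ hIle))
  haveI : Nontrivial (S ⧸ (maximalIdeal R).map (algebraMap R S)) :=
    Ideal.Quotient.nontrivial_iff.mpr hne
  haveI : IsLocalRing (S ⧸ (maximalIdeal R).map (algebraMap R S)) :=
    IsLocalRing.of_surjective' (Ideal.Quotient.mk _) Ideal.Quotient.mk_surjective
  letI : Field (R ⧸ maximalIdeal R) := Ideal.Quotient.field _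
  haveI : Algebra.EssFiniteType (R ⧸ maximalIdeal R)
      (S ⧸ (maximalIdeal R).map (algebraMap R S)) := inferInstance
  haveI : IsNoetherianRing (S ⧸ (maximalIdeal R).map (algebraMap R S)) :=
    Algebra.EssFiniteType.isNoetherianRing (R ⧸ maximalIdeal R) _
  haveI : Ring.KrullDimLE 0 (S ⧸ (maximalIdeal R).map (algebraMap R S)) := by
    rw [Ring.krullDimLE_iff]; exact hdim.le
  let f : (S ⧸ (maximalIdeal R).map (algebraMap R S)) →ₐ[R] ResidueField S :=
    Ideal.Quotient.factorₐ R hIle
  have hf : Function.Surjective f := Ideal.Quotient.factor_surjective hIle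
  haveI : Module.Finite R (ResidueField S) :=
    Module.Finite.trans (ResidueField R) (ResidueField S)
  refine Module.finite_of_surjective_of_ker_le_nilradical f hf ?_ (IsNoetherian.noetherian _)
  rw [Ring.KrullDimLE.nilradical_eq_maximalIdeal]
  exact IsLocalRing.le_maximalIdeal (RingHom.ker_ne_top _)

/-- Let R → S be a local ring homomorphism between local rings, essentially of finite type, such that
the residue field of S is finite over that of R and S/m_R S has dimension zero. Then S is, as an
R-algebra, the localization of a finite R-algebra at a prime. -/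
theorem result (R S : Type u) [CommRing R] [CommRing S]
    [IsLocalRing R] [IsLocalRing S] [Algebra R S] [IsLocalHom (algebraMap R S)]
    [Algebra.EssFiniteType R S]
    (hres : Module.Finite (IsLocalRing.ResidueField R) (IsLocalRing.ResidueField S))
    (hdim : ringKrullDim (S ⧸ (IsLocalRing.maximalIdeal R).map (algebraMap R S)) = 0) :
    ∃ (S' : Type u) (_ : CommRing S') (_ : Algebra R S') (_ : Algebra S' S) (_ : IsScalarTower R S' S)
      (q : Ideal S') (_ : q.IsPrime), Module.Finite R S' ∧ IsLocalization.AtPrime S q := by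
  classical
  let T₀ : Subalgebra R S := Algebra.EssFiniteType.subalgebra R S
  let q₀ : Ideal T₀ := (IsLocalRing.maximalIdeal S).comap (algebraMap T₀ S)
  haveI hq₀ : q₀.IsPrime := Ideal.comap_isPrime _ _
  have hM : Algebra.EssFiniteType.submonoid R S = q₀.primeCompl := by
    ext x
    rw [Ideal.mem_primeCompl_iff, Ideal.mem_comap, IsLocalRing.notMem_maximalIdeal]
    exact Submonoid.mem_comap.trans (IsUnit.mem_submonoid_iff _)
  haveI hloc : IsLocalization.AtPrime S q₀ := by
    have := Algebra.EssFiniteType.isLocalization (R := R) (S := S)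
    rwa [hM] at this
  have hunder : q₀.under R = IsLocalRing.maximalIdeal R := by
    show Ideal.comap (algebraMap R T₀) (Ideal.comap (algebraMap T₀ S) (IsLocalRing.maximalIdeal S)) = _
    rw [Ideal.comap_comap, ← IsScalarTower.algebraMap_eq]
    exact ((IsLocalRing.local_hom_TFAE (algebraMap R S)).out 0 4 rfl rfl).mp inferInstance
  have hfin := finite_fibre R S hres hdim
  haveI : Algebra.WeaklyQuasiFiniteAt R q₀ := by
    rw [Algebra.weaklyQuasiFiniteAt_iff, hunder]
    let e : Localization.AtPrime q₀ ≃ₐ[R] S :=
      (IsLocalization.algEquiv q₀.primeCompl (Localization.AtPrime q₀) S).restrictScalars R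
    have he : (IsLocalRing.maximalIdeal R).map (algebraMap R S) =
        ((IsLocalRing.maximalIdeal R).map (algebraMap R (Localization.AtPrime q₀))).map
          (e : Localization.AtPrime q₀ →+* S) := by
      rw [Ideal.map_map]
      congr 1
      ext x
      exact (e.commutes x).symm
    let e' := Ideal.quotientEquivAlg _ _ e he
    haveI : Module.Finite R (Localization.AtPrime q₀ ⧸
        (IsLocalRing.maximalIdeal R).map (algebraMap R (Localization.AtPrime q₀))) :=
      Module.Finite.equiv e'.symm.toLinearEquiv
    exact qf_of_finite _ _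
  obtain ⟨S', hS', r, hr, hbij⟩ :=
    Algebra.QuasiFiniteAt.exists_fg_and_exists_notMem_and_awayMap_bijective (R := R) q₀
  have hsurj := Localization.awayMap_surjective_iff.mp hbij.2
  let S'' : Subalgebra R S := S'.map T₀.val
  haveI : Module.Finite R S'' := by
    refine ⟨(Submodule.fg_top (Subalgebra.toSubmodule S'')).mpr ?_⟩
    rw [Subalgebra.map_toSubmodule]
    exact hS'.map _
  let q : Ideal S'' := (IsLocalRing.maximalIdeal S).comap (algebraMap S'' S)
  haveI : q.IsPrime := Ideal.comap_isPrime _ _
  refine ⟨S'', inferInstance, inferInstance, inferInstance, inferInstance, q, inferInstance,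
    inferInstance, ?_⟩
  have hrS : IsUnit (algebraMap T₀ S (r : T₀)) := by
    have h1 : (r : T₀) ∉ q₀ := hr
    rwa [Ideal.mem_comap, IsLocalRing.notMem_maximalIdeal] at h1
  have hrS'' : algebraMap T₀ S (r : T₀) ∈ S'' := Subalgebra.mem_map.mpr ⟨(r : T₀), r.2, rfl⟩
  let r'' : S'' := ⟨algebraMap T₀ S (r : T₀), hrS''⟩
  have key : ∀ t : T₀, ∃ (a : S'') (n : ℕ),
      algebraMap T₀ S t * algebraMap T₀ S (r : T₀) ^ n = algebraMap S'' S a := by
    intro t
    obtain ⟨b, m, hb⟩ := hsurj t
    refine ⟨⟨algebraMap T₀ S (b : T₀), Subalgebra.mem_map.mpr ⟨(b : T₀), b.2, rfl⟩⟩, m, ?_⟩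
    have h2 : (b : T₀) = (r : T₀) ^ m * t := hb
    show _ = algebraMap T₀ S (b : T₀)
    rw [h2, map_mul, map_pow, mul_comm]
  refine (isLocalization_iff _ _).mpr ⟨?_, ?_, ?_⟩
  · rintro ⟨y, hy⟩
    exact (IsLocalRing.notMem_maximalIdeal).mp hy
  · intro z
    obtain ⟨⟨t, u⟩, htu⟩ := IsLocalization.surj (Algebra.EssFiniteType.submonoid R S) z
    have hu : IsUnit (algebraMap T₀ S (u : T₀)) := u.2
    obtain ⟨a, n, ha⟩ := key t
    obtain ⟨b, m, hb⟩ := key u
    have e1 : algebraMap S'' S (b * r'' ^ n) =
        algebraMap S'' S b * algebraMap T₀ S (r : T₀) ^ n := by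
      rw [map_mul, map_pow]; rfl
    have e2 : algebraMap S'' S (a * r'' ^ m) =
        algebraMap S'' S a * algebraMap T₀ S (r : T₀) ^ m := by
      rw [map_mul, map_pow]; rfl
    have hden : b * r'' ^ n ∈ q.primeCompl := by
      show ¬ (algebraMap S'' S (b * r'' ^ n) ∈ IsLocalRing.maximalIdeal S)
      rw [IsLocalRing.notMem_maximalIdeal, e1, ← hb]
      exact (hu.mul (hrS.pow m)).mul (hrS.pow n)
    refine ⟨(a * r'' ^ m, ⟨b * r'' ^ n, hden⟩), ?_⟩
    show z * algebraMap S'' S (b * r'' ^ n) = algebraMap S'' S (a * r'' ^ m)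
    have htu' : z * algebraMap T₀ S (u : T₀) = algebraMap T₀ S t := htu
    rw [e1, e2, ← hb, ← ha, ← htu']
    ring
  · intro x y hxy
    have : x = y := Subtype.ext hxy
    subst this
    exact ⟨1, rfl⟩

end Groth.Agent.S9137
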