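import Groth.Statements.S9139
import Mathlib.RingTheory.FiniteType
import Mathlib.RingTheory.Ideal.Quotient.Operations
import Mathlib.RingTheory.Nilpotent.Lemmas
import Mathlib.RingTheory.Nilpotent.Basic
import Mathlib.RingTheory.Finiteness.Ideal
import Mathlib.RingTheory.Ideal.Maps
import Mathlib.RingTheory.Noetherian.Nilpotent

set_option autoImplicit false
universe u
open CAlg

namespace Groth.Agent.S9139

/-- finite sub-ideal witnessing membership in an extended ideal -/
theorem exists_finset_of_mem_map {R S' : Type u} [CommRing R] [CommRing S'] [Algebra R S']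
    (I : Ideal R) (z : S') (hz : z ∈ I.map (algebraMap R S')) :
    ∃ F : Finset R, (F : Set R) ⊆ I ∧ z ∈ (Ideal.span (F : Set R)).map (algebraMap R S') := by
  classical
  unfold Ideal.map at hz
  obtain ⟨T, hT, hzT⟩ := Submodule.mem_span_finite_of_mem_span hz
  obtain ⟨F, hF, rfl⟩ := Finset.subset_set_image_iff.mp hT
  refine ⟨F, hF, ?_⟩
  rw [Ideal.map_span]
  simpa using hzT

/-- Nilpotent Nakayama for arbitrary modules. -/
theorem top_le_of_top_le_sup_smul {R M : Type u} [CommRing R] [AddCommGroup M] [Module R M]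
    (J : Ideal R) (hJ : IsNilpotent J) (N : Submodule R M)
    (h : (⊤ : Submodule R M) ≤ N ⊔ J • ⊤) : (⊤ : Submodule R M) ≤ N := by
  have key : ∀ n : ℕ, (⊤ : Submodule R M) ≤ N ⊔ (J ^ n) • ⊤ := by
    intro n
    induction n with
    | zero => simp
    | succ n ih =>
      calc (⊤ : Submodule R M) ≤ N ⊔ (J ^ n) • ⊤ := ih
        _ ≤ N ⊔ (J ^ n) • (N ⊔ J • ⊤) := by
            gcongr
        _ = N ⊔ ((J ^ n) • N ⊔ (J ^ n) • (J • ⊤)) := by rw [Submodule.smul_sup]
        _ ≤ N ⊔ (J ^ (n + 1)) • ⊤ := by
            apply sup_le le_sup_left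
            apply sup_le
            · exact le_trans Submodule.smul_le_right le_sup_left
            · rw [← Submodule.mul_smul, ← pow_succ]
              exact le_sup_right
  obtain ⟨n, hn⟩ := hJ
  have := key n
  rw [hn] at this
  simpa using this

/-- Let I be a locally nilpotent ideal of a ring R (every element of I is nilpotent) and S → S' a map of
R-algebras with S' of finite type over R. If S → S'/IS' is surjective then so is S → S'. -/
theorem result (R S S' : Type u) [CommRing R] [CommRing S]
    [CommRing S'] [Algebra R S] [Algebra R S'] [Algebra.FiniteType R S'] (I : Ideal R)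
    (hI : ∀ x ∈ I, IsNilpotent x) (f : S →ₐ[R] S')
    (hf : Function.Surjective ((Ideal.Quotient.mk (I.map (algebraMap R S'))).comp f.toRingHom)) :
    Function.Surjective f := by
  classical
  obtain ⟨s, hs⟩ := (Algebra.FiniteType.out : (⊤ : Subalgebra R S').FG)
  -- for each generator choose a preimage mod I and a finite witness
  have hch : ∀ x : S', ∃ (t : S) (F : Finset R), (F : Set R) ⊆ I ∧
      x - f t ∈ (Ideal.span (F : Set R)).map (algebraMap R S') := by
    intro x
    obtain ⟨t, ht⟩ := hf (Ideal.Quotient.mk _ x)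
    have hmem : x - f t ∈ I.map (algebraMap R S') := by
      rw [← Ideal.Quotient.eq]
      exact ht.symm
    obtain ⟨F, hF, hFz⟩ := exists_finset_of_mem_map I _ hmem
    exact ⟨t, F, hF, hFz⟩
  choose t F hFI hFmem using hch
  let G : Finset R := s.biUnion F
  let J : Ideal R := Ideal.span (G : Set R)
  have hJI : J ≤ I := by
    rw [Ideal.span_le]
    intro a ha
    simp only [G, Finset.coe_biUnion, Set.mem_iUnion] at ha
    obtain ⟨x, _, hx⟩ := ha
    exact hFI x hx
  have hJfg : J.FG := ⟨G, rfl⟩
  have hJnil : IsNilpotent J := by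
    rw [Ideal.FG.isNilpotent_iff_le_nilradical hJfg]
    intro a ha
    exact hI a (hJI ha)
  let JS' : Ideal S' := J.map (algebraMap R S')
  have hgen : ∀ x ∈ s, x - f (t x) ∈ JS' := by
    intro x hx
    have hle : (Ideal.span (F x : Set R)).map (algebraMap R S') ≤ JS' := by
      apply Ideal.map_mono
      apply Ideal.span_mono
      intro a ha
      simp only [G, Finset.coe_biUnion, Set.mem_iUnion]
      exact ⟨x, hx, ha⟩
    exact hle (hFmem x)
  -- the composite to the quotient by JS' is surjective
  let g : S →ₐ[R] S' ⧸ JS' := (Ideal.Quotient.mkₐ R JS').comp f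
  have hg : g.range = ⊤ := by
    rw [eq_top_iff]
    have h1 : (⊤ : Subalgebra R (S' ⧸ JS')) = (⊤ : Subalgebra R S').map (Ideal.Quotient.mkₐ R JS') := by
      rw [Algebra.map_top]
      exact ((AlgHom.range_eq_top _).mpr (Ideal.Quotient.mkₐ_surjective R JS')).symm
    rw [h1, ← hs, AlgHom.map_adjoin, Algebra.adjoin_le_iff]
    rintro _ ⟨x, hx, rfl⟩
    refine ⟨t x, ?_⟩
    show (Ideal.Quotient.mkₐ R JS') (f (t x)) = (Ideal.Quotient.mkₐ R JS') x
    rw [eq_comm]
    simp only [Ideal.Quotient.mkₐ_eq_mk]
    rw [Ideal.Quotient.eq]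
    exact hgen x hx
  have hgsurj : Function.Surjective g := (AlgHom.range_eq_top g).mp hg
  -- now Nakayama
  let N : Submodule R S' := LinearMap.range f.toLinearMap
  have hbase : (⊤ : Submodule R S') ≤ N ⊔ J • ⊤ := by
    intro y _
    obtain ⟨u, hu⟩ := hgsurj (Ideal.Quotient.mk JS' y)
    have hmem : y - f u ∈ JS' := by
      rw [← Ideal.Quotient.eq]
      exact hu.symm
    have hmem' : y - f u ∈ J • (⊤ : Submodule R S') := by
      rw [Ideal.smul_top_eq_map]
      exact hmem
    have : y = f u + (y - f u) := by ring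
    rw [this]
    exact Submodule.add_mem_sup ⟨u, rfl⟩ hmem'
  have htop := top_le_of_top_le_sup_smul J hJnil N hbase
  intro y
  obtain ⟨u, hu⟩ := htop (Submodule.mem_top : y ∈ ⊤)
  exact ⟨u, hu⟩

end Groth.Agent.S9139
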