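import Groth.Statements.S9140
import Groth.Agent.S9139
import Mathlib.RingTheory.FinitePresentation
import Mathlib.RingTheory.LocalRing.Module
import Mathlib.RingTheory.Flat.Basic
import Mathlib.LinearAlgebra.TensorProduct.Quotient
import Mathlib.RingTheory.Nakayama
import Mathlib.RingTheory.Jacobson.Ideal

set_option autoImplicit false
universe u
open CAlg

namespace Groth.Agent.S9140

open TensorProduct in
/-- If `N₃` is flat and `0 → N₁ → N₂ → N₃ → 0` is exact then `N₁ ∩ I N₂ = I N₁`. -/
theorem mem_smul_top_of_flat {R : Type u} [CommRing R] {N₁ N₂ N₃ : Type u}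
    [AddCommGroup N₁] [Module R N₁] [AddCommGroup N₂] [Module R N₂] [AddCommGroup N₃] [Module R N₃]
    (g₁ : N₁ →ₗ[R] N₂) (g₂ : N₂ →ₗ[R] N₃) (hex : Function.Exact g₁ g₂)
    (hsurj : Function.Surjective g₂) (hinj : Function.Injective g₁) [Module.Flat R N₃]
    (I : Ideal R) (x : N₁) (hx : g₁ x ∈ I • (⊤ : Submodule R N₂)) :
    x ∈ I • (⊤ : Submodule R N₁) := by
  have hfex : Function.Exact (Submodule.subtype I) (Submodule.mkQ I) := by
    intro y
    rw [Submodule.mkQ_apply, Submodule.Quotient.mk_eq_zero]
    simp
  have key : Function.Injective (g₁.lTensor (R ⧸ I)) :=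
    lTensor_injective_of_exact_of_exact_of_rTensor_injective (f₁ := Submodule.subtype I)
      (f₂ := Submodule.mkQ I) hfex (Submodule.mkQ_surjective I) hex hsurj
      (Module.Flat.rTensor_preserves_injective_linearMap _ (Submodule.injective_subtype I))
      (Module.Flat.lTensor_preserves_injective_linearMap _ hinj)
  have h1 : (1 : R ⧸ I) ⊗ₜ[R] x = 0 := by
    apply key
    rw [map_zero, LinearMap.lTensor_tmul]
    apply (TensorProduct.quotTensorEquivQuotSMul N₂ I).injective
    rw [map_zero, TensorProduct.quotTensorEquivQuotSMul_mk_one_tmul]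
    exact (Submodule.Quotient.mk_eq_zero _).mpr hx
  have h2 := congrArg (TensorProduct.quotTensorEquivQuotSMul N₁ I) h1
  rw [map_zero, TensorProduct.quotTensorEquivQuotSMul_mk_one_tmul] at h2
  exact (Submodule.Quotient.mk_eq_zero _).mp h2

/-- Let I be a locally nilpotent ideal of a ring R and S → S' a map of R-algebras with S of finite type
over R and S' of finite presentation and flat over R. If the induced map S/IS → S'/IS' is bijective
(stated as: S → S'/IS' is surjective with kernel IS), then S → S' is bijective. -/
theorem result (R S S' : Type u)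
    [CommRing R] [CommRing S] [CommRing S'] [Algebra R S] [Algebra R S'] [Algebra.FiniteType R S]
    [Algebra.FinitePresentation R S'] [Module.Flat R S'] (I : Ideal R) (hI : ∀ x ∈ I, IsNilpotent x)
    (f : S →ₐ[R] S')
    (hsurj : Function.Surjective ((Ideal.Quotient.mk (I.map (algebraMap R S'))).comp f.toRingHom))
    (hker : ∀ s : S, f s ∈ I.map (algebraMap R S') → s ∈ I.map (algebraMap R S)) :
    Function.Bijective f := by
  have hfsurj : Function.Surjective f := Groth.Agent.S9139.result R S S' I hI f hsurj
  refine ⟨?_, hfsurj⟩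
  -- the kernel is finitely generated
  have hKfg : (RingHom.ker f.toRingHom).FG := by
    obtain ⟨n, g, hg⟩ := Algebra.FiniteType.iff_quotient_mvPolynomial''.mp
      (inferInstance : Algebra.FiniteType R S)
    have h1 := (Algebra.FinitePresentation.ker_fg_of_mvPolynomial (f.comp g) (hfsurj.comp hg)).map
      g.toRingHom
    convert h1
    simp_rw [RingHom.ker_eq_comap_bot, AlgHom.toRingHom_eq_coe, AlgHom.comp_toRingHom]
    rw [← Ideal.comap_comap, Ideal.map_comap_of_surjective (g : MvPolynomial (Fin n) R →+* S) hg]
  set K : Ideal S := RingHom.ker f.toRingHom with hK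
  set IS : Ideal S := I.map (algebraMap R S) with hIS
  -- IS is contained in the Jacobson radical
  have hISjac : IS ≤ Ideal.jacobson ⊥ := by
    have h1 : IS ≤ nilradical S := by
      rw [hIS, Ideal.map_le_iff_le_comap]
      intro a ha
      rw [Ideal.mem_comap, mem_nilradical]
      exact (hI a ha).map _
    exact h1.trans Ideal.radical_le_jacobson
  -- K ≤ IS * K
  have hle : K ≤ IS • K := by
    intro x hx
    let K' : Submodule R S := K.restrictScalars R
    have hex : Function.Exact K'.subtype f.toLinearMap := by
      intro y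
      constructor
      · intro hy
        exact ⟨⟨y, hy⟩, rfl⟩
      · rintro ⟨z, rfl⟩
        exact z.2
    have hxI : K'.subtype ⟨x, hx⟩ ∈ I • (⊤ : Submodule R S) := by
      rw [Ideal.smul_top_eq_map]
      apply hker
      have : f x = 0 := hx
      show f x ∈ _
      rw [this]
      exact zero_mem _
    have hmem := mem_smul_top_of_flat K'.subtype f.toLinearMap hex hfsurj
      (Submodule.injective_subtype K') I ⟨x, hx⟩ hxI
    have hgen : ∀ z : K', z ∈ I • (⊤ : Submodule R K') → (z : S) ∈ IS • K := by
      intro z hz
      refine Submodule.smul_induction_on (p := fun z : K' => (z : S) ∈ IS • K) hz ?_ ?_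
      · intro a ha k _
        have : ((a • k : K') : S) = algebraMap R S a * (k : S) := by
          rw [Submodule.coe_smul, Algebra.smul_def]
        rw [this, smul_eq_mul]
        exact Ideal.mul_mem_mul (Ideal.mem_map_of_mem _ ha) k.2
      · intro y z hy hz
        rw [Submodule.coe_add]
        exact Submodule.add_mem _ hy hz
    exact hgen ⟨x, hx⟩ hmem
  have hKbot : K = ⊥ := Submodule.eq_bot_of_le_smul_of_le_jacobson_bot IS K hKfg hle hISjac
  have : Function.Injective f.toRingHom := (RingHom.injective_iff_ker_eq_bot _).mpr hKbot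
  exact this

end Groth.Agent.S9140
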