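import Groth.Statements.S9143
import Groth.Agent.H66.GlobalCI4
import Groth.Agent.S9144

set_option autoImplicit false
universe u
open Synt

namespace Groth.Agent.S9143

open Groth.Agent.H66.GlobalCI in
theorem ker_ne_top {k R S : Type u} [CommRing k] [CommRing R] [CommRing S] [Nontrivial S]
    [Algebra k R] [Algebra k S] (π : R →ₐ[k] S) : RingHom.ker π.toRingHom ≠ ⊤ := by
  intro htop
  have : (1 : R) ∈ RingHom.ker π.toRingHom := htop ▸ Submodule.mem_top
  rw [RingHom.mem_ker, map_one] at this
  exact one_ne_zero this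


/-- For a local k-algebra S which is essentially of finite type over a field k, being a complete
intersection over k is equivalent to each of: (2) whenever a regular local ring R, essentially of
finite type over k, maps onto S by a surjective k-algebra map, the kernel is generated by a regular
sequence; (3) some regular local ring R, essentially of finite type over k, maps onto S by a
surjective k-algebra map whose kernel is generated by a list of dim R − dim S elements (stated as
dim R = dim S + the length of the list); (4) S is isomorphic over k to a localization at a prime of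
a global complete intersection over k; (5) the same with a local complete intersection over k. -/
theorem result (k S : Type u) [Field k] [CommRing S]
    [IsLocalRing S] [Algebra k S] [Algebra.EssFiniteType k S] :
    (Synt.IsCIOver k S ↔
        ∀ (R : Type u) [CommRing R] [IsRegularLocalRing R] [Algebra k R], Algebra.EssFiniteType k R →
          ∀ π : R →ₐ[k] S, Function.Surjective π →
            ∃ rs : List R, RingTheory.Sequence.IsRegular R rs ∧ RingHom.ker π.toRingHom = Ideal.ofList rs) ∧
      (Synt.IsCIOver k S ↔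
        ∃ (R : Type u) (_ : CommRing R) (_ : IsRegularLocalRing R) (_ : Algebra k R),
          Algebra.EssFiniteType k R ∧ ∃ π : R →ₐ[k] S, Function.Surjective π ∧
            ∃ rs : List R, RingHom.ker π.toRingHom = Ideal.ofList rs ∧
              ringKrullDim R = ringKrullDim S + (rs.length : WithBot ℕ∞)) ∧
      (Synt.IsCIOver k S ↔
        ∃ (A : Type u) (_ : CommRing A) (_ : Algebra k A) (a : Ideal A) (_ : a.IsPrime),
          Algebra.FiniteType k A ∧ Synt.IsGlobalCI k A ∧ Nonempty (S ≃ₐ[k] Localization.AtPrime a)) ∧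
      (Synt.IsCIOver k S ↔
        ∃ (A : Type u) (_ : CommRing A) (_ : Algebra k A) (a : Ideal A) (_ : a.IsPrime),
          Synt.IsLCIOver k A ∧ Nonempty (S ≃ₐ[k] Localization.AtPrime a)) := by
  haveI : Nontrivial S := inferInstance
  have h3f : Synt.IsCIOver k S →
      ∃ (A : Type u) (_ : CommRing A) (_ : Algebra k A) (a : Ideal A) (_ : a.IsPrime),
        Algebra.FiniteType k A ∧ Synt.IsGlobalCI k A ∧
          Nonempty (S ≃ₐ[k] Localization.AtPrime a) := by
    intro h
    obtain ⟨A, i1, i2, a, i3, hft, ⟨e⟩⟩ :=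
      Groth.Agent.H66.GlobalCI.exists_atPrime_equiv_of_essFiniteType k S
    have h1 : Synt.IsCIOver k (Localization.AtPrime a) :=
      Groth.Agent.H66.GlobalCI.isCIOver_of_algEquiv e h
    obtain ⟨g, hg, hgci⟩ := ((Groth.Agent.S9144.result k A a).2).mp h1
    obtain ⟨Q, hQ, -, ⟨e2⟩⟩ :=
      Groth.Agent.H66.GlobalCI.exists_atPrime_away_equiv (k := k) a g hg
    haveI : Algebra.FiniteType A (Localization.Away g) :=
      IsLocalization.finiteType_of_monoid_fg (Submonoid.powers g) _
    haveI : Algebra.FiniteType k (Localization.Away g) :=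
      Algebra.FiniteType.trans (R := k) (S := A) (A := Localization.Away g) inferInstance
        inferInstance
    exact ⟨Localization.Away g, inferInstance, inferInstance, Q, hQ, inferInstance, hgci,
      ⟨e.trans e2⟩⟩
  refine ⟨⟨?_, ?_⟩, ⟨?_, ?_⟩, ⟨h3f, ?_⟩, ⟨?_, ?_⟩⟩
  · intro h R _ _ _ hess π hπ
    obtain ⟨R0, i1, i2, i3, hess0, rs0, hm0, hr0, ⟨e0⟩⟩ := h
    have hI := Groth.Agent.H66.GlobalCI.ofList_ne_top rs0 hr0
    have hJ : RingHom.ker π.toRingHom ≠ ⊤ := ker_ne_top π
    let e1 : (R ⧸ RingHom.ker π.toRingHom) ≃+* S := RingHom.quotientKerEquivOfSurjective hπ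
    obtain ⟨rs, hrs, hrsI⟩ := (Groth.Agent.H66.GlobalCI.regular_iff_of_ringEquiv
      (Ideal.ofList rs0) (RingHom.ker π.toRingHom) hI hJ
      (e0.symm.toRingEquiv.trans e1.symm)).mp ⟨rs0, hr0, rfl⟩
    exact ⟨rs, hrs, hrsI.symm⟩
  · intro h
    obtain ⟨R, i1, i2, i3, hess, π, hπ⟩ :=
      Groth.Agent.H66.GlobalCI.exists_regular_surjective k S
    obtain ⟨rs, hrs, hker⟩ := h R hess π hπ
    exact Groth.Agent.H66.GlobalCI.isCIOver_of_surjective hess π hπ rs hrs hker
  · rintro ⟨R, i1, i2, i3, hess, rs, hm, hr, ⟨e0⟩⟩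
    refine ⟨R, i1, i2, i3, hess, (e0.symm.toAlgHom).comp (Ideal.Quotient.mkₐ k _), ?_, rs, ?_, ?_⟩
    · exact e0.symm.surjective.comp (Ideal.Quotient.mkₐ_surjective k _)
    · ext x
      rw [RingHom.mem_ker]
      show e0.symm (Ideal.Quotient.mk _ x) = 0 ↔ _
      rw [map_eq_zero_iff _ e0.symm.injective, Ideal.Quotient.eq_zero_iff_mem]
    · have h1 := ringKrullDim_add_length_eq_ringKrullDim_of_isRegular rs hr
      rw [← h1, ringKrullDim_eq_of_ringEquiv e0.toRingEquiv]
  · rintro ⟨R, i1, i2, i3, hess, π, hπ, rs, hker, hdim⟩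
    have hne : Ideal.ofList rs ≠ ⊤ := by rw [← hker]; exact ker_ne_top π
    have hmem : ∀ x ∈ rs, x ∈ IsLocalRing.maximalIdeal R := fun x hx =>
      IsLocalRing.le_maximalIdeal hne (Ideal.subset_span hx)
    have hCM : LocCoh.IsCohenMacaulayLocalRing R :=
      ⟨Groth.Agent.H21.HilbertCI.isCM_of_isRegularLocalRing R⟩
    have hreg : RingTheory.Sequence.IsRegular R rs := by
      rw [Groth.Agent.H66.FibreReg.isRegular_iff_dim hCM rs hmem, hdim]
      congr 1
      exact ringKrullDim_eq_of_ringEquiv ((Ideal.quotEquivOfEq hker.symm).trans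
        (RingHom.quotientKerEquivOfSurjective hπ))
    exact Groth.Agent.H66.GlobalCI.isCIOver_of_surjective hess π hπ rs hreg hker
  · rintro ⟨A, i1, i2, a, i3, hft, hgci, ⟨e⟩⟩
    exact Groth.Agent.H66.GlobalCI.isCIOver_of_algEquiv e.symm
      (Groth.Agent.H66.GlobalCI.isCIOver_atPrime_of_isGlobalCI hgci a)
  · intro h
    obtain ⟨A, i1, i2, a, i3, hft, hgci, he⟩ := h3f h
    exact ⟨A, i1, i2, a, i3, Groth.Agent.H66.GlobalCI.isLCIOver_of_isGlobalCI hgci, he⟩
  · rintro ⟨A, i1, i2, a, i3, hlci, ⟨e⟩⟩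
    obtain ⟨g, hg, hgci⟩ := hlci.2 ⟨a, i3⟩
    exact Groth.Agent.H66.GlobalCI.isCIOver_of_algEquiv e.symm
      (Groth.Agent.H66.GlobalCI.isCIOver_atPrime_of_isGlobalCI_away a g hg hgci)

end Groth.Agent.S9143
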