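import Groth.Statements.S9147
import Groth.Agent.H66.RelGCI5

set_option autoImplicit false
universe u
open Synt

namespace Groth.Agent.S9147




/-- A relative global complete intersection over a ring R is syntomic over R, in particular flat. -/
theorem result (R : Type u) [CommRing R] (n c : ℕ) (F : Fin c → MvPolynomial (Fin n) R)
    (h : Synt.IsRelGCI R n c F) : Synt.IsSyntomic R (Synt.RelGCIRing R n c F) := by
  exact Groth.Agent.H66.RelGCI.isSyntomic_of_isRelGCI R n c F h

end Groth.Agent.S9147
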