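import Groth.Statements.S9149
import Groth.Agent.H66.RelGCI5
import Groth.Agent.S15044
import Groth.Agent.Lead.SyntIso

set_option autoImplicit false
universe u
open Synt

namespace Groth.Agent.S9149

set_option linter.style.haveILetI false
open Polynomial

noncomputable def psi (A : Type u) [CommRing A] : MvPolynomial (Fin 1) A ≃ₐ[A] A[X] :=
  MvPolynomial.uniqueAlgEquiv A (Fin 1)

noncomputable def eAdj (A : Type u) [CommRing A] (f : A[X]) :
    Synt.RelGCIRing A 1 1 (fun _ => (psi A).symm f) ≃ₐ[A] AdjoinRoot f :=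
  Ideal.quotientEquivAlg (Ideal.span (Set.range fun _ : Fin 1 => (psi A).symm f))
    (Ideal.span {f}) (psi A) (by
      rw [Set.range_const, Ideal.map_span, Set.image_singleton]
      simp)

theorem adjoinRoot_props (A : Type u) [CommRing A] (f : A[X]) (hf : f.Monic) (hu : ¬ IsUnit f) :
    Synt.IsSyntomic A (AdjoinRoot f) ∧ Module.Finite A (AdjoinRoot f) ∧
      Module.Free A (AdjoinRoot f) ∧ Module.FaithfullyFlat A (AdjoinRoot f) := by
  haveI hfin : Module.Finite A (AdjoinRoot f) := hf.finite_adjoinRoot
  haveI hfree : Module.Free A (AdjoinRoot f) := hf.free_adjoinRoot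
  refine ⟨?_, hfin, hfree, ?_⟩
  · have hrel : Synt.IsRelGCI A 1 1 (fun _ => (psi A).symm f) := by
      intro p hnt
      refine ⟨le_rfl, ?_⟩
      haveI : Module.Finite A (Synt.RelGCIRing A 1 1 (fun _ => (psi A).symm f)) :=
        Module.Finite.equiv (eAdj A f).symm.toLinearEquiv
      haveI : Module.Finite p.asIdeal.ResidueField
          (p.asIdeal.Fiber (Synt.RelGCIRing A 1 1 (fun _ => (psi A).symm f))) :=
        inferInstanceAs (Module.Finite p.asIdeal.ResidueField
          (TensorProduct A p.asIdeal.ResidueField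
            (Synt.RelGCIRing A 1 1 (fun _ => (psi A).symm f))))
      haveI : IsArtinianRing (p.asIdeal.Fiber (Synt.RelGCIRing A 1 1 (fun _ => (psi A).symm f))) :=
        IsArtinianRing.of_finite p.asIdeal.ResidueField
          (p.asIdeal.Fiber (Synt.RelGCIRing A 1 1 (fun _ => (psi A).symm f)))
      rw [Nat.sub_self, Nat.cast_zero, ← ringKrullDimZero_iff_ringKrullDim_eq_zero]
      exact ((isArtinianRing_iff_isNoetherianRing_krullDimLE_zero
        (R := p.asIdeal.Fiber (Synt.RelGCIRing A 1 1 (fun _ => (psi A).symm f)))).mp this).2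
    exact Groth.Agent.Lead.SyntIso.isSyntomic_of_algEquiv (eAdj A f)
      (Groth.Agent.H66.RelGCI.isSyntomic_of_isRelGCI A 1 1 _ hrel)
  · rcases subsingleton_or_nontrivial A with hA | hA
    · exact ⟨fun 𝔪 h𝔪 => absurd (Subsingleton.elim _ _) h𝔪.ne_top⟩
    · haveI : Nontrivial (AdjoinRoot f) := Ideal.Quotient.nontrivial_iff.mpr (by simpa)
      infer_instance

theorem main : ∀ (n : ℕ) (A : Type u) [CommRing A] (P : A[X]), P.Monic → P.natDegree = n →
    ∃ (A' : Type u) (_ : CommRing A') (_ : Algebra A A'),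
      Synt.IsSyntomic A A' ∧ Module.Finite A A' ∧ Module.Free A A' ∧
        Module.FaithfullyFlat A A' ∧
        ∃ s : Multiset A', P.map (algebraMap A A') = (s.map fun b => X - C b).prod := by
  intro n
  induction n using Nat.strong_induction_on with
  | _ n IH =>
  intro A _ P hP hn
  by_cases hpu : IsUnit P
  · obtain rfl := hP.eq_one_of_isUnit hpu
    exact ⟨A, inferInstance, inferInstance, Groth.Agent.S15044.isSyntomic_self A, inferInstance,
      inferInstance, inferInstance, 0, by simp⟩
  obtain ⟨h1, h2, h3, h4⟩ := adjoinRoot_props A P hP hpu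
  haveI : Nontrivial A := by
    rcases subsingleton_or_nontrivial A with hA | hA
    · exact absurd (isUnit_of_subsingleton P) hpu
    · exact hA
  haveI : Nontrivial (AdjoinRoot P) := Ideal.Quotient.nontrivial_iff.mpr (by simpa)
  obtain ⟨q, hq⟩ : X - C (AdjoinRoot.root P) ∣ P.map (algebraMap A (AdjoinRoot P)) := by
    simp [dvd_iff_isRoot, -AdjoinRoot.algebraMap_eq]
  have hqm : q.Monic := .of_mul_monic_left (monic_X_sub_C (.root _)) (hq ▸ hP.map _)
  obtain ⟨A', i1, i2, k1, k2, k3, k4, s, hs⟩ := IH q.natDegree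
    (by rw [← hn, ← hP.natDegree_map (algebraMap A (AdjoinRoot P)), hq,
      Monic.natDegree_mul (monic_X_sub_C _) hqm]; simp) (AdjoinRoot P) q hqm rfl
  letI : Algebra A A' := ((algebraMap (AdjoinRoot P) A').comp (algebraMap A (AdjoinRoot P))).toAlgebra
  haveI : IsScalarTower A (AdjoinRoot P) A' := IsScalarTower.of_algebraMap_eq (fun _ => rfl)
  refine ⟨A', i1, inferInstance, Groth.Agent.S15044.isSyntomic_comp A (AdjoinRoot P) A' h1 k1,
    Module.Finite.trans (AdjoinRoot P) A', Module.Free.trans (S := AdjoinRoot P),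
    Module.FaithfullyFlat.trans A (AdjoinRoot P) A',
    algebraMap (AdjoinRoot P) A' (AdjoinRoot.root P) ::ₘ s, ?_⟩
  rw [IsScalarTower.algebraMap_eq A (AdjoinRoot P) A', ← Polynomial.map_map, hq, Polynomial.map_mul,
    hs, Multiset.map_cons, Multiset.prod_cons, Polynomial.map_sub, Polynomial.map_X,
    Polynomial.map_C]


open Polynomial in
/-- A monic polynomial over a ring A splits into linear factors over some A-algebra A' that is syntomic,
finite free and faithfully flat over A. -/
theorem result (A : Type u) [CommRing A] (P : A[X]) (hP : P.Monic) :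
    ∃ (A' : Type u) (_ : CommRing A') (_ : Algebra A A'),
      Synt.IsSyntomic A A' ∧ Module.Finite A A' ∧ Module.Free A A' ∧ Module.FaithfullyFlat A A' ∧
        ∃ s : Multiset A', P.map (algebraMap A A') = (s.map fun b => X - C b).prod := by
  exact main P.natDegree A P hP rfl

end Groth.Agent.S9149
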