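import Groth.Statements.S9153
import Groth.Agent.H54.AffineDim2

set_option autoImplicit false
universe u
open CAlg

namespace Groth.Agent.S9153

/-- In a polynomial ring in finitely many variables over a field, every saturated chain of primes
between two primes p ⊆ q has length equal to the difference of their heights (stated additively:
length + height p = height q). -/
theorem result (k : Type u) [Field k] (n : ℕ)
    (s : LTSeries (PrimeSpectrum (MvPolynomial (Fin n) k)))
    (hsat : ∀ i : Fin s.length, s (Fin.castSucc i) ⋖ s (Fin.succ i)) :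
    (s.length : ℕ∞) + s.head.asIdeal.height = s.last.asIdeal.height := by
  have hchain : ∀ i : Fin (s.length + 1),
      ringKrullDim (MvPolynomial (Fin n) k ⧸ (s 0).asIdeal) =
        ringKrullDim (MvPolynomial (Fin n) k ⧸ (s i).asIdeal) + ((i : ℕ) : WithBot ℕ∞) := by
    intro i
    induction i using Fin.induction with
    | zero => simp
    | succ i ih =>
      have hc := Groth.Agent.H54.ringKrullDim_quotient_add_one_of_covBy k
        (MvPolynomial (Fin n) k) _ _ (hsat i)
      rw [ih, ← hc, Fin.val_succ, Fin.val_castSucc]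
      push_cast
      rw [add_assoc, add_comm (1 : WithBot ℕ∞)]
  have hlast := hchain (Fin.last _)
  have h1 := Groth.Agent.H54.height_add_ringKrullDim_quotient k (MvPolynomial (Fin n) k) s.head
  have h2 := Groth.Agent.H54.height_add_ringKrullDim_quotient k (MvPolynomial (Fin n) k) s.last
  rw [Groth.Agent.H54.ringKrullDim_mvPolynomial_field] at h1 h2
  obtain ⟨a, ha⟩ : ∃ a : ℕ, s.head.asIdeal.height = a :=
    ⟨_, (ENat.natCast_toNat Ideal.height_ne_top_of_isPrime).symm⟩
  obtain ⟨c, hc⟩ : ∃ c : ℕ, s.last.asIdeal.height = c :=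
    ⟨_, (ENat.natCast_toNat Ideal.height_ne_top_of_isPrime).symm⟩
  obtain ⟨b, hb⟩ : ∃ b : ℕ, ringKrullDim (MvPolynomial (Fin n) k ⧸ s.last.asIdeal) = b := by
    have hnn : (0 : WithBot ℕ∞) ≤ ringKrullDim (MvPolynomial (Fin n) k ⧸ s.last.asIdeal) :=
      ringKrullDim_nonneg_of_nontrivial
    have hne : ringKrullDim (MvPolynomial (Fin n) k ⧸ s.last.asIdeal) ≠ ⊥ := by
      intro h
      rw [h] at hnn
      simp at hnn
    refine Groth.Agent.H54.exists_nat_eq_of_le hne (n := n) ?_
    rw [← Groth.Agent.H54.ringKrullDim_mvPolynomial_field k n]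
    exact ringKrullDim_quotient_le _
  have hlast' : ringKrullDim (MvPolynomial (Fin n) k ⧸ s.head.asIdeal) =
      (b : WithBot ℕ∞) + (s.length : WithBot ℕ∞) := by
    rw [← hb]
    exact hlast
  rw [ha, hlast'] at h1
  rw [hc, hb] at h2
  have e1 : a + (b + s.length) = n := by exact_mod_cast h1
  have e2 : c + b = n := by exact_mod_cast h2
  rw [ha, hc]
  have e3 : s.length + a = c := by omega
  exact_mod_cast e3

end Groth.Agent.S9153
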