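import Groth.Statements.S9154
import Groth.Agent.H66.FibreReg

set_option autoImplicit false
universe u
open CAlg

namespace Groth.Agent.S9154

set_option linter.style.haveILetI false in
open Groth.Agent.H66.FibreReg Groth.Agent.H9.FibDim in
theorem main (k S : Type u) [Field k] [CommRing S] [Algebra k S]
    [Algebra.FiniteType k S] [LocCoh.IsCohenMacaulayRing S] (d : ℕ)
    (heq : ∀ p ∈ minimalPrimes S, ringKrullDim (S ⧸ p) = d) (f : List S) (hi : f.length ≤ d)
    (hne : Ideal.ofList f ≠ ⊤)
    (hle : ringKrullDim (S ⧸ Ideal.ofList f) ≤ ((d - f.length : ℕ) : WithBot ℕ∞)) :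
    ringKrullDim (S ⧸ Ideal.ofList f) = ((d - f.length : ℕ) : WithBot ℕ∞) ∧
      ∀ (q : Ideal S) [q.IsPrime], Ideal.ofList f ≤ q →
        RingTheory.Sequence.IsRegular (Localization.AtPrime q)
          (f.map (algebraMap S (Localization.AtPrime q))) := by
  haveI : IsNoetherianRing S := Algebra.FiniteType.isNoetherianRing k S
  have key : ∀ (q : Ideal S) [q.IsPrime], Ideal.ofList f ≤ q →
      RingTheory.Sequence.IsRegular (Localization.AtPrime q)
        (f.map (algebraMap S (Localization.AtPrime q))) ∧
      ((d - f.length : ℕ) : WithBot ℕ∞) ≤ ringKrullDim (S ⧸ Ideal.ofList f) := by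
    intro q _ hIq
    obtain ⟨I, hI⟩ : ∃ I : Ideal S, I = Ideal.ofList f := ⟨_, rfl⟩
    rw [← hI] at hIq hle ⊢
    haveI : (q.map (Ideal.Quotient.mk I)).IsPrime :=
      Ideal.map_isPrime_of_surjective Ideal.Quotient.mk_surjective
        (by rw [Ideal.mk_ker]; exact hIq)
    obtain ⟨cq, hcq, hl⟩ := localDim_eq_add k S q
    rw [localDim_eq_of_equidim k S d heq ⟨q, inferInstance⟩,
      IsLocalization.AtPrime.ringKrullDim_eq_height q] at hl
    obtain ⟨cb, hcb, hlb⟩ := localDim_eq_add k (S ⧸ I) (q.map (Ideal.Quotient.mk I))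
    have hle2 := localDim_le_dim (PrimeSpectrum (S ⧸ I)) ⟨q.map (Ideal.Quotient.mk I), inferInstance⟩
    rw [PrimeSpectrum.topologicalKrullDim_eq_ringKrullDim, hlb,
      IsLocalization.AtPrime.ringKrullDim_eq_height (q.map (Ideal.Quotient.mk I))] at hle2
    have hcc : cb = cq := by
      have e := DoubleQuot.quotQuotEquivQuotOfLE hIq
      have h1 : ringKrullDim ((S ⧸ I) ⧸ q.map (Ideal.Quotient.mk I)) = ringKrullDim (S ⧸ q) :=
        ringKrullDim_eq_of_ringEquiv e
      rw [hcb, hcq] at h1
      exact_mod_cast h1
    subst hcc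
    have hkr := Ideal.height_le_height_add_spanFinrank_of_le hIq
    have hsf := spanFinrank_ofList_le f
    rw [← hI] at hsf
    obtain ⟨a, ha⟩ : ∃ a : ℕ, q.height = a :=
      ⟨_, (ENat.natCast_toNat (Ideal.height_ne_top_of_isPrime)).symm⟩
    obtain ⟨b, hb⟩ : ∃ b : ℕ, (q.map (Ideal.Quotient.mk I)).height = b :=
      ⟨_, (ENat.natCast_toNat (Ideal.height_ne_top_of_isPrime)).symm⟩
    have ha' : ((q.height : ℕ∞) : WithBot ℕ∞) = ((a : ℕ) : WithBot ℕ∞) := by rw [ha]; rfl
    have hb' : (((q.map (Ideal.Quotient.mk I)).height : ℕ∞) : WithBot ℕ∞) =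
        ((b : ℕ) : WithBot ℕ∞) := by rw [hb]; rfl
    rw [ha'] at hl
    rw [hb'] at hle2
    rw [ha, hb] at hkr
    have h1 : d = a + cb := by exact_mod_cast hl
    have h2 : a ≤ b + I.spanFinrank := by exact_mod_cast hkr
    have h3 : b + cb ≤ d - f.length := by
      have := hle2.trans hle
      exact_mod_cast this
    have hba : b + f.length = a := by omega
    constructor
    · have hA : LocCoh.IsCohenMacaulayLocalRing (Localization.AtPrime q) :=
        LocCoh.IsCohenMacaulayRing.isCohenMacaulayLocalRing_localization q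
      have hxs : ∀ x ∈ f.map (algebraMap S (Localization.AtPrime q)),
          x ∈ IsLocalRing.maximalIdeal (Localization.AtPrime q) := by
        intro x hx
        obtain ⟨s, hs, rfl⟩ := List.mem_map.mp hx
        refine (IsLocalization.AtPrime.to_map_mem_maximal_iff _ q _).mpr (hIq ?_)
        rw [hI]
        exact Ideal.subset_span hs
      rw [isRegular_iff_dim hA _ hxs, List.length_map]
      have h4 : ringKrullDim (Localization.AtPrime q ⧸
          Ideal.ofList (f.map (algebraMap S (Localization.AtPrime q)))) = b := by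
        have h5 := dim_loc_quot S q I hIq
        rw [hb'] at h5
        rw [← h5]
        refine Groth.Agent.S9180.ringKrullDim_quot_congr _ _ ?_
        rw [hI, Ideal.map_ofList]
      rw [h4, IsLocalization.AtPrime.ringKrullDim_eq_height q, ha]
      exact_mod_cast hba
    · refine le_trans ?_ hle2
      have h6 : d - f.length ≤ b + cb := by omega
      exact_mod_cast h6
  constructor
  · obtain ⟨M, hM, hIM⟩ := Ideal.exists_le_maximal _ hne
    haveI := hM.isPrime
    exact le_antisymm hle (key M hIM).2
  · intro q _ hIq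
    exact (key q hIq).1


/-- Let S be a Cohen–Macaulay finite type algebra over a field k, equidimensional of dimension d, and
f_1, …, f_i elements (i ≤ d) generating a proper ideal whose zero locus has dimension at most d − i.
Then that dimension equals d − i and the f_j form a regular sequence in S_q for every prime q
containing them. (The published statement also allows the f_j to generate the unit ideal, where the
zero locus is empty and the equality fails, e.g. f_1 = 1 in k[x]; this row assumes the ideal is
proper.) -/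
theorem result (k S : Type u) [Field k] [CommRing S] [Algebra k S]
    [Algebra.FiniteType k S] [LocCoh.IsCohenMacaulayRing S] (d : ℕ)
    (heq : ∀ p ∈ minimalPrimes S, ringKrullDim (S ⧸ p) = d) (f : List S) (hi : f.length ≤ d)
    (hne : Ideal.ofList f ≠ ⊤)
    (hle : ringKrullDim (S ⧸ Ideal.ofList f) ≤ ((d - f.length : ℕ) : WithBot ℕ∞)) :
    ringKrullDim (S ⧸ Ideal.ofList f) = ((d - f.length : ℕ) : WithBot ℕ∞) ∧
      ∀ (q : Ideal S) [q.IsPrime], Ideal.ofList f ≤ q →
        RingTheory.Sequence.IsRegular (Localization.AtPrime q)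
          (f.map (algebraMap S (Localization.AtPrime q))) := by
  exact main k S d heq f hi hne hle

end Groth.Agent.S9154
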