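import Groth.Statements.S9155
import Groth.Agent.H14.DiffOp
import Mathlib.Algebra.Module.LocalizedModule.Basic
import Mathlib.RingTheory.Localization.Basic

set_option autoImplicit false
universe u
open Diff16

namespace Groth.Agent.S9155

open Groth.Agent.H14

section General

variable {A B : Type u} [CommRing A] [CommRing B] [Algebra A B] (S : Submonoid B)
variable {M N' : Type u} [AddCommGroup M] [Module A M] [Module B M] [IsScalarTower A B M]
  [AddCommGroup N'] [Module A N'] [Module B N'] [IsScalarTower A B N']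

theorem inv_order0 (inv : S → N' →ₗ[B] N') (s : S) :
    IsDiffOpLE A B N' N' 0 ((inv s).restrictScalars A) := by
  rw [isDiffOpLE_zero_iff]
  intro b y
  exact (inv s).map_smul b y

theorem surj (inv : S → N' →ₗ[B] N') (h1 : ∀ (s : S) (y : N'), inv s ((s : B) • y) = y) (k : ℕ) :
    ∀ (D : M →ₗ[A] N'), IsDiffOpLE A B M N' k D → ∀ s : S,
      ∃ G : M →ₗ[A] N', IsDiffOpLE A B M N' k G ∧ G ∘ₗ (mulOp (s : B) : M →ₗ[A] M) = D := by
  induction k with
  | zero =>
    intro D hD s
    refine ⟨(inv s).restrictScalars A ∘ₗ D, ?_, ?_⟩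
    · exact isDiffOpLE_comp 0 0 D _ hD (inv_order0 S inv s)
    · apply LinearMap.ext
      intro m
      rw [isDiffOpLE_zero_iff] at hD
      rw [LinearMap.comp_apply, LinearMap.comp_apply, mulOp_apply, hD,
        LinearMap.restrictScalars_apply, h1]
  | succ k ih =>
    intro D hD s
    obtain ⟨G₁, hG₁, e₁⟩ := ih (commutator A B M N' D (s : B))
      ((isDiffOpLE_succ_iff k D).1 hD (s : B)) s
    refine ⟨(inv s).restrictScalars A ∘ₗ (D - G₁), ?_, ?_⟩
    · exact isDiffOpLE_comp (k + 1) 0 (D - G₁) _
        (isDiffOpLE_sub (k + 1) D G₁ hD (isDiffOpLE_succ_of_le k G₁ hG₁)) (inv_order0 S inv s)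
    · apply LinearMap.ext
      intro m
      have e := LinearMap.congr_fun e₁ m
      rw [LinearMap.comp_apply, mulOp_apply, commutator_apply] at e
      rw [LinearMap.comp_apply, LinearMap.comp_apply, mulOp_apply, LinearMap.sub_apply, e,
        sub_sub_cancel, LinearMap.restrictScalars_apply, h1]

theorem inj_zero (inv : S → N' →ₗ[B] N') (h1 : ∀ (s : S) (y : N'), inv s ((s : B) • y) = y)
    (G : M →ₗ[A] N') (hG : IsDiffOpLE A B M N' 0 G) (s : S)
    (e : G ∘ₗ (mulOp (s : B) : M →ₗ[A] M) = 0) : G = 0 := by
  rw [isDiffOpLE_zero_iff] at hG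
  apply LinearMap.ext
  intro m
  have e' := LinearMap.congr_fun e m
  rw [LinearMap.comp_apply, mulOp_apply, LinearMap.zero_apply, hG] at e'
  rw [LinearMap.zero_apply, ← h1 s (G m), e', map_zero]

theorem order0_of_commutator_eq_zero {P Q : Type u} [AddCommGroup P] [Module A P] [Module B P]
    [IsScalarTower A B P] [AddCommGroup Q] [Module A Q] [Module B Q] [IsScalarTower A B Q]
    (G : P →ₗ[A] Q) (hc : ∀ b : B, commutator A B P Q G b = 0) : IsDiffOpLE A B P Q 0 G := by
  rw [isDiffOpLE_zero_iff]
  intro b m
  have h := LinearMap.congr_fun (hc b) m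
  rw [commutator_apply, LinearMap.zero_apply, sub_eq_zero] at h
  exact h

theorem inj (inv : S → N' →ₗ[B] N') (h1 : ∀ (s : S) (y : N'), inv s ((s : B) • y) = y) (k : ℕ) :
    ∀ (G : M →ₗ[A] N'), IsDiffOpLE A B M N' k G → ∀ s : S,
      G ∘ₗ (mulOp (s : B) : M →ₗ[A] M) = 0 → G = 0 := by
  induction k with
  | zero => exact fun G hG s e => inj_zero S inv h1 G hG s e
  | succ k ih =>
    intro G hG s e
    have hc : ∀ b : B, commutator A B M N' G b = 0 := by
      intro b
      refine ih _ ((isDiffOpLE_succ_iff k G).1 hG b) s ?_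
      apply LinearMap.ext
      intro m
      have e1 := LinearMap.congr_fun e (b • m)
      have e2 := LinearMap.congr_fun e m
      rw [LinearMap.comp_apply, mulOp_apply, LinearMap.zero_apply] at e1 e2
      rw [LinearMap.comp_apply, mulOp_apply, LinearMap.zero_apply, commutator_apply,
        smul_comm b (s : B) m, e1, e2, smul_zero, sub_zero]
    exact inj_zero S inv h1 G (order0_of_commutator_eq_zero G hc) s e

theorem fam_K (inv : S → N' →ₗ[B] N') (h1 : ∀ (s : S) (y : N'), inv s ((s : B) • y) = y) (k : ℕ)
    (D : M →ₗ[A] N') (G : S → M →ₗ[A] N')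
    (hG : ∀ s : S, IsDiffOpLE A B M N' k (G s) ∧ G s ∘ₗ (mulOp (s : B) : M →ₗ[A] M) = D)
    (s t : S) (m : M) : G (t * s) ((t : B) • m) = G s m := by
  have h0 : G (t * s) ∘ₗ (mulOp (t : B) : M →ₗ[A] M) - G s = 0 := by
    refine inj S inv h1 k _ ?_ s ?_
    · refine isDiffOpLE_sub k _ _ ?_ (hG s).1
      have h := isDiffOpLE_comp 0 k (mulOp (t : B) : M →ₗ[A] M) (G (t * s))
        (isDiffOpLE_mulOp (t : B)) (hG (t * s)).1
      rwa [Nat.zero_add] at h
    · apply LinearMap.ext
      intro m
      have e1 := LinearMap.congr_fun (hG (t * s)).2 m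
      have e2 := LinearMap.congr_fun (hG s).2 m
      rw [LinearMap.comp_apply, mulOp_apply] at e2
      rw [LinearMap.comp_apply, mulOp_apply, Submonoid.coe_mul, mul_smul] at e1
      rw [LinearMap.comp_apply, LinearMap.sub_apply, LinearMap.comp_apply, mulOp_apply,
        mulOp_apply, e1, e2, sub_self, LinearMap.zero_apply]
  have h := LinearMap.congr_fun h0 m
  rw [LinearMap.sub_apply, LinearMap.comp_apply, mulOp_apply, LinearMap.zero_apply,
    sub_eq_zero] at h
  exact h

/-- the extension, as a function -/
noncomputable def EofFun (G : S → M →ₗ[A] N')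
    (hK : ∀ (s t : S) (m : M), G (t * s) ((t : B) • m) = G s m) :
    LocalizedModule S M → N' := fun x =>
  x.liftOn (fun p => G p.2 p.1) (by
    rintro ⟨m, s⟩ ⟨m', s'⟩ ⟨u, hu⟩
    show G s m = G s' m'
    have e1 : G s m = G (u * s' * s) (((u * s' : S) : B) • m) := (hK s (u * s') m).symm
    have e2 : G s' m' = G (u * s * s') (((u * s : S) : B) • m') := (hK s' (u * s) m').symm
    have e3 : u * s' * s = u * s * s' := mul_right_comm u s' s
    have e4 : ((u * s' : S) : B) • m = ((u * s : S) : B) • m' := by
      rw [Submonoid.coe_mul, Submonoid.coe_mul, mul_smul, mul_smul]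
      exact hu
    rw [e1, e2, e3, e4])

theorem EofFun_mk (G : S → M →ₗ[A] N')
    (hK : ∀ (s t : S) (m : M), G (t * s) ((t : B) • m) = G s m) (m : M) (s : S) :
    EofFun S G hK (LocalizedModule.mk m s) = G s m := by
  unfold EofFun
  exact LocalizedModule.liftOn_mk _ m s

/-- the extension, as an `A`-linear map -/
noncomputable def Eof (G : S → M →ₗ[A] N')
    (hK : ∀ (s t : S) (m : M), G (t * s) ((t : B) • m) = G s m) :
    LocalizedModule S M →ₗ[A] N' where
  toFun := EofFun S G hK
  map_add' := by
    intro x y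
    induction x using LocalizedModule.induction_on with
    | h m s =>
      induction y using LocalizedModule.induction_on with
      | h m' s' =>
        rw [LocalizedModule.mk_add_mk, EofFun_mk, EofFun_mk, EofFun_mk, map_add,
          Submonoid.smul_def, Submonoid.smul_def, hK s' s m', mul_comm s s', hK s s' m]
  map_smul' := by
    intro a x
    induction x using LocalizedModule.induction_on with
    | h m s =>
      rw [LocalizedModule.smul'_mk, EofFun_mk, EofFun_mk, map_smul]
      rfl

theorem Eof_mk (G : S → M →ₗ[A] N')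
    (hK : ∀ (s t : S) (m : M), G (t * s) ((t : B) • m) = G s m) (m : M) (s : S) :
    Eof S G hK (LocalizedModule.mk m s) = G s m :=
  EofFun_mk S G hK m s

theorem Eof_order (inv : S → N' →ₗ[B] N') (h1 : ∀ (s : S) (y : N'), inv s ((s : B) • y) = y)
    (k : ℕ) : ∀ (D : M →ₗ[A] N') (G : S → M →ₗ[A] N')
    (_ : ∀ s : S, IsDiffOpLE A B M N' k (G s) ∧ G s ∘ₗ (mulOp (s : B) : M →ₗ[A] M) = D)
    (hK : ∀ (s t : S) (m : M), G (t * s) ((t : B) • m) = G s m),
    IsDiffOpLE A B (LocalizedModule S M) N' k (Eof S G hK) := by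
  induction k with
  | zero =>
    intro D G hG hK
    rw [isDiffOpLE_zero_iff]
    intro b x
    induction x using LocalizedModule.induction_on with
    | h m s =>
      rw [LocalizedModule.smul'_mk, Eof_mk, Eof_mk]
      exact (isDiffOpLE_zero_iff (G s)).1 (hG s).1 b m
  | succ k ih =>
    intro D G hG hK
    rw [isDiffOpLE_succ_iff]
    intro b
    have hG' : ∀ s : S, IsDiffOpLE A B M N' k (commutator A B M N' (G s) b) ∧
        commutator A B M N' (G s) b ∘ₗ (mulOp (s : B) : M →ₗ[A] M) =
          commutator A B M N' D b := by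
      intro s
      refine ⟨(isDiffOpLE_succ_iff k (G s)).1 (hG s).1 b, ?_⟩
      rw [← (hG s).2]
      apply LinearMap.ext
      intro m
      rw [LinearMap.comp_apply, mulOp_apply, commutator_apply, commutator_apply,
        LinearMap.comp_apply, LinearMap.comp_apply, mulOp_apply, mulOp_apply,
        smul_comm b (s : B) m]
    have hK' : ∀ (s t : S) (m : M), (fun s : S => commutator A B M N' (G s) b) (t * s)
        ((t : B) • m) = (fun s : S => commutator A B M N' (G s) b) s m :=
      fun s t m => fam_K S inv h1 k _ _ hG' s t m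
    have e : commutator A B (LocalizedModule S M) N' (Eof S G hK) b =
        Eof S (fun s : S => commutator A B M N' (G s) b) hK' := by
      apply LinearMap.ext
      intro x
      induction x using LocalizedModule.induction_on with
      | h m s =>
        rw [commutator_apply, LocalizedModule.smul'_mk, Eof_mk, Eof_mk, Eof_mk, commutator_apply]
    rw [e]
    exact ih _ _ hG' hK'

theorem uniq_zero (inv : S → N' →ₗ[B] N') (h1 : ∀ (s : S) (y : N'), inv s ((s : B) • y) = y)
    (E : LocalizedModule S M →ₗ[A] N') (hE : IsDiffOpLE A B (LocalizedModule S M) N' 0 E)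
    (h0 : ∀ m : M, E (LocalizedModule.mk m 1) = 0) : E = 0 := by
  rw [isDiffOpLE_zero_iff] at hE
  apply LinearMap.ext
  intro x
  induction x using LocalizedModule.induction_on with
  | h m s =>
    have e : (s : B) • LocalizedModule.mk m s = LocalizedModule.mk m 1 := by
      rw [LocalizedModule.smul'_mk]
      exact LocalizedModule.mk_cancel s m
    rw [LinearMap.zero_apply, ← h1 s (E (LocalizedModule.mk m s)), ← hE, e, h0, map_zero]

theorem uniq (inv : S → N' →ₗ[B] N') (h1 : ∀ (s : S) (y : N'), inv s ((s : B) • y) = y) (k : ℕ) :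
    ∀ (E : LocalizedModule S M →ₗ[A] N'), IsDiffOpLE A B (LocalizedModule S M) N' k E →
      (∀ m : M, E (LocalizedModule.mk m 1) = 0) → E = 0 := by
  induction k with
  | zero => exact fun E hE h0 => uniq_zero S inv h1 E hE h0
  | succ k ih =>
    intro E hE h0
    have hc : ∀ b : B, commutator A B (LocalizedModule S M) N' E b = 0 := by
      intro b
      refine ih _ ((isDiffOpLE_succ_iff k E).1 hE b) ?_
      intro m
      rw [commutator_apply, LocalizedModule.smul'_mk, h0, h0, smul_zero, sub_zero]
    exact uniq_zero S inv h1 E (order0_of_commutator_eq_zero E hc) h0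

end General

section Restrict

variable {A B B' : Type u} [CommRing A] [CommRing B] [CommRing B'] [Algebra A B] [Algebra A B']
  [Algebra B B'] [IsScalarTower A B B'] (S : Submonoid B) [IsLocalization S B']
variable {M' N' : Type u} [AddCommGroup M'] [Module A M'] [Module B M'] [Module B' M']
  [IsScalarTower A B M'] [IsScalarTower A B' M'] [IsScalarTower B B' M']
  [AddCommGroup N'] [Module A N'] [Module B N'] [Module B' N']
  [IsScalarTower A B N'] [IsScalarTower A B' N'] [IsScalarTower B B' N']

theorem comm_alg (E : M' →ₗ[A] N') (b : B) :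
    commutator A B' M' N' E (algebraMap B B' b) = commutator A B M' N' E b := by
  apply LinearMap.ext
  intro x
  rw [commutator_apply, commutator_apply, algebraMap_smul, algebraMap_smul]

theorem restrict_down (k : ℕ) : ∀ (E : M' →ₗ[A] N'),
    IsDiffOpLE A B' M' N' k E → IsDiffOpLE A B M' N' k E := by
  induction k with
  | zero =>
    intro E hE
    rw [isDiffOpLE_zero_iff] at hE
    rw [isDiffOpLE_zero_iff]
    intro b x
    rw [← algebraMap_smul B' b x, hE, algebraMap_smul]
  | succ k ih =>
    intro E hE
    rw [isDiffOpLE_succ_iff] at hE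
    rw [isDiffOpLE_succ_iff]
    intro b
    rw [← comm_alg (B' := B') E b]
    exact ih _ (hE (algebraMap B B' b))

include S in
theorem smul_cancel (B' : Type u) [CommRing B'] [Algebra B B'] [IsLocalization S B'] {N' : Type u}
    [AddCommGroup N'] [Module B N'] [Module B' N'] [IsScalarTower B B' N']
    (s : S) (y y' : N') (h : (s : B) • y = (s : B) • y') : y = y' := by
  obtain ⟨u, hu⟩ := IsLocalization.map_units B' s
  have e : ∀ z : N', (↑u⁻¹ : B') • ((s : B) • z) = z := by
    intro z
    rw [← algebraMap_smul B' (s : B) z, ← hu, ← mul_smul, Units.inv_mul, one_smul]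
  rw [← e y, h, e y']

theorem mulOp'_order0 {P : Type u} [AddCommGroup P] [Module A P] [Module B P] [Module B' P]
    [IsScalarTower A B P] [IsScalarTower A B' P] [IsScalarTower B B' P] (c : B') :
    IsDiffOpLE A B P P 0 (mulOp c : P →ₗ[A] P) := by
  rw [isDiffOpLE_zero_iff]
  intro b x
  rw [mulOp_apply, mulOp_apply, smul_comm]

include S in
theorem restrict_up_zero (E : M' →ₗ[A] N') (hE : IsDiffOpLE A B M' N' 0 E) :
    IsDiffOpLE A B' M' N' 0 E := by
  rw [isDiffOpLE_zero_iff] at hE
  rw [isDiffOpLE_zero_iff]
  intro c x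
  obtain ⟨⟨b, s⟩, e⟩ := IsLocalization.surj S c
  dsimp only at e
  have e1 : (s : B) • c • x = b • x := by
    rw [← algebraMap_smul B' (s : B) (c • x), ← mul_smul, mul_comm, e, algebraMap_smul]
  have e2 : (s : B) • c • E x = b • E x := by
    rw [← algebraMap_smul B' (s : B) (c • E x), ← mul_smul, mul_comm, e, algebraMap_smul]
  apply smul_cancel S B' s
  rw [← hE, e1, hE, e2]

include S in
theorem restrict_up (k : ℕ) : ∀ (E : M' →ₗ[A] N'),
    IsDiffOpLE A B M' N' k E → IsDiffOpLE A B' M' N' k E := by
  induction k with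
  | zero => exact fun E hE => restrict_up_zero S E hE
  | succ k ih =>
    intro E hE
    rw [isDiffOpLE_succ_iff] at hE
    rw [isDiffOpLE_succ_iff]
    intro c
    apply ih
    obtain ⟨⟨b, s⟩, e⟩ := IsLocalization.surj S c
    dsimp only at e
    obtain ⟨u, hu⟩ := IsLocalization.map_units B' s
    have hmul := commutator_mul (A := A) E c (algebraMap B B' (s : B))
    rw [e, comm_alg, comm_alg] at hmul
    have hX : commutator A B' M' N' E c =
        (commutator A B M' N' E b -
          (mulOp c : N' →ₗ[A] N') ∘ₗ commutator A B M' N' E (s : B)) ∘ₗ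
            (mulOp (↑u⁻¹ : B') : M' →ₗ[A] M') := by
      rw [hmul, add_sub_cancel_right]
      apply LinearMap.ext
      intro x
      rw [LinearMap.comp_apply, LinearMap.comp_apply, mulOp_apply, mulOp_apply, ← hu, ← mul_smul,
        Units.mul_inv, one_smul]
    rw [hX]
    have hord : IsDiffOpLE A B M' N' k (commutator A B M' N' E b -
          (mulOp c : N' →ₗ[A] N') ∘ₗ commutator A B M' N' E (s : B)) :=
      isDiffOpLE_sub k _ _ (hE b)
        (isDiffOpLE_comp k 0 _ _ (hE (s : B)) (mulOp'_order0 (B := B) c))
    have h := isDiffOpLE_comp 0 k _ _ (mulOp'_order0 (A := A) (B := B) (P := M') (↑u⁻¹ : B')) hord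
    rwa [Nat.zero_add] at h

end Restrict

/-- A differential operator of order at most k between modules over B (relative to A → B) has exactly
one extension to the localized modules over S⁻¹B that is again a differential operator of order at
most k (relative to A → S⁻¹B), compatible with the localization maps. -/
theorem result (A B : Type u) [CommRing A] [CommRing B] [Algebra A B]
    (S : Submonoid B) (M N : Type u) [AddCommGroup M] [Module B M] [Module A M] [IsScalarTower A B M]
    [AddCommGroup N] [Module B N] [Module A N] [IsScalarTower A B N] (k : ℕ) (D : M →ₗ[A] N)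
    (hD : Diff16.IsDiffOpLE A B M N k D) :
    ∃! E : LocalizedModule S M →ₗ[A] LocalizedModule S N,
      Diff16.IsDiffOpLE A (Localization S) (LocalizedModule S M) (LocalizedModule S N) k E ∧
        E ∘ₗ (LocalizedModule.mkLinearMap S M).restrictScalars A =
          (LocalizedModule.mkLinearMap S N).restrictScalars A ∘ₗ D := by
  have h1 : ∀ (s : S) (y : LocalizedModule S N), LocalizedModule.divBy s ((s : B) • y) = y :=
    fun s y => LocalizedModule.divBy_mul_by s y
  have hmk : IsDiffOpLE A B N (LocalizedModule S N) 0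
      ((LocalizedModule.mkLinearMap S N).restrictScalars A) :=
    (isDiffOpLE_zero_iff _).2 (fun b n => (LocalizedModule.mkLinearMap S N).map_smul b n)
  have hD' : IsDiffOpLE A B M (LocalizedModule S N) k
      ((LocalizedModule.mkLinearMap S N).restrictScalars A ∘ₗ D) :=
    isDiffOpLE_comp k 0 D _ hD hmk
  choose G hG using fun s : S => surj S (fun s => LocalizedModule.divBy s) h1 k _ hD' s
  have hK : ∀ (s t : S) (m : M), G (t * s) ((t : B) • m) = G s m :=
    fun s t m => fam_K S (fun s => LocalizedModule.divBy s) h1 k _ G hG s t m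
  have hEB := Eof_order S (fun s => LocalizedModule.divBy s) h1 k _ G hG hK
  have hEmk : ∀ m : M, Eof S G hK (LocalizedModule.mk m 1) = LocalizedModule.mk (D m) 1 := by
    intro m
    rw [Eof_mk]
    have e := LinearMap.congr_fun (hG 1).2 m
    rw [LinearMap.comp_apply, mulOp_apply, OneMemClass.coe_one, one_smul] at e
    rw [e]
    rfl
  refine ⟨Eof S G hK, ⟨restrict_up S k _ hEB, ?_⟩, ?_⟩
  · apply LinearMap.ext
    intro m
    exact hEmk m
  · rintro E' ⟨hE'1, hE'2⟩
    have hE'B := restrict_down (B := B) k E' hE'1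
    refine sub_eq_zero.1 (uniq S (fun s => LocalizedModule.divBy s) h1 k (E' - Eof S G hK)
      (isDiffOpLE_sub k _ _ hE'B hEB) ?_)
    intro m
    have e := LinearMap.congr_fun hE'2 m
    rw [LinearMap.sub_apply, hEmk, sub_eq_zero]
    exact e

end Groth.Agent.S9155
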