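import Groth.Statements.S9156
import Mathlib
import Groth.Agent.H15.CMCat
import Groth.Agent.H54.AffineDim

set_option autoImplicit false
set_option linter.style.haveILetI false
set_option linter.unusedSectionVars false
set_option linter.unusedVariables false
universe u
open CAlg

namespace Groth.Agent.S9156

section Helpers

open PrimeSpectrum

theorem eq_zero_of_idem_nilp {R : Type u} [CommRing R] {a : R} (h1 : IsIdempotentElem a)
    (h2 : IsNilpotent a) : a = 0 := by
  obtain ⟨n, hn⟩ := h2
  have h3 : a ^ (n + 1) = a := h1.pow_succ_eq n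
  rw [pow_succ, hn, zero_mul] at h3
  exact h3.symm

/-- height of a maximal ideal containing a prime `P` of a CM finite type algebra over a field. -/
theorem height_max_eq (k S : Type u) [Field k] [CommRing S] [Algebra k S]
    [Algebra.FiniteType k S] [hCM : LocCoh.IsCohenMacaulayRing S] (P m : Ideal S)
    [hP : P.IsPrime] [hm : m.IsMaximal] (hPm : P ≤ m) :
    (m.height : WithBot ℕ∞) = ringKrullDim (S ⧸ P) + (P.height : WithBot ℕ∞) := by
  haveI : IsNoetherianRing S := inferInstance
  haveI hmp : m.IsPrime := hm.isPrime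
  haveI hCMloc := hCM.isCohenMacaulayLocalRing_localization m
  have hdisj : Disjoint (m.primeCompl : Set S) (P : Set S) := by
    rw [Set.disjoint_left]
    intro x hx hxP
    exact hx (hPm hxP)
  haveI hPA : (P.map (algebraMap S (Localization.AtPrime m))).IsPrime :=
    IsLocalization.isPrime_of_isPrime_disjoint m.primeCompl _ P hP hdisj
  have h1 := Groth.Agent.H15.CMCat.dim_add_height (Localization.AtPrime m)
    (P.map (algebraMap S (Localization.AtPrime m)))
  have h2 : ringKrullDim (Localization.AtPrime m) = m.height :=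
    IsLocalization.AtPrime.ringKrullDim_eq_height m (Localization.AtPrime m)
  have h3 : (P.map (algebraMap S (Localization.AtPrime m))).height = P.height :=
    IsLocalization.height_map_of_disjoint m.primeCompl P hdisj
  haveI hmax' : (m.map (Ideal.Quotient.mk P)).IsMaximal :=
    Ideal.IsMaximal.map_of_surjective_of_ker_le Ideal.Quotient.mk_surjective
      (by rw [Ideal.mk_ker]; exact hPm)
  haveI hprime' : (m.map (Ideal.Quotient.mk P)).IsPrime := hmax'.isPrime
  have hsub : Algebra.algebraMapSubmonoid (S ⧸ P) m.primeCompl =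
      (m.map (Ideal.Quotient.mk P)).primeCompl := by
    ext x
    constructor
    · rintro ⟨s, hs, rfl⟩
      show algebraMap S (S ⧸ P) s ∉ m.map (Ideal.Quotient.mk P)
      intro h
      exact hs ((Ideal.mem_quotient_iff_mem hPm).mp h)
    · intro hx
      obtain ⟨s, rfl⟩ := Ideal.Quotient.mk_surjective x
      refine ⟨s, ?_, rfl⟩
      intro hs
      exact hx ((Ideal.mem_quotient_iff_mem hPm).mpr hs)
  haveI : IsLocalization.AtPrime
      (Localization.AtPrime m ⧸ P.map (algebraMap S (Localization.AtPrime m)))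
      (m.map (Ideal.Quotient.mk P)) := by
    show IsLocalization (m.map (Ideal.Quotient.mk P)).primeCompl _
    rw [← hsub]
    infer_instance
  have h4 : ringKrullDim
      (Localization.AtPrime m ⧸ P.map (algebraMap S (Localization.AtPrime m))) =
      (m.map (Ideal.Quotient.mk P)).height :=
    IsLocalization.AtPrime.ringKrullDim_eq_height (m.map (Ideal.Quotient.mk P)) _
  have h5 : ((m.map (Ideal.Quotient.mk P)).height : WithBot ℕ∞) = ringKrullDim (S ⧸ P) :=
    Groth.Agent.H54.height_eq_ringKrullDim_of_isMaximal k (S ⧸ P) (m.map (Ideal.Quotient.mk P))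
  rw [h4, h5, h3, h2] at h1
  exact h1.symm

theorem height_eq_of_le (k S : Type u) [Field k] [CommRing S] [Algebra k S]
    [Algebra.FiniteType k S] [hCM : LocCoh.IsCohenMacaulayRing S] (P m m' : Ideal S)
    [hP : P.IsPrime] [hm : m.IsMaximal] [hm' : m'.IsMaximal] (h : P ≤ m) (h' : P ≤ m') :
    m.height = m'.height := by
  have h1 := height_max_eq k S P m h
  have h2 := height_max_eq k S P m' h'
  exact WithBot.coe_injective (h1.trans h2.symm)

/-- all maximal ideals over `I` have height `d`. -/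
def Dim (S : Type u) [CommRing S] (I : Ideal S) (d : ℕ) : Prop :=
  ∀ m : Ideal S, m.IsMaximal → I ≤ m → m.height = (d : ℕ∞)

theorem Dim.unique {S : Type u} [CommRing S] {I : Ideal S} {d d' : ℕ} (h : Dim S I d)
    (h' : Dim S I d') (hI : I ≠ ⊤) : d = d' := by
  obtain ⟨m, hm, hIm⟩ := Ideal.exists_le_maximal I hI
  have h1 := h m hm hIm
  have h2 := h' m hm hIm
  rw [h1] at h2
  exact_mod_cast h2

theorem Dim.up {S : Type u} [CommRing S] {I J : Ideal S} {d : ℕ} (h : Dim S I d) (hIJ : I ≤ J) :
    Dim S J d := fun m hm hJm => h m hm (hIJ.trans hJm)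

theorem Dim.down (k S : Type u) [Field k] [CommRing S] [Algebra k S]
    [Algebra.FiniteType k S] [hCM : LocCoh.IsCohenMacaulayRing S] {P J : Ideal S} [hP : P.IsPrime]
    (hPJ : P ≤ J) (hJ : J ≠ ⊤) {d : ℕ} (h : Dim S J d) : Dim S P d := by
  intro m hm hPm
  obtain ⟨m', hm', hJm'⟩ := Ideal.exists_le_maximal J hJ
  haveI := hm
  haveI := hm'
  rw [height_eq_of_le k S P m m' hPm (hPJ.trans hJm')]
  exact h m' hm' hJm'

end Helpers


/-- A Cohen–Macaulay finite type algebra S over a field k decomposes as a finite product of k-algebras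
S_0 × ⋯ × S_N in which every maximal ideal of the factor S_d has height d (so Spec S is a finite
disjoint union of equidimensional open and closed pieces). -/
theorem result (k S : Type u) [Field k] [CommRing S]
    [Algebra k S] [Algebra.FiniteType k S] [LocCoh.IsCohenMacaulayRing S] :
    ∃ (N : ℕ) (T : Fin (N + 1) → Type u) (_ : ∀ d, CommRing (T d)) (_ : ∀ d, Algebra k (T d)),
      Nonempty (S ≃ₐ[k] ((d : Fin (N + 1)) → T d)) ∧
        ∀ (d : Fin (N + 1)) (m : Ideal (T d)), m.IsMaximal → m.height = (d : ℕ) := by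
  classical
  haveI hNoeth : IsNoetherianRing S := inferInstance
  obtain ⟨n, f, hf⟩ := Algebra.FiniteType.iff_quotient_mvPolynomial''.mp
    (inferInstance : Algebra.FiniteType k S)
  have hdimS : ringKrullDim S ≤ (n : WithBot ℕ∞) :=
    (ringKrullDim_le_of_surjective f.toRingHom hf).trans
      (le_of_eq (Groth.Agent.H54.ringKrullDim_mvPolynomial_field k n))
  -- existence of the local dimension
  have F1 : ∀ (P : Ideal S), P.IsPrime → ∃ d : ℕ, d ≤ n ∧ Dim S P d := by
    intro P hP
    haveI := hP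
    obtain ⟨m, hm, hPm⟩ := Ideal.exists_le_maximal P hP.ne_top
    haveI := hm
    haveI hmp : m.IsPrime := hm.isPrime
    have hfin : m.height ≠ ⊤ := (Ideal.height_lt_top_of_isPrime (I := m)).ne
    obtain ⟨d, hd⟩ := ENat.ne_top_iff_exists.mp hfin
    have hdn : d ≤ n := by
      have h1 : (m.height : WithBot ℕ∞) ≤ ringKrullDim S :=
        Ideal.height_le_ringKrullDim_of_ne_top hm.ne_top
      have h2 : (((d : ℕ) : ℕ∞) : WithBot ℕ∞) ≤ (n : WithBot ℕ∞) := by
        rw [hd]; exact h1.trans hdimS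
      exact_mod_cast h2
    refine ⟨d, hdn, fun m' hm' hPm' => ?_⟩
    haveI := hm'
    rw [hd]
    exact height_eq_of_le k S P m' m hPm' hPm
  haveI hfinmin : Finite {P : Ideal S // P ∈ minimalPrimes S} :=
    (minimalPrimes.finite_of_isNoetherianRing S).to_subtype
  -- the level sets are clopen
  have hZeq : ∀ d : ℕ, {x : PrimeSpectrum S | Dim S x.asIdeal d} =
      ⋃ P : {P : Ideal S // P ∈ minimalPrimes S}, ⋃ (_ : Dim S P.1 d),
        PrimeSpectrum.zeroLocus (P.1 : Set S) := by
    intro d
    ext x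
    constructor
    · intro hx
      have hx' : Dim S x.asIdeal d := hx
      obtain ⟨P, hPmin, hPx⟩ := Ideal.exists_minimalPrimes_le (bot_le : (⊥ : Ideal S) ≤ x.asIdeal)
      haveI : P.IsPrime := hPmin.1.1
      have hP : Dim S P d := Dim.down k S hPx x.isPrime.ne_top hx'
      refine Set.mem_iUnion.mpr ⟨⟨P, hPmin⟩, Set.mem_iUnion.mpr ⟨hP, ?_⟩⟩
      rw [PrimeSpectrum.mem_zeroLocus]
      exact hPx
    · intro hx
      obtain ⟨P, hx1⟩ := Set.mem_iUnion.mp hx
      obtain ⟨hP, hx2⟩ := Set.mem_iUnion.mp hx1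
      rw [PrimeSpectrum.mem_zeroLocus] at hx2
      exact hP.up hx2
  have hZceq : ∀ d : ℕ, {x : PrimeSpectrum S | Dim S x.asIdeal d}ᶜ =
      ⋃ P : {P : Ideal S // P ∈ minimalPrimes S}, ⋃ (_ : ¬ Dim S P.1 d),
        PrimeSpectrum.zeroLocus (P.1 : Set S) := by
    intro d
    ext x
    constructor
    · intro hx
      have hx' : ¬ Dim S x.asIdeal d := hx
      obtain ⟨P, hPmin, hPx⟩ := Ideal.exists_minimalPrimes_le (bot_le : (⊥ : Ideal S) ≤ x.asIdeal)
      have hP : ¬ Dim S P d := fun h => hx' (h.up hPx)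
      refine Set.mem_iUnion.mpr ⟨⟨P, hPmin⟩, Set.mem_iUnion.mpr ⟨hP, ?_⟩⟩
      rw [PrimeSpectrum.mem_zeroLocus]
      exact hPx
    · intro hx
      obtain ⟨P, hx1⟩ := Set.mem_iUnion.mp hx
      obtain ⟨hP, hx2⟩ := Set.mem_iUnion.mp hx1
      rw [PrimeSpectrum.mem_zeroLocus] at hx2
      haveI : P.1.IsPrime := P.2.1.1
      intro hxd
      have hxd' : Dim S x.asIdeal d := hxd
      exact hP (Dim.down k S hx2 x.isPrime.ne_top hxd')
  have hZclopen : ∀ d : ℕ, IsClopen {x : PrimeSpectrum S | Dim S x.asIdeal d} := by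
    intro d
    constructor
    · rw [hZeq d]
      exact isClosed_iUnion_of_finite fun P => isClosed_iUnion_of_finite fun _ =>
        PrimeSpectrum.isClosed_zeroLocus _
    · rw [← isClosed_compl_iff, hZceq d]
      exact isClosed_iUnion_of_finite fun P => isClosed_iUnion_of_finite fun _ =>
        PrimeSpectrum.isClosed_zeroLocus _
  have hex : ∀ d : Fin (n + 1), ∃ e : S, IsIdempotentElem e ∧
      {x : PrimeSpectrum S | Dim S x.asIdeal (d : ℕ)} = (PrimeSpectrum.basicOpen e : Set _) :=
    fun d => PrimeSpectrum.exists_idempotent_basicOpen_eq_of_isClopen (hZclopen d)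
  choose e he1 he2 using hex
  have K1 : ∀ (x : PrimeSpectrum S) (d : Fin (n + 1)),
      e d ∉ x.asIdeal ↔ Dim S x.asIdeal (d : ℕ) := by
    intro x d
    have h1 : x ∈ {x : PrimeSpectrum S | Dim S x.asIdeal (d : ℕ)} ↔
        x ∈ (PrimeSpectrum.basicOpen (e d) : Set _) := by rw [he2 d]
    constructor
    · intro h
      exact h1.mpr h
    · intro h
      exact h1.mp h
  -- orthogonality
  have horth : ∀ i j : Fin (n + 1), i ≠ j → e i * e j = 0 := by
    intro i j hij
    apply eq_zero_of_idem_nilp ((he1 i).mul (he1 j))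
    rw [nilpotent_iff_mem_prime]
    intro J hJ
    by_contra hnot
    have hi : e i ∉ J := fun h => hnot (J.mul_mem_right _ h)
    have hj : e j ∉ J := fun h => hnot (J.mul_mem_left _ h)
    have h1 := (K1 ⟨J, hJ⟩ i).mp hi
    have h2 := (K1 ⟨J, hJ⟩ j).mp hj
    exact hij (Fin.ext (h1.unique h2 hJ.ne_top))
  -- completeness
  have hprod : ∏ d : Fin (n + 1), (1 - e d) = 0 := by
    apply eq_zero_of_idem_nilp
    · exact Finset.prod_induction _ IsIdempotentElem (fun a b ha hb => ha.mul hb)
        IsIdempotentElem.one (fun d _ => (he1 d).one_sub)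
    · rw [nilpotent_iff_mem_prime]
      intro J hJ
      obtain ⟨d, hdn, hDim⟩ := F1 J hJ
      have hd : e ⟨d, Nat.lt_succ_of_le hdn⟩ ∉ J :=
        (K1 ⟨J, hJ⟩ ⟨d, Nat.lt_succ_of_le hdn⟩).mpr hDim
      have h0 : e ⟨d, Nat.lt_succ_of_le hdn⟩ * (1 - e ⟨d, Nat.lt_succ_of_le hdn⟩) ∈ J := by
        rw [(he1 ⟨d, Nat.lt_succ_of_le hdn⟩).mul_one_sub_self]
        exact J.zero_mem
      have h1 : (1 - e ⟨d, Nat.lt_succ_of_le hdn⟩) ∈ J := (hJ.mem_or_mem h0).resolve_left hd
      exact Ideal.mem_of_dvd J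
        (Finset.dvd_prod_of_mem (fun d : Fin (n + 1) => 1 - e d)
          (Finset.mem_univ (⟨d, Nat.lt_succ_of_le hdn⟩ : Fin (n + 1)))) h1
  have hbij : Function.Bijective
      (RingHom.pi fun d : Fin (n + 1) => Ideal.Quotient.mk (Ideal.span {1 - e d})) :=
    RingHom.pi_bijective_of_isIdempotentElem (fun d => 1 - e d) (fun d => (he1 d).one_sub)
      (fun i j hij => by
        show (1 - (1 - e i)) * (1 - (1 - e j)) = 0
        rw [sub_sub_cancel, sub_sub_cancel]
        exact horth i j hij) hprod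
  refine ⟨n, fun d => S ⧸ Ideal.span {1 - e d}, fun d => inferInstance, fun d => inferInstance,
    ⟨AlgEquiv.ofBijective
      (AlgHom.pi (fun d => Ideal.Quotient.mkₐ k (Ideal.span {1 - e d}))) hbij⟩, ?_⟩
  intro d M hM
  haveI hloc : IsLocalization.Away (e d) (S ⧸ Ideal.span {1 - e d}) :=
    IsLocalization.Away.quotient_of_isIdempotentElem (he1 d)
  have h1 : (M.under S).height = M.height :=
    IsLocalization.height_under (Submonoid.powers (e d)) M
  haveI hmmax : (M.under S).IsMaximal :=
    Ideal.comap_isMaximal_of_surjective (Ideal.Quotient.mk (Ideal.span {1 - e d}))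
      Ideal.Quotient.mk_surjective
  have hmem : (1 - e d) ∈ M.under S := by
    show Ideal.Quotient.mk (Ideal.span {1 - e d}) (1 - e d) ∈ M
    rw [Ideal.Quotient.eq_zero_iff_mem.mpr (Ideal.mem_span_singleton_self _)]
    exact zero_mem _
  have hnot : e d ∉ M.under S := by
    intro he
    apply hmmax.ne_top
    rw [Ideal.eq_top_iff_one]
    have h2 := Ideal.add_mem _ he hmem
    rwa [add_sub_cancel] at h2
  have hDim : Dim S (M.under S) (d : ℕ) := (K1 ⟨M.under S, hmmax.isPrime⟩ d).mp hnot
  have h3 := hDim (M.under S) hmmax le_rfl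
  rw [← h1, h3]

end Groth.Agent.S9156
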