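import Groth.Statements.S9157
import Mathlib

set_option autoImplicit false
set_option linter.style.haveILetI false
universe u
open CAlg

namespace Groth.Agent.S9157

/-- If the localization S⁻¹M of an R-module M is finitely presented over S⁻¹R, then some finitely
presented R-module M' maps to M inducing an isomorphism S⁻¹M' → S⁻¹M. -/
theorem result (R : Type u) [CommRing R] (S : Submonoid R)
    (M : Type u) [AddCommGroup M] [Module R M]
    [Module.FinitePresentation (Localization S) (LocalizedModule S M)] :
    ∃ (M' : Type u) (_ : AddCommGroup M') (_ : Module R M') (φ : M' →ₗ[R] M),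
      Module.FinitePresentation R M' ∧ Function.Bijective (LocalizedModule.map S φ) := by
  classical
  obtain ⟨n, sgen, hsgen⟩ :=
    Module.Finite.exists_fin (R := Localization S) (M := LocalizedModule S M)
  have hrep : ∀ i, ∃ (m : M) (t : S), sgen i = LocalizedModule.mk m t := fun i =>
    LocalizedModule.induction_on (β := fun z => ∃ (m : M) (t : S), z = LocalizedModule.mk m t)
      (fun m t => ⟨m, t, rfl⟩) (sgen i)
  choose mm tt hmt using hrep
  let g : (Fin n → R) →ₗ[R] M := Fintype.linearCombination R mm
  have hg : ∀ i, g (Pi.single i 1) = mm i := fun i => by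
    simp [g, Fintype.linearCombination_apply_single]
  have hGsurj : Function.Surjective (LocalizedModule.map S g) := by
    rw [← LinearMap.range_eq_top, eq_top_iff, ← hsgen, Submodule.span_le]
    rintro _ ⟨i, rfl⟩
    refine ⟨LocalizedModule.mk (Pi.single i 1) (tt i), ?_⟩
    rw [LocalizedModule.map_mk, hg, hmt]
  have hker : (LinearMap.ker (LocalizedModule.map S g)).FG :=
    Module.FinitePresentation.fg_ker _ hGsurj
  obtain ⟨T, hT⟩ := hker
  have hT0 : ∀ z : LocalizedModule S (Fin n → R), LocalizedModule.map S g z = 0 →
      ∃ (k : Fin n → R) (u : S), z = LocalizedModule.mk k u ∧ g k = 0 := by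
    intro z
    refine LocalizedModule.induction_on (fun k u => ?_) z
    intro hz
    rw [LocalizedModule.map_mk, ← LocalizedModule.zero_mk (1 : S), LocalizedModule.mk_eq] at hz
    obtain ⟨v, hv⟩ := hz
    rw [smul_zero, smul_zero, one_smul] at hv
    refine ⟨v • k, v * u, (LocalizedModule.mk_cancel_common_left v u k).symm, ?_⟩
    rw [Submonoid.smul_def, map_smul, ← Submonoid.smul_def]
    exact hv
  have hT' : ∀ z ∈ T, ∃ (k : Fin n → R) (u : S), z = LocalizedModule.mk k u ∧ g k = 0 := by
    intro z hz
    apply hT0
    have : z ∈ LinearMap.ker (LocalizedModule.map S g) := hT ▸ Submodule.subset_span hz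
    exact this
  choose! kk uu hku hgk using hT'
  let K' : Submodule R (Fin n → R) := Submodule.span R (kk '' (T : Set _))
  have hK'le : K' ≤ LinearMap.ker g := Submodule.span_le.mpr (by
    rintro _ ⟨z, hz, rfl⟩
    exact hgk z hz)
  let φ : ((Fin n → R) ⧸ K') →ₗ[R] M := K'.liftQ g hK'le
  have hcomp : ∀ y, LocalizedModule.map S φ (LocalizedModule.map S K'.mkQ y) =
      LocalizedModule.map S g y := by
    intro y
    refine LocalizedModule.induction_on (fun k u => ?_) y
    rw [LocalizedModule.map_mk, LocalizedModule.map_mk, LocalizedModule.map_mk]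
    rfl
  have hle : LinearMap.ker (LocalizedModule.map S g) ≤
      LinearMap.ker (LocalizedModule.map S K'.mkQ) := by
    rw [← hT, Submodule.span_le]
    intro z hz
    rw [SetLike.mem_coe, LinearMap.mem_ker, hku z hz, LocalizedModule.map_mk]
    have : K'.mkQ (kk z) = 0 :=
      (Submodule.Quotient.mk_eq_zero _).mpr (Submodule.subset_span ⟨z, hz, rfl⟩)
    rw [this, LocalizedModule.zero_mk]
  refine ⟨(Fin n → R) ⧸ K', inferInstance, inferInstance, φ, ?_, ?_, ?_⟩
  · exact Module.finitePresentation_of_free_of_surjective K'.mkQ K'.mkQ_surjective (by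
      rw [Submodule.ker_mkQ]
      exact Submodule.fg_span (T.finite_toSet.image kk))
  · rw [injective_iff_map_eq_zero]
    intro x hx
    obtain ⟨y, rfl⟩ := LocalizedModule.map_surjective S K'.mkQ K'.mkQ_surjective x
    rw [hcomp] at hx
    exact hle (show y ∈ LinearMap.ker (LocalizedModule.map S g) from hx)
  · intro z
    obtain ⟨y, rfl⟩ := hGsurj z
    exact ⟨LocalizedModule.map S K'.mkQ y, hcomp y⟩

end Groth.Agent.S9157
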