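import Groth.Statements.S9158
import Groth.Agent.H80.GenFreeRed5

set_option autoImplicit false
universe u
open CAlg

namespace Groth.Agent.S9158

/-- Generic freeness over a reduced ring: let R → S be of finite type with R reduced and M a finite
S-module. There is a dense open subset U of Spec R such that each point of U lies in a basic open
D(f) ⊆ U with M_f and S_f free over R_f, S_f of finite presentation over R_f, and M_f of finite
presentation over S_f. -/
theorem result (R S : Type u) [CommRing R] [IsReduced R] [CommRing S]
    [Algebra R S] [Algebra.FiniteType R S] (M : Type u) [AddCommGroup M] [Module S M] [Module R M]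
    [IsScalarTower R S M] [Module.Finite S M] :
    ∃ U : Set (PrimeSpectrum R), IsOpen U ∧ Dense U ∧ ∀ u ∈ U, ∃ f : R, f ∉ u.asIdeal ∧
      (PrimeSpectrum.basicOpen f : Set (PrimeSpectrum R)) ⊆ U ∧
      Module.Free (Localization.Away f) (LocalizedModule (Submonoid.powers f) M) ∧
      Module.Free (Localization.Away f) (LocalizedModule (Submonoid.powers f) S) ∧
      (Localization.awayMap (algebraMap R S) f).FinitePresentation ∧
      Module.FinitePresentation (Localization.Away (algebraMap R S f))
        (LocalizedModule (Submonoid.powers (algebraMap R S f)) M) := by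
  classical
  refine ⟨⋃ f ∈ {f : R |
      Module.Free (Localization.Away f) (LocalizedModule (Submonoid.powers f) M) ∧
      Module.Free (Localization.Away f) (LocalizedModule (Submonoid.powers f) S) ∧
      (Localization.awayMap (algebraMap R S) f).FinitePresentation ∧
      Module.FinitePresentation (Localization.Away (algebraMap R S f))
        (LocalizedModule (Submonoid.powers (algebraMap R S f)) M)},
      (PrimeSpectrum.basicOpen f : Set (PrimeSpectrum R)), ?_, ?_, ?_⟩
  · exact isOpen_biUnion (fun f _ => (PrimeSpectrum.basicOpen f).isOpen)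
  · rw [dense_iff_inter_open]
    intro V hV hVne
    obtain ⟨v, hv⟩ := hVne
    obtain ⟨_, ⟨g, rfl⟩, hvg, hgV⟩ :=
      PrimeSpectrum.isTopologicalBasis_basic_opens.exists_subset_of_mem_open hv hV
    have hg : g ≠ 0 := by
      rintro rfl
      simp at hvg
    obtain ⟨h, hgh, hgood⟩ := Groth.Agent.H80.GenFreeRed.exists_good (R := R) (S := S) M g hg
    have hne : ¬ IsNilpotent (g * h) := fun hn => hgh hn.eq_zero
    have hnonempty : (PrimeSpectrum.basicOpen (g * h) : Set (PrimeSpectrum R)).Nonempty := by
      rw [Set.nonempty_iff_ne_empty]
      intro he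
      apply hne
      rw [← PrimeSpectrum.basicOpen_eq_bot_iff]
      exact TopologicalSpace.Opens.ext he
    obtain ⟨w, hw⟩ := hnonempty
    refine ⟨w, hgV (PrimeSpectrum.basicOpen_mul_le_left g h hw), ?_⟩
    exact Set.mem_biUnion (show g * h ∈ {f : R | _} from hgood) hw
  · intro u hu
    simp only [Set.mem_iUnion] at hu
    obtain ⟨f, hf, huf⟩ := hu
    refine ⟨f, huf, ?_, hf⟩
    exact Set.subset_biUnion_of_mem (u := fun f => (PrimeSpectrum.basicOpen f : Set (PrimeSpectrum R))) hf

end Groth.Agent.S9158
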