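import Groth.Statements.S9160
import Mathlib.RingTheory.Length
import Mathlib.RingTheory.KrullDimension.NonZeroDivisors
import Mathlib.RingTheory.HopkinsLevitzki
import Mathlib.RingTheory.Artinian.Module
import Mathlib.RingTheory.FiniteLength

set_option autoImplicit false
universe u
open CAlg

namespace Groth.Agent.S9160

theorem aux (x : WithBot ℕ∞) (h : x + 1 ≤ 1) : x ≤ 0 := by
  induction x using WithBot.recBotCoe with
  | bot => exact bot_le
  | coe n =>
    induction n using ENat.recTopCoe with
    | top =>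
      exfalso
      have : ((⊤ : ℕ∞) : WithBot ℕ∞) + 1 = ((⊤ : ℕ∞) : WithBot ℕ∞) := by
        rw [← WithBot.coe_one, ← WithBot.coe_add]; simp
      rw [this] at h
      have h' : ((⊤ : ℕ∞) : WithBot ℕ∞) ≤ ((1 : ℕ∞) : WithBot ℕ∞) := h
      rw [WithBot.coe_le_coe] at h'
      simp at h'
    | coe m =>
      have h' : (((m : ℕ∞) + 1 : ℕ∞) : WithBot ℕ∞) ≤ ((1 : ℕ∞) : WithBot ℕ∞) := by
        simpa using h
      rw [WithBot.coe_le_coe] at h'
      have h'' : m + 1 ≤ 1 := by exact_mod_cast h'
      have : m = 0 := by omega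
      subst this
      simp

theorem length_ne_top_of_regular (R : Type u) [CommRing R] [IsNoetherianRing R]
    (hdim : ringKrullDim R = 1) (a : R) (ha : IsRegular a) :
    Module.length R (R ⧸ Ideal.span ({a} : Set R)) ≠ ⊤ := by
  have hmem : a ∈ nonZeroDivisors R := ha.mem_nonZeroDivisors
  have h1 := ringKrullDim_quotient_succ_le_of_nonZeroDivisor hmem
  rw [hdim] at h1
  have h2 : ringKrullDim (R ⧸ Ideal.span ({a} : Set R)) ≤ 0 := by
    exact aux _ h1
  have h4 : Ring.KrullDimLE 0 (R ⧸ Ideal.span ({a} : Set R)) := by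
    rw [Ring.krullDimLE_iff]
    simpa using h2
  have h5 : IsArtinianRing (R ⧸ Ideal.span ({a} : Set R)) := by
    have : IsNoetherianRing (R ⧸ Ideal.span ({a} : Set R)) :=
      isNoetherianRing_of_surjective R _ (Ideal.Quotient.mk _) Ideal.Quotient.mk_surjective
    exact isArtinianRing_iff_krullDimLE_zero.mpr h4
  have h6 : IsArtinian R (R ⧸ Ideal.span ({a} : Set R)) :=
    isArtinian_of_surjective_algebraMap (R := R ⧸ Ideal.span ({a} : Set R))
      (M := R ⧸ Ideal.span ({a} : Set R)) (S := R) Ideal.Quotient.mk_surjective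
  rw [Module.length_ne_top_iff, isFiniteLength_iff_isNoetherian_isArtinian]
  exact ⟨inferInstance, h6⟩

/-- In a semi-local Noetherian ring of dimension one, for nonzerodivisors a and b the length of R/(ab)
is the sum of the lengths of R/(a) and R/(b), and these lengths are finite. -/
theorem result (R : Type u) [CommRing R] [IsNoetherianRing R]
    (hsemi : Finite (MaximalSpectrum R)) (hdim : ringKrullDim R = 1) (a b : R) (ha : IsRegular a)
    (hb : IsRegular b) :
    Module.length R (R ⧸ Ideal.span ({a * b} : Set R)) =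
        Module.length R (R ⧸ Ideal.span ({a} : Set R)) + Module.length R (R ⧸ Ideal.span ({b} : Set R)) ∧
      Module.length R (R ⧸ Ideal.span ({a} : Set R)) ≠ ⊤ ∧
      Module.length R (R ⧸ Ideal.span ({b} : Set R)) ≠ ⊤ := by
  refine ⟨?_, length_ne_top_of_regular R hdim a ha, length_ne_top_of_regular R hdim b hb⟩
  have hle1 : Ideal.span ({b} : Set R) ≤
      Submodule.comap (LinearMap.mulLeft R a) (Ideal.span ({a * b} : Set R)) := by
    intro x hx
    rw [Ideal.mem_span_singleton'] at hx
    obtain ⟨c, rfl⟩ := hx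
    rw [Submodule.mem_comap, LinearMap.mulLeft_apply, Ideal.mem_span_singleton']
    exact ⟨c, by ring⟩
  have hle2 : Ideal.span ({a * b} : Set R) ≤
      Submodule.comap (LinearMap.id : R →ₗ[R] R) (Ideal.span ({a} : Set R)) := by
    intro x hx
    rw [Ideal.mem_span_singleton'] at hx
    obtain ⟨c, rfl⟩ := hx
    rw [Submodule.mem_comap, LinearMap.id_apply, Ideal.mem_span_singleton']
    exact ⟨c * b, by ring⟩
  let f : (R ⧸ Ideal.span ({b} : Set R)) →ₗ[R] (R ⧸ Ideal.span ({a * b} : Set R)) :=
    Submodule.mapQ _ _ (LinearMap.mulLeft R a) hle1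
  let g : (R ⧸ Ideal.span ({a * b} : Set R)) →ₗ[R] (R ⧸ Ideal.span ({a} : Set R)) :=
    Submodule.mapQ _ _ LinearMap.id hle2
  have hf : Function.Injective f := by
    rw [← LinearMap.ker_eq_bot, eq_bot_iff]
    intro x hx
    obtain ⟨x, rfl⟩ := Submodule.Quotient.mk_surjective _ x
    rw [LinearMap.mem_ker, Submodule.mapQ_apply, Submodule.Quotient.mk_eq_zero,
      LinearMap.mulLeft_apply, Ideal.mem_span_singleton'] at hx
    obtain ⟨c, hc⟩ := hx
    have hx' : x = c * b := by
      apply ha.left
      show a * x = a * (c * b)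
      rw [← hc]; ring
    rw [Submodule.mem_bot, Submodule.Quotient.mk_eq_zero, Ideal.mem_span_singleton']
    exact ⟨c, hx'.symm⟩
  have hg : Function.Surjective g := by
    intro y
    obtain ⟨y, rfl⟩ := Submodule.Quotient.mk_surjective _ y
    exact ⟨Submodule.Quotient.mk y, by rw [Submodule.mapQ_apply, LinearMap.id_apply]⟩
  have hex : Function.Exact f g := by
    intro y
    obtain ⟨y, rfl⟩ := Submodule.Quotient.mk_surjective _ y
    constructor
    · intro hy
      rw [Submodule.mapQ_apply, LinearMap.id_apply, Submodule.Quotient.mk_eq_zero,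
        Ideal.mem_span_singleton'] at hy
      obtain ⟨c, rfl⟩ := hy
      refine ⟨Submodule.Quotient.mk c, ?_⟩
      rw [Submodule.mapQ_apply, LinearMap.mulLeft_apply, mul_comm a c]
    · rintro ⟨x, hx⟩
      obtain ⟨x, rfl⟩ := Submodule.Quotient.mk_surjective _ x
      rw [← hx, Submodule.mapQ_apply, Submodule.mapQ_apply, LinearMap.id_apply,
        LinearMap.mulLeft_apply, Submodule.Quotient.mk_eq_zero, Ideal.mem_span_singleton']
      exact ⟨x, mul_comm _ _⟩
  rw [Module.length_eq_add_of_exact f g hf hg hex, add_comm]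

end Groth.Agent.S9160
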