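import Groth.Statements.S9161
import Mathlib.Algebra.Module.Prod
import Mathlib.LinearAlgebra.Prod
import Mathlib.Tactic.Abel

set_option autoImplicit false
universe u
open CAlg

namespace Groth.Agent.S9161

/-- If two two-term complexes of R-modules A₁ → A₀ and B₁ → B₀ are homotopy equivalent (maps of
complexes both ways whose composites are homotopic to the identity maps), then A₁ ⊕ B₀ and B₁ ⊕ A₀
are isomorphic R-modules. -/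
theorem result (R : Type u) [CommRing R]
    (A₁ A₀ B₁ B₀ : Type u) [AddCommGroup A₁] [Module R A₁] [AddCommGroup A₀] [Module R A₀]
    [AddCommGroup B₁] [Module R B₁] [AddCommGroup B₀] [Module R B₀]
    (dA : A₁ →ₗ[R] A₀) (dB : B₁ →ₗ[R] B₀) (φ₁ : A₁ →ₗ[R] B₁) (φ₀ : A₀ →ₗ[R] B₀)
    (ψ₁ : B₁ →ₗ[R] A₁) (ψ₀ : B₀ →ₗ[R] A₀) (hφ : dB ∘ₗ φ₁ = φ₀ ∘ₗ dA) (hψ : dA ∘ₗ ψ₁ = ψ₀ ∘ₗ dB)
    (h : A₀ →ₗ[R] A₁) (hh₁ : LinearMap.id - ψ₁ ∘ₗ φ₁ = h ∘ₗ dA) (hh₀ : LinearMap.id - ψ₀ ∘ₗ φ₀ = dA ∘ₗ h)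
    (h' : B₀ →ₗ[R] B₁) (hh'₁ : LinearMap.id - φ₁ ∘ₗ ψ₁ = h' ∘ₗ dB)
    (hh'₀ : LinearMap.id - φ₀ ∘ₗ ψ₀ = dB ∘ₗ h') :
    Nonempty ((A₁ × B₀) ≃ₗ[R] (B₁ × A₀)) := by
  -- pointwise forms of the hypotheses
  have eφ : ∀ a, dB (φ₁ a) = φ₀ (dA a) := fun a => LinearMap.congr_fun hφ a
  have eψ : ∀ b, dA (ψ₁ b) = ψ₀ (dB b) := fun b => LinearMap.congr_fun hψ b
  have e1 : ∀ a, a - ψ₁ (φ₁ a) = h (dA a) := fun a => LinearMap.congr_fun hh₁ a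
  have e0 : ∀ a, a - ψ₀ (φ₀ a) = dA (h a) := fun a => LinearMap.congr_fun hh₀ a
  have e1' : ∀ b, b - φ₁ (ψ₁ b) = h' (dB b) := fun b => LinearMap.congr_fun hh'₁ b
  have e0' : ∀ b, b - φ₀ (ψ₀ b) = dB (h' b) := fun b => LinearMap.congr_fun hh'₀ b
  -- the maps
  let Ψ : (A₁ × B₀) →ₗ[R] (B₁ × A₀) :=
    LinearMap.prod (LinearMap.coprod φ₁ h') (LinearMap.coprod (-dA) ψ₀)
  let Φ : (B₁ × A₀) →ₗ[R] (A₁ × B₀) :=
    LinearMap.prod (LinearMap.coprod ψ₁ (-h)) (LinearMap.coprod dB φ₀)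
  let k : B₀ →ₗ[R] A₁ := ψ₁ ∘ₗ h' - h ∘ₗ ψ₀
  let l : A₀ →ₗ[R] B₁ := h' ∘ₗ φ₀ - φ₁ ∘ₗ h
  have hΦΨ : ∀ x : A₁ × B₀, Φ (Ψ x) = (x.1 + k x.2, x.2) := by
    rintro ⟨a, b⟩
    apply Prod.ext
    · show ψ₁ (φ₁ a + h' b) + (-h) ((-dA) a + ψ₀ b) = a + (ψ₁ (h' b) - h (ψ₀ b))
      simp only [LinearMap.neg_apply, map_add, map_neg, neg_neg]
      rw [← e1 a]
      abel
    · show dB (φ₁ a + h' b) + φ₀ ((-dA) a + ψ₀ b) = b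
      simp only [LinearMap.neg_apply, map_add, map_neg]
      rw [eφ a, ← e0' b]
      abel
  have hΨΦ : ∀ y : B₁ × A₀, Ψ (Φ y) = (y.1 + l y.2, y.2) := by
    rintro ⟨b, a⟩
    apply Prod.ext
    · show φ₁ (ψ₁ b + (-h) a) + h' (dB b + φ₀ a) = b + (h' (φ₀ a) - φ₁ (h a))
      simp only [LinearMap.neg_apply, map_add, map_neg]
      rw [← e1' b]
      abel
    · show (-dA) (ψ₁ b + (-h) a) + ψ₀ (dB b + φ₀ a) = a
      simp only [LinearMap.neg_apply, map_add, map_neg, neg_neg]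
      rw [eψ b, ← e0 a]
      abel
  have hinj : Function.Injective Ψ := by
    intro x y hxy
    have h1 := hΦΨ x
    have h2 := hΦΨ y
    rw [hxy, h2] at h1
    have hsnd : y.2 = x.2 := (Prod.ext_iff.mp h1).2
    have hfst : y.1 + k y.2 = x.1 + k x.2 := (Prod.ext_iff.mp h1).1
    rw [hsnd] at hfst
    exact (Prod.ext (add_right_cancel hfst) hsnd).symm
  have hsurj : Function.Surjective Ψ := by
    intro y
    refine ⟨Φ (y.1 - l y.2, y.2), ?_⟩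
    rw [hΨΦ]
    apply Prod.ext
    · simp
    · rfl
  exact ⟨LinearEquiv.ofBijective Ψ ⟨hinj, hsurj⟩⟩

end Groth.Agent.S9161
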