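import Groth.Statements.S9162
import Groth.Agent.S9161
import Mathlib.RingTheory.Extension.Cotangent.Basic
import Mathlib.RingTheory.Kaehler.Polynomial

set_option autoImplicit false
universe u
open CAlg

namespace Groth.Agent.S9162

open Algebra

/-- A hom of extensions out of a polynomial presentation. -/
theorem nonempty_hom {R S : Type u} [CommRing R] [CommRing S] [Algebra R S] (n : ℕ)
    (α : MvPolynomial (Fin n) R →ₐ[R] S) (hα : Function.Surjective α)
    {B : Type u} [CommRing B] [Algebra R B] (β : B →ₐ[R] S) (hβ : Function.Surjective β) :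
    Nonempty ((Extension.ofSurjective α hα).Hom (Extension.ofSurjective β hβ)) := by
  let P := Extension.ofSurjective α hα
  let P' := Extension.ofSurjective β hβ
  let f : P.Ring →ₐ[R] P'.Ring :=
    MvPolynomial.aeval (fun i => (hβ (α (MvPolynomial.X i))).choose)
  refine ⟨Extension.Hom.ofAlgHom f ?_⟩
  apply MvPolynomial.algHom_ext
  intro i
  show β (f (MvPolynomial.X i)) = α (MvPolynomial.X i)
  have hf : f (MvPolynomial.X i) = (hβ (α (MvPolynomial.X i))).choose := MvPolynomial.aeval_X _ i
  rw [hf]
  exact (hβ (α (MvPolynomial.X i))).choose_spec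

/-- The cotangent space of a polynomial presentation is free. -/
noncomputable def cotangentSpaceEquiv {R S : Type u} [CommRing R] [CommRing S] [Algebra R S] (n : ℕ)
    (α : MvPolynomial (Fin n) R →ₐ[R] S) (hα : Function.Surjective α) :
    (Extension.ofSurjective α hα).CotangentSpace ≃ₗ[S] (Fin n → S) :=
  letI P := Extension.ofSurjective α hα
  let b : Module.Basis (Fin n) P.Ring Ω[P.Ring⁄R] := KaehlerDifferential.mvPolynomialBasis R (Fin n)
  (b.baseChange S).equivFun

/-- Let S be an R-algebra and α : R[x_1, …, x_n] → S, β : R[y_1, …, y_m] → S surjective R-algebra maps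
(presentations by polynomial rings in finitely many variables; the kernels I and J need not be
finitely generated). Then I/I² ⊕ S^m and J/J² ⊕ S^n are isomorphic S-modules. -/
theorem result (R S : Type u) [CommRing R] [CommRing S]
    [Algebra R S] (n m : ℕ) (α : MvPolynomial (Fin n) R →ₐ[R] S) (hα : Function.Surjective α)
    (β : MvPolynomial (Fin m) R →ₐ[R] S) (hβ : Function.Surjective β) :
    Nonempty (((Algebra.Extension.ofSurjective α hα).Cotangent × (Fin m → S)) ≃ₗ[S]
      ((Algebra.Extension.ofSurjective β hβ).Cotangent × (Fin n → S))) := by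
  let P := Extension.ofSurjective α hα
  let P' := Extension.ofSurjective β hβ
  obtain ⟨φ⟩ := nonempty_hom n α hα β hβ
  obtain ⟨ψ⟩ := nonempty_hom m β hβ α hα
  have key := Groth.Agent.S9161.result S P.Cotangent P.CotangentSpace P'.Cotangent P'.CotangentSpace
    P.cotangentComplex P'.cotangentComplex (Extension.Cotangent.map φ)
    (Extension.CotangentSpace.map φ) (Extension.Cotangent.map ψ) (Extension.CotangentSpace.map ψ)
    (Extension.CotangentSpace.map_comp_cotangentComplex φ).symm
    (Extension.CotangentSpace.map_comp_cotangentComplex ψ).symm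
    ((Extension.Hom.id P).sub (ψ.comp φ))
    (by
      have := Extension.Cotangent.map_sub_map (Extension.Hom.id P) (ψ.comp φ)
      rw [Extension.Cotangent.map_id, Extension.Cotangent.map_comp] at this
      exact this)
    (by
      have := Extension.CotangentSpace.map_sub_map (Extension.Hom.id P) (ψ.comp φ)
      rw [Extension.CotangentSpace.map_id, Extension.CotangentSpace.map_comp] at this
      exact this)
    ((Extension.Hom.id P').sub (φ.comp ψ))
    (by
      have := Extension.Cotangent.map_sub_map (Extension.Hom.id P') (φ.comp ψ)
      rw [Extension.Cotangent.map_id, Extension.Cotangent.map_comp] at this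
      exact this)
    (by
      have := Extension.CotangentSpace.map_sub_map (Extension.Hom.id P') (φ.comp ψ)
      rw [Extension.CotangentSpace.map_id, Extension.CotangentSpace.map_comp] at this
      exact this)
  obtain ⟨e⟩ := key
  exact ⟨(LinearEquiv.prodCongr (LinearEquiv.refl S _) (cotangentSpaceEquiv m β hβ).symm).trans
    (e.trans (LinearEquiv.prodCongr (LinearEquiv.refl S _) (cotangentSpaceEquiv n α hα)))⟩

end Groth.Agent.S9162
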