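import Groth.Statements.S9163
import Mathlib.RingTheory.IntegralClosure.IsIntegralClosure.Basic
import Mathlib.RingTheory.Polynomial.Subring
import Mathlib.RingTheory.FiniteType

set_option autoImplicit false
universe u
open CAlg

namespace Groth.Agent.S9163

/-- If S is integral over R, then any finitely many elements of R and of S lie in a pair R₀ ⊆ R, S₀ ⊆ S
with R₀ a finite type ℤ-subalgebra, S₀ an R₀-subalgebra of S, and S₀ finite as an R₀-module; so R →
S is the directed colimit of finite maps between finite type ℤ-algebras. -/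
theorem result (R S : Type u) [CommRing R] [CommRing S] [Algebra R S]
    [Algebra.IsIntegral R S] (E : Finset R) (F : Finset S) :
    ∃ (R₀ : Subalgebra ℤ R) (S₀ : Subalgebra R₀ S), Algebra.FiniteType ℤ R₀ ∧ (E : Set R) ⊆ R₀ ∧
      (F : Set S) ⊆ S₀ ∧ Module.Finite R₀ S₀ := by
  classical
  have hint : ∀ y : S, ∃ p : Polynomial R, p.Monic ∧ Polynomial.eval₂ (algebraMap R S) y p = 0 :=
    fun y => Algebra.IsIntegral.isIntegral (R := R) y
  choose p hpm hpe using hint
  let C : Finset R := E ∪ F.biUnion (fun y => (p y).coeffs)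
  let R₀ : Subalgebra ℤ R := Algebra.adjoin ℤ (C : Set R)
  have hCR₀ : (C : Set R) ⊆ R₀ := Algebra.subset_adjoin
  let S₀ : Subalgebra R₀ S := Algebra.adjoin R₀ (F : Set S)
  refine ⟨R₀, S₀, ?_, ?_, ?_, ?_⟩
  · exact (Subalgebra.fg_iff_finiteType R₀).mp (Subalgebra.fg_adjoin_finset C)
  · intro a ha
    apply hCR₀
    simp only [C, Finset.coe_union, Set.mem_union]
    exact Or.inl ha
  · exact Algebra.subset_adjoin
  · have hintF : ∀ y ∈ (F : Set S), IsIntegral R₀ y := by
      intro y hy
      have hcoef : ((p y).coeffs : Set R) ⊆ R₀.toSubring := by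
        intro a ha
        apply hCR₀
        simp only [C, Finset.coe_union, Set.mem_union, Finset.coe_biUnion, Set.mem_iUnion]
        exact Or.inr ⟨y, hy, ha⟩
      refine ⟨(p y).toSubring R₀.toSubring hcoef, ?_, ?_⟩
      · rw [Polynomial.monic_toSubring]; exact hpm y
      · have h1 : algebraMap R₀ S = (algebraMap R S).comp R₀.toSubring.subtype := rfl
        rw [h1, ← Polynomial.eval₂_map, Polynomial.map_toSubring]
        exact hpe y
    have hfg := fg_adjoin_of_finite (R := R₀) F.finite_toSet hintF
    exact Module.Finite.of_fg hfg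

end Groth.Agent.S9163
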