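import Mathlib
import Groth.Statements.S9164
import Groth.Agent.H79.Lattice

set_option autoImplicit false
universe u
open CAlg

namespace Groth.Agent.S9164

/-- Let R be a one-dimensional Noetherian local domain with fraction field K and V a finite-dimensional
K-vector space; a lattice is a finitely generated R-submodule of V spanning V over K. (1) For a
lattice M and an R-submodule M' ⊇ M: M' is a lattice iff M'/M has finite length over R iff M' is
finitely generated. (2) For a lattice M and M' ⊆ M: M' is a lattice iff M/M' has finite length. (3)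
The intersection of two lattices is a lattice. (The published statement also asserts that the sum M
+ M' of two lattices is a lattice and two identities between lengths of quotients of nested
lattices; this row states (1), (2) and the intersection half of (3).) -/
theorem result (R K V : Type u) [CommRing R] [IsDomain R]
    [IsNoetherianRing R] [IsLocalRing R] (hdim : ringKrullDim R = 1) [Field K] [Algebra R K]
    [IsFractionRing R K] [AddCommGroup V] [Module K V] [Module R V] [IsScalarTower R K V]
    [FiniteDimensional K V] (M : Submodule R V) [Submodule.IsLattice K M] :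
    (∀ M' : Submodule R V, M ≤ M' →
        (Submodule.IsLattice K M' ↔ Module.length R (M' ⧸ Submodule.comap M'.subtype M) ≠ ⊤) ∧
          (Submodule.IsLattice K M' ↔ M'.FG)) ∧
      (∀ M' : Submodule R V, M' ≤ M →
        (Submodule.IsLattice K M' ↔ Module.length R (M ⧸ Submodule.comap M.subtype M') ≠ ⊤)) ∧
      ∀ M' : Submodule R V, Submodule.IsLattice K M' → Submodule.IsLattice K (M ⊓ M') := by
  classical
  haveI : Ring.KrullDimLE 1 R := Ring.krullDimLE_iff.2 (by simp [hdim])
  have hMfg : M.FG := Submodule.IsLattice.fg
  have hMspan : Submodule.span K (M : Set V) = ⊤ := Submodule.IsLattice.span_eq_top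
  haveI hMnoeth : IsNoetherian R ↥M := isNoetherian_of_fg_of_noetherian M hMfg
  have hRnot : ¬ IsFiniteLength R R := by
    intro h
    haveI : IsArtinianRing R := (isArtinianRing_iff_isFiniteLength R).2 h
    have h0 : Ring.KrullDimLE 0 R := inferInstance
    have h1 := Ring.krullDimLE_iff.1 h0
    rw [hdim] at h1
    exact absurd h1 (by decide)
  refine ⟨fun M' hle => ⟨⟨?_, ?_⟩, ⟨?_, ?_⟩⟩, fun M' hle => ⟨?_, ?_⟩, fun M' hM' => ?_⟩
  · intro hL
    exact Module.length_ne_top_iff.2
      (Groth.Agent.H79.Lattice.isFiniteLength_quot (K := K) M' M hL.fg hMspan)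
  · intro hlen
    have hfl := Module.length_ne_top_iff.1 hlen
    have hNA := isFiniteLength_iff_isNoetherian_isArtinian.1 hfl
    haveI : IsNoetherian R (↥M' ⧸ M.submoduleOf M') := hNA.1
    haveI : Module.Finite R ↥M := Module.Finite.iff_fg.2 hMfg
    haveI : Module.Finite R ↥(M.submoduleOf M') :=
      Module.Finite.equiv (Submodule.submoduleOfEquivOfLe hle).symm
    haveI : Module.Finite R ↥M' := Module.Finite.of_submodule_quotient (M.submoduleOf M')
    exact Submodule.IsLattice.of_le_of_isLattice_of_fg K hle (Module.Finite.iff_fg.1 inferInstance)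
  · intro hL
    exact hL.fg
  · intro hfg
    exact Submodule.IsLattice.of_le_of_isLattice_of_fg K hle hfg
  · intro hL
    exact Module.length_ne_top_iff.2
      (Groth.Agent.H79.Lattice.isFiniteLength_quot (K := K) M M' hMfg hL.span_eq_top)
  · intro hlen
    have hfl := Module.length_ne_top_iff.1 hlen
    have hfg' : M'.FG := by
      haveI : IsNoetherian R ↥M' := isNoetherian_of_le hle
      exact Module.Finite.iff_fg.1 inferInstance
    refine ⟨hfg', ?_⟩
    rw [eq_top_iff, ← hMspan, Submodule.span_le]
    intro x hx
    have hex : ∃ a : R, a ≠ 0 ∧ a • x ∈ M' := by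
      by_contra hno
      push_neg at hno
      apply hRnot
      let φ : R →ₗ[R] (↥M ⧸ M'.submoduleOf M) :=
        (M'.submoduleOf M).mkQ.comp (LinearMap.toSpanSingleton R ↥M ⟨x, hx⟩)
      apply IsFiniteLength.of_injective hfl (f := φ)
      rw [← LinearMap.ker_eq_bot, LinearMap.ker_eq_bot']
      intro r hr
      by_contra hr0
      apply hno r hr0
      have h2 : r • (⟨x, hx⟩ : ↥M) ∈ M'.submoduleOf M := by
        rw [← Submodule.Quotient.mk_eq_zero]
        exact hr
      exact h2
    obtain ⟨a, ha, hax⟩ := hex
    exact Groth.Agent.H79.Lattice.mem_span_of_smul_mem M' ha hax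
  · refine ⟨?_, Groth.Agent.H79.Lattice.span_inf M M' hMspan hM'.span_eq_top⟩
    haveI : IsNoetherian R ↥(M ⊓ M') := isNoetherian_of_le inf_le_left
    exact Module.Finite.iff_fg.1 inferInstance

end Groth.Agent.S9164
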