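import Groth.Statements.S9165
import Groth.Agent.H9.CMFlatApp
import Groth.Agent.H15.FibreSk
import Groth.Agent.H9.LocalDimField
import Groth.Agent.H71.CMField

set_option linter.style.haveILetI false

set_option autoImplicit false
universe u
open CAlg

namespace Groth.Agent.S9165


section helpers

open TensorProduct Algebra.TensorProduct Ideal AlgebraicGeometry CategoryTheory
open Groth.Agent.H9.CMFlatSch Groth.Agent.H9.FibDim

attribute [local instance] Groth.Agent.H15.FlatLoc.isLocalRing_fibLocRing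




/-- The stalk of the scheme-theoretic fibre of `Spec S → Spec R` through `x` is the fibre local ring. -/
theorem nonempty_fibreStalk_equiv_Spec (R S : Type u) [CommRing R] [CommRing S] [Algebra R S]
    (x : PrimeSpectrum S) :
    Nonempty (((Spec.map (CommRingCat.ofHom (algebraMap R S))).fiber
        ((Spec.map (CommRingCat.ofHom (algebraMap R S))) x)).presheaf.stalk
        ((Spec.map (CommRingCat.ofHom (algebraMap R S))).asFiber x) ≃+*
      EGA4.FibLocRing R S x.asIdeal) := by
  set f := Spec.map (CommRingCat.ofHom (algebraMap R S)) with hf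
  obtain ⟨e0⟩ := Groth.Agent.H29.FiberStalkAt.nonempty_fiberStalkEquiv f x
  let ar := Scheme.arrowStalkMapSpecIso (CommRingCat.ofHom (algebraMap R S)) x
  let α : (Spec (CommRingCat.of R)).presheaf.stalk (f x) ≃+*
      Localization.AtPrime (x.asIdeal.comap (algebraMap R S)) :=
    (Arrow.leftFunc.mapIso ar).commRingCatIsoToRingEquiv
  let β : (Spec (CommRingCat.of S)).presheaf.stalk x ≃+* Localization.AtPrime x.asIdeal :=
    (Arrow.rightFunc.mapIso ar).commRingCatIsoToRingEquiv
  have h : ∀ a, β ((f.stalkMap x).hom a) =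
      Localization.localRingHom _ _ (algebraMap R S) rfl (α a) := by
    intro a
    have := ar.hom.w
    exact (congr($(this) a)).symm
  let e1 := quotEquivOfArrow (f.stalkMap x).hom
    (Localization.localRingHom _ _ (algebraMap R S) rfl) α β h
  have hI : (IsLocalRing.maximalIdeal (Localization.AtPrime (x.asIdeal.comap (algebraMap R S)))).map
      (Localization.localRingHom _ _ (algebraMap R S) rfl) =
      (x.asIdeal.comap (algebraMap R S)).map
        (algebraMap R (Localization.AtPrime x.asIdeal)) := by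
    rw [← Localization.AtPrime.map_eq_maximalIdeal, Ideal.map_map]
    have h2 : (Localization.localRingHom (x.asIdeal.comap (algebraMap R S)) x.asIdeal
        (algebraMap R S) rfl).comp
        (algebraMap R (Localization.AtPrime (x.asIdeal.comap (algebraMap R S)))) =
        algebraMap R (Localization.AtPrime x.asIdeal) := by
      ext r
      simp only [RingHom.comp_apply]
      rw [Localization.localRingHom_to_map,
        IsScalarTower.algebraMap_apply R S (Localization.AtPrime _)]
    rw [h2]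
  exact ⟨e0.symm.trans (e1.trans (Ideal.quotEquivOfEq hI))⟩

theorem cm_fibLocRing (R S : Type u) [CommRing R] [CommRing S] [Algebra R S]
    (p : Ideal R) [p.IsPrime] (hCM : LocCoh.IsCohenMacaulayRing (p.Fiber S))
    (q : Ideal S) [q.IsPrime] (Q : PrimeSpectrum (p.Fiber S))
    (hQ : Q.asIdeal.comap (includeRight : S →ₐ[R] p.Fiber S) = q) :
    LocCoh.IsCohenMacaulayLocalRing (EGA4.FibLocRing R S q) := by
  subst hQ
  haveI := Q.2
  obtain ⟨-, ⟨e2⟩⟩ := Groth.Agent.H15.FibreSk.exists_fiber_equiv R S p Q.asIdeal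
  exact Groth.Agent.H29.FlatCM.isCM_ringEquiv e2
    (hCM.isCohenMacaulayLocalRing_localization Q.asIdeal)

/-- Under the hypotheses of S9165, `Spec S → Spec R` is Cohen–Macaulay at every point. -/
theorem isCMAt_Spec (R S : Type u) [CommRing R] [CommRing S] [Algebra R S] [Module.Flat R S]
    (hCM : ∀ p : PrimeSpectrum R, LocCoh.IsCohenMacaulayRing (p.asIdeal.Fiber S))
    (x : PrimeSpectrum S) :
    MoreMor.IsCMAt (Spec.map (CommRingCat.ofHom (algebraMap R S))) x := by
  constructor
  · rw [flat_SpecMap_stalkMap_iff]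
    have halg : (CommRingCat.Hom.hom (CommRingCat.ofHom (algebraMap R S))).toAlgebra =
        (inferInstance : Algebra R S) := Algebra.algebra_ext _ _ (fun r => rfl)
    have := Module.Flat.trans R S (Localization.AtPrime x.asIdeal)
    convert this using 3
  · obtain ⟨e⟩ := nonempty_fibreStalk_equiv_Spec R S x
    obtain ⟨Q, hQ⟩ := exists_fiber_prime (x.asIdeal.under R) x.asIdeal
    exact Groth.Agent.H29.FlatCM.isCM_ringEquiv e.symm
      (cm_fibLocRing R S (x.asIdeal.under R) (hCM ⟨x.asIdeal.under R, inferInstance⟩) x.asIdeal Q hQ)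

theorem exists_open_tfd (R S : Type u) [CommRing R] [CommRing S] [Algebra R S] [Module.Flat R S]
    [Algebra.FinitePresentation R S]
    (hCM : ∀ p : PrimeSpectrum R, LocCoh.IsCohenMacaulayRing (p.asIdeal.Fiber S))
    (x : PrimeSpectrum S) :
    ∃ (n : ℕ) (U : TopologicalSpace.Opens (PrimeSpectrum S)), x ∈ U ∧
      ∀ z ∈ U, tfd (PrimeSpectrum.comap (algebraMap R S)) z = (n : WithBot ℕ∞) := by
  haveI : LocallyOfFinitePresentation (Spec.map (CommRingCat.ofHom (algebraMap R S))) := by
    rw [HasRingHomProperty.Spec_iff (P := @LocallyOfFinitePresentation)]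
    exact (RingHom.finitePresentation_algebraMap).mpr inferInstance
  obtain ⟨n, U', hxU', h⟩ := Groth.Agent.H9.CMFlatApp.exists_open_cm
    (Spec.map (CommRingCat.ofHom (algebraMap R S))) x (isCMAt_Spec R S hCM x)
  refine ⟨n, U', hxU', fun z hz => ?_⟩
  have h1 := (h z hz).2
  have h2 := fibreDimAt_eq_tfd (Spec.map (CommRingCat.ofHom (algebraMap R S))) z
  rw [h1] at h2
  exact h2.symm

theorem eq_zero_of_idem_nilp {A : Type u} [CommRing A] {a : A} (h1 : IsIdempotentElem a)
    (h2 : IsNilpotent a) : a = 0 := by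
  obtain ⟨n, hn⟩ := h2
  have h3 : a ^ (n + 1) = a := h1.pow_succ_eq n
  rw [pow_succ, hn, zero_mul] at h3
  exact h3.symm

/-- A countable family of pairwise disjoint open sets covering `Spec S` gives a finite product
decomposition of `S`. -/
theorem exists_decomposition {A : Type u} [CommRing A] (L : ℕ → Set (PrimeSpectrum A))
    (hopen : ∀ d, IsOpen (L d)) (hcov : ∀ x, ∃ d, x ∈ L d)
    (hdisj : ∀ d d' x, x ∈ L d → x ∈ L d' → d = d') :
    ∃ (N : ℕ) (e : Fin (N + 1) → A), (∀ d, IsIdempotentElem (e d)) ∧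
      (∀ (d : Fin (N + 1)) (x : PrimeSpectrum A), e d ∉ x.asIdeal ↔ x ∈ L (d : ℕ)) ∧
      Function.Bijective
        (RingHom.pi fun d : Fin (N + 1) => Ideal.Quotient.mk (Ideal.span {1 - e d})) := by
  classical
  have hclopen : ∀ d, IsClopen (L d) := by
    intro d
    refine ⟨?_, hopen d⟩
    rw [← isOpen_compl_iff]
    have : (L d)ᶜ = ⋃ d' : {d' : ℕ // d' ≠ d}, L d'.1 := by
      ext x
      simp only [Set.mem_compl_iff, Set.mem_iUnion]
      constructor
      · intro hx
        obtain ⟨d', hd'⟩ := hcov x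
        exact ⟨⟨d', fun h => hx (h ▸ hd')⟩, hd'⟩
      · rintro ⟨⟨d', hne⟩, hd'⟩ hx
        exact hne (hdisj d' d x hd' hx)
    rw [this]
    exact isOpen_iUnion fun d' => hopen d'.1
  obtain ⟨t, ht⟩ := isCompact_univ.elim_finite_subcover L hopen
    (fun x _ => Set.mem_iUnion.mpr (hcov x))
  let N := t.sup id
  have hbound : ∀ x : PrimeSpectrum A, ∃ d, d ≤ N ∧ x ∈ L d := by
    intro x
    obtain ⟨d, hd⟩ := Set.mem_iUnion.mp (ht (Set.mem_univ x))
    obtain ⟨hdt, hxd⟩ := Set.mem_iUnion.mp hd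
    exact ⟨d, Finset.le_sup (f := id) hdt, hxd⟩
  have hex : ∀ d : Fin (N + 1), ∃ e : A, IsIdempotentElem e ∧
      L (d : ℕ) = (PrimeSpectrum.basicOpen e : Set _) :=
    fun d => PrimeSpectrum.exists_idempotent_basicOpen_eq_of_isClopen (hclopen d)
  choose e he1 he2 using hex
  have K1 : ∀ (d : Fin (N + 1)) (x : PrimeSpectrum A), e d ∉ x.asIdeal ↔ x ∈ L (d : ℕ) := by
    intro d x
    rw [he2 d]
    exact Iff.rfl
  have horth : ∀ i j : Fin (N + 1), i ≠ j → e i * e j = 0 := by
    intro i j hij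
    apply eq_zero_of_idem_nilp ((he1 i).mul (he1 j))
    rw [nilpotent_iff_mem_prime]
    intro J hJ
    by_contra hnot
    have hi : e i ∉ J := fun h => hnot (J.mul_mem_right _ h)
    have hj : e j ∉ J := fun h => hnot (J.mul_mem_left _ h)
    have h1 := (K1 i ⟨J, hJ⟩).mp hi
    have h2 := (K1 j ⟨J, hJ⟩).mp hj
    exact hij (Fin.ext (hdisj _ _ _ h1 h2))
  have hprod : ∏ d : Fin (N + 1), (1 - e d) = 0 := by
    apply eq_zero_of_idem_nilp
    · exact Finset.prod_induction _ IsIdempotentElem (fun a b ha hb => ha.mul hb)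
        IsIdempotentElem.one (fun d _ => (he1 d).one_sub)
    · rw [nilpotent_iff_mem_prime]
      intro J hJ
      obtain ⟨d, hdn, hxd⟩ := hbound ⟨J, hJ⟩
      have hd : e ⟨d, Nat.lt_succ_of_le hdn⟩ ∉ J :=
        (K1 ⟨d, Nat.lt_succ_of_le hdn⟩ ⟨J, hJ⟩).mpr hxd
      have h0 : e ⟨d, Nat.lt_succ_of_le hdn⟩ * (1 - e ⟨d, Nat.lt_succ_of_le hdn⟩) ∈ J := by
        rw [(he1 ⟨d, Nat.lt_succ_of_le hdn⟩).mul_one_sub_self]
        exact J.zero_mem
      have h1 : (1 - e ⟨d, Nat.lt_succ_of_le hdn⟩) ∈ J := (hJ.mem_or_mem h0).resolve_left hd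
      exact Ideal.mem_of_dvd J
        (Finset.dvd_prod_of_mem (fun d : Fin (N + 1) => 1 - e d)
          (Finset.mem_univ (⟨d, Nat.lt_succ_of_le hdn⟩ : Fin (N + 1)))) h1
  refine ⟨N, e, he1, K1, ?_⟩
  exact RingHom.pi_bijective_of_isIdempotentElem (fun d => 1 - e d) (fun d => (he1 d).one_sub)
    (fun i j hij => by
      show (1 - (1 - e i)) * (1 - (1 - e j)) = 0
      rw [sub_sub_cancel, sub_sub_cancel]
      exact horth i j hij) hprod



theorem flat_quot (R S : Type u) [CommRing R] [CommRing S] [Algebra R S] [Module.Flat R S]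
    (e : S) (he : IsIdempotentElem e) : Module.Flat R (S ⧸ Ideal.span {1 - e}) := by
  haveI : IsLocalization.Away e (S ⧸ Ideal.span {1 - e}) :=
    IsLocalization.Away.quotient_of_isIdempotentElem he
  haveI : Module.Flat S (S ⧸ Ideal.span {1 - e}) :=
    IsLocalization.flat (S ⧸ Ideal.span {1 - e}) (Submonoid.powers e)
  exact Module.Flat.trans R S (S ⧸ Ideal.span {1 - e})

theorem fp_quot (R S : Type u) [CommRing R] [CommRing S] [Algebra R S]
    [Algebra.FinitePresentation R S] (e : S) :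
    Algebra.FinitePresentation R (S ⧸ Ideal.span {1 - e}) :=
  Algebra.FinitePresentation.quotient ⟨{1 - e}, by simp⟩

/-- dimension of the components of the fibres of a factor. -/
theorem dim_quot (R S : Type u) [CommRing R] [CommRing S] [Algebra R S]
    [Algebra.FiniteType R S] (e : S) (he : IsIdempotentElem e) (d : ℕ)
    (hd : ∀ x : PrimeSpectrum S, e ∉ x.asIdeal →
      tfd (PrimeSpectrum.comap (algebraMap R S)) x = (d : WithBot ℕ∞))
    (p : Ideal R) [p.IsPrime] (P : Ideal (p.Fiber (S ⧸ Ideal.span {1 - e})))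
    (hP : P ∈ minimalPrimes (p.Fiber (S ⧸ Ideal.span {1 - e}))) :
    ringKrullDim (p.Fiber (S ⧸ Ideal.span {1 - e}) ⧸ P) = (d : WithBot ℕ∞) := by
  set T := S ⧸ Ideal.span {1 - e} with hT
  haveI : IsLocalization.Away e T := IsLocalization.Away.quotient_of_isIdempotentElem he
  haveI : P.IsPrime := hP.1.1
  let Q : PrimeSpectrum (p.Fiber T) := ⟨P, inferInstance⟩
  haveI : Algebra.FiniteType R T := inferInstance
  haveI : Algebra.FiniteType p.ResidueField (p.Fiber T) := inferInstance
  have h1 := Groth.Agent.H9.LocalDimField.localDim_eq_iSup p.ResidueField (p.Fiber T) Q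
  have h2 : (⨆ q0 : {q0 : PrimeSpectrum (p.Fiber T) // q0.asIdeal ∈ minimalPrimes (p.Fiber T) ∧ q0 ≤ Q},
      ringKrullDim (p.Fiber T ⧸ q0.1.asIdeal)) = ringKrullDim (p.Fiber T ⧸ P) := by
    apply le_antisymm
    · apply iSup_le
      rintro ⟨q0, hq0, hle⟩
      have : q0.asIdeal = P := le_antisymm hle (hP.2 ⟨q0.2, bot_le⟩ hle)
      rw [this]
    · exact le_iSup (fun q0 : {q0 : PrimeSpectrum (p.Fiber T) //
        q0.asIdeal ∈ minimalPrimes (p.Fiber T) ∧ q0 ≤ Q} =>
        ringKrullDim (p.Fiber T ⧸ q0.1.asIdeal)) ⟨Q, hP, le_rfl⟩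
  rw [← h2, ← h1]
  let qT : PrimeSpectrum T := ⟨Q.asIdeal.comap (includeRight : T →ₐ[R] p.Fiber T).toRingHom,
    inferInstance⟩
  have hp : qT.asIdeal.under R = p :=
    (Groth.Agent.H15.FibreSk.exists_fiber_equiv R T p Q.asIdeal).1
  rw [localDim_fiber_eq_tfd p qT hp Q rfl]
  have hj : Topology.IsOpenEmbedding (PrimeSpectrum.comap (algebraMap S T)) :=
    PrimeSpectrum.localization_away_isOpenEmbedding T e
  rw [tfd_eq_of_square (PrimeSpectrum.comap (algebraMap R S)) (PrimeSpectrum.comap (algebraMap R T))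
    (PrimeSpectrum.comap (algebraMap S T)) id hj Function.injective_id (fun a' => by
      apply PrimeSpectrum.ext
      ext r
      simp only [PrimeSpectrum.comap_asIdeal, Ideal.mem_comap, id]
      rw [← IsScalarTower.algebraMap_apply]) qT]
  apply hd
  intro hmem
  have hmem' : algebraMap S T e ∈ qT.asIdeal := hmem
  have h1e : algebraMap S T (1 - e) = 0 :=
    Ideal.Quotient.eq_zero_iff_mem.mpr (Ideal.mem_span_singleton_self _)
  rw [map_sub, map_one, sub_eq_zero] at h1e
  rw [← h1e] at hmem'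
  exact qT.2.ne_top ((Ideal.eq_top_iff_one _).mpr hmem')


theorem cm_fibre_quot (R S : Type u) [CommRing R] [CommRing S] [Algebra R S]
    (e : S) (he : IsIdempotentElem e) (p : Ideal R) [p.IsPrime]
    (hCM : LocCoh.IsCohenMacaulayRing (p.Fiber S)) :
    LocCoh.IsCohenMacaulayRing (p.Fiber (S ⧸ Ideal.span {1 - e})) := by
  set T := S ⧸ Ideal.span {1 - e} with hT
  haveI : IsLocalization.Away e T := IsLocalization.Away.quotient_of_isIdempotentElem he
  letI : Algebra (p.ResidueField ⊗[R] S) (p.ResidueField ⊗[R] T) :=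
    (Algebra.TensorProduct.map (AlgHom.id R p.ResidueField) (IsScalarTower.toAlgHom R S T)).toAlgebra
  haveI : IsScalarTower p.ResidueField (p.ResidueField ⊗[R] S) (p.ResidueField ⊗[R] T) :=
    .of_algebraMap_eq <| by intro; simp [RingHom.algebraMap_toAlgebra]
  haveI := IsLocalization.tensorProduct_tensorProduct_right R p.ResidueField (Submonoid.powers e) T
    (by ext; simp [RingHom.algebraMap_toAlgebra])
  exact Groth.Agent.H71.CMField.isCMRing_of_isLocalization
    ((Submonoid.powers e).map (Algebra.TensorProduct.includeRight (R := R) (A := p.ResidueField)))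
    hCM

end helpers

theorem result' (R S : Type u) [CommRing R]
    [CommRing S] [Algebra R S] [Module.Flat R S] [Algebra.FinitePresentation R S]
    (hCM : ∀ p : PrimeSpectrum R, LocCoh.IsCohenMacaulayRing (p.asIdeal.Fiber S)) :
    ∃ (N : ℕ) (T : Fin (N + 1) → Type u) (_ : ∀ d, CommRing (T d)) (_ : ∀ d, Algebra R (T d)),
      Nonempty (S ≃ₐ[R] ((d : Fin (N + 1)) → T d)) ∧
        ∀ d : Fin (N + 1), Module.Flat R (T d) ∧ Algebra.FinitePresentation R (T d) ∧
          (∀ p : PrimeSpectrum R, LocCoh.IsCohenMacaulayRing (p.asIdeal.Fiber (T d))) ∧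
          ∀ (p : PrimeSpectrum R), ∀ P ∈ minimalPrimes (p.asIdeal.Fiber (T d)),
            ringKrullDim (p.asIdeal.Fiber (T d) ⧸ P) = ((d : ℕ) : WithBot ℕ∞) := by
  classical
  let L : ℕ → Set (PrimeSpectrum S) := fun d =>
    {x | Groth.Agent.H9.FibDim.tfd (PrimeSpectrum.comap (algebraMap R S)) x = (d : WithBot ℕ∞)}
  have hopen : ∀ d, IsOpen (L d) := by
    intro d
    rw [isOpen_iff_forall_mem_open]
    intro x hx
    obtain ⟨n, U, hxU, hU⟩ := exists_open_tfd R S hCM x
    have hnd : n = d := by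
      have h1 := hU x hxU
      have h2 : Groth.Agent.H9.FibDim.tfd (PrimeSpectrum.comap (algebraMap R S)) x =
        (d : WithBot ℕ∞) := hx
      rw [h1] at h2
      exact_mod_cast h2
    subst hnd
    exact ⟨U, fun z hz => hU z hz, U.2, hxU⟩
  have hcov : ∀ x, ∃ d, x ∈ L d := by
    intro x
    obtain ⟨n, U, hxU, hU⟩ := exists_open_tfd R S hCM x
    exact ⟨n, hU x hxU⟩
  have hdisj : ∀ d d' x, x ∈ L d → x ∈ L d' → d = d' := by
    intro d d' x h1 h2
    have h1' : Groth.Agent.H9.FibDim.tfd (PrimeSpectrum.comap (algebraMap R S)) x =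
      (d : WithBot ℕ∞) := h1
    have h2' : Groth.Agent.H9.FibDim.tfd (PrimeSpectrum.comap (algebraMap R S)) x =
      (d' : WithBot ℕ∞) := h2
    rw [h1'] at h2'
    exact_mod_cast h2'
  obtain ⟨N, e, he1, K1, hbij⟩ := exists_decomposition L hopen hcov hdisj
  refine ⟨N, fun d => S ⧸ Ideal.span {1 - e d}, fun d => inferInstance, fun d => inferInstance,
    ⟨AlgEquiv.ofBijective
      (AlgHom.pi (fun d => Ideal.Quotient.mkₐ R (Ideal.span {1 - e d}))) hbij⟩, ?_⟩
  intro d
  refine ⟨flat_quot R S (e d) (he1 d), fp_quot R S (e d),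
    fun p => cm_fibre_quot R S (e d) (he1 d) p.asIdeal (hCM p), fun p P hP => ?_⟩
  exact dim_quot R S (e d) (he1 d) (d : ℕ) (fun x hx => (K1 d x).mp hx) p.asIdeal P hP


/-- A flat, finitely presented ring map R → S whose fibre rings κ(p) ⊗ S are Cohen–Macaulay decomposes S
as a finite product of R-algebras S_d (d = 0, …, N), each again flat, finitely presented with
Cohen–Macaulay fibres, and with every irreducible component of every fibre of S_d of dimension d. -/
theorem result (R S : Type u) [CommRing R]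
    [CommRing S] [Algebra R S] [Module.Flat R S] [Algebra.FinitePresentation R S]
    (hCM : ∀ p : PrimeSpectrum R, LocCoh.IsCohenMacaulayRing (p.asIdeal.Fiber S)) :
    ∃ (N : ℕ) (T : Fin (N + 1) → Type u) (_ : ∀ d, CommRing (T d)) (_ : ∀ d, Algebra R (T d)),
      Nonempty (S ≃ₐ[R] ((d : Fin (N + 1)) → T d)) ∧
        ∀ d : Fin (N + 1), Module.Flat R (T d) ∧ Algebra.FinitePresentation R (T d) ∧
          (∀ p : PrimeSpectrum R, LocCoh.IsCohenMacaulayRing (p.asIdeal.Fiber (T d))) ∧
          ∀ (p : PrimeSpectrum R), ∀ P ∈ minimalPrimes (p.asIdeal.Fiber (T d)),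
            ringKrullDim (p.asIdeal.Fiber (T d) ⧸ P) = ((d : ℕ) : WithBot ℕ∞) := by
  exact result' R S hCM

end Groth.Agent.S9165
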