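import Groth.Statements.S9167
-- import your own Groth.Agent.* helpers here

set_option autoImplicit false
universe u
open CAlg

namespace Groth.Agent.S9167

section
variable (R : Type u) [CommRing R] (I : Ideal R) (S : Submonoid R)

/-- the image of `S` in `R ⧸ I` -/
abbrev Sb : Submonoid (R ⧸ I) := S.map (Ideal.Quotient.mk I)

/-- the localized quotient -/
abbrev R' : Type u := Localization (Sb R I S)

theorem exists_mul_mem_of_map_eq_zero (a : R) (h : algebraMap R (R' R I S) a = 0) :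
    ∃ s ∈ S, s * a ∈ I := by
  have h' : algebraMap (R ⧸ I) (R' R I S) (Ideal.Quotient.mk I a) = 0 := h
  obtain ⟨c, hc⟩ := (IsLocalization.map_eq_zero_iff (Sb R I S) (R' R I S) _).mp h'
  obtain ⟨s, hs, hsc⟩ := Submonoid.mem_map.mp c.2
  refine ⟨s, hs, ?_⟩
  rw [← Ideal.Quotient.eq_zero_iff_mem, map_mul, hsc]; exact hc

theorem exists_common_denominator {ι : Type*} [Finite ι] (w : ι → R' R I S) :
    ∃ s ∈ S, ∃ r : ι → R,
      ∀ i, algebraMap R (R' R I S) (r i) = algebraMap R (R' R I S) s * w i := by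
  obtain ⟨b, hb⟩ := IsLocalization.exist_integer_multiples_of_finite (Sb R I S) w
  obtain ⟨s, hs, hsb⟩ := Submonoid.mem_map.mp b.2
  have h1 : ∀ i, ∃ r : R, algebraMap R (R' R I S) r = algebraMap R (R' R I S) s * w i := by
    intro i
    obtain ⟨rb, hrb⟩ := RingHom.mem_rangeS.mp (hb i)
    obtain ⟨r, rfl⟩ := Ideal.Quotient.mk_surjective rb
    refine ⟨r, ?_⟩
    rw [Algebra.smul_def, ← hsb] at hrb
    exact hrb
  choose r hr using h1
  exact ⟨s, hs, r, hr⟩

theorem main (n : ℕ) (K : Submodule (R' R I S) (Fin n → R' R I S)) (hK : K.FG) :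
    ∃ (M : Type u) (_ : AddCommGroup M) (_ : Module R M), Module.FinitePresentation R M ∧
      ∃ g : (M ⧸ (I • ⊤ : Submodule R M)) →ₗ[R ⧸ I] ((Fin n → R' R I S) ⧸ K),
        IsLocalizedModule (Sb R I S) g := by
  classical
  obtain ⟨T, hT⟩ := hK
  obtain ⟨s, hs, V', hV'⟩ := exists_common_denominator R I S
    (fun p : T × Fin n => (p.1 : Fin n → R' R I S) p.2)
  let V : T → (Fin n → R) := fun t i => V' (t, i)
  have hV : ∀ (t : T) i, algebraMap R (R' R I S) (V t i) =
      algebraMap R (R' R I S) s * (t : Fin n → R' R I S) i := fun t i => hV' (t, i)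
  let ρn : (Fin n → R) →ₗ[R] (Fin n → R' R I S) :=
    (Algebra.linearMap R (R' R I S)).compLeft (Fin n)
  have hρn : ∀ v i, ρn v i = algebraMap R (R' R I S) (v i) := fun v i => rfl
  have hρV : ∀ t : T, ρn (V t) = algebraMap R (R' R I S) s • (t : Fin n → R' R I S) := by
    intro t
    funext i
    rw [hρn, hV]; rfl
  let N : Submodule R (Fin n → R) := Submodule.span R (Set.range V)
  let g₀ : (Fin n → R) →ₗ[R] ((Fin n → R' R I S) ⧸ K) := (K.mkQ.restrictScalars R).comp ρn
  have hg₀ : ∀ v, g₀ v = Submodule.Quotient.mk (ρn v) := fun v => rfl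
  have hN : N ≤ LinearMap.ker g₀ := by
    rw [Submodule.span_le]
    rintro _ ⟨t, rfl⟩
    rw [SetLike.mem_coe, LinearMap.mem_ker, hg₀, hρV, Submodule.Quotient.mk_eq_zero]
    exact K.smul_mem _ (hT ▸ Submodule.subset_span t.2)
  let g₁ : ((Fin n → R) ⧸ N) →ₗ[R] ((Fin n → R' R I S) ⧸ K) := N.liftQ g₀ hN
  have hI : (I • ⊤ : Submodule R ((Fin n → R) ⧸ N)) ≤ LinearMap.ker g₁ := by
    rw [Submodule.smul_le]
    intro a ha m _
    have h0 : algebraMap R (R' R I S) a = 0 := by
      show algebraMap (R ⧸ I) (R' R I S) (Ideal.Quotient.mk I a) = 0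
      rw [Ideal.Quotient.eq_zero_iff_mem.mpr ha, map_zero]
    rw [LinearMap.mem_ker, map_smul, ← algebraMap_smul (R' R I S) a (g₁ m), h0, zero_smul]
  let g₂ : (((Fin n → R) ⧸ N) ⧸ (I • ⊤ : Submodule R ((Fin n → R) ⧸ N))) →ₗ[R]
      ((Fin n → R' R I S) ⧸ K) := (I • ⊤ : Submodule R ((Fin n → R) ⧸ N)).liftQ g₁ hI
  let g : (((Fin n → R) ⧸ N) ⧸ (I • ⊤ : Submodule R ((Fin n → R) ⧸ N))) →ₗ[R ⧸ I]
      ((Fin n → R' R I S) ⧸ K) :=
    { toFun := g₂
      map_add' := g₂.map_add
      map_smul' := by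
        intro rb x
        obtain ⟨r, rfl⟩ := Ideal.Quotient.mk_surjective rb
        simp only [RingHom.id_apply]
        have e1 : (Ideal.Quotient.mk I r) • x = r • x := algebraMap_smul (R ⧸ I) r x
        have e2 : (Ideal.Quotient.mk I r) • g₂ x = r • g₂ x := algebraMap_smul (R ⧸ I) r (g₂ x)
        rw [e1, e2, map_smul] }
  have hg : ∀ v : Fin n → R, g (Submodule.Quotient.mk (Submodule.Quotient.mk v)) =
      Submodule.Quotient.mk (ρn v) := fun v => rfl
  have hfp : Module.FinitePresentation R ((Fin n → R) ⧸ N) :=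
    Module.finitePresentation_of_free_of_surjective N.mkQ N.mkQ_surjective
      (by rw [Submodule.ker_mkQ]; exact Submodule.fg_span (Set.finite_range V))
  have hIv : ∀ v : Fin n → R, (∀ i, v i ∈ I) →
      (Submodule.Quotient.mk v : (Fin n → R) ⧸ N) ∈
        (I • ⊤ : Submodule R ((Fin n → R) ⧸ N)) := by
    intro v hv
    have e : v = ∑ i, v i • (Pi.single i 1 : Fin n → R) := by
      funext j
      simp [Finset.sum_apply, Pi.single_apply]
    have e' : (Submodule.Quotient.mk v : (Fin n → R) ⧸ N) =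
        ∑ i, v i • N.mkQ (Pi.single i 1 : Fin n → R) := by
      conv_lhs => rw [e]
      rw [← Submodule.mkQ_apply, map_sum]
      apply Finset.sum_congr rfl
      intro i _
      rw [map_smul]
    rw [e']
    exact Submodule.sum_mem _ (fun i _ => Submodule.smul_mem_smul (hv i) Submodule.mem_top)
  refine ⟨(Fin n → R) ⧸ N, inferInstance, inferInstance, hfp, g, ?_⟩
  have hid := isLocalizedModule_id (Sb R I S) ((Fin n → R' R I S) ⧸ K) (R' R I S)
  refine ⟨hid.map_units, ?_, ?_⟩
  · intro y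
    obtain ⟨w, rfl⟩ := Submodule.Quotient.mk_surjective K y
    obtain ⟨s₁, hs₁, r, hr⟩ := exists_common_denominator R I S w
    refine ⟨(Submodule.Quotient.mk (Submodule.Quotient.mk r),
      ⟨Ideal.Quotient.mk I s₁, Submonoid.mem_map_of_mem _ hs₁⟩), ?_⟩
    rw [hg]
    show (Ideal.Quotient.mk I s₁) • (Submodule.Quotient.mk w : (Fin n → R' R I S) ⧸ K) =
      Submodule.Quotient.mk (ρn r)
    rw [← Submodule.Quotient.mk_smul]
    congr 1
    funext i
    rw [Pi.smul_apply, Algebra.smul_def, hρn, hr i]; rfl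
  · intro x₁ x₂ h
    have h0 : g (x₁ - x₂) = 0 := by rw [map_sub, h, sub_self]
    obtain ⟨m, hm⟩ := Submodule.Quotient.mk_surjective _ (x₁ - x₂)
    obtain ⟨r, rfl⟩ := Submodule.Quotient.mk_surjective N m
    rw [← hm, hg, Submodule.Quotient.mk_eq_zero, ← hT] at h0
    obtain ⟨c, hc⟩ := Submodule.mem_span_finset'.mp h0
    obtain ⟨s₁, hs₁, d, hd⟩ := exists_common_denominator R I S c
    have hri : ∀ i, algebraMap R (R' R I S) (r i) =
        ∑ t : T, c t * (t : Fin n → R' R I S) i := by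
      intro i
      have := congrFun hc i
      simp only [Finset.sum_apply, Pi.smul_apply, smul_eq_mul] at this
      rw [this]; rfl
    have ha : ∀ i, algebraMap R (R' R I S)
        ((s₁ * s) * r i - ∑ t : T, d t * V t i) = 0 := by
      intro i
      rw [map_sub, map_mul, map_mul, map_sum, hri, Finset.mul_sum, ← Finset.sum_sub_distrib]
      apply Finset.sum_eq_zero
      intro t _
      rw [map_mul, hd, hV]; ring
    have h2 : ∀ i, ∃ σ ∈ S, σ * ((s₁ * s) * r i - ∑ t : T, d t * V t i) ∈ I :=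
      fun i => exists_mul_mem_of_map_eq_zero R I S _ (ha i)
    choose σ hσS hσI using h2
    have hs₂ : (∏ i, σ i) ∈ S := Submonoid.prod_mem _ (fun i _ => hσS i)
    have hs₂I : ∀ i, (∏ i, σ i) * ((s₁ * s) * r i - ∑ t : T, d t * V t i) ∈ I := by
      intro i
      obtain ⟨k, hk⟩ := Finset.dvd_prod_of_mem σ (Finset.mem_univ i)
      rw [hk, mul_comm (σ i) k, mul_assoc]
      exact I.mul_mem_left _ (hσI i)
    refine ⟨⟨Ideal.Quotient.mk I ((∏ i, σ i) * (s₁ * s)),
      Submonoid.mem_map_of_mem _ (S.mul_mem hs₂ (S.mul_mem hs₁ hs))⟩, ?_⟩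
    rw [← sub_eq_zero, ← smul_sub, ← hm]
    show (Ideal.Quotient.mk I ((∏ i, σ i) * (s₁ * s))) •
      (Submodule.Quotient.mk (Submodule.Quotient.mk r) :
        ((Fin n → R) ⧸ N) ⧸ (I • ⊤ : Submodule R ((Fin n → R) ⧸ N))) = 0
    rw [show (Ideal.Quotient.mk I ((∏ i, σ i) * (s₁ * s))) •
      (Submodule.Quotient.mk (Submodule.Quotient.mk r) :
        ((Fin n → R) ⧸ N) ⧸ (I • ⊤ : Submodule R ((Fin n → R) ⧸ N))) =
      ((∏ i, σ i) * (s₁ * s)) • Submodule.Quotient.mk (Submodule.Quotient.mk r) from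
      algebraMap_smul (R ⧸ I) _ _]
    rw [← Submodule.Quotient.mk_smul, ← Submodule.Quotient.mk_smul,
      Submodule.Quotient.mk_eq_zero]
    have e : ((∏ i, σ i) * (s₁ * s)) • r =
        (∏ i, σ i) • ((s₁ * s) • r - ∑ t : T, d t • V t) +
          (∏ i, σ i) • ∑ t : T, d t • V t := by
      rw [← smul_add, sub_add_cancel, mul_smul]
    rw [e, Submodule.Quotient.mk_add]
    have h3 : (Submodule.Quotient.mk ((∏ i, σ i) • ∑ t : T, d t • V t) : (Fin n → R) ⧸ N) = 0 := by
      rw [Submodule.Quotient.mk_eq_zero]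
      exact N.smul_mem _ (N.sum_mem fun t _ => N.smul_mem _ (Submodule.subset_span ⟨t, rfl⟩))
    rw [h3, add_zero]
    refine hIv _ (fun i => ?_)
    have e4 : ((∏ i, σ i) • ((s₁ * s) • r - ∑ t : T, d t • V t)) i =
        (∏ i, σ i) * ((s₁ * s) * r i - ∑ t : T, d t * V t i) := by
      simp only [Pi.smul_apply, Pi.sub_apply, Finset.sum_apply, smul_eq_mul]
    rw [e4]; exact hs₂I i

end

/-- With R' = S⁻¹(R/I), every finitely presented R'-module is of the form S⁻¹(M/IM) for some finitely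
presented R-module M. -/
theorem result (R : Type u) [CommRing R] (I : Ideal R)
    (S : Submonoid R) (M' : Type u) [AddCommGroup M']
    [Module (Localization (S.map (Ideal.Quotient.mk I))) M']
    [Module.FinitePresentation (Localization (S.map (Ideal.Quotient.mk I))) M'] :
    ∃ (M : Type u) (_ : AddCommGroup M) (_ : Module R M), Module.FinitePresentation R M ∧
      Nonempty (LocalizedModule (S.map (Ideal.Quotient.mk I)) (M ⧸ (I • ⊤ : Submodule R M))
        ≃ₗ[Localization (S.map (Ideal.Quotient.mk I))] M') := by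
  obtain ⟨n, K, e, hK⟩ := Module.FinitePresentation.exists_fin
    (Localization (S.map (Ideal.Quotient.mk I))) M'
  obtain ⟨M, i1, i2, hfp, g, hg⟩ := main R I S n K hK
  refine ⟨M, i1, i2, hfp, ⟨?_⟩⟩
  exact ((IsLocalizedModule.iso (S.map (Ideal.Quotient.mk I)) g).extendScalarsOfIsLocalization
    (S.map (Ideal.Quotient.mk I)) (Localization (S.map (Ideal.Quotient.mk I)))).trans e.symm

end Groth.Agent.S9167
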