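import Groth.Statements.S9168
import Mathlib

set_option autoImplicit false
set_option linter.style.haveILetI false
universe u
open CAlg

namespace Groth.Agent.S9168


section Sat
variable {R : Type u} [CommRing R]

/-- unit saturation of a subring -/
def sat (T : Subring R) : Subring R where
  carrier := {x | ∃ a ∈ T, ∃ s ∈ T, IsUnit s ∧ x * s = a}
  mul_mem' := by
    rintro x y ⟨a, ha, s, hs, hsu, h1⟩ ⟨b, hb, t, ht, htu, h2⟩
    exact ⟨a * b, T.mul_mem ha hb, s * t, T.mul_mem hs ht, hsu.mul htu, by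
      rw [← h1, ← h2]; ring⟩
  one_mem' := ⟨1, T.one_mem, 1, T.one_mem, isUnit_one, by simp⟩
  add_mem' := by
    rintro x y ⟨a, ha, s, hs, hsu, h1⟩ ⟨b, hb, t, ht, htu, h2⟩
    exact ⟨a * t + b * s, T.add_mem (T.mul_mem ha ht) (T.mul_mem hb hs), s * t,
      T.mul_mem hs ht, hsu.mul htu, by rw [← h1, ← h2]; ring⟩
  zero_mem' := ⟨0, T.zero_mem, 1, T.one_mem, isUnit_one, by simp⟩
  neg_mem' := by
    rintro x ⟨a, ha, s, hs, hsu, h1⟩
    exact ⟨-a, T.neg_mem ha, s, hs, hsu, by rw [← h1]; ring⟩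

lemma le_sat (T : Subring R) : T ≤ sat T :=
  fun x hx => ⟨x, hx, 1, T.one_mem, isUnit_one, by simp⟩

lemma isUnit_sat {T : Subring R} (x : sat T) (hx : IsUnit (x : R)) : IsUnit x := by
  obtain ⟨a, ha, s, hs, hsu, h1⟩ := x.2
  have hau : IsUnit a := h1 ▸ hx.mul hsu
  obtain ⟨a', ha'⟩ := hau
  have hy : (s * ↑a'⁻¹ : R) ∈ sat T :=
    ⟨s, hs, a, ha, ⟨a', ha'⟩, by rw [← ha']; simp [mul_assoc]⟩
  refine IsUnit.of_mul_eq_one (⟨_, hy⟩ : sat T) ?_
  apply Subtype.ext
  show (x : R) * (s * ↑a'⁻¹) = 1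
  rw [← mul_assoc, h1, ← ha']; simp

lemma isLocalRing_sat [IsLocalRing R] (T : Subring R) : IsLocalRing (sat T) := by
  refine IsLocalRing.of_isUnit_or_isUnit_one_sub_self fun x => ?_
  rcases IsLocalRing.isUnit_or_isUnit_one_sub_self (x : R) with h | h
  · exact Or.inl (isUnit_sat x h)
  · exact Or.inr (isUnit_sat (1 - x) (by simpa using h))

lemma isLocalHom_sat (T : Subring R) : IsLocalHom (sat T).subtype :=
  ⟨fun x hx => isUnit_sat x hx⟩

lemma closure_mem_sub {Q : Subring R} (U : Subring Q) (G : Set R)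
    (hG : ∀ g ∈ G, ∃ h : g ∈ Q, (⟨g, h⟩ : Q) ∈ U) :
    ∀ t ∈ Subring.closure G, ∃ h : t ∈ Q, (⟨t, h⟩ : Q) ∈ U := by
  have hle : Subring.closure G ≤ U.map Q.subtype := by
    rw [Subring.closure_le]
    intro g hg
    obtain ⟨h, hU⟩ := hG g hg
    exact ⟨⟨g, h⟩, hU, rfl⟩
  intro t ht
  obtain ⟨y, hy, rfl⟩ := hle ht
  exact ⟨y.2, hy⟩

lemma essFiniteType_sat {A : Type*} [CommRing A] {T : Subring R} (ψ : A →+* sat T)
    (σ : Finset (sat T))
    (h : ∀ t (ht : t ∈ T), (⟨t, le_sat T ht⟩ : sat T) ∈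
      @Algebra.adjoin A (sat T) _ _ ψ.toAlgebra (σ : Set (sat T))) :
    ψ.EssFiniteType := by
  letI := ψ.toAlgebra
  show Algebra.EssFiniteType A (sat T)
  rw [Algebra.essFiniteType_iff]
  refine ⟨σ, fun x => ?_⟩
  obtain ⟨a, ha, s, hs, hsu, h1⟩ := x.2
  refine ⟨⟨s, le_sat T hs⟩, h s hs, isUnit_sat _ hsu, ?_⟩
  have : x * ⟨s, le_sat T hs⟩ = ⟨a, le_sat T ha⟩ := Subtype.ext h1
  rw [this]; exact h a ha

end Sat


/-- For a local homomorphism of local rings R → S and finite subsets E ⊆ R, F ⊆ S there are local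
subrings R₀ ⊆ R and S₀ ⊆ S containing E and F, with R → S mapping R₀ into S₀, such that the
inclusions and the induced map R₀ → S₀ are local homomorphisms, R₀ is essentially of finite type
over ℤ and S₀ is essentially of finite type over R₀. (So R → S is the directed colimit of such R₀ →
S₀.) -/
theorem result (R S : Type u) [CommRing R] [CommRing S] [IsLocalRing R]
    [IsLocalRing S] [Algebra R S] [IsLocalHom (algebraMap R S)] (E : Finset R) (F : Finset S) :
    ∃ (R₀ : Subring R) (S₀ : Subring S) (h : ∀ x ∈ R₀, algebraMap R S x ∈ S₀),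
      (E : Set R) ⊆ R₀ ∧ (F : Set S) ⊆ S₀ ∧ ∃ (_ : IsLocalRing R₀) (_ : IsLocalRing S₀),
        IsLocalHom R₀.subtype ∧ IsLocalHom S₀.subtype ∧
          IsLocalHom ((algebraMap R S).restrict R₀ S₀ h) ∧
          (algebraMap ℤ R₀).EssFiniteType ∧ ((algebraMap R S).restrict R₀ S₀ h).EssFiniteType := by
  classical
  obtain ⟨TR, hTR⟩ : ∃ T : Subring R, T = Subring.closure (E : Set R) := ⟨_, rfl⟩
  have hE : (E : Set R) ⊆ TR := hTR ▸ Subring.subset_closure
  obtain ⟨TS, hTS⟩ : ∃ T : Subring S, T = Subring.closure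
      ((F : Set S) ∪ (algebraMap R S) '' ((sat TR : Subring R) : Set R)) := ⟨_, rfl⟩
  have hF : (F : Set S) ⊆ TS := hTS ▸ fun x hx => Subring.subset_closure (Or.inl hx)
  have hRS : ∀ x ∈ sat TR, algebraMap R S x ∈ TS :=
    hTS ▸ fun x hx => Subring.subset_closure (Or.inr ⟨x, hx, rfl⟩)
  have h : ∀ x ∈ sat TR, algebraMap R S x ∈ sat TS := fun x hx => le_sat TS (hRS x hx)
  refine ⟨sat TR, sat TS, h, fun x hx => le_sat TR (hE hx), fun x hx => le_sat TS (hF hx),
    isLocalRing_sat TR, isLocalRing_sat TS, isLocalHom_sat TR, isLocalHom_sat TS, ?_, ?_, ?_⟩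
  · refine ⟨fun x hx => ?_⟩
    apply isUnit_sat
    have h1 : IsUnit ((sat TS).subtype ((algebraMap R S).restrict (sat TR) (sat TS) h x)) :=
      hx.map _
    have h2 : IsUnit (algebraMap R S (x : R)) := h1
    exact isUnit_of_map_unit (algebraMap R S) _ h2
  · -- ℤ → R₀
    refine essFiniteType_sat (algebraMap ℤ (sat TR))
      (E.attach.image fun e => (⟨e.1, le_sat TR (hE e.2)⟩ : sat TR)) ?_
    intro t ht
    letI := (algebraMap ℤ (sat TR)).toAlgebra
    obtain ⟨h', hU⟩ := closure_mem_sub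
      (Algebra.adjoin ℤ ((E.attach.image fun e => (⟨e.1, le_sat TR (hE e.2)⟩ : sat TR) :
        Finset (sat TR)) : Set (sat TR))).toSubring (E : Set R) (fun g hg => by
          refine ⟨le_sat TR (hE hg), ?_⟩
          apply Algebra.subset_adjoin
          rw [Finset.mem_coe, Finset.mem_image]
          exact ⟨⟨g, hg⟩, Finset.mem_attach _ _, rfl⟩) t (hTR ▸ ht)
    exact hU
  · refine essFiniteType_sat ((algebraMap R S).restrict (sat TR) (sat TS) h)
      (F.attach.image fun e => (⟨e.1, le_sat TS (hF e.2)⟩ : sat TS)) ?_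
    intro t ht
    letI := ((algebraMap R S).restrict (sat TR) (sat TS) h).toAlgebra
    obtain ⟨h', hU⟩ := closure_mem_sub
      (Algebra.adjoin (sat TR) ((F.attach.image fun e => (⟨e.1, le_sat TS (hF e.2)⟩ : sat TS) :
        Finset (sat TS)) : Set (sat TS))).toSubring
      ((F : Set S) ∪ (algebraMap R S) '' ((sat TR : Subring R) : Set R)) (fun g hg => by
          rcases hg with hg | ⟨r, hr, rfl⟩
          · refine ⟨le_sat TS (hF hg), ?_⟩
            apply Algebra.subset_adjoin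
            rw [Finset.mem_coe, Finset.mem_image]
            exact ⟨⟨g, hg⟩, Finset.mem_attach _ _, rfl⟩
          · refine ⟨h r hr, ?_⟩
            exact Subalgebra.algebraMap_mem _ (⟨r, hr⟩ : sat TR)) t (hTS ▸ ht)
    exact hU

end Groth.Agent.S9168
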