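import Groth.Statements.S9171
import Groth.Agent.H66.GlobalCI3

set_option autoImplicit false
universe u
open Synt

namespace Groth.Agent.S9171

/-- Let S = k[x_1, …, x_n]/I over a field k, q a prime of S, q' the corresponding prime of the
polynomial ring and c the integer with c + ht(q) = ht(q'). Equivalent: (1) S_g is a global complete
intersection over k for some g ∉ q; (2) the extension of I to the local ring k[x]_{q'} is generated
by c elements; (5) that extension is generated by a regular sequence. Stated as (1) ↔ (2) and (1) ↔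
(5). -/
theorem result (k : Type u) [Field k] (n : ℕ)
    (I : Ideal (MvPolynomial (Fin n) k)) (q : Ideal (MvPolynomial (Fin n) k ⧸ I)) [q.IsPrime] (c : ℕ)
    (hc : (c : ℕ∞) + q.height = (q.comap (Ideal.Quotient.mk I)).height) :
    ((∃ g : MvPolynomial (Fin n) k ⧸ I, g ∉ q ∧ Synt.IsGlobalCI k (Localization.Away g)) ↔
        ∃ s : Finset (Localization.AtPrime (q.comap (Ideal.Quotient.mk I))), s.card = c ∧
          Ideal.span (s : Set _) =
            I.map (algebraMap _ (Localization.AtPrime (q.comap (Ideal.Quotient.mk I))))) ∧
      ((∃ g : MvPolynomial (Fin n) k ⧸ I, g ∉ q ∧ Synt.IsGlobalCI k (Localization.Away g)) ↔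
        ∃ rs : List (Localization.AtPrime (q.comap (Ideal.Quotient.mk I))),
          RingTheory.Sequence.IsRegular (Localization.AtPrime (q.comap (Ideal.Quotient.mk I))) rs ∧
          Ideal.ofList rs =
            I.map (algebraMap _ (Localization.AtPrime (q.comap (Ideal.Quotient.mk I))))) := by
  classical
  have hsurj : Function.Surjective (Ideal.Quotient.mkₐ k I) := Ideal.Quotient.mkₐ_surjective k I
  have hker : RingHom.ker (Ideal.Quotient.mkₐ k I).toRingHom = I := Ideal.mk_ker
  have hIP : I ≤ q.comap (Ideal.Quotient.mk I) := by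
    intro x hx
    rw [Ideal.mem_comap, Ideal.Quotient.eq_zero_iff_mem.mpr hx]
    exact zero_mem _
  have hmap : (q.comap (Ideal.Quotient.mk I)).map (Ideal.Quotient.mk I) = q :=
    Ideal.map_comap_of_surjective _ Ideal.Quotient.mk_surjective q
  have hB : (∃ g : MvPolynomial (Fin n) k ⧸ I, g ∉ q ∧ Synt.IsGlobalCI k (Localization.Away g)) ↔
      ∃ rs : List (Localization.AtPrime (q.comap (Ideal.Quotient.mk I))),
        RingTheory.Sequence.IsRegular (Localization.AtPrime (q.comap (Ideal.Quotient.mk I))) rs ∧
        Ideal.ofList rs =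
          I.map (algebraMap _ (Localization.AtPrime (q.comap (Ideal.Quotient.mk I)))) := by
    constructor
    · rintro ⟨g, hg, hgci⟩
      have := Groth.Agent.H66.GlobalCI.exists_regular_of_isGlobalCI_away
        (Ideal.Quotient.mkₐ k I) hsurj q g hg hgci
      rw [hker] at this
      exact this
    · intro h
      refine Groth.Agent.H66.GlobalCI.exists_isGlobalCI_away_of_regular
        (Ideal.Quotient.mkₐ k I) hsurj q ?_
      rw [hker]
      exact h
  refine ⟨?_, hB⟩
  rw [hB]
  exact Groth.Agent.H66.GlobalCI.regular_iff_finset I (q.comap (Ideal.Quotient.mk I)) hIP c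
    (by rw [hmap]; exact hc)

end Groth.Agent.S9171
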