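import Groth.Statements.S9174
import Groth.Agent.H66.FibreReg

set_option autoImplicit false
universe u
open CAlg

namespace Groth.Agent.S9174

open Groth.Agent.H66.FibreReg Groth.Agent.H9.FibDim in
theorem main (R S : Type u) [CommRing R] [CommRing S]
    [Algebra R S] [Algebra.FiniteType R S] (d : ℕ)
    (hCM : ∀ p : PrimeSpectrum R, LocCoh.IsCohenMacaulayRing (p.asIdeal.Fiber S))
    (heq : ∀ p : PrimeSpectrum R, ∀ P ∈ minimalPrimes (p.asIdeal.Fiber S),
      ringKrullDim (p.asIdeal.Fiber S ⧸ P) = (d : WithBot ℕ∞))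
    (f : List S) :
    ∃ U : Set (PrimeSpectrum S), IsOpen U ∧ ∀ q : PrimeSpectrum S, Ideal.ofList f ≤ q.asIdeal →
      (q ∈ U ↔ RingTheory.Sequence.IsRegular (EGA4.FibLocRing R S q.asIdeal)
        (f.map (algebraMap S (EGA4.FibLocRing R S q.asIdeal)))) := by
  classical
  have : Algebra.FiniteType R (S ⧸ Ideal.ofList f) :=
    Algebra.FiniteType.of_surjective (Ideal.Quotient.mkₐ R (Ideal.ofList f))
      (Ideal.Quotient.mkₐ_surjective R _)
  let T' : Set (PrimeSpectrum (S ⧸ Ideal.ofList f)) :=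
    {x | f.length ≤ d ∧ tfd (PrimeSpectrum.comap (algebraMap R (S ⧸ Ideal.ofList f))) x ≤
      ((d - f.length : ℕ) : WithBot ℕ∞)}
  have hT' : IsOpen T' := by
    by_cases h : f.length ≤ d
    · have : T' = {x | tfd (PrimeSpectrum.comap (algebraMap R (S ⧸ Ideal.ofList f))) x ≤
          ((d - f.length : ℕ) : WithBot ℕ∞)} := by
        ext x; simp [T', h]
      rw [this]
      exact isOpen_setOf_tfd_le R (S ⧸ Ideal.ofList f) _
    · have : T' = ∅ := by
        ext x; simp [T', h]
      rw [this]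
      exact isOpen_empty
  have hι := PrimeSpectrum.isClosedEmbedding_comap_of_surjective (S ⧸ Ideal.ofList f)
    (Ideal.Quotient.mk (Ideal.ofList f)) Ideal.Quotient.mk_surjective
  refine ⟨(PrimeSpectrum.comap (Ideal.Quotient.mk (Ideal.ofList f)) '' T'ᶜ)ᶜ, ?_, ?_⟩
  · rw [isOpen_compl_iff]
    exact hι.isClosedMap _ hT'.isClosed_compl
  · intro q hq
    have hr : q ∈ Set.range (PrimeSpectrum.comap (Ideal.Quotient.mk (Ideal.ofList f))) := by
      rw [_root_.range_comap_of_surjective _ _ Ideal.Quotient.mk_surjective, Ideal.mk_ker]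
      exact hq
    obtain ⟨qb, rfl⟩ := hr
    rw [isRegular_iff R S d hCM heq f qb _ rfl, Set.mem_compl_iff,
      hι.injective.mem_set_image, Set.notMem_compl_iff]
    rfl


/-- Let R → S be of finite type with every fibre ring κ(p) ⊗ S Cohen–Macaulay and equidimensional of
dimension d, and let f_1, …, f_i ∈ S. The primes q ⊇ (f_1, …, f_i) at which the f_j form a regular
sequence in the fibre local ring S_q/pS_q (p = q ∩ R) form an open subset of V(f_1, …, f_i): there
is an open U of Spec S whose trace on V(f_1, …, f_i) is exactly this set. -/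
theorem result (R S : Type u) [CommRing R] [CommRing S]
    [Algebra R S] [Algebra.FiniteType R S] (d : ℕ)
    (hCM : ∀ p : PrimeSpectrum R, LocCoh.IsCohenMacaulayRing (p.asIdeal.Fiber S))
    (heq : ∀ p : PrimeSpectrum R, ∀ P ∈ minimalPrimes (p.asIdeal.Fiber S),
      ringKrullDim (p.asIdeal.Fiber S ⧸ P) = (d : WithBot ℕ∞))
    (f : List S) :
    ∃ U : Set (PrimeSpectrum S), IsOpen U ∧ ∀ q : PrimeSpectrum S, Ideal.ofList f ≤ q.asIdeal →
      (q ∈ U ↔ RingTheory.Sequence.IsRegular (EGA4.FibLocRing R S q.asIdeal)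
        (f.map (algebraMap S (EGA4.FibLocRing R S q.asIdeal)))) := by
  exact main R S d hCM heq f

end Groth.Agent.S9174
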