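import Groth.Statements.S9177
import Mathlib.LinearAlgebra.TensorProduct.DirectLimit

set_option autoImplicit false
universe u
open CAlg

namespace Groth.Agent.S9177

open TensorProduct

section setup

variable {ι : Type u} [Preorder ι] [Nonempty ι] [IsDirectedOrder ι] (G : ι → Type u)
  [∀ i, CommRing (G i)] (f : ∀ i j, i ≤ j → G i →+* G j)
  [DirectedSystem G (fun i j h => f i j h)]
  (A : Type u) [CommRing A] [∀ i, Algebra A (G i)]
  (hf : ∀ i j (h : i ≤ j), (f i j h).comp (algebraMap A (G i)) = algebraMap A (G j)) (l : ι)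
  [Algebra A (Ring.DirectLimit G (fun i j h => f i j h))]
  (hR : ∀ a, algebraMap A (Ring.DirectLimit G (fun i j h => f i j h)) a =
    Ring.DirectLimit.of G (fun i j h => f i j h) l (algebraMap A (G l) a))

include hf hR in
theorem hof (i : ι) (a : A) :
    Ring.DirectLimit.of G (fun i j h => f i j h) i (algebraMap A (G i) a) =
      algebraMap A (Ring.DirectLimit G (fun i j h => f i j h)) a := by
  obtain ⟨k, hik, hlk⟩ := exists_ge_ge i l
  rw [hR, ← Ring.DirectLimit.of_f hik, ← Ring.DirectLimit.of_f hlk]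
  have h1 := RingHom.congr_fun (hf i k hik) a
  have h2 := RingHom.congr_fun (hf l k hlk) a
  simp only [RingHom.comp_apply] at h1 h2
  show Ring.DirectLimit.of G (fun i j h => f i j h) k (f i k hik (algebraMap A (G i) a)) =
    Ring.DirectLimit.of G (fun i j h => f i j h) k (f l k hlk (algebraMap A (G l) a))
  rw [h1, h2]

include hf in
/-- transition maps as linear maps -/
def fL (i j : ι) (h : i ≤ j) : G i →ₗ[A] G j where
  toFun := f i j h
  map_add' := map_add _
  map_smul' a x := by
    have h1 := RingHom.congr_fun (hf i j h) a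
    simp only [RingHom.comp_apply] at h1
    rw [Algebra.smul_def, Algebra.smul_def, map_mul, h1, RingHom.id_apply]

theorem fL_one (i j : ι) (h : i ≤ j) : fL G f A hf i j h 1 = 1 := map_one (f i j h)

theorem fL_directed : DirectedSystem G (fun i j h => fL G f A hf i j h) :=
  ⟨fun i x => DirectedSystem.map_self' f x,
    fun k j i hij hjk x => DirectedSystem.map_map' f hij hjk x⟩

include hf hR in
/-- canonical maps as linear maps -/
noncomputable def ofL (i : ι) : G i →ₗ[A] Ring.DirectLimit G (fun i j h => f i j h) where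
  toFun := Ring.DirectLimit.of G (fun i j h => f i j h) i
  map_add' := map_add _
  map_smul' a x := by
    rw [Algebra.smul_def, Algebra.smul_def, map_mul, hof G f A hf l hR i a, RingHom.id_apply]

theorem ofL_one (i : ι) : ofL G f A hf l hR i 1 = 1 :=
  map_one (Ring.DirectLimit.of G (fun i j h => f i j h) i)

theorem ofL_comp_fL {i j : ι} (hij : i ≤ j) :
    (ofL G f A hf l hR j).comp (fL G f A hf i j hij) = ofL G f A hf l hR i :=
  LinearMap.ext fun x => Ring.DirectLimit.of_f hij x

theorem KF (C : Type u) [CommRing C] [Algebra A C] (i : ι) (z : G i ⊗[A] C)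
    (hz : (ofL G f A hf l hR i).rTensor C z = 0) :
    ∃ (j : ι) (hij : i ≤ j), (fL G f A hf i j hij).rTensor C z = 0 := by
  classical
  have := fL_directed G f A hf
  let Φ : Module.DirectLimit G (fL G f A hf) →ₗ[A] Ring.DirectLimit G (fun i j h => f i j h) :=
    Module.DirectLimit.lift A ι G (fL G f A hf) (ofL G f A hf l hR)
      (fun i j hij x => Ring.DirectLimit.of_f hij x)
  have hΦof : ∀ (i : ι) (x : G i), Φ (Module.DirectLimit.of A ι G (fL G f A hf) i x) =
      Ring.DirectLimit.of G (fun i j h => f i j h) i x := fun i x =>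
    Module.DirectLimit.lift_of _ _ x
  have hΦinj : Function.Injective Φ := by
    rw [injective_iff_map_eq_zero]
    intro y hy
    obtain ⟨i, x, rfl⟩ := Module.DirectLimit.exists_of y
    rw [hΦof] at hy
    obtain ⟨j, hij, hx⟩ := Ring.DirectLimit.of.zero_exact hy
    rw [← Module.DirectLimit.of_f (hij := hij)]
    show Module.DirectLimit.of A ι G (fL G f A hf) j (f i j hij x) = 0
    rw [hx, map_zero]
  have hΦsurj : Function.Surjective Φ := by
    intro r
    obtain ⟨i, x, rfl⟩ := Ring.DirectLimit.exists_of r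
    exact ⟨Module.DirectLimit.of A ι G (fL G f A hf) i x, hΦof i x⟩
  let e := LinearEquiv.ofBijective Φ ⟨hΦinj, hΦsurj⟩
  have hcomp : e.symm.toLinearMap.comp (ofL G f A hf l hR i) =
      Module.DirectLimit.of A ι G (fL G f A hf) i := by
    apply LinearMap.ext
    intro x
    apply e.injective
    rw [LinearMap.comp_apply, LinearEquiv.coe_coe, LinearEquiv.apply_symm_apply]
    exact (hΦof i x).symm
  have h1 : (Module.DirectLimit.of A ι G (fL G f A hf) i).rTensor C z = 0 := by
    rw [← hcomp, LinearMap.rTensor_comp_apply, hz, map_zero]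
  have h2 := TensorProduct.directLimitLeft_rTensor_of (fL G f A hf) C z
  rw [h1, map_zero] at h2
  exact Module.DirectLimit.of.zero_exact h2.symm

theorem lift_tensor (B : Type u) [CommRing B] [Algebra A B]
    (t : Ring.DirectLimit G (fun i j h => f i j h) ⊗[A] B) :
    ∃ (i : ι) (t' : G i ⊗[A] B), (ofL G f A hf l hR i).rTensor B t' = t := by
  induction t using TensorProduct.induction_on with
  | zero => exact ⟨l, 0, map_zero _⟩
  | tmul r b =>
    obtain ⟨i, x, rfl⟩ := Ring.DirectLimit.exists_of r
    exact ⟨i, x ⊗ₜ b, rfl⟩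
  | add t1 t2 h1 h2 =>
    obtain ⟨i, t1', rfl⟩ := h1
    obtain ⟨j, t2', rfl⟩ := h2
    obtain ⟨k, hik, hjk⟩ := exists_ge_ge i j
    refine ⟨k, (fL G f A hf i k hik).rTensor B t1' + (fL G f A hf j k hjk).rTensor B t2', ?_⟩
    rw [map_add, ← LinearMap.rTensor_comp_apply, ← LinearMap.rTensor_comp_apply,
      ofL_comp_fL, ofL_comp_fL]

end setup

section maps

variable {A : Type u} [CommRing A] {B C : Type u} [CommRing B] [CommRing C] [Algebra A B]
  [Algebra A C] (u : B →ₐ[A] C)

theorem hmapL (X : Type u) [CommRing X] [Algebra A X] (t : X ⊗[A] B) :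
    Algebra.TensorProduct.map (AlgHom.id A X) u t = u.toLinearMap.lTensor X t := by
  induction t using TensorProduct.induction_on with
  | zero => simp
  | tmul x b => simp
  | add t1 t2 h1 h2 => rw [map_add, map_add, h1, h2]

theorem nat {X Y : Type u} [AddCommGroup X] [Module A X] [AddCommGroup Y] [Module A Y]
    (g : X →ₗ[A] Y) (t : X ⊗[A] B) :
    (g.rTensor C) (u.toLinearMap.lTensor X t) = u.toLinearMap.lTensor Y ((g.rTensor B) t) :=
  LinearMap.congr_fun ((LinearMap.rTensor_comp_lTensor (f := g) (g := u.toLinearMap)).trans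
    (LinearMap.lTensor_comp_rTensor (f := g) (g := u.toLinearMap)).symm) t

theorem range_eq_top_of (X : Type u) [CommRing X] [Algebra A X] (sC : Finset C)
    (hsC : Algebra.adjoin A (↑sC : Set C) = ⊤)
    (h : ∀ c ∈ sC, (1 : X) ⊗ₜ[A] c ∈ (Algebra.TensorProduct.map (AlgHom.id A X) u).range) :
    Function.Surjective (Algebra.TensorProduct.map (AlgHom.id A X) u) := by
  have hle : Algebra.adjoin A (↑sC : Set C) ≤
      (Algebra.TensorProduct.map (AlgHom.id A X) u).range.comap
        (Algebra.TensorProduct.includeRight : C →ₐ[A] X ⊗[A] C) :=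
    Algebra.adjoin_le (fun c hc => h c hc)
  rw [hsC] at hle
  have hC : ∀ c : C, (1 : X) ⊗ₜ[A] c ∈ (Algebra.TensorProduct.map (AlgHom.id A X) u).range :=
    fun c => hle Algebra.mem_top
  rw [← AlgHom.range_eq_top, eq_top_iff, ← Algebra.TensorProduct.adjoin_tmul_eq_top]
  refine Algebra.adjoin_le ?_
  rintro _ ⟨x, c, rfl⟩
  have h2 : x ⊗ₜ[A] c = (x ⊗ₜ[A] (1 : C)) * ((1 : X) ⊗ₜ[A] c) := by
    rw [Algebra.TensorProduct.tmul_mul_tmul, mul_one, one_mul]
  rw [h2]
  refine Subalgebra.mul_mem _ ((AlgHom.mem_range _).mpr ⟨x ⊗ₜ[A] (1 : B), ?_⟩) (hC c)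
  rw [Algebra.TensorProduct.map_tmul, map_one]
  rfl

end maps

section main

variable {ι : Type u} [Preorder ι] [Nonempty ι] [IsDirectedOrder ι] (G : ι → Type u)
  [∀ i, CommRing (G i)] (f : ∀ i j, i ≤ j → G i →+* G j)
  [DirectedSystem G (fun i j h => f i j h)]
  (A : Type u) [CommRing A] [∀ i, Algebra A (G i)]
  (hf : ∀ i j (h : i ≤ j), (f i j h).comp (algebraMap A (G i)) = algebraMap A (G j)) (l : ι)
  [Algebra A (Ring.DirectLimit G (fun i j h => f i j h))]
  (hR : ∀ a, algebraMap A (Ring.DirectLimit G (fun i j h => f i j h)) a =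
    Ring.DirectLimit.of G (fun i j h => f i j h) l (algebraMap A (G l) a))

include hf hR in
theorem aux (B C : Type u) [CommRing B] [CommRing C] [Algebra A B] [Algebra A C] :
    (Algebra.FiniteType A B → ∀ u u' : B →ₐ[A] C,
        Algebra.TensorProduct.map (AlgHom.id A (Ring.DirectLimit G (fun i j h => f i j h))) u =
            Algebra.TensorProduct.map (AlgHom.id A (Ring.DirectLimit G (fun i j h => f i j h))) u' →
          ∃ i : ι, Algebra.TensorProduct.map (AlgHom.id A (G i)) u =
            Algebra.TensorProduct.map (AlgHom.id A (G i)) u') ∧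
      (Algebra.FiniteType A C → ∀ u : B →ₐ[A] C,
        Function.Surjective
            (Algebra.TensorProduct.map (AlgHom.id A (Ring.DirectLimit G (fun i j h => f i j h))) u) →
          ∃ i : ι, Function.Surjective (Algebra.TensorProduct.map (AlgHom.id A (G i)) u)) := by
  classical
  refine ⟨fun hB u u' huu' => ?_, fun hC u hu => ?_⟩
  · obtain ⟨sB, hsB⟩ := hB.out
    have hb : ∀ b : B, ∃ i : ι, (1 : G i) ⊗ₜ[A] u b = (1 : G i) ⊗ₜ[A] u' b := by
      intro b
      have h1 := AlgHom.congr_fun huu'
        ((1 : Ring.DirectLimit G (fun i j h => f i j h)) ⊗ₜ[A] b)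
      rw [Algebra.TensorProduct.map_tmul, Algebra.TensorProduct.map_tmul] at h1
      have hz : (ofL G f A hf l hR l).rTensor C
          ((1 : G l) ⊗ₜ[A] u b - (1 : G l) ⊗ₜ[A] u' b) = 0 := by
        rw [map_sub, LinearMap.rTensor_tmul, LinearMap.rTensor_tmul, sub_eq_zero, ofL_one]
        exact h1
      obtain ⟨j, hlj, hj⟩ := KF G f A hf l hR C l _ hz
      refine ⟨j, ?_⟩
      rw [map_sub, LinearMap.rTensor_tmul, LinearMap.rTensor_tmul, sub_eq_zero, fL_one] at hj
      exact hj
    choose ib hib using hb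
    obtain ⟨M, hM⟩ := Finset.exists_le (sB.image ib)
    refine ⟨M, ?_⟩
    have hbM : ∀ b ∈ sB, (1 : G M) ⊗ₜ[A] u b = (1 : G M) ⊗ₜ[A] u' b := by
      intro b hb
      have hle : ib b ≤ M := hM _ (Finset.mem_image_of_mem ib hb)
      have h3 := congrArg ((fL G f A hf (ib b) M hle).rTensor C) (hib b)
      rw [LinearMap.rTensor_tmul, LinearMap.rTensor_tmul, fL_one] at h3
      exact h3
    have hinc : (Algebra.TensorProduct.includeRight : C →ₐ[A] G M ⊗[A] C).comp u =
        (Algebra.TensorProduct.includeRight : C →ₐ[A] G M ⊗[A] C).comp u' :=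
      AlgHom.ext_of_adjoin_eq_top hsB (fun b hb => hbM b hb)
    apply Algebra.TensorProduct.ext'
    intro x b
    rw [Algebra.TensorProduct.map_tmul, Algebra.TensorProduct.map_tmul]
    have h1 : (1 : G M) ⊗ₜ[A] u b = (1 : G M) ⊗ₜ[A] u' b := AlgHom.congr_fun hinc b
    have h2 : ∀ c : C, (AlgHom.id A (G M)) x ⊗ₜ[A] c =
        (x ⊗ₜ[A] (1 : C)) * ((1 : G M) ⊗ₜ[A] c) := by
      intro c
      rw [Algebra.TensorProduct.tmul_mul_tmul, mul_one, one_mul]
      rfl
    rw [h2, h2, h1]
  · obtain ⟨sC, hsC⟩ := hC.out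
    have hc : ∀ c : C, ∃ i : ι, ∃ t : G i ⊗[A] B,
        u.toLinearMap.lTensor (G i) t = (1 : G i) ⊗ₜ[A] c := by
      intro c
      obtain ⟨t, ht⟩ := hu ((1 : Ring.DirectLimit G (fun i j h => f i j h)) ⊗ₜ[A] c)
      rw [hmapL] at ht
      obtain ⟨i, t', rfl⟩ := lift_tensor G f A hf l hR B t
      have hz : (ofL G f A hf l hR i).rTensor C
          (u.toLinearMap.lTensor (G i) t' - (1 : G i) ⊗ₜ[A] c) = 0 := by
        rw [map_sub, nat u (ofL G f A hf l hR i) t', ht, LinearMap.rTensor_tmul, ofL_one,
          sub_self]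
      obtain ⟨j, hij, hj⟩ := KF G f A hf l hR C i _ hz
      refine ⟨j, (fL G f A hf i j hij).rTensor B t', ?_⟩
      rw [map_sub, nat u (fL G f A hf i j hij) t', LinearMap.rTensor_tmul, fL_one,
        sub_eq_zero] at hj
      exact hj
    choose ic tc htc using hc
    obtain ⟨M, hM⟩ := Finset.exists_le (sC.image ic)
    refine ⟨M, range_eq_top_of u (G M) sC hsC ?_⟩
    intro c hc
    have hle : ic c ≤ M := hM _ (Finset.mem_image_of_mem ic hc)
    refine (AlgHom.mem_range _).mpr ⟨(fL G f A hf (ic c) M hle).rTensor B (tc c), ?_⟩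
    rw [hmapL, ← nat u (fL G f A hf (ic c) M hle) (tc c), htc c, LinearMap.rTensor_tmul, fL_one]

end main

open TensorProduct in
/-- Let R = colim R_i be a directed colimit of A-algebras (compatible transition maps), B and C
A-algebras. (1) If B is of finite type over A, two A-algebra maps B → C whose base changes to R
coincide already have equal base changes to some R_i. (2) If C is of finite type over A and u : B →
C has surjective base change to R, then its base change to some R_i is surjective. (The A-algebra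
structure on R is through any stage R_l; it does not depend on l.) -/
theorem result {ι : Type u} [Preorder ι]
    [Nonempty ι] [IsDirectedOrder ι] (G : ι → Type u) [∀ i, CommRing (G i)]
    (f : ∀ i j, i ≤ j → G i →+* G j) [DirectedSystem G (fun i j h => f i j h)]
    (A : Type u) [CommRing A] [∀ i, Algebra A (G i)]
    (hf : ∀ i j (h : i ≤ j), (f i j h).comp (algebraMap A (G i)) = algebraMap A (G j)) (l : ι)
    (B C : Type u) [CommRing B] [CommRing C] [Algebra A B] [Algebra A C] :
    letI : Algebra A (Ring.DirectLimit G (fun i j h => f i j h)) :=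
      ((Ring.DirectLimit.of G (fun i j h => f i j h) l).comp (algebraMap A (G l))).toAlgebra
    (Algebra.FiniteType A B → ∀ u u' : B →ₐ[A] C,
        Algebra.TensorProduct.map (AlgHom.id A (Ring.DirectLimit G (fun i j h => f i j h))) u =
            Algebra.TensorProduct.map (AlgHom.id A (Ring.DirectLimit G (fun i j h => f i j h))) u' →
          ∃ i : ι, Algebra.TensorProduct.map (AlgHom.id A (G i)) u =
            Algebra.TensorProduct.map (AlgHom.id A (G i)) u') ∧
      (Algebra.FiniteType A C → ∀ u : B →ₐ[A] C,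
        Function.Surjective
            (Algebra.TensorProduct.map (AlgHom.id A (Ring.DirectLimit G (fun i j h => f i j h))) u) →
          ∃ i : ι, Function.Surjective (Algebra.TensorProduct.map (AlgHom.id A (G i)) u)) := by
  let _ : Algebra A (Ring.DirectLimit G (fun i j h => f i j h)) :=
    ((Ring.DirectLimit.of G (fun i j h => f i j h) l).comp (algebraMap A (G l))).toAlgebra
  exact aux G f A hf l (fun a => rfl) B C

end Groth.Agent.S9177
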