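import Groth.Statements.S9178
import Mathlib.RingTheory.Kaehler.Basic
import Mathlib.RingTheory.Ideal.Cotangent
import Mathlib.LinearAlgebra.Isomorphisms
import Mathlib.LinearAlgebra.TensorProduct.Quotient

set_option autoImplicit false
universe u
open CAlg

namespace Groth.Agent.S9178

open TensorProduct

section

variable {A B C : Type u} [CommRing A] [CommRing B] [CommRing C] [Algebra A B] [Algebra B C]
  [Algebra A C] [IsScalarTower A B C]

/-- if `1 ⊗ m = 0` in `C ⊗[B] M` and `ker (B → C)` kills `M`, then `m = 0`. -/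
theorem eq_zero_of_one_tmul_eq_zero (hBC : Function.Surjective (algebraMap B C))
    {M : Type u} [AddCommGroup M] [Module B M]
    (hM : ∀ b : B, algebraMap B C b = 0 → ∀ m : M, b • m = 0) (m : M)
    (hm : (1 : C) ⊗ₜ[B] m = 0) : m = 0 := by
  let I' : Ideal B := LinearMap.ker (Algebra.linearMap B C)
  let e : (B ⧸ I') ≃ₗ[B] C := LinearMap.quotKerEquivOfSurjective (Algebra.linearMap B C) hBC
  have h1 : (TensorProduct.congr e (LinearEquiv.refl B M)) ((1 : B ⧸ I') ⊗ₜ[B] m) = 0 := by
    rw [TensorProduct.congr_tmul]
    have : e (1 : B ⧸ I') = 1 := by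
      have h0 := LinearMap.quotKerEquivOfSurjective_apply_mk (f := Algebra.linearMap B C) hBC 1
      rw [Algebra.linearMap_apply, map_one] at h0
      exact h0
    rw [this]
    exact hm
  have h2 : (1 : B ⧸ I') ⊗ₜ[B] m = 0 := by
    have := (TensorProduct.congr e (LinearEquiv.refl B M)).injective
    apply this
    rw [h1, map_zero]
  have h3 := congrArg (TensorProduct.quotTensorEquivQuotSMul M I') h2
  rw [map_zero, TensorProduct.quotTensorEquivQuotSMul_mk_one_tmul,
    Submodule.Quotient.mk_eq_zero] at h3
  have h4 : (I' • (⊤ : Submodule B M)) = ⊥ := by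
    rw [eq_bot_iff]
    intro x hx
    refine Submodule.smul_induction_on hx ?_ ?_
    · intro b hb n _
      rw [Submodule.mem_bot]
      exact hM b hb n
    · intro x y hx hy
      exact Submodule.add_mem _ hx hy
  rw [h4] at h3
  exact h3

end

/-- For ring maps A → B → C with A → C surjective, writing I = ker(A → C) and J = ker(B → C), the
sequence I/I² → J/J² → C ⊗_B Ω_{B/A} → 0 is exact. Stated: the image of I/I² in J/J² is exactly the
kernel of J/J² → C ⊗_B Ω_{B/A} (surjectivity of the latter map is the standard conormal sequence for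
the surjection B → C). -/
theorem result (A B C : Type u) [CommRing A] [CommRing B]
    [CommRing C] [Algebra A B] [Algebra B C] [Algebra A C] [IsScalarTower A B C]
    (hAC : Function.Surjective (algebraMap A C))
    (h : RingHom.ker (algebraMap A C) ≤ (RingHom.ker (algebraMap B C)).comap (Algebra.ofId A B)) :
    Function.Exact
      (Ideal.mapCotangent (RingHom.ker (algebraMap A C)) (RingHom.ker (algebraMap B C)) (Algebra.ofId A B) h)
      (KaehlerDifferential.kerCotangentToTensor A B C) := by
  set I : Ideal A := RingHom.ker (algebraMap A C) with hI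
  set J : Ideal B := RingHom.ker (algebraMap B C) with hJ
  set φ := Ideal.mapCotangent I J (Algebra.ofId A B) h with hφ
  have hBC : Function.Surjective (algebraMap B C) := by
    intro c
    obtain ⟨a, rfl⟩ := hAC c
    exact ⟨algebraMap A B a, (IsScalarTower.algebraMap_apply A B C a).symm⟩
  -- the range of φ is stable under multiplication by B
  have hrange : ∀ (b : B) (y : J.Cotangent), y ∈ LinearMap.range φ → b • y ∈ LinearMap.range φ := by
    rintro b _ ⟨x, rfl⟩
    obtain ⟨a, ha⟩ := hAC (algebraMap B C b)
    refine ⟨a • x, ?_⟩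
    rw [map_smul]
    have hmem : b - algebraMap A B a ∈ J := by
      rw [hJ, RingHom.mem_ker, map_sub, ← IsScalarTower.algebraMap_apply, ha, sub_self]
    have := Ideal.Cotangent.smul_eq_zero_of_mem hmem (φ x)
    rw [sub_smul, sub_eq_zero] at this
    rw [this, algebraMap_smul]
  let N : Submodule B J.Cotangent :=
    { carrier := LinearMap.range φ
      add_mem' := fun {x y} hx hy => Submodule.add_mem _ hx hy
      zero_mem' := Submodule.zero_mem _
      smul_mem' := fun b y hy => hrange b y hy }
  let M := J.Cotangent ⧸ N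
  -- the linear map (a, j) ↦ a + j
  let f : (A × J) →ₗ[A] B :=
    (Algebra.linearMap A B).coprod ((Submodule.subtype J).restrictScalars A)
  have hf : Function.Surjective f := by
    intro b
    obtain ⟨a, ha⟩ := hAC (algebraMap B C b)
    have hmem : b - algebraMap A B a ∈ J := by
      rw [hJ, RingHom.mem_ker, map_sub, ← IsScalarTower.algebraMap_apply, ha, sub_self]
    refine ⟨(a, ⟨b - algebraMap A B a, hmem⟩), ?_⟩
    simp [f]
  let g : (A × J) →ₗ[A] M :=
    (N.mkQ.restrictScalars A) ∘ₗ (J.toCotangent.restrictScalars A) ∘ₗ (LinearMap.snd A A J)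
  have hker : LinearMap.ker f ≤ LinearMap.ker g := by
    rintro ⟨a, j⟩ haj
    rw [LinearMap.mem_ker] at haj ⊢
    have haj' : algebraMap A B a + (j : B) = 0 := by simpa [f] using haj
    have haI : a ∈ I := by
      have := congrArg (algebraMap B C) haj'
      rw [map_add, map_zero, ← IsScalarTower.algebraMap_apply, (RingHom.mem_ker.mp j.2 : _),
        add_zero] at this
      exact this
    show N.mkQ (J.toCotangent j) = 0
    rw [Submodule.mkQ_apply, Submodule.Quotient.mk_eq_zero]
    refine ⟨-(I.toCotangent ⟨a, haI⟩), ?_⟩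
    rw [map_neg, hφ, Ideal.mapCotangent_toCotangent, ← map_neg]
    congr 1
    ext
    show -(algebraMap A B a) = (j : B)
    rw [neg_eq_iff_add_eq_zero]
    exact haj'
  let Dlin : B →ₗ[A] M :=
    (Submodule.liftQ (LinearMap.ker f) g hker) ∘ₗ (f.quotKerEquivOfSurjective hf).symm.toLinearMap
  have hD : ∀ (a : A) (j : J), Dlin (algebraMap A B a + j) = N.mkQ (J.toCotangent j) := by
    intro a j
    have : algebraMap A B a + (j : B) = f (a, j) := by simp [f]
    rw [this]
    show (Submodule.liftQ (LinearMap.ker f) g hker)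
      ((f.quotKerEquivOfSurjective hf).symm (f (a, j))) = _
    rw [LinearMap.quotKerEquivOfSurjective_symm_apply, Submodule.liftQ_apply]
    rfl
  have hsplit : ∀ b : B, ∃ (a : A) (j : J), b = algebraMap A B a + j := by
    intro b
    obtain ⟨⟨a, j⟩, rfl⟩ := hf b
    exact ⟨a, j, by simp [f]⟩
  have hJM : ∀ (b : B), b ∈ J → ∀ m : M, b • m = 0 := by
    intro b hb m
    obtain ⟨y, rfl⟩ := N.mkQ_surjective m
    rw [← map_smul, Ideal.Cotangent.smul_eq_zero_of_mem hb y, map_zero]
  have hleib : ∀ b b' : B, Dlin (b * b') = b • Dlin b' + b' • Dlin b := by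
    intro b b'
    obtain ⟨a, j, rfl⟩ := hsplit b
    obtain ⟨a', j', rfl⟩ := hsplit b'
    have hprod : (algebraMap A B a + j) * (algebraMap A B a' + j') =
        algebraMap A B (a * a') +
          (((algebraMap A B a) • j' + (algebraMap A B a') • j + (j : B) • j' : J) : B) := by
      simp only [Submodule.coe_add, Submodule.coe_smul, smul_eq_mul, map_mul]
      ring
    rw [hprod, hD, hD, hD, add_smul, add_smul, hJM j j.2, hJM j' j'.2, add_zero, add_zero,
      map_add, map_add, map_add, map_add, map_smul, map_smul, map_smul, map_smul, map_smul,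
      map_smul, hJM j j.2, add_zero]
  let D' : Derivation A B M := Derivation.mk' Dlin hleib
  let Λ : Ω[B⁄A] →ₗ[B] M := D'.liftKaehlerDifferential
  intro y
  constructor
  · intro hy
    obtain ⟨⟨j, hj⟩, rfl⟩ := Ideal.toCotangent_surjective J y
    rw [KaehlerDifferential.kerCotangentToTensor_toCotangent] at hy
    have h1 := congrArg (Λ.lTensor C) hy
    rw [LinearMap.lTensor_tmul, map_zero] at h1
    have h2 : Λ (KaehlerDifferential.D A B j) = N.mkQ (J.toCotangent ⟨j, hj⟩) := by
      show D'.liftKaehlerDifferential (KaehlerDifferential.D A B j) = _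
      rw [Derivation.liftKaehlerDifferential_comp_D]
      show Dlin j = _
      have := hD 0 ⟨j, hj⟩
      rwa [map_zero, zero_add] at this
    rw [h2] at h1
    have h3 := eq_zero_of_one_tmul_eq_zero hBC (fun b hb m => hJM b hb m) _ h1
    rw [Submodule.mkQ_apply, Submodule.Quotient.mk_eq_zero] at h3
    exact h3
  · rintro ⟨x, rfl⟩
    obtain ⟨⟨i, hi⟩, rfl⟩ := Ideal.toCotangent_surjective I x
    rw [hφ, Ideal.mapCotangent_toCotangent, KaehlerDifferential.kerCotangentToTensor_toCotangent]
    show (1 : C) ⊗ₜ[B] (KaehlerDifferential.D A B (algebraMap A B i)) = 0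
    rw [Derivation.map_algebraMap, tmul_zero]

end Groth.Agent.S9178
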