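import Groth.Statements.S9179
import Mathlib
import Groth.Agent.H88.DirColimAlg

set_option autoImplicit false
universe u
open CategoryTheory CategoryTheory.Limits
open CAlg

namespace Groth.Agent.S9179

open Groth.Agent.H88.DirColimAlg

section aux

variable {R A : Type u} [CommRing R] [CommRing A] [Algebra R A] {n : ℕ}
  (π : MvPolynomial (Fin n) R →ₐ[R] A)

/-- finitely generated subideals of the kernel of the presentation. -/
abbrev Idx : Type u := {I : Ideal (MvPolynomial (Fin n) R) // I.FG ∧ I ≤ RingHom.ker π}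

instance : IsDirectedOrder (Idx π) :=
  ⟨fun a b => ⟨⟨a.1 ⊔ b.1, Submodule.FG.sup a.2.1 b.2.1, sup_le a.2.2 b.2.2⟩,
    (show a.1 ≤ a.1 ⊔ b.1 from le_sup_left), (show b.1 ≤ a.1 ⊔ b.1 from le_sup_right)⟩⟩

instance : Nonempty (Idx π) := ⟨⟨⊥, Submodule.fg_bot, bot_le⟩⟩

abbrev Bq (i : Idx π) : Type u := MvPolynomial (Fin n) R ⧸ i.1

noncomputable def trq (i j : Idx π) (h : i ≤ j) : Bq π i →ₐ[R] Bq π j :=
  Ideal.Quotient.factorₐ R (show i.1 ≤ j.1 from h)

theorem trq_mk (i j : Idx π) (h : i ≤ j) (p : MvPolynomial (Fin n) R) :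
    trq π i j h (Ideal.Quotient.mk i.1 p) = Ideal.Quotient.mk j.1 p :=
  Ideal.Quotient.factorₐ_apply_mk R _ p

noncomputable def legq (i : Idx π) : Bq π i →ₐ[R] A :=
  Ideal.Quotient.liftₐ i.1 π (fun a ha => RingHom.mem_ker.1 (i.2.2 ha))

theorem legq_mk (i : Idx π) (p : MvPolynomial (Fin n) R) :
    legq π i (Ideal.Quotient.mk i.1 p) = π p := rfl

theorem trq_id (i : Idx π) (x : Bq π i) : trq π i i le_rfl x = x := by
  obtain ⟨p, rfl⟩ := Ideal.Quotient.mk_surjective x
  exact trq_mk π i i le_rfl p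

theorem trq_comp (i j k : Idx π) (hij : i ≤ j) (hjk : j ≤ k) (x : Bq π i) :
    trq π j k hjk (trq π i j hij x) = trq π i k (hij.trans hjk) x := by
  obtain ⟨p, rfl⟩ := Ideal.Quotient.mk_surjective x
  rw [trq_mk, trq_mk, trq_mk]

theorem legq_tr (i j : Idx π) (h : i ≤ j) (x : Bq π i) :
    legq π j (trq π i j h x) = legq π i x := by
  obtain ⟨p, rfl⟩ := Ideal.Quotient.mk_surjective x
  rw [trq_mk, legq_mk, legq_mk]

theorem legq_surj (hπ : Function.Surjective π) (a : A) : ∃ i, ∃ y : Bq π i, legq π i y = a := by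
  obtain ⟨p, rfl⟩ := hπ a
  exact ⟨⟨⊥, Submodule.fg_bot, bot_le⟩, Ideal.Quotient.mk _ p, rfl⟩

theorem legq_inj (i : Idx π) (y y' : Bq π i) (h : legq π i y = legq π i y') :
    ∃ j, ∃ hij : i ≤ j, trq π i j hij y = trq π i j hij y' := by
  obtain ⟨p, rfl⟩ := Ideal.Quotient.mk_surjective y
  obtain ⟨p', rfl⟩ := Ideal.Quotient.mk_surjective y'
  rw [legq_mk, legq_mk] at h
  have hker : p - p' ∈ RingHom.ker π := by
    rw [RingHom.mem_ker, map_sub, h, sub_self]
  refine ⟨⟨i.1 ⊔ Ideal.span {p - p'}, Submodule.FG.sup i.2.1 (Submodule.fg_span_singleton _),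
    sup_le i.2.2 (by
      rw [Ideal.span_le, Set.singleton_subset_iff]
      exact hker)⟩, (le_sup_left : i.1 ≤ i.1 ⊔ Ideal.span {p - p'}), ?_⟩
  rw [trq_mk, trq_mk]
  exact Ideal.Quotient.eq.2 (Ideal.mem_sup_right (Ideal.subset_span (Set.mem_singleton _)))

end aux


/-- An R-algebra of finite type is the colimit of a filtered system of finitely presented R-algebras
whose transition maps are all surjective. -/
theorem result (R A : Type u) [CommRing R] [CommRing A]
    [Algebra R A] [Algebra.FiniteType R A] :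
    ∃ (I : Type u) (_ : SmallCategory I) (_ : IsFiltered I) (D : I ⥤ Under (CommRingCat.of R))
      (c : Cocone D) (_ : IsColimit c),
      (∀ i, (D.obj i).hom.hom.FinitePresentation) ∧
      (∀ (i j : I) (φ : i ⟶ j), Function.Surjective (D.map φ).right.hom) ∧
      Nonempty (c.pt ≅ Under.mk (CommRingCat.ofHom (algebraMap R A))) := by
  obtain ⟨n, π, hπ⟩ :=
    Algebra.FiniteType.iff_quotient_mvPolynomial''.1 (inferInstance : Algebra.FiniteType R A)
  refine ⟨Idx π, Preorder.smallCategory _, inferInstance,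
    diag R (Bq π) (trq π) (trq_id π) (trq_comp π),
    cocone R (Bq π) (trq π) A (legq π) (trq_id π) (trq_comp π) (legq_tr π),
    isColimit R (Bq π) (trq π) A (legq π) (trq_id π) (trq_comp π) (legq_tr π)
      (legq_surj π hπ) (legq_inj π), ?_, ?_, ⟨Iso.refl _⟩⟩
  · intro i
    exact RingHom.finitePresentation_algebraMap.2 (Algebra.FinitePresentation.quotient i.2.1)
  · intro i j φ y
    obtain ⟨p, rfl⟩ := Ideal.Quotient.mk_surjective y
    exact ⟨Ideal.Quotient.mk i.1 p, trq_mk π i j (leOfHom φ) p⟩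

end Groth.Agent.S9179
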