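import Groth.Statements.S9181
import Groth.Agent.S9175
import Groth.Agent.H66.NoethPrime2

set_option autoImplicit false
universe u
open CAlg

namespace Groth.Agent.S9181

set_option linter.style.haveILetI false

open TensorProduct MvPolynomial TopologicalSpace Groth.Agent.H9.FibDim
open Groth.Agent.H66.NoethRefined Groth.Agent.H66.NoethChain Groth.Agent.H66.NoethPrime

theorem main' (R S : Type u) [CommRing R] [CommRing S]
    [Algebra R S] [Algebra.FiniteType R S] (p : Ideal R) [p.IsPrime] (q : Ideal S) [q.IsPrime] [q.LiesOver p]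
    [Algebra (Localization.AtPrime p) (Localization.AtPrime q)]
    [Localization.AtPrime.IsLiesOverAlgebra p q] (Q : PrimeSpectrum (p.Fiber S))
    (hQ : Q.asIdeal.comap (Algebra.TensorProduct.includeRight.toRingHom) = q) (n r : ℕ)
    (hdim : FlatMor.localDim (PrimeSpectrum (p.Fiber S)) Q = (n : WithBot ℕ∞))
    (hr : Algebra.trdeg p.ResidueField q.ResidueField = r) :
    ∃ (g : S), g ∉ q ∧ r ≤ n ∧
      ∃ φ : MvPolynomial (Fin n) R →ₐ[R] Localization.Away g,
        φ.toRingHom.FiniteType ∧ φ.toRingHom.QuasiFinite ∧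
        ∀ y : MvPolynomial (Fin n) R, φ y ∈ q.map (algebraMap S (Localization.Away g)) ↔
          y ∈ p.map (C : R →+* MvPolynomial (Fin n) R) ⊔
            Ideal.span (X '' {i : Fin n | (i : ℕ) < n - r}) := by
  obtain ⟨g₀, hg₀q, hdimg⟩ := Groth.Agent.S9175.step1 R S p q Q hQ n hdim
  set S' := Localization.Away g₀
  have hdisj : Disjoint (Submonoid.powers g₀ : Set S) (q : Set S) :=
    (Ideal.disjoint_powers_iff_notMem_of_isPrime _).mpr hg₀q
  let q' : Ideal S' := q.map (algebraMap S S')
  haveI hq'prime : q'.IsPrime :=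
    IsLocalization.isPrime_of_isPrime_disjoint (Submonoid.powers g₀) S' q inferInstance hdisj
  have hq'S : q'.under S = q :=
    IsLocalization.under_map_of_isPrime_disjoint (Submonoid.powers g₀) S' inferInstance hdisj
  have hq'R : q'.under R = p := by
    rw [← Ideal.under_under (B := S), hq'S]
    exact (Ideal.LiesOver.over (p := p) (P := q)).symm
  haveI : Algebra.FiniteType R S' := Algebra.FiniteType.trans (S := S) inferInstance inferInstance
  obtain ⟨σ, ψ, hrn, hψfin, hψX, hmem⟩ := core p q g₀ hg₀q S' n r hdimg hr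
  obtain ⟨φ₀, hφ₀⟩ : ∃ φ₀ : MvPolynomial (Fin n) R →ₐ[R] S', φ₀ = aeval σ := ⟨_, rfl⟩
  letI algB : Algebra (MvPolynomial (Fin n) R) S' := φ₀.toRingHom.toAlgebra
  haveI : IsScalarTower R (MvPolynomial (Fin n) R) S' :=
    IsScalarTower.of_algebraMap_eq (fun a => (φ₀.commutes a).symm)
  haveI : Algebra.FiniteType (MvPolynomial (Fin n) R) S' :=
    Algebra.FiniteType.of_restrictScalars_finiteType R _ _
  haveI : Algebra.QuasiFiniteAt (MvPolynomial (Fin n) R) q' :=
    quasiFiniteAt_of_finite p n S' ψ hψfin (fun i => by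
      rw [hψX i]
      show (1 : p.ResidueField) ⊗ₜ[R] σ i = 1 ⊗ₜ[R] (φ₀ (X i))
      rw [hφ₀, aeval_X]) q' hq'R
  obtain ⟨r', hr', hqf⟩ := exists_quasiFinite_away (B := MvPolynomial (Fin n) R) q'
  obtain ⟨s, m, hsm⟩ := IsLocalization.exists_mk'_eq (Submonoid.powers g₀) r'
  have hunit : IsUnit (algebraMap S S' (m : S)) := IsLocalization.map_units S' m
  have hspec : r' * algebraMap S S' (m : S) = algebraMap S S' s := by
    rw [← hsm, IsLocalization.mk'_spec]
  have hassoc : Associated (algebraMap S S' s) r' := by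
    refine Associated.symm ⟨hunit.unit, ?_⟩
    rw [IsUnit.unit_spec, hspec]
  have hsq : s ∉ q := by
    intro hs
    have h1 : algebraMap S S' s ∈ q' := Ideal.mem_map_of_mem _ hs
    rw [← hspec] at h1
    rcases hq'prime.mem_or_mem h1 with h2 | h2
    · exact hr' h2
    · exact hq'prime.ne_top (Ideal.eq_top_of_isUnit_mem _ h2 hunit)
  haveI : IsLocalization.Away (g₀ * s) (Localization.Away r') :=
    IsLocalization.Away.mul_of_associated g₀ s r' hassoc
  let e : Localization.Away (g₀ * s) ≃ₐ[S] Localization.Away r' :=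
    IsLocalization.algEquiv (Submonoid.powers (g₀ * s)) _ _
  have hgsq : g₀ * s ∉ q := fun h => (Ideal.IsPrime.mem_or_mem inferInstance h).elim hg₀q hsq
  let φ' : MvPolynomial (Fin n) R →ₐ[R] Localization.Away (g₀ * s) :=
    (e.symm.toAlgHom.restrictScalars R).comp
      ((IsScalarTower.toAlgHom R S' (Localization.Away r')).comp φ₀)
  refine ⟨g₀ * s, hgsq, hrn, φ', ?_, ?_, fun y => ?_⟩
  · haveI : Algebra.FiniteType R (Localization.Away (g₀ * s)) :=
      Algebra.FiniteType.trans (S := S) inferInstance inferInstance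
    have h1 : (algebraMap R (Localization.Away (g₀ * s))).FiniteType :=
      RingHom.finiteType_algebraMap.mpr inferInstance
    have h2 : φ'.toRingHom.comp (algebraMap R (MvPolynomial (Fin n) R)) =
        algebraMap R (Localization.Away (g₀ * s)) := φ'.comp_algebraMap
    rw [← h2] at h1
    exact RingHom.FiniteType.of_comp_finiteType h1
  · have h1 : (algebraMap (MvPolynomial (Fin n) R) (Localization.Away r')).QuasiFinite :=
      RingHom.quasiFinite_algebraMap.mpr hqf
    have h2 : (e.symm : Localization.Away r' →+* Localization.Away (g₀ * s)).QuasiFinite :=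
      RingHom.QuasiFinite.of_finite (RingHom.Finite.of_surjective _ e.symm.surjective)
    have h3 : φ'.toRingHom = (e.symm : Localization.Away r' →+* Localization.Away (g₀ * s)).comp
        (algebraMap (MvPolynomial (Fin n) R) (Localization.Away r')) := by
      ext x <;> rfl
    rw [h3]
    exact h2.comp h1
  · have hdisj2 : Disjoint (Submonoid.powers (g₀ * s) : Set S) (q : Set S) :=
      (Ideal.disjoint_powers_iff_notMem_of_isPrime _).mpr hgsq
    have h1 : φ' y ∈ q.map (algebraMap S (Localization.Away (g₀ * s))) ↔ φ₀ y ∈ q' :=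
      mem_map_iff_of_localizations (Submonoid.powers g₀) (Submonoid.powers (g₀ * s)) q hdisj hdisj2
        ((e.symm : Localization.Away r' →+* Localization.Away (g₀ * s)).comp
          (algebraMap S' (Localization.Away r')))
        (fun a => by
          show e.symm (algebraMap S' (Localization.Away r') (algebraMap S S' a)) = _
          rw [← IsScalarTower.algebraMap_apply S S' (Localization.Away r'), AlgEquiv.commutes])
        (φ₀ y)
    rw [h1, hφ₀]
    show (aeval σ y : S') ∈ q.map (algebraMap S S') ↔ _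
    rw [hmem, map_mem_Kd_iff]


/-- Let R → S be of finite type, q a prime of S over p, Q the prime of κ(p) ⊗ S over q, with the fibre
of local dimension n at Q and κ(q) of transcendence degree r over κ(p). Then for some f ∉ p and g ∉
q there is an R-algebra map φ : R_f[x_1, …, x_n] → S_g, of finite type and quasi-finite, such that
the inverse image of q S_g under φ is the ideal generated by p and the variables x_{r+1}, …, x_n. -/
theorem result (R S : Type u) [CommRing R] [CommRing S]
    [Algebra R S] [Algebra.FiniteType R S] (p : Ideal R) [p.IsPrime] (q : Ideal S) [q.IsPrime] [q.LiesOver p]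
    [Algebra (Localization.AtPrime p) (Localization.AtPrime q)]
    [Localization.AtPrime.IsLiesOverAlgebra p q] (Q : PrimeSpectrum (p.Fiber S))
    (hQ : Q.asIdeal.comap (Algebra.TensorProduct.includeRight.toRingHom) = q) (n r : ℕ)
    (hdim : FlatMor.localDim (PrimeSpectrum (p.Fiber S)) Q = (n : WithBot ℕ∞))
    (hr : Algebra.trdeg p.ResidueField q.ResidueField = r) :
    ∃ (f : R) (g : S), f ∉ p ∧ g ∉ q ∧
      ∃ φ : MvPolynomial (Fin n) (Localization.Away f) →ₐ[R] Localization.Away g,
        φ.toRingHom.FiniteType ∧ φ.toRingHom.QuasiFinite ∧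
        (q.map (algebraMap S (Localization.Away g))).comap φ =
          p.map (algebraMap R (MvPolynomial (Fin n) (Localization.Away f))) ⊔
            Ideal.span (Set.range fun i : {i : Fin n // r ≤ (i : ℕ)} =>
              (MvPolynomial.X (i : Fin n) : MvPolynomial (Fin n) (Localization.Away f))) := by
  classical
  obtain ⟨g, hgq, hrn, φ', hft, hqf, hmem⟩ := main' R S p q Q hQ n r hdim hr
  have h1p : (1 : R) ∉ p := fun h =>
    (Ideal.IsPrime.ne_top inferInstance) ((Ideal.eq_top_iff_one p).mpr h)
  refine ⟨1, g, h1p, hgq, ?_⟩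
  let e₁ : Localization.Away (1 : R) ≃ₐ[R] R :=
    (IsLocalization.atUnits R (Submonoid.powers (1 : R)) (S := Localization.Away (1 : R))
      (by rw [Submonoid.powers_le]; exact isUnit_one)).symm
  obtain ⟨ε, hεX⟩ : ∃ ε : MvPolynomial (Fin n) (Localization.Away (1 : R)) ≃ₐ[R]
      MvPolynomial (Fin n) R, ∀ i, ε (MvPolynomial.X i) = MvPolynomial.X (Fin.rev i) :=
    ⟨(MvPolynomial.mapAlgEquiv (Fin n) e₁).trans (MvPolynomial.renameEquiv R Fin.revPerm),
      fun i => by simp [MvPolynomial.mapAlgEquiv_apply, MvPolynomial.renameEquiv_apply]⟩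
  have hεsX : ∀ i, ε.symm (MvPolynomial.X i) = MvPolynomial.X (Fin.rev i) := fun i => by
    rw [AlgEquiv.symm_apply_eq, hεX, Fin.rev_rev]
  refine ⟨φ'.comp ε.toAlgHom, ?_, ?_, ?_⟩
  · show (φ'.toRingHom.comp ε.toAlgHom.toRingHom).FiniteType
    exact hft.comp (RingHom.FiniteType.of_surjective _ ε.surjective)
  · show (φ'.toRingHom.comp ε.toAlgHom.toRingHom).QuasiFinite
    exact hqf.comp (RingHom.QuasiFinite.of_finite (RingHom.Finite.of_surjective _ ε.surjective))
  · have hle1 : p.map (algebraMap R (MvPolynomial (Fin n) (Localization.Away (1 : R)))) ⊔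
        Ideal.span (Set.range fun i : {i : Fin n // r ≤ (i : ℕ)} =>
          (MvPolynomial.X (i : Fin n) : MvPolynomial (Fin n) (Localization.Away (1 : R)))) ≤
        (p.map (MvPolynomial.C : R →+* MvPolynomial (Fin n) R) ⊔
          Ideal.span (MvPolynomial.X '' {i : Fin n | (i : ℕ) < n - r})).comap ε := by
      apply sup_le
      · rw [Ideal.map_le_iff_le_comap]
        intro a ha
        rw [Ideal.mem_comap, Ideal.mem_comap, AlgEquiv.commutes]
        exact Ideal.mem_sup_left (Ideal.mem_map_of_mem MvPolynomial.C ha)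
      · rw [Ideal.span_le]
        rintro _ ⟨⟨i, hi⟩, rfl⟩
        show (MvPolynomial.X i : MvPolynomial (Fin n) (Localization.Away (1 : R))) ∈
          Ideal.comap ε _
        rw [Ideal.mem_comap, hεX]
        refine Ideal.mem_sup_right (Ideal.subset_span ⟨Fin.rev i, ?_, rfl⟩)
        show ((Fin.rev i : Fin n) : ℕ) < n - r
        rw [Fin.val_rev]
        have := i.isLt
        omega
    have hle2 : p.map (MvPolynomial.C : R →+* MvPolynomial (Fin n) R) ⊔
          Ideal.span (MvPolynomial.X '' {i : Fin n | (i : ℕ) < n - r}) ≤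
        (p.map (algebraMap R (MvPolynomial (Fin n) (Localization.Away (1 : R)))) ⊔
        Ideal.span (Set.range fun i : {i : Fin n // r ≤ (i : ℕ)} =>
          (MvPolynomial.X (i : Fin n) :
            MvPolynomial (Fin n) (Localization.Away (1 : R))))).comap ε.symm := by
      apply sup_le
      · rw [Ideal.map_le_iff_le_comap]
        intro a ha
        rw [Ideal.mem_comap, Ideal.mem_comap]
        show ε.symm (algebraMap R (MvPolynomial (Fin n) R) a) ∈ _
        rw [AlgEquiv.commutes]
        exact Ideal.mem_sup_left (Ideal.mem_map_of_mem _ ha)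
      · rw [Ideal.span_le]
        rintro _ ⟨i, hi, rfl⟩
        show (MvPolynomial.X i : MvPolynomial (Fin n) R) ∈ Ideal.comap ε.symm _
        rw [Ideal.mem_comap, hεsX]
        refine Ideal.mem_sup_right (Ideal.subset_span ⟨⟨Fin.rev i, ?_⟩, rfl⟩)
        show r ≤ ((Fin.rev i : Fin n) : ℕ)
        rw [Fin.val_rev]
        have h1 := i.isLt
        have h2 : (i : ℕ) < n - r := hi
        omega
    ext z
    rw [Ideal.mem_comap]
    show φ' (ε z) ∈ _ ↔ _
    rw [hmem]
    constructor
    · intro hz
      have h3 := hle2 hz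
      rw [Ideal.mem_comap, AlgEquiv.symm_apply_apply] at h3
      exact h3
    · intro hz
      exact hle1 hz

end Groth.Agent.S9181
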