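import Groth.Statements.S9183
import Mathlib
import Groth.Agent.H88.DirColimAlg

set_option autoImplicit false
universe u
open CategoryTheory CategoryTheory.Limits
open CAlg

namespace Groth.Agent.S9183

open Groth.Agent.H88.DirColimAlg

section aux

variable (R A : Type u) [CommRing R] [CommRing A] [Algebra R A]

/-- evaluation of polynomials in the variables `s ⊆ A`. -/
noncomputable abbrev ev (s : Finset A) : MvPolynomial {a // a ∈ s} R →ₐ[R] A :=
  MvPolynomial.aeval (fun a : {a // a ∈ s} => (a : A))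

/-- pairs (finite set of variables, finitely generated ideal of relations). -/
structure Idx : Type u where
  s : Finset A
  I : Ideal (MvPolynomial {a // a ∈ s} R)
  fg : I.FG
  le_ker : I ≤ RingHom.ker (ev R A s)

/-- enlarging the set of variables. -/
noncomputable abbrev ren {s t : Finset A} (h : s ⊆ t) :
    MvPolynomial {a // a ∈ s} R →ₐ[R] MvPolynomial {a // a ∈ t} R :=
  MvPolynomial.rename (fun a : {a // a ∈ s} => (⟨a.1, h a.2⟩ : {a // a ∈ t}))

theorem ren_refl {s : Finset A} (h : s ⊆ s) (q : MvPolynomial {a // a ∈ s} R) :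
    ren R A h q = q := by
  have h1 : (fun a : {a // a ∈ s} => (⟨a.1, h a.2⟩ : {a // a ∈ s})) = id := rfl
  show MvPolynomial.rename (fun a : {a // a ∈ s} => (⟨a.1, h a.2⟩ : {a // a ∈ s})) q = q
  rw [h1, MvPolynomial.rename_id]
  rfl

theorem ren_trans {s t v : Finset A} (h : s ⊆ t) (h' : t ⊆ v) (q : MvPolynomial {a // a ∈ s} R) :
    ren R A h' (ren R A h q) = ren R A (h.trans h') q :=
  MvPolynomial.rename_rename _ _ q

theorem ev_ren {s t : Finset A} (h : s ⊆ t) (q : MvPolynomial {a // a ∈ s} R) :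
    ev R A t (ren R A h q) = ev R A s q :=
  MvPolynomial.aeval_rename _ _ q

/-- the order on index pairs. -/
def Idx.le' (x y : Idx R A) : Prop := ∃ h : x.s ⊆ y.s, ∀ q ∈ x.I, ren R A h q ∈ y.I

instance : Preorder (Idx R A) where
  le x y := Idx.le' R A x y
  lt x y := Idx.le' R A x y ∧ ¬ Idx.le' R A y x
  lt_iff_le_not_ge _ _ := Iff.rfl
  le_refl x := ⟨Finset.Subset.refl _, fun q hq => by rw [ren_refl]; exact hq⟩
  le_trans x y z hxy hyz := by
    obtain ⟨h1, h1'⟩ := hxy
    obtain ⟨h2, h2'⟩ := hyz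
    exact ⟨h1.trans h2, fun q hq => by
      rw [← ren_trans R A h1 h2]
      exact h2' _ (h1' q hq)⟩

theorem le_def (x y : Idx R A) :
    x ≤ y ↔ ∃ h : x.s ⊆ y.s, ∀ q ∈ x.I, ren R A h q ∈ y.I := Iff.rfl

instance : IsDirectedOrder (Idx R A) := ⟨fun x y => by
  classical
  have hx : x.s ⊆ x.s ∪ y.s := Finset.subset_union_left
  have hy : y.s ⊆ x.s ∪ y.s := Finset.subset_union_right
  refine ⟨⟨x.s ∪ y.s, x.I.map (ren R A hx).toRingHom ⊔ y.I.map (ren R A hy).toRingHom,
    ?_, ?_⟩, ?_, ?_⟩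
  · exact Submodule.FG.sup (Ideal.FG.map x.fg _) (Ideal.FG.map y.fg _)
  · refine sup_le ?_ ?_
    · rw [Ideal.map_le_iff_le_comap]
      intro q hq
      rw [Ideal.mem_comap, RingHom.mem_ker]
      show ev R A (x.s ∪ y.s) (ren R A hx q) = 0
      rw [ev_ren]
      exact RingHom.mem_ker.1 (x.le_ker hq)
    · rw [Ideal.map_le_iff_le_comap]
      intro q hq
      rw [Ideal.mem_comap, RingHom.mem_ker]
      show ev R A (x.s ∪ y.s) (ren R A hy q) = 0
      rw [ev_ren]
      exact RingHom.mem_ker.1 (y.le_ker hq)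
  · exact ⟨hx, fun q hq => Ideal.mem_sup_left (Ideal.mem_map_of_mem (ren R A hx).toRingHom hq)⟩
  · exact ⟨hy, fun q hq => Ideal.mem_sup_right (Ideal.mem_map_of_mem (ren R A hy).toRingHom hq)⟩⟩

instance : Nonempty (Idx R A) := ⟨⟨∅, ⊥, Submodule.fg_bot, bot_le⟩⟩

abbrev Bq (x : Idx R A) : Type u := MvPolynomial {a // a ∈ x.s} R ⧸ x.I

noncomputable def trq (x y : Idx R A) (h : x ≤ y) : Bq R A x →ₐ[R] Bq R A y :=
  Ideal.quotientMapₐ y.I (ren R A h.choose) (fun q hq => Ideal.mem_comap.2 (h.choose_spec q hq))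

theorem trq_mk (x y : Idx R A) (h : x ≤ y) (h' : x.s ⊆ y.s)
    (q : MvPolynomial {a // a ∈ x.s} R) :
    trq R A x y h (Ideal.Quotient.mk x.I q) = Ideal.Quotient.mk y.I (ren R A h' q) :=
  Ideal.quotient_map_mkₐ _ _ _

noncomputable def legq (x : Idx R A) : Bq R A x →ₐ[R] A :=
  Ideal.Quotient.liftₐ x.I (ev R A x.s) (fun q hq => RingHom.mem_ker.1 (x.le_ker hq))

theorem legq_mk (x : Idx R A) (q : MvPolynomial {a // a ∈ x.s} R) :
    legq R A x (Ideal.Quotient.mk x.I q) = ev R A x.s q := rfl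

theorem trq_id (x : Idx R A) (z : Bq R A x) : trq R A x x le_rfl z = z := by
  obtain ⟨q, rfl⟩ := Ideal.Quotient.mk_surjective z
  rw [trq_mk R A x x le_rfl (Finset.Subset.refl _), ren_refl]

theorem trq_comp (x y w : Idx R A) (hxy : x ≤ y) (hyw : y ≤ w) (z : Bq R A x) :
    trq R A y w hyw (trq R A x y hxy z) = trq R A x w (hxy.trans hyw) z := by
  obtain ⟨q, rfl⟩ := Ideal.Quotient.mk_surjective z
  obtain ⟨h1, -⟩ := hxy
  obtain ⟨h2, -⟩ := hyw
  rw [trq_mk R A x y _ h1, trq_mk R A y w _ h2, trq_mk R A x w _ (h1.trans h2), ren_trans]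

theorem legq_tr (x y : Idx R A) (h : x ≤ y) (z : Bq R A x) :
    legq R A y (trq R A x y h z) = legq R A x z := by
  obtain ⟨q, rfl⟩ := Ideal.Quotient.mk_surjective z
  obtain ⟨h1, -⟩ := h
  rw [trq_mk R A x y _ h1, legq_mk, legq_mk, ev_ren]

theorem legq_surj (a : A) : ∃ x, ∃ z : Bq R A x, legq R A x z = a := by
  refine ⟨⟨{a}, ⊥, Submodule.fg_bot, bot_le⟩,
    Ideal.Quotient.mk _ (MvPolynomial.X ⟨a, Finset.mem_singleton_self a⟩), ?_⟩
  rw [legq_mk]
  exact MvPolynomial.aeval_X _ _

theorem legq_inj (x : Idx R A) (z z' : Bq R A x) (h : legq R A x z = legq R A x z') :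
    ∃ y, ∃ hxy : x ≤ y, trq R A x y hxy z = trq R A x y hxy z' := by
  obtain ⟨q, rfl⟩ := Ideal.Quotient.mk_surjective z
  obtain ⟨q', rfl⟩ := Ideal.Quotient.mk_surjective z'
  rw [legq_mk, legq_mk] at h
  have hker : q - q' ∈ RingHom.ker (ev R A x.s) := by
    rw [RingHom.mem_ker, map_sub, h, sub_self]
  have hle : x ≤ (⟨x.s, x.I ⊔ Ideal.span {q - q'},
      Submodule.FG.sup x.fg (Submodule.fg_span_singleton _),
      sup_le x.le_ker (by
        rw [Ideal.span_le, Set.singleton_subset_iff]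
        exact hker)⟩ : Idx R A) :=
    ⟨Finset.Subset.refl _, fun p hp => by
      rw [ren_refl]
      exact Ideal.mem_sup_left hp⟩
  refine ⟨_, hle, ?_⟩
  rw [trq_mk R A x _ hle (Finset.Subset.refl _), trq_mk R A x _ hle (Finset.Subset.refl _),
    ren_refl, ren_refl]
  exact Ideal.Quotient.eq.2 (Ideal.mem_sup_right (Ideal.subset_span (Set.mem_singleton _)))

end aux


/-- Every R-algebra A, with no finiteness assumption, is the colimit of a filtered system of finitely
presented R-algebras. (The published statement asserts that the category of all finitely presented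
R-algebras with a map to A is filtered with colimit A; this row states that some small filtered
system of finitely presented R-algebras has colimit A.) -/
theorem result (R A : Type u) [CommRing R] [CommRing A] [Algebra R A] :
    ∃ (I : Type u) (_ : SmallCategory I) (_ : IsFiltered I) (D : I ⥤ Under (CommRingCat.of R))
      (c : Cocone D) (_ : IsColimit c),
      (∀ i, (D.obj i).hom.hom.FinitePresentation) ∧
      Nonempty (c.pt ≅ Under.mk (CommRingCat.ofHom (algebraMap R A))) := by
  refine ⟨Idx R A, Preorder.smallCategory _, inferInstance,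
    diag R (Bq R A) (trq R A) (trq_id R A) (trq_comp R A),
    cocone R (Bq R A) (trq R A) A (legq R A) (trq_id R A) (trq_comp R A) (legq_tr R A),
    isColimit R (Bq R A) (trq R A) A (legq R A) (trq_id R A) (trq_comp R A) (legq_tr R A)
      (legq_surj R A) (legq_inj R A), ?_, ⟨Iso.refl _⟩⟩
  intro x
  exact RingHom.finitePresentation_algebraMap.2 (Algebra.FinitePresentation.quotient x.fg)

end Groth.Agent.S9183
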