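import Groth.Statements.S9185
import Groth.Agent.S3815

set_option autoImplicit false
universe u
open Diff16

namespace Groth.Agent.S9185

open scoped TensorProduct
open Groth.Agent.S3815

section

variable (k : ℕ) (R S : Type u) [CommRing R] [CommRing S] [Algebra R S] (M : Type u)
    [AddCommGroup M] [Module S M] [Module R M] [IsScalarTower R S M]

/-- `P^k(M)` with the module structures through the first factor. -/
def PL : Type u := PP16.PM k R S M

noncomputable instance : AddCommGroup (PL k R S M) :=
  inferInstanceAs (AddCommGroup (PP16.PM k R S M))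

noncomputable instance modS : Module S (PL k R S M) :=
  Module.compHom (PP16.PM k R S M) (algebraMap S (PP16.P k R S))

noncomputable instance modR : Module R (PL k R S M) :=
  Module.compHom (PP16.PM k R S M) (algebraMap R (PP16.P k R S))

/-- forget the `PL` wrapper -/
def ofPL (x : PL k R S M) : PP16.PM k R S M := x

instance : IsScalarTower R S (PL k R S M) := by
  refine ⟨fun r s x => ?_⟩
  show algebraMap S (PP16.P k R S) (r • s) • ofPL k R S M x =
    algebraMap R (PP16.P k R S) r • (algebraMap S (PP16.P k R S) s • ofPL k R S M x)
  rw [Algebra.smul_def, map_mul, ← IsScalarTower.algebraMap_apply R S (PP16.P k R S), mul_smul]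

theorem dM_smul (r : R) (m : M) :
    PP16.dM k R S M (r • m) = algebraMap R (PP16.P k R S) r • PP16.dM k R S M m := by
  have e1 : PP16.dM k R S M (r • m) =
      toPr k R S (PP16.dn k R S (algebraMap R S r)) ⊗ₜ[S] m := by
    rw [← algebraMap_smul S r m, dM_eq, ← TensorProduct.smul_tmul, smul_toPr, mul_one]
  have e2 : algebraMap R (PP16.P k R S) r • PP16.dM k R S M m =
      toPr k R S (algebraMap R (PP16.P k R S) r) ⊗ₜ[S] m := by
    rw [dM_eq, TensorProduct.smul_tmul', psmul_toPr, mul_one]
  rw [e1, e2, (PP16.dn k R S).commutes r]

/-- The universal operator as an `R`-linear map into `PL`. -/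
noncomputable def DL : M →ₗ[R] PL k R S M :=
  { toFun := fun m => (PP16.dM k R S M m : PP16.PM k R S M)
    map_add' := fun m m' => map_add (PP16.dM k R S M) m m'
    map_smul' := fun r m => dM_smul k R S M r m }

theorem DL_apply (m : M) : DL k R S M m = (PP16.dM k R S M m : PP16.PM k R S M) := rfl

/-- the identity as an additive map `PM → PL` -/
noncomputable def idPL : PP16.PM k R S M →+ PL k R S M := AddMonoidHom.id (PP16.PM k R S M)

theorem isDiffOpLE_DL : Diff16.IsDiffOpLE R S M (PL k R S M) k (DL k R S M) := by
  refine (Groth.Agent.S3815.result k R S M (PL k R S M) (DL k R S M)).2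
    ⟨idPL k R S M, ⟨fun b t => rfl, fun m => rfl⟩, ?_⟩
  rintro u' ⟨h1', h2'⟩
  exact u_unique k R S M (PL k R S M) u' (idPL k R S M) h1' (fun b t => rfl)
    (fun m => (h2' m).trans rfl)

theorem universal (N : Type u) [AddCommGroup N] [Module S N] [Module R N] [IsScalarTower R S N]
    (D' : M →ₗ[R] N) (hD' : Diff16.IsDiffOpLE R S M N k D') :
    ∃! α : PL k R S M →ₗ[S] N, α.restrictScalars R ∘ₗ DL k R S M = D' := by
  obtain ⟨u, ⟨h1, h2⟩, huniq⟩ := (Groth.Agent.S3815.result k R S M N D').1 hD'
  refine ⟨{ toFun := fun t => u t, map_add' := fun t t' => map_add u t t',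
            map_smul' := fun s t => h1 s t }, ?_, ?_⟩
  · refine LinearMap.ext fun m => ?_
    exact h2 m
  · intro α' hα'
    have hu : (α'.toAddMonoidHom : PP16.PM k R S M →+ N) = u := by
      refine huniq _ ⟨fun b t => α'.map_smul b t, fun m => ?_⟩
      exact LinearMap.congr_fun hα' m
    refine LinearMap.ext fun t => ?_
    exact DFunLike.congr_fun hu t

end

/-- For a ring map R → S, an S-module M and k ≥ 0 there is an S-module P together with a differential
operator D : M → P of order at most k (relative to R → S) such that every differential operator of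
order at most k from M to an S-module N is α ∘ D for a unique S-linear map α : P → N; that is,
differential operators of order ≤ k out of M are represented by P. (Target modules N are taken in
the same universe.) -/
theorem result (R S : Type u) [CommRing R] [CommRing S] [Algebra R S] (M : Type u)
    [AddCommGroup M] [Module S M] [Module R M] [IsScalarTower R S M] (k : ℕ) :
    ∃ (P : Type u) (_ : AddCommGroup P) (_ : Module S P) (_ : Module R P) (_ : IsScalarTower R S P)
      (D : M →ₗ[R] P), Diff16.IsDiffOpLE R S M P k D ∧
        ∀ (N : Type u) [AddCommGroup N] [Module S N] [Module R N] [IsScalarTower R S N] (D' : M →ₗ[R] N),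
          Diff16.IsDiffOpLE R S M N k D' → ∃! α : P →ₗ[S] N, α.restrictScalars R ∘ₗ D = D' := by
  exact ⟨PL k R S M, inferInstance, inferInstance, inferInstance, inferInstance, DL k R S M,
    isDiffOpLE_DL k R S M, fun N _ _ _ _ D' hD' => universal k R S M N D' hD'⟩

end Groth.Agent.S9185
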