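import Groth.Statements.S9195
import Mathlib
import Groth.Agent.H24.QFLocus
import Groth.Agent.H52.FibreDimPB
import Groth.Agent.H9.FibDimTop

set_option linter.style.haveILetI false

set_option autoImplicit false
universe u
open CategoryTheory AlgebraicGeometry
open Lim

namespace Groth.Agent.S9195


section descend

open Groth.Agent.H24

variable {I : Type u} [SmallCategory I] [IsCofiltered I]
    (D : I ⥤ Scheme.{u}) (c : Limits.Cone D) (hc : Limits.IsLimit c)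
    [∀ {i j : I} (f : i ⟶ j), IsAffineHom (D.map f)]
    (i₀ : I) {X₀ Y₀ : Scheme.{u}} (f₀ : X₀ ⟶ Y₀) (g₀ : Y₀ ⟶ D.obj i₀)

include hc in
theorem exists_fibreDim_pbRel [CompactSpace X₀] [LocallyOfFiniteType f₀] (d : ℕ)
    {X Y : Scheme.{u}} (f : X ⟶ Y) (g : Y ⟶ c.pt) (qY : Y ⟶ Y₀) (qX : X ⟶ X₀)
    (hY : IsPullback qY g g₀ (c.π.app i₀)) (hX : IsPullback qX f f₀ qY)
    (hd : ∀ x : X, FlatMor.fibreDimAt f x ≤ d) :
    ∃ j : Over i₀, ∀ x, FlatMor.fibreDimAt (pbRel D (𝟙 i₀) f₀ g₀ j) x ≤ d := by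
  have hXY := hX.paste_vert hY
  have hcX : ∀ l : Over i₀, CompactSpace ↥((pbDiagram D (𝟙 i₀) (f₀ ≫ g₀)).obj l) :=
    compactSpace_pbDiagram_obj D i₀ f₀ g₀
  have hlft : ∀ l : Over i₀, LocallyOfFiniteType (pbRel D (𝟙 i₀) f₀ g₀ l) := fun l =>
    MorphismProperty.of_isPullback (P := @LocallyOfFiniteType)
      (isPullback_pbRel D (𝟙 i₀) f₀ g₀ l) inferInstance
  have sq := isPullback_pbLift_pbRel D (𝟙 i₀) f₀ g₀ c f g qY qX hY hX (Over.mk (𝟙 i₀))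
  let U : ((pbDiagram D (𝟙 i₀) (f₀ ≫ g₀)).obj (Over.mk (𝟙 i₀))).Opens :=
    ⟨{x | FlatMor.fibreDimAt (pbRel D (𝟙 i₀) f₀ g₀ (Over.mk (𝟙 i₀))) x ≤ d},
      @Groth.Agent.H9.FibDim.isOpen_setOf_fibreDimAt_le _ _
        (pbRel D (𝟙 i₀) f₀ g₀ (Over.mk (𝟙 i₀))) (hlft (Over.mk (𝟙 i₀))) d⟩
  have htop : (pbCone D (𝟙 i₀) (f₀ ≫ g₀) c qX (f ≫ g) hXY.w).π.app (Over.mk (𝟙 i₀)) ⁻¹ᵁ U = ⊤ := by
    change pbLift D (𝟙 i₀) (f₀ ≫ g₀) c qX (f ≫ g) hXY.w (Over.mk (𝟙 i₀)) ⁻¹ᵁ U = ⊤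
    rw [eq_top_iff]
    intro x _
    show FlatMor.fibreDimAt (pbRel D (𝟙 i₀) f₀ g₀ (Over.mk (𝟙 i₀))) _ ≤ d
    rw [← Groth.Agent.H52.fibreDimAt_eq_of_isPullback _ _ _ _ sq x]
    exact hd x
  obtain ⟨j, a, hj⟩ := exists_map_eq_top (pbDiagram D (𝟙 i₀) (f₀ ≫ g₀))
    (pbCone D (𝟙 i₀) (f₀ ≫ g₀) c qX (f ≫ g) hXY.w)
    (isLimitPbCone D (𝟙 i₀) (f₀ ≫ g₀) c hc qX (f ≫ g) hXY) _ htop
  have hj' : pbMap D (𝟙 i₀) (f₀ ≫ g₀) a ⁻¹ᵁ U = ⊤ := hj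
  refine ⟨j, fun x => ?_⟩
  rw [Groth.Agent.H52.fibreDimAt_eq_of_isPullback _ _ _ _
    (isPullback_pbMap_pbRel D (𝟙 i₀) f₀ g₀ a) x]
  have hx : x ∈ pbMap D (𝟙 i₀) (f₀ ≫ g₀) a ⁻¹ᵁ U := by rw [hj']; trivial
  exact hx

end descend

theorem result' {I : Type u} [SmallCategory I] [IsCofiltered I]
    (D : I ⥤ Scheme.{u}) (c : Limits.Cone D) (hc : Limits.IsLimit c)
    [∀ (i j : I) (f : i ⟶ j), IsAffineHom (D.map f)] (i₀ : I) [CompactSpace (D.obj i₀)]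
    [QuasiSeparatedSpace (D.obj i₀)] {X₀ Y₀ : Scheme.{u}} (f₀ : X₀ ⟶ Y₀) (g₀ : Y₀ ⟶ D.obj i₀)
    [CompactSpace X₀] [QuasiSeparatedSpace X₀] [CompactSpace Y₀] [QuasiSeparatedSpace Y₀]
    [LocallyOfFiniteType f₀] (d : ℕ)
    {X Y : Scheme.{u}} (f : X ⟶ Y) (g : Y ⟶ c.pt) (qY : Y ⟶ Y₀) (qX : X ⟶ X₀)
    (hY : IsPullback qY g g₀ (c.π.app i₀)) (hX : IsPullback qX f f₀ qY) (hd : ∀ x : X, FlatMor.fibreDimAt f x ≤ d) :
    ∃ (i : I) (φ : i ⟶ i₀) (Xi Yi : Scheme.{u}) (fi : Xi ⟶ Yi) (gi : Yi ⟶ D.obj i) (pY : Yi ⟶ Y₀)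
      (pX : Xi ⟶ X₀), IsPullback pY gi g₀ (D.map φ) ∧ IsPullback pX fi f₀ pY ∧ ∀ x : Xi, FlatMor.fibreDimAt fi x ≤ d := by
  have hAff : ∀ {i j : I} (f : i ⟶ j), IsAffineHom (D.map f) := fun f => inferInstance
  obtain ⟨j, hj⟩ := exists_fibreDim_pbRel D c hc i₀ f₀ g₀ d f g qY qX hY hX hd
  exact ⟨j.left, j.hom ≫ 𝟙 i₀, _, _, H24.pbRel D (𝟙 i₀) f₀ g₀ j, Limits.pullback.snd g₀ _,
    Limits.pullback.fst g₀ _, Limits.pullback.fst (f₀ ≫ g₀) _, IsPullback.of_hasPullback _ _,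
    H24.isPullback_pbRel D (𝟙 i₀) f₀ g₀ j, hj⟩


/-- Let S = lim S_i be a cofiltered limit of schemes with affine transition morphisms, S_{i₀} a
quasi-compact quasi-separated stage, f₀ : X₀ → Y₀ a morphism of quasi-compact quasi-separated
schemes over S_{i₀}, and f : X → Y its base change along S → S_{i₀} (base changes expressed by
pullback squares). Let d be a natural number. If f₀ is locally of finite type and f has relative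
dimension at most d (every fibre of f has local dimension at most d at each of its points), then for
some index i over i₀ the base change f_i : X_i → Y_i of f₀ along S_i → S_{i₀} has relative dimension
at most d. -/
theorem result {I : Type u} [SmallCategory I] [IsCofiltered I]
    (D : I ⥤ Scheme.{u}) (c : Limits.Cone D) (hc : Limits.IsLimit c)
    [∀ (i j : I) (f : i ⟶ j), IsAffineHom (D.map f)] (i₀ : I) [CompactSpace (D.obj i₀)]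
    [QuasiSeparatedSpace (D.obj i₀)] {X₀ Y₀ : Scheme.{u}} (f₀ : X₀ ⟶ Y₀) (g₀ : Y₀ ⟶ D.obj i₀)
    [CompactSpace X₀] [QuasiSeparatedSpace X₀] [CompactSpace Y₀] [QuasiSeparatedSpace Y₀]
    [LocallyOfFiniteType f₀] (d : ℕ)
    {X Y : Scheme.{u}} (f : X ⟶ Y) (g : Y ⟶ c.pt) (qY : Y ⟶ Y₀) (qX : X ⟶ X₀)
    (hY : IsPullback qY g g₀ (c.π.app i₀)) (hX : IsPullback qX f f₀ qY) (hd : ∀ x : X, FlatMor.fibreDimAt f x ≤ d) :
    ∃ (i : I) (φ : i ⟶ i₀) (Xi Yi : Scheme.{u}) (fi : Xi ⟶ Yi) (gi : Yi ⟶ D.obj i) (pY : Yi ⟶ Y₀)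
      (pX : Xi ⟶ X₀), IsPullback pY gi g₀ (D.map φ) ∧ IsPullback pX fi f₀ pY ∧ ∀ x : Xi, FlatMor.fibreDimAt fi x ≤ d := by
  exact result' D c hc i₀ f₀ g₀ d f g qY qX hY hX hd

end Groth.Agent.S9195
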