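import Groth.Statements.S9196
import Mathlib
import Groth.Agent.S9195
import Groth.Agent.S9355
import Groth.Agent.H70.RelDimPointwise
import Groth.Agent.H9.CMFlatSch

set_option linter.style.haveILetI false

set_option autoImplicit false
universe u
open CategoryTheory AlgebraicGeometry
open Lim

namespace Groth.Agent.S9196


section descend

open Groth.Agent.H24

variable {I : Type u} [SmallCategory I] [IsCofiltered I]
    (D : I ⥤ Scheme.{u}) (c : Limits.Cone D) (hc : Limits.IsLimit c)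
    [∀ {i j : I} (f : i ⟶ j), IsAffineHom (D.map f)]
    (i₀ : I) {X₀ Y₀ : Scheme.{u}} (f₀ : X₀ ⟶ Y₀) (g₀ : Y₀ ⟶ D.obj i₀)

theorem fibreDimAt_pbMap [LocallyOfFiniteType f₀] {j k : Over i₀} (a : j ⟶ k)
    (x : ↥(Limits.pullback (f₀ ≫ g₀) (D.map (j.hom ≫ 𝟙 i₀)))) :
    FlatMor.fibreDimAt (pbRel D (𝟙 i₀) f₀ g₀ j) x =
      FlatMor.fibreDimAt (pbRel D (𝟙 i₀) f₀ g₀ k) (pbMap D (𝟙 i₀) (f₀ ≫ g₀) a x) := by
  haveI : LocallyOfFiniteType (pbRel D (𝟙 i₀) f₀ g₀ k) :=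
    MorphismProperty.of_isPullback (P := @LocallyOfFiniteType)
      (isPullback_pbRel D (𝟙 i₀) f₀ g₀ k) inferInstance
  exact Groth.Agent.H52.fibreDimAt_eq_of_isPullback _ _ _ _
    (isPullback_pbMap_pbRel D (𝟙 i₀) f₀ g₀ a) x

include hc in
theorem exists_not_le_pbRel [CompactSpace X₀] [LocallyOfFinitePresentation f₀] (d' : ℕ)
    {X Y : Scheme.{u}} (f : X ⟶ Y) (g : Y ⟶ c.pt) (qY : Y ⟶ Y₀) (qX : X ⟶ X₀)
    (hY : IsPullback qY g g₀ (c.π.app i₀)) (hX : IsPullback qX f f₀ qY)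
    (hd : ∀ x : X, ¬ FlatMor.fibreDimAt f x ≤ d') :
    ∃ j : Over i₀, ∀ x, ¬ FlatMor.fibreDimAt (pbRel D (𝟙 i₀) f₀ g₀ j) x ≤ d' := by
  have hXY := hX.paste_vert hY
  have hcX : ∀ l : Over i₀, CompactSpace ↥((pbDiagram D (𝟙 i₀) (f₀ ≫ g₀)).obj l) :=
    compactSpace_pbDiagram_obj D i₀ f₀ g₀
  have hlfp : ∀ l : Over i₀, LocallyOfFinitePresentation (pbRel D (𝟙 i₀) f₀ g₀ l) := fun l =>
    MorphismProperty.of_isPullback (P := @LocallyOfFinitePresentation)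
      (isPullback_pbRel D (𝟙 i₀) f₀ g₀ l) inferInstance
  have hlft : ∀ l : Over i₀, LocallyOfFiniteType (pbRel D (𝟙 i₀) f₀ g₀ l) := fun l =>
    MorphismProperty.of_isPullback (P := @LocallyOfFiniteType)
      (isPullback_pbRel D (𝟙 i₀) f₀ g₀ l) inferInstance
  have sq := isPullback_pbLift_pbRel D (𝟙 i₀) f₀ g₀ c f g qY qX hY hX (Over.mk (𝟙 i₀))
  let W : ((pbDiagram D (𝟙 i₀) (f₀ ≫ g₀)).obj (Over.mk (𝟙 i₀))).Opens :=
    ⟨{x | FlatMor.fibreDimAt (pbRel D (𝟙 i₀) f₀ g₀ (Over.mk (𝟙 i₀))) x ≤ d'},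
      @Groth.Agent.H9.FibDim.isOpen_setOf_fibreDimAt_le _ _
        (pbRel D (𝟙 i₀) f₀ g₀ (Over.mk (𝟙 i₀))) (hlft (Over.mk (𝟙 i₀))) d'⟩
  have hWc : IsCompact (W : Set ((pbDiagram D (𝟙 i₀) (f₀ ≫ g₀)).obj (Over.mk (𝟙 i₀)))) := by
    haveI := hlfp (Over.mk (𝟙 i₀))
    haveI := hcX (Over.mk (𝟙 i₀))
    have h := Groth.Agent.S9355.result (pbRel D (𝟙 i₀) f₀ g₀ (Over.mk (𝟙 i₀))) d'
      isCompact_univ isOpen_univ
    rwa [Set.inter_univ] at h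
  have hle : (pbCone D (𝟙 i₀) (f₀ ≫ g₀) c qX (f ≫ g) hXY.w).π.app (Over.mk (𝟙 i₀)) ⁻¹ᵁ W ≤
      (pbCone D (𝟙 i₀) (f₀ ≫ g₀) c qX (f ≫ g) hXY.w).π.app (Over.mk (𝟙 i₀)) ⁻¹ᵁ ⊥ := by
    intro x hx
    exfalso
    have hx' : FlatMor.fibreDimAt (pbRel D (𝟙 i₀) f₀ g₀ (Over.mk (𝟙 i₀)))
        (pbLift D (𝟙 i₀) (f₀ ≫ g₀) c qX (f ≫ g) hXY.w (Over.mk (𝟙 i₀)) x) ≤ d' := hx
    haveI := hlft (Over.mk (𝟙 i₀))
    rw [← Groth.Agent.H52.fibreDimAt_eq_of_isPullback _ _ _ _ sq x] at hx'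
    exact hd x hx'
  obtain ⟨j, a, hj⟩ := exists_map_preimage_le_map_preimage (pbDiagram D (𝟙 i₀) (f₀ ≫ g₀))
    (pbCone D (𝟙 i₀) (f₀ ≫ g₀) c qX (f ≫ g) hXY.w)
    (isLimitPbCone D (𝟙 i₀) (f₀ ≫ g₀) c hc qX (f ≫ g) hXY) hWc hle
  have hj' : pbMap D (𝟙 i₀) (f₀ ≫ g₀) a ⁻¹ᵁ W ≤ pbMap D (𝟙 i₀) (f₀ ≫ g₀) a ⁻¹ᵁ ⊥ := hj
  refine ⟨j, fun x hx => ?_⟩
  rw [fibreDimAt_pbMap D i₀ f₀ g₀ a x] at hx
  exact hj' hx

include hc in
theorem exists_eq_pbRel [CompactSpace X₀] [LocallyOfFinitePresentation f₀] (d : ℕ)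
    {X Y : Scheme.{u}} (f : X ⟶ Y) (g : Y ⟶ c.pt) (qY : Y ⟶ Y₀) (qX : X ⟶ X₀)
    (hY : IsPullback qY g g₀ (c.π.app i₀)) (hX : IsPullback qX f f₀ qY)
    (hd : ∀ x : X, FlatMor.fibreDimAt f x = d) :
    ∃ j : Over i₀, ∀ x, FlatMor.fibreDimAt (pbRel D (𝟙 i₀) f₀ g₀ j) x = d := by
  have hlft : ∀ l : Over i₀, LocallyOfFiniteType (pbRel D (𝟙 i₀) f₀ g₀ l) := fun l =>
    MorphismProperty.of_isPullback (P := @LocallyOfFiniteType)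
      (isPullback_pbRel D (𝟙 i₀) f₀ g₀ l) inferInstance
  obtain ⟨j₁, h₁⟩ := Groth.Agent.S9195.exists_fibreDim_pbRel D c hc i₀ f₀ g₀ d f g qY qX hY hX
    (fun x => (hd x).le)
  rcases Nat.eq_zero_or_pos d with rfl | hpos
  · refine ⟨j₁, fun x => le_antisymm (h₁ x) ?_⟩
    have := Groth.Agent.H9.FibDim.localDim_ne_bot _ ((pbRel D (𝟙 i₀) f₀ g₀ j₁).asFiber x)
    obtain ⟨n, hn⟩ := @Groth.Agent.H9.CMFlatSch.exists_nat_fibreDimAt _ _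
      (pbRel D (𝟙 i₀) f₀ g₀ j₁) (hlft j₁) x
    rw [hn]
    exact_mod_cast Nat.zero_le n
  · obtain ⟨d', rfl⟩ : ∃ d', d = d' + 1 := ⟨d - 1, by omega⟩
    obtain ⟨j₂, h₂⟩ := exists_not_le_pbRel D c hc i₀ f₀ g₀ d' f g qY qX hY hX (fun x hx => by
      rw [hd x] at hx
      have : (d' + 1 : ℕ) ≤ d' := by exact_mod_cast hx
      omega)
    refine ⟨IsCofiltered.min j₁ j₂, fun x => ?_⟩
    have e₁ := fibreDimAt_pbMap D i₀ f₀ g₀ (IsCofiltered.minToLeft j₁ j₂) x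
    have e₂ := fibreDimAt_pbMap D i₀ f₀ g₀ (IsCofiltered.minToRight j₁ j₂) x
    obtain ⟨n, hn⟩ := @Groth.Agent.H9.CMFlatSch.exists_nat_fibreDimAt _ _
      (pbRel D (𝟙 i₀) f₀ g₀ (IsCofiltered.min j₁ j₂)) (hlft _) x
    have u₁ := h₁ (pbMap D (𝟙 i₀) (f₀ ≫ g₀) (IsCofiltered.minToLeft j₁ j₂) x)
    have u₂ := h₂ (pbMap D (𝟙 i₀) (f₀ ≫ g₀) (IsCofiltered.minToRight j₁ j₂) x)
    rw [← e₁, hn] at u₁
    rw [← e₂, hn] at u₂
    rw [hn]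
    have v₁ : n ≤ d' + 1 := by exact_mod_cast u₁
    have v₂ : ¬ n ≤ d' := fun h => u₂ (by exact_mod_cast h)
    have : n = d' + 1 := by omega
    exact_mod_cast this

end descend

theorem result' {I : Type u} [SmallCategory I] [IsCofiltered I]
    (D : I ⥤ Scheme.{u}) (c : Limits.Cone D) (hc : Limits.IsLimit c)
    [∀ (i j : I) (f : i ⟶ j), IsAffineHom (D.map f)] (i₀ : I) [CompactSpace (D.obj i₀)]
    [QuasiSeparatedSpace (D.obj i₀)] {X₀ Y₀ : Scheme.{u}} (f₀ : X₀ ⟶ Y₀) (g₀ : Y₀ ⟶ D.obj i₀)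
    [CompactSpace X₀] [QuasiSeparatedSpace X₀] [CompactSpace Y₀] [QuasiSeparatedSpace Y₀]
    [LocallyOfFinitePresentation f₀] (d : ℕ)
    {X Y : Scheme.{u}} (f : X ⟶ Y) (g : Y ⟶ c.pt) (qY : Y ⟶ Y₀) (qX : X ⟶ X₀)
    (hY : IsPullback qY g g₀ (c.π.app i₀)) (hX : IsPullback qX f f₀ qY) (hd : Cyc.HasRelDim f d) :
    ∃ (i : I) (φ : i ⟶ i₀) (Xi Yi : Scheme.{u}) (fi : Xi ⟶ Yi) (gi : Yi ⟶ D.obj i) (pY : Yi ⟶ Y₀)
      (pX : Xi ⟶ X₀), IsPullback pY gi g₀ (D.map φ) ∧ IsPullback pX fi f₀ pY ∧ Cyc.HasRelDim fi d := by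
  have hAff : ∀ {i j : I} (f : i ⟶ j), IsAffineHom (D.map f) := fun f => inferInstance
  haveI : LocallyOfFiniteType f :=
    MorphismProperty.of_isPullback (P := @LocallyOfFiniteType) hX inferInstance
  obtain ⟨j, hj⟩ := exists_eq_pbRel D c hc i₀ f₀ g₀ d f g qY qX hY hX
    ((Groth.Agent.H70.RelDimPointwise.hasRelDim_iff f d).mp hd)
  haveI : LocallyOfFiniteType (H24.pbRel D (𝟙 i₀) f₀ g₀ j) :=
    MorphismProperty.of_isPullback (P := @LocallyOfFiniteType)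
      (H24.isPullback_pbRel D (𝟙 i₀) f₀ g₀ j) inferInstance
  exact ⟨j.left, j.hom ≫ 𝟙 i₀, _, _, H24.pbRel D (𝟙 i₀) f₀ g₀ j, Limits.pullback.snd g₀ _,
    Limits.pullback.fst g₀ _, Limits.pullback.fst (f₀ ≫ g₀) _, IsPullback.of_hasPullback _ _,
    H24.isPullback_pbRel D (𝟙 i₀) f₀ g₀ j,
    (Groth.Agent.H70.RelDimPointwise.hasRelDim_iff _ d).mpr hj⟩


/-- Let S = lim S_i be a cofiltered limit of schemes with affine transition morphisms, S_{i₀} a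
quasi-compact quasi-separated stage, f₀ : X₀ → Y₀ a morphism of quasi-compact quasi-separated
schemes over S_{i₀}, and f : X → Y its base change along S → S_{i₀} (base changes expressed by
pullback squares). Let d be a natural number. If f₀ is locally of finite presentation and f has
relative dimension d (every irreducible component of every fibre of f has dimension d), then for
some index i over i₀ the base change f_i : X_i → Y_i of f₀ along S_i → S_{i₀} has relative dimension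
d. -/
theorem result {I : Type u} [SmallCategory I] [IsCofiltered I]
    (D : I ⥤ Scheme.{u}) (c : Limits.Cone D) (hc : Limits.IsLimit c)
    [∀ (i j : I) (f : i ⟶ j), IsAffineHom (D.map f)] (i₀ : I) [CompactSpace (D.obj i₀)]
    [QuasiSeparatedSpace (D.obj i₀)] {X₀ Y₀ : Scheme.{u}} (f₀ : X₀ ⟶ Y₀) (g₀ : Y₀ ⟶ D.obj i₀)
    [CompactSpace X₀] [QuasiSeparatedSpace X₀] [CompactSpace Y₀] [QuasiSeparatedSpace Y₀]
    [LocallyOfFinitePresentation f₀] (d : ℕ)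
    {X Y : Scheme.{u}} (f : X ⟶ Y) (g : Y ⟶ c.pt) (qY : Y ⟶ Y₀) (qX : X ⟶ X₀)
    (hY : IsPullback qY g g₀ (c.π.app i₀)) (hX : IsPullback qX f f₀ qY) (hd : Cyc.HasRelDim f d) :
    ∃ (i : I) (φ : i ⟶ i₀) (Xi Yi : Scheme.{u}) (fi : Xi ⟶ Yi) (gi : Yi ⟶ D.obj i) (pY : Yi ⟶ Y₀)
      (pX : Xi ⟶ X₀), IsPullback pY gi g₀ (D.map φ) ∧ IsPullback pX fi f₀ pY ∧ Cyc.HasRelDim fi d := by
  exact result' D c hc i₀ f₀ g₀ d f g qY qX hY hX hd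

end Groth.Agent.S9196
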