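import Groth.Statements.S9197
import Mathlib
import Groth.Agent.H24.LimFlat2
import Groth.Agent.H24.LimDescend2
import Groth.Agent.H69.LimBCFinite

set_option autoImplicit false
set_option maxHeartbeats 400000
universe u
open CategoryTheory AlgebraicGeometry
open Lim

namespace Groth.Agent.S9197

open Limits in
theorem stage_rank {I : Type u} [SmallCategory I] [IsCofiltered I]
    (D : I ⥤ Scheme.{u}) (c : Limits.Cone D) (hc : Limits.IsLimit c)
    [∀ {i j : I} (f : i ⟶ j), IsAffineHom (D.map f)] (l : I)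
    {Xk Yk : Scheme.{u}} (fk : Xk ⟶ Yk) (hk : Yk ⟶ D.obj l) [CompactSpace Yk]
    [IsFinite fk] [Flat fk] [LocallyOfFinitePresentation fk] (d : ℕ)
    {X Y : Scheme.{u}} (f : X ⟶ Y) (g : Y ⟶ c.pt) (rX : X ⟶ Xk) (rY : Y ⟶ Yk)
    (sqY : IsPullback rY g hk (c.π.app l)) (sqX : IsPullback rX f fk rY)
    (hrank : ∀ y : Y, f.finrank y = d) :
    ∃ k' : Over l, ∀ y : ↥(pullback hk (D.map (k'.hom ≫ 𝟙 l))),
      (pullback.snd fk (pullback.fst hk (D.map (k'.hom ≫ 𝟙 l)))).finrank y = d := by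
  have hlc : IsLocallyConstant fk.finrank := Scheme.Hom.isLocallyConstant_finrank fk
  have hEclopen : IsClopen ({y | fk.finrank y ≠ d} : Set ↥Yk) := (hlc.isClopen_fiber d).compl
  have hEcons : Topology.IsConstructible ({y | fk.finrank y ≠ d} : Set ↥Yk) :=
    IsRetrocompact.isConstructible hEclopen.isOpen
      (fun U hU _ => hU.inter_left hEclopen.isClosed)
  have hpre : pullback.fst hk (c.π.app l) ⁻¹' ({y | fk.finrank y ≠ d} : Set ↥Yk) = ∅ := by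
    rw [Set.eq_empty_iff_forall_notMem]
    intro w hw
    have hy : rY (sqY.isoPullback.inv w) = pullback.fst hk (c.π.app l) w := by
      rw [← Scheme.Hom.comp_apply, sqY.isoPullback_inv_fst]
    have h1 : f.finrank (sqY.isoPullback.inv w) = fk.finrank (rY (sqY.isoPullback.inv w)) :=
      Scheme.Hom.finrank_of_isPullback _ _ _ _ sqX _
    rw [hy, hrank] at h1
    exact hw h1.symm
  obtain ⟨k', hk'⟩ := Groth.Agent.H24.exists_preimage_fst_eq_empty D c hc l hk _ hEcons hpre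
  refine ⟨k', fun y => ?_⟩
  rw [Scheme.Hom.finrank_pullback_snd]
  by_contra hne
  have : y ∈ pullback.fst hk (D.map (k'.hom ≫ 𝟙 l)) ⁻¹' ({y | fk.finrank y ≠ d} : Set ↥Yk) := hne
  rw [hk'] at this
  exact this

set_option backward.isDefEq.respectTransparency.types false in

/-- Let S = lim S_i be a cofiltered limit of schemes with affine transition morphisms, S_{i₀} a
quasi-compact quasi-separated stage, f₀ : X₀ → Y₀ a morphism of quasi-compact quasi-separated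
schemes over S_{i₀}, and f : X → Y its base change along S → S_{i₀} (base changes expressed by
pullback squares). Let d be a natural number. If f₀ is locally of finite presentation and f is
finite locally free of degree d (finite, flat, locally of finite presentation, with rank function
constant equal to d), then for some index i over i₀ the base change f_i : X_i → Y_i of f₀ along S_i
→ S_{i₀} is finite locally free of degree d. -/
theorem result {I : Type u} [SmallCategory I] [IsCofiltered I]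
    (D : I ⥤ Scheme.{u}) (c : Limits.Cone D) (hc : Limits.IsLimit c)
    [∀ (i j : I) (f : i ⟶ j), IsAffineHom (D.map f)] (i₀ : I) [CompactSpace (D.obj i₀)]
    [QuasiSeparatedSpace (D.obj i₀)] {X₀ Y₀ : Scheme.{u}} (f₀ : X₀ ⟶ Y₀) (g₀ : Y₀ ⟶ D.obj i₀)
    [CompactSpace X₀] [QuasiSeparatedSpace X₀] [CompactSpace Y₀] [QuasiSeparatedSpace Y₀]
    [LocallyOfFinitePresentation f₀] (d : ℕ)
    {X Y : Scheme.{u}} (f : X ⟶ Y) (g : Y ⟶ c.pt) (qY : Y ⟶ Y₀) (qX : X ⟶ X₀)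
    (hY : IsPullback qY g g₀ (c.π.app i₀)) (hX : IsPullback qX f f₀ qY) (hf : Mor2.IsFinLocFreeOfDeg d f) :
    ∃ (i : I) (φ : i ⟶ i₀) (Xi Yi : Scheme.{u}) (fi : Xi ⟶ Yi) (gi : Yi ⟶ D.obj i) (pY : Yi ⟶ Y₀)
      (pX : Xi ⟶ X₀), IsPullback pY gi g₀ (D.map φ) ∧ IsPullback pX fi f₀ pY ∧ Mor2.IsFinLocFreeOfDeg d fi := by
  have hAff : ∀ {i j : I} (f : i ⟶ j), IsAffineHom (D.map f) := fun f => inferInstance
  obtain ⟨⟨hfin, hflat, hlfp⟩, hrank⟩ := hf
  haveI := hfin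
  haveI := hflat
  obtain ⟨j₁, hj₁⟩ := H69.LimBCFinite.exists_isFinite_pbRel D c hc i₀ f₀ g₀ f g qY qX hY hX
  obtain ⟨j₂, hj₂⟩ := H24.exists_flat_pbRel D c hc i₀ f₀ g₀ f g qY qX hY hX
  obtain ⟨k, a₁, a₂⟩ : ∃ k : Over i₀, Nonempty (k ⟶ j₁) ∧ Nonempty (k ⟶ j₂) :=
    ⟨IsCofiltered.min j₁ j₂, ⟨IsCofiltered.minToLeft j₁ j₂⟩, ⟨IsCofiltered.minToRight j₁ j₂⟩⟩
  obtain ⟨a₁⟩ := a₁
  obtain ⟨a₂⟩ := a₂
  haveI hk1 : IsFinite (H24.pbRel D (𝟙 i₀) f₀ g₀ k) :=
    MorphismProperty.of_isPullback (P := @IsFinite)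
      (H24.isPullback_pbMap_pbRel D (𝟙 i₀) f₀ g₀ a₁) hj₁
  haveI hk2 : Flat (H24.pbRel D (𝟙 i₀) f₀ g₀ k) :=
    MorphismProperty.of_isPullback (P := @Flat)
      (H24.isPullback_pbMap_pbRel D (𝟙 i₀) f₀ g₀ a₂) hj₂
  haveI hk3 : LocallyOfFinitePresentation (H24.pbRel D (𝟙 i₀) f₀ g₀ k) :=
    MorphismProperty.of_isPullback (P := @LocallyOfFinitePresentation)
      (H24.isPullback_pbRel D (𝟙 i₀) f₀ g₀ k) inferInstance
  haveI : CompactSpace ↥(Limits.pullback g₀ (D.map (k.hom ≫ 𝟙 i₀))) := by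
    haveI : IsAffineHom (Limits.pullback.fst g₀ (D.map (k.hom ≫ 𝟙 i₀))) :=
      MorphismProperty.pullback_fst (P := @IsAffineHom) _ _ inferInstance
    exact QuasiCompact.compactSpace_of_compactSpace
      (Limits.pullback.fst g₀ (D.map (k.hom ≫ 𝟙 i₀)))
  obtain ⟨k', hk'⟩ := stage_rank D c hc k.left (H24.pbRel D (𝟙 i₀) f₀ g₀ k)
    (Limits.pullback.snd g₀ (D.map (k.hom ≫ 𝟙 i₀))) d f g _ _
    (H24.isPullback_pbLift D (𝟙 i₀) g₀ c qY g hY k)
    (H24.isPullback_pbLift_pbRel D (𝟙 i₀) f₀ g₀ c f g qY qX hY hX k) hrank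
  refine ⟨k'.left, k'.hom ≫ k.hom, _, _,
    Limits.pullback.snd (H24.pbRel D (𝟙 i₀) f₀ g₀ k)
      (Limits.pullback.fst (Limits.pullback.snd g₀ (D.map (k.hom ≫ 𝟙 i₀)))
        (D.map (k'.hom ≫ 𝟙 k.left))),
    Limits.pullback.snd (Limits.pullback.snd g₀ (D.map (k.hom ≫ 𝟙 i₀)))
      (D.map (k'.hom ≫ 𝟙 k.left)),
    Limits.pullback.fst (Limits.pullback.snd g₀ (D.map (k.hom ≫ 𝟙 i₀)))
      (D.map (k'.hom ≫ 𝟙 k.left)) ≫ Limits.pullback.fst g₀ (D.map (k.hom ≫ 𝟙 i₀)),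
    Limits.pullback.fst (H24.pbRel D (𝟙 i₀) f₀ g₀ k)
      (Limits.pullback.fst (Limits.pullback.snd g₀ (D.map (k.hom ≫ 𝟙 i₀)))
        (D.map (k'.hom ≫ 𝟙 k.left))) ≫
      Limits.pullback.fst (f₀ ≫ g₀) (D.map (k.hom ≫ 𝟙 i₀)), ?_, ?_, ?_⟩
  · have h1 := (IsPullback.of_hasPullback (Limits.pullback.snd g₀ (D.map (k.hom ≫ 𝟙 i₀)))
      (D.map (k'.hom ≫ 𝟙 k.left))).paste_horiz
      (IsPullback.of_hasPullback g₀ (D.map (k.hom ≫ 𝟙 i₀)))
    have e : D.map (k'.hom ≫ 𝟙 k.left) ≫ D.map (k.hom ≫ 𝟙 i₀) = D.map (k'.hom ≫ k.hom) := by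
      rw [Category.comp_id, Category.comp_id, ← D.map_comp]
    rw [e] at h1
    exact h1
  · exact (IsPullback.of_hasPullback (H24.pbRel D (𝟙 i₀) f₀ g₀ k)
      (Limits.pullback.fst (Limits.pullback.snd g₀ (D.map (k.hom ≫ 𝟙 i₀)))
        (D.map (k'.hom ≫ 𝟙 k.left)))).paste_horiz (H24.isPullback_pbRel D (𝟙 i₀) f₀ g₀ k)
  · exact ⟨⟨MorphismProperty.pullback_snd (P := @IsFinite) _ _ hk1,
      MorphismProperty.pullback_snd (P := @Flat) _ _ hk2,
      MorphismProperty.pullback_snd (P := @LocallyOfFinitePresentation) _ _ hk3⟩, hk'⟩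

end Groth.Agent.S9197
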