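import Groth.Statements.S9201
import Mathlib
import Groth.Agent.H24.LimImm3

set_option autoImplicit false
universe u
open CategoryTheory AlgebraicGeometry
open Lim

namespace Groth.Agent.S9201

/-- Let S be a quasi-separated scheme and X = lim X_i a cofiltered limit of S-schemes X_i (a diagram
with a compatible family of structure maps to S) whose transition morphisms are closed immersions,
every X_i quasi-compact, quasi-separated and locally of finite type over S; the structure map X → S
is the composite X → X_{i₀} → S for any index i₀. If X → S is an immersion, then X_i → S is an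
immersion for all i beyond some index i₁. -/
theorem result {I : Type u} [SmallCategory I] [IsCofiltered I] (S : Scheme.{u}) [QuasiSeparatedSpace S]
    (D : I ⥤ Scheme.{u}) (t : D ⟶ (Functor.const I).obj S) (c : Limits.Cone D) (hc : Limits.IsLimit c)
    [∀ (i j : I) (a : i ⟶ j), IsClosedImmersion (D.map a)]
    [∀ i, CompactSpace (D.obj i)] [∀ i, QuasiSeparatedSpace (D.obj i)]
    [∀ i, LocallyOfFiniteType (t.app i)] (i₀ : I)
    [IsImmersion (c.π.app i₀ ≫ t.app i₀)] :
    ∃ i₁ : I, ∀ (i : I) (_ : i ⟶ i₁), IsImmersion (t.app i) := by
  have hCI : ∀ {i j : I} (f : i ⟶ j), IsClosedImmersion (D.map f) := fun f => inferInstance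
  have hcompat : ∀ {i j : I} (a : i ⟶ j), D.map a ≫ (t.app j : D.obj j ⟶ S) = t.app i := by
    intro i j a
    have h1 := t.naturality a
    simpa using h1
  exact @H24.eventually_isImmersion_of_closed_transitions I _ _ D c hc hCI S _ _ _
    (fun i => t.app i) hcompat (fun i => ‹∀ i, LocallyOfFiniteType (t.app i)› i) i₀
    ‹IsImmersion (c.π.app i₀ ≫ t.app i₀)›

end Groth.Agent.S9201
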