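import Groth.Statements.S9206
import Groth.Agent.H46.LimSections

set_option autoImplicit false
universe u
open CategoryTheory AlgebraicGeometry
open Lim

namespace Groth.Agent.S9206

open Groth.Agent.H46

/-- Let S = lim S_i be a cofiltered limit of schemes with affine transition morphisms and let s be a
point of S with images s_i in S_i. Then the residue field κ(s) is the colimit of the residue fields
κ(s_i): every element of κ(s) is the image of an element of κ(s_i) for some i under the map of
residue fields induced by S → S_i (the maps κ(s_i) → κ(s) being injective, this says that the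
canonical map from the colimit is an isomorphism). -/
theorem result {I : Type u} [SmallCategory I] [IsCofiltered I]
    (D : I ⥤ Scheme.{u}) (c : Limits.Cone D) (hc : Limits.IsLimit c)
    [∀ (i j : I) (f : i ⟶ j), IsAffineHom (D.map f)] (s : c.pt) (a : c.pt.residueField s) :
    ∃ (i : I) (b : (D.obj i).residueField ((c.π.app i).base s)), ((c.π.app i).residueFieldMap s).hom b = a := by
  obtain ⟨g, rfl⟩ := c.pt.residue_surjective s a
  obtain ⟨U, hsU, t, rfl⟩ := c.pt.presheaf.exists_germ_eq g
  obtain ⟨W, ⟨i, V, hV, rfl⟩, hsW, hWU⟩ :=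
    (TopologicalSpace.Opens.isBasis_iff_nbhd.1 (isBasis_preimage_isAffineOpen D c hc)) hsU
  obtain ⟨j, u, h, hu⟩ := exists_appLE_eq D c hc i V hV (c.pt.presheaf.map (homOfLE hWU).op t)
  refine ⟨j.left, (D.obj j.left).evaluation (D.map j.hom ⁻¹ᵁ V) _ (h hsW) u, ?_⟩
  have key := evaluation_appLE (c.π.app j.left) (D.map j.hom ⁻¹ᵁ V) (c.π.app i ⁻¹ᵁ V) h s hsW
    (h hsW) u
  rw [← hu] at key
  refine Eq.trans key.symm ?_
  unfold Scheme.evaluation
  simp only [CommRingCat.comp_apply]
  congr 1
  exact TopCat.Presheaf.germ_res_apply c.pt.presheaf (homOfLE hWU) s hsW t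

end Groth.Agent.S9206
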