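import Groth.Statements.S9207
import Groth.Agent.H46.LimBase

set_option autoImplicit false
universe u
open CategoryTheory CategoryTheory.Limits AlgebraicGeometry
open Lim

namespace Groth.Agent.S9207

open Groth.Agent.H46

set_option backward.isDefEq.respectTransparency false in
/-- Let S = lim S_i be a cofiltered limit of quasi-compact quasi-separated schemes with affine
transition morphisms, let i be an index and T → S_i a morphism of schemes with T quasi-compact. If
the fibre product T ×_{S_i} S is empty, then T ×_{S_i} S_{i'} is empty for some index i' over i (and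
then for every index over i'). -/
theorem result {I : Type u} [SmallCategory I] [IsCofiltered I]
    (D : I ⥤ Scheme.{u}) (c : Limits.Cone D) (hc : Limits.IsLimit c)
    [∀ (i j : I) (f : i ⟶ j), IsAffineHom (D.map f)] [∀ i, CompactSpace (D.obj i)]
    [∀ i, QuasiSeparatedSpace (D.obj i)] (i : I) {T : Scheme.{u}} (a : T ⟶ D.obj i) [CompactSpace T]
    (h : IsEmpty ↥(pullback a (c.π.app i))) :
    ∃ (i' : I) (φ : i' ⟶ i), IsEmpty ↥(pullback a (D.map φ)) := by
  by_contra hcon
  have hne : ∀ j : Over i, Nonempty ((bcDiagram D a).obj j) := by
    intro j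
    by_contra hj
    exact hcon ⟨j.left, j.hom, not_nonempty_iff.1 hj⟩
  have hX := IsPullback.of_hasPullback a (c.π.app i)
  have hlim := bcConeIsLimit c hc hX
  have := Scheme.nonempty_of_isLimit (bcDiagram D a) (bcCone c hX.w) hlim
  exact (not_nonempty_iff.2 h) this

end Groth.Agent.S9207
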