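import Groth.Statements.S9212
import Groth.Agent.H54.ValPoint

set_option autoImplicit false
universe u
open CategoryTheory CategoryTheory.Limits AlgebraicGeometry
open Lim

namespace Groth.Agent.S9212

/-- Let S be a locally Noetherian scheme and f : X → S a morphism of finite type. Then f is proper if
and only if: for every generic point η of an irreducible component of X, every discrete valuation
ring A contained in the residue field κ(η) with fraction field κ(η) (a valuation subring of κ(η)
which is a discrete valuation ring), and every morphism Spec A → S whose restriction to Spec κ(η) is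
the canonical morphism Spec κ(η) → X followed by f, there is exactly one morphism Spec A → X over S
restricting to the canonical morphism on Spec κ(η). -/
theorem result {X S : Scheme.{u}} [IsLocallyNoetherian S] (f : X ⟶ S)
    [LocallyOfFiniteType f] [QuasiCompact f] :
    IsProper f ↔ ∀ (η : X), closure {η} ∈ irreducibleComponents (X : Type u) →
      ∀ (A : ValuationSubring (X.residueField η)), IsDiscreteValuationRing A →
        ∀ y : Spec (CommRingCat.of A) ⟶ S,
          Spec.map (CommRingCat.ofHom A.subtype) ≫ y = X.fromSpecResidueField η ≫ f →
          ∃! l : Spec (CommRingCat.of A) ⟶ X,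
            l ≫ f = y ∧ Spec.map (CommRingCat.ofHom A.subtype) ≫ l = X.fromSpecResidueField η := by
  constructor
  · intro hp η hη A hA y hy
    haveI := hp
    have hex : ValuativeCriterion.Existence f := by
      have h1 : UniversallyClosed f := inferInstance
      rw [UniversallyClosed.eq_valuativeCriterion] at h1
      exact h1.1
    have w : X.fromSpecResidueField η ≫ f =
        Spec.map (CommRingCat.ofHom (algebraMap A (X.residueField η))) ≫ y := hy.symm
    obtain ⟨⟨l⟩⟩ := hex (⟨A, X.residueField η, X.fromSpecResidueField η, y, ⟨w⟩⟩ :
      ValuativeCommSq f)
    refine ⟨l.l, ⟨l.fac_right, l.fac_left⟩, ?_⟩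
    rintro m ⟨hm1, hm2⟩
    exact Groth.Agent.H54.DVRSep.lift_unique_of_isSeparated f A m l.l
      (hm1.trans l.fac_right.symm) (hm2.trans l.fac_left.symm)
  · intro Hg
    exact Groth.Agent.H54.isProper_of_generic f Hg
end Groth.Agent.S9212
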