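import Groth.Statements.S9226
import Groth.Agent.H23.RegularSeq3
import Mathlib.LinearAlgebra.Matrix.NonsingularInverse
import Mathlib.RingTheory.Derivation.Basic
import Mathlib.Tactic

set_option autoImplicit false
universe u
open CAlg

namespace Groth.Agent.S9226

section Aux
open IsLocalRing

variable {R : Type u} [CommRing R] [IsLocalRing R]

theorem deriv_sq_mem (D : Derivation ℤ R R) (y : R) (hy : y ∈ maximalIdeal R ^ 2) :
    D y ∈ maximalIdeal R := by
  rw [pow_two, ← Ideal.smul_eq_mul] at hy
  refine Submodule.smul_induction_on hy ?_ ?_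
  · intro a ha b hb
    rw [smul_eq_mul, Derivation.leibniz, smul_eq_mul, smul_eq_mul]
    exact add_mem (Ideal.mul_mem_right _ _ ha) (Ideal.mul_mem_right _ _ hb)
  · intro x y hx hy
    rw [map_add]; exact add_mem hx hy

theorem linearIndependent_of_det (m : ℕ) (f : Fin m → R) (hf : ∀ i, f i ∈ maximalIdeal R)
    (D : Fin m → Derivation ℤ R R)
    (hdet : IsUnit (Matrix.det (Matrix.of (fun i j : Fin m => D i (f j))))) :
    LinearIndependent (ResidueField R)
      (fun i => (maximalIdeal R).toCotangent (⟨f i, hf i⟩ : maximalIdeal R)) := by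
  classical
  rw [Fintype.linearIndependent_iff]
  intro g hg
  have hc : ∀ i, ∃ c : R, residue R c = g i := fun i => residue_surjective (g i)
  choose c hcg using hc
  have h0 : ∑ j, (maximalIdeal R).toCotangent (c j • (⟨f j, hf j⟩ : maximalIdeal R)) =
      ∑ j, g j • (maximalIdeal R).toCotangent (⟨f j, hf j⟩ : maximalIdeal R) := by
    refine Finset.sum_congr rfl (fun j _ => ?_)
    rw [map_smul, ← hcg j, ← ResidueField.algebraMap_eq, algebraMap_smul]
  have h1 : (maximalIdeal R).toCotangent (∑ j, c j • (⟨f j, hf j⟩ : maximalIdeal R)) = 0 := by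
    rw [map_sum, h0, hg]
  rw [Ideal.toCotangent_eq_zero] at h1
  have h2 : ∑ j, c j * f j ∈ maximalIdeal R ^ 2 := by
    convert h1 using 1
    simp
  have h3 : ∀ i, (Matrix.of (fun i j : Fin m => D i (f j))).mulVec c i ∈ maximalIdeal R := by
    intro i
    have h4 := deriv_sq_mem (D i) _ h2
    rw [map_sum] at h4
    have h5 : ∑ j, D i (c j * f j) =
        (Matrix.of (fun i j : Fin m => D i (f j))).mulVec c i + ∑ j, f j * D i (c j) := by
      show _ = ∑ j, (Matrix.of (fun i j : Fin m => D i (f j))) i j * c j + _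
      rw [← Finset.sum_add_distrib]
      refine Finset.sum_congr rfl (fun j _ => ?_)
      rw [Derivation.leibniz, smul_eq_mul, smul_eq_mul, Matrix.of_apply]; ring
    rw [h5] at h4
    have h6 : ∑ j, f j * D i (c j) ∈ maximalIdeal R :=
      Ideal.sum_mem _ (fun j _ => Ideal.mul_mem_right _ _ (hf j))
    exact (Ideal.add_mem_iff_left _ h6).mp h4
  have h7 : c = (Matrix.of (fun i j : Fin m => D i (f j)))⁻¹.mulVec
      ((Matrix.of (fun i j : Fin m => D i (f j))).mulVec c) := by
    rw [Matrix.mulVec_mulVec, Matrix.nonsing_inv_mul _ hdet, Matrix.one_mulVec]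
  intro j
  rw [← hcg j, residue_eq_zero_iff, h7]
  show ∑ i, (Matrix.of (fun i j : Fin m => D i (f j)))⁻¹ j i *
    (Matrix.of (fun i j : Fin m => D i (f j))).mulVec c i ∈ _
  exact Ideal.sum_mem _ (fun i _ => Ideal.mul_mem_left _ _ (h3 i))

end Aux

/-- Let R be a regular local ring, m ≥ 1, f_1, ..., f_m elements of the maximal ideal, and D_1, ..., D_m
derivations of R such that the determinant of the matrix (D_i(f_j)) is a unit of R. Then R/(f_1,
..., f_m) is a regular local ring and f_1, ..., f_m is a regular sequence on R. -/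
theorem result (R : Type u) [CommRing R]
    [IsRegularLocalRing R] (m : ℕ) (hm : 1 ≤ m) (f : Fin m → R)
    (hf : ∀ i, f i ∈ IsLocalRing.maximalIdeal R) (D : Fin m → Derivation ℤ R R)
    (hdet : IsUnit (Matrix.det (Matrix.of (fun i j : Fin m => D i (f j))))) :
    IsRegularLocalRing (R ⧸ Ideal.span (Set.range f)) ∧
      RingTheory.Sequence.IsRegular R (List.ofFn f) := by
  classical
  let x : Fin m → IsLocalRing.maximalIdeal R := fun i => ⟨f i, hf i⟩
  have hli := linearIndependent_of_det m f hf D hdet
  have hreg := ((Groth.Agent.H23.regular_iff_quotient R m x).mp ⟨inferInstance, hli⟩).2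
  refine ⟨hreg, ?_⟩
  obtain ⟨k, y, hk, hmax⟩ := Groth.Agent.H23.exists_extension x hli
  have hreg' : ((IsLocalRing.maximalIdeal R).spanFinrank : WithBot ℕ∞) = ringKrullDim R :=
    IsRegularLocalRing.spanFinrank_maximalIdeal
  have hfr : Module.finrank (IsLocalRing.ResidueField R) (IsLocalRing.CotangentSpace R) =
      (IsLocalRing.maximalIdeal R).spanFinrank :=
    (IsLocalRing.spanFinrank_maximalIdeal_eq_finrank_cotangentSpace R).symm
  have hdimR : ringKrullDim R = ((m + k : ℕ) : WithBot ℕ∞) := by rw [hk, hfr, hreg']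
  have hz : Ideal.span (Set.range (Fin.append f (fun j => (y j : R)))) =
      IsLocalRing.maximalIdeal R := by
    rw [Groth.Agent.H23.range_append]; exact hmax.symm
  have hR := Groth.Agent.H23.isRegular_generators R (m + k) hdimR
    (Fin.append f (fun j => (y j : R))) hz
  rw [List.ofFn_fin_append] at hR
  refine ⟨((RingTheory.Sequence.isWeaklyRegular_append_iff R _ _).mp
    hR.toIsWeaklyRegular).1, ?_⟩
  have h0 : {r | r ∈ List.ofFn f} = Set.range f := by ext z; exact List.mem_ofFn
  have h1 : Ideal.ofList (List.ofFn f) = Ideal.span (Set.range f) := by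
    show Ideal.span {r | r ∈ List.ofFn f} = _
    rw [h0]
  rw [h1, Ideal.smul_eq_mul, Ideal.mul_top]
  intro htop
  have hle : Ideal.span (Set.range f) ≤ IsLocalRing.maximalIdeal R := by
    rw [Ideal.span_le]; rintro _ ⟨i, rfl⟩; exact hf i
  exact (IsLocalRing.maximalIdeal.isMaximal R).ne_top (top_le_iff.mp (by rw [htop]; exact hle))

end Groth.Agent.S9226
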