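import Groth.Statements.S9231
import Groth.Agent.Lead.CompleteNoetherian
import Groth.Agent.H2.LocalCriterionMain
import Mathlib.RingTheory.AdicCompletion.AsTensorProduct
import Mathlib.RingTheory.RingHom.Flat
import Mathlib.RingTheory.Ideal.Quotient.Noetherian

set_option autoImplicit false
universe u
open CAlg

namespace Groth.Agent.S9231

/-- For a local ring map A → B between Noetherian local rings, let ψ be the induced map from the
completion of A at its maximal ideal to that of B (here: a ring map of the completions whose
composite with A → A^ is the composite A → B → B^; since A is Noetherian such a map is unique, hence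
is the canonical one). Then ψ is flat exactly when A → B is flat. -/
theorem result (A B : Type u) [CommRing A] [CommRing B] [IsLocalRing A]
    [IsLocalRing B] [IsNoetherianRing A] [IsNoetherianRing B] [Algebra A B]
    [IsLocalHom (algebraMap A B)]
    (ψ : AdicCompletion (IsLocalRing.maximalIdeal A) A →+* AdicCompletion (IsLocalRing.maximalIdeal B) B)
    (hψ : ψ.comp (algebraMap A (AdicCompletion (IsLocalRing.maximalIdeal A) A)) =
      (algebraMap B (AdicCompletion (IsLocalRing.maximalIdeal B) B)).comp (algebraMap A B)) :
    ψ.Flat ↔ (algebraMap A B).Flat := by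
  let Ah := AdicCompletion (IsLocalRing.maximalIdeal A) A
  let Bh := AdicCompletion (IsLocalRing.maximalIdeal B) B
  have : IsNoetherianRing Ah :=
    Groth.Agent.Lead.isNoetherianRing_adicCompletion _
      (IsLocalRing.maximalIdeal A).fg_of_isNoetherianRing
  have : IsNoetherianRing Bh :=
    Groth.Agent.Lead.isNoetherianRing_adicCompletion _
      (IsLocalRing.maximalIdeal B).fg_of_isNoetherianRing
  let _ : Algebra Ah Bh := ψ.toAlgebra
  have htower : IsScalarTower A Ah Bh := by
    refine IsScalarTower.of_algebraMap_eq fun a => ?_
    show algebraMap A Bh a = ψ (algebraMap A Ah a)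
    rw [IsScalarTower.algebraMap_apply A B Bh]
    exact (RingHom.congr_fun hψ a).symm
  have hlocal : IsLocalHom (algebraMap Ah Bh) := by
    apply ((IsLocalRing.local_hom_TFAE (algebraMap Ah Bh)).out 0 2).mpr
    rw [AdicCompletion.maximalIdeal_eq_map (R := A), Ideal.map_map,
      ← IsScalarTower.algebraMap_eq A Ah Bh, IsScalarTower.algebraMap_eq A B Bh, ← Ideal.map_map]
    have h1 : (IsLocalRing.maximalIdeal A).map (algebraMap A B) ≤ IsLocalRing.maximalIdeal B :=
      ((IsLocalRing.local_hom_TFAE (algebraMap A B)).out 0 2).mp ‹IsLocalHom (algebraMap A B)›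
    exact (Ideal.map_mono h1).trans
      (((IsLocalRing.local_hom_TFAE (algebraMap B Bh)).out 0 2).mp
        (inferInstance : IsLocalHom (algebraMap B Bh)))
  constructor
  · intro hflat
    have hflat' : Module.Flat Ah Bh := hflat
    have : Module.Flat A Bh := Module.Flat.trans A Ah Bh
    have : Module.FaithfullyFlat B Bh :=
      Groth.Agent.H2.faithfullyFlat_of_finite_of_isLocalHom (S := B) (S' := Bh) (M := Bh)
    rw [RingHom.flat_algebraMap_iff]
    exact Groth.Agent.H2.flat_of_faithfullyFlat_module (R := A) (S := B) (M := Bh)
  · intro hflat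
    rw [RingHom.flat_algebraMap_iff] at hflat
    have : Module.Flat A Bh := Module.Flat.trans A B Bh
    have h1 := Groth.Agent.H2.rTensor_subtype_map_injective (R := A) (S := Ah) (M := Bh)
      (IsLocalRing.maximalIdeal A)
    rw [← AdicCompletion.maximalIdeal_eq_map] at h1
    show Module.Flat Ah Bh
    let _ : Field (Ah ⧸ IsLocalRing.maximalIdeal Ah) := Ideal.Quotient.field _
    have : Module.Flat (Ah ⧸ IsLocalRing.maximalIdeal Ah)
        (TensorProduct Ah (Ah ⧸ IsLocalRing.maximalIdeal Ah) Bh) := inferInstance
    exact Groth.Agent.H2.flat_of_local_criterion (R := Ah) (S := Bh) (M := Bh)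
      (IsLocalRing.maximalIdeal Ah) (Ideal.IsMaximal.ne_top inferInstance) h1

end Groth.Agent.S9231
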