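import Groth.Statements.S9232
-- import your own Groth.Agent.* helpers here
import Groth.Agent.H48.ComplUnram

set_option autoImplicit false
universe u
open CAlg

namespace Groth.Agent.S9232

open IsLocalRing

/-- Suppose A → B is a flat local ring map between Noetherian local rings, the maximal ideal of A
generates that of B, and the residue field map is bijective. Then the induced map between the
completions of A and B (a ring map of the completions compatible with A → B; it is unique since A is
Noetherian) is an isomorphism. -/
theorem result (A B : Type u) [CommRing A]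
    [CommRing B] [IsLocalRing A] [IsLocalRing B] [IsNoetherianRing A] [IsNoetherianRing B]
    [Algebra A B] [IsLocalHom (algebraMap A B)] [Module.Flat A B]
    (hm : Ideal.map (algebraMap A B) (IsLocalRing.maximalIdeal A) = IsLocalRing.maximalIdeal B)
    (hk : Function.Bijective (IsLocalRing.ResidueField.map (algebraMap A B)))
    (ψ : AdicCompletion (IsLocalRing.maximalIdeal A) A →+* AdicCompletion (IsLocalRing.maximalIdeal B) B)
    (hψ : ψ.comp (algebraMap A (AdicCompletion (IsLocalRing.maximalIdeal A) A)) =
      (algebraMap B (AdicCompletion (IsLocalRing.maximalIdeal B) B)).comp (algebraMap A B)) :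
    Function.Bijective ψ := by
  haveI hloc : IsLocalHom ψ := H48.isLocalHom_completion A B ψ hψ
  letI : Algebra (AdicCompletion (maximalIdeal A) A) (AdicCompletion (maximalIdeal B) B) :=
    ψ.toAlgebra
  haveI : IsLocalHom (algebraMap (AdicCompletion (maximalIdeal A) A)
      (AdicCompletion (maximalIdeal B) B)) := hloc
  have hmh := (H48.map_maximalIdeal_iff A B hψ).mp hm
  have hmem : ∀ y : AdicCompletion (maximalIdeal B) B,
      y ∈ (maximalIdeal (AdicCompletion (maximalIdeal A) A) • ⊤ :
        Submodule (AdicCompletion (maximalIdeal A) A) (AdicCompletion (maximalIdeal B) B)) ↔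
      residue (AdicCompletion (maximalIdeal B) B) y = 0 := by
    intro y
    rw [Ideal.smul_top_eq_map, hmh, Submodule.restrictScalars_mem, residue_eq_zero_iff]
  have hsurjκ : Function.Surjective
      (algebraMap (ResidueField (AdicCompletion (maximalIdeal A) A))
        (ResidueField (AdicCompletion (maximalIdeal B) B))) := by
    have hcompat := H48.residue_compat A B hψ
    have hAB : algebraMap (ResidueField A) (ResidueField B) =
        ResidueField.map (algebraMap A B) := by
      ext x
      obtain ⟨x, rfl⟩ := residue_surjective x
      rfl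
    intro z
    obtain ⟨z1, rfl⟩ := (AdicCompletion.residueField_map_bijective B).2 z
    obtain ⟨z2, rfl⟩ := hk.2 z1
    refine ⟨ResidueField.map (algebraMap A (AdicCompletion (maximalIdeal A) A)) z2, ?_⟩
    have := RingHom.congr_fun hcompat z2
    rw [hAB] at this
    exact this
  let d : Fin 1 → AdicCompletion (maximalIdeal B) B := fun _ => 1
  have hlc : ∀ c : Fin 1 → AdicCompletion (maximalIdeal A) A,
      Fintype.linearCombination (AdicCompletion (maximalIdeal A) A) d c = ψ (c 0) := by
    intro c
    rw [Fintype.linearCombination_apply, Fin.sum_univ_one, Algebra.smul_def, mul_one]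
    rfl
  have hs : Function.Surjective
      ((maximalIdeal (AdicCompletion (maximalIdeal A) A) • ⊤ :
        Submodule (AdicCompletion (maximalIdeal A) A) (AdicCompletion (maximalIdeal B) B)).mkQ ∘ₗ
        Fintype.linearCombination (AdicCompletion (maximalIdeal A) A) d) := by
    intro y
    obtain ⟨x, rfl⟩ := Submodule.mkQ_surjective _ y
    obtain ⟨a, ha⟩ := hsurjκ (residue _ x)
    obtain ⟨a, rfl⟩ := residue_surjective a
    refine ⟨fun _ => a, ?_⟩
    rw [LinearMap.comp_apply, Submodule.mkQ_apply, Submodule.mkQ_apply, Submodule.Quotient.eq,
      hmem, map_sub, hlc, sub_eq_zero]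
    exact ha
  have hli : ∀ c : Fin 1 → AdicCompletion (maximalIdeal A) A,
      Fintype.linearCombination (AdicCompletion (maximalIdeal A) A) d c ∈
        (maximalIdeal (AdicCompletion (maximalIdeal A) A) • ⊤ :
          Submodule (AdicCompletion (maximalIdeal A) A) (AdicCompletion (maximalIdeal B) B)) →
      ∀ i, c i ∈ maximalIdeal (AdicCompletion (maximalIdeal A) A) := by
    intro c hc i
    rw [hmem, hlc, residue_eq_zero_iff] at hc
    have hi : i = 0 := Subsingleton.elim _ _
    subst hi
    by_contra hcon
    have hu : IsUnit (c 0) := by
      rwa [IsLocalRing.mem_maximalIdeal, mem_nonunits_iff, not_not] at hcon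
    exact (IsLocalRing.mem_maximalIdeal _).mp hc (hu.map ψ)
  have hsurj := H48.surjective_linearCombination_of_complete hmh d hs
  haveI : IsScalarTower A B (AdicCompletion (maximalIdeal B) B) :=
    IsScalarTower.of_algebraMap_eq fun x => rfl
  haveI : IsScalarTower A (AdicCompletion (maximalIdeal A) A) (AdicCompletion (maximalIdeal B) B) :=
    H48.isScalarTower_completion A B hψ
  haveI : Module.Flat A (AdicCompletion (maximalIdeal B) B) :=
    Module.Flat.trans A B (AdicCompletion (maximalIdeal B) B)
  have hker := H48.ker_eq_bot_of_flat_base (A := A) (R := AdicCompletion (maximalIdeal A) A)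
    (M := AdicCompletion (maximalIdeal B) B) (maximalIdeal A)
    (AdicCompletion.maximalIdeal_eq_map (R := A)).symm
    (Fintype.linearCombination (AdicCompletion (maximalIdeal A) A) d) hsurj hli
  have hinj := LinearMap.ker_eq_bot.mp hker
  constructor
  · intro a b hab
    have := hinj (a₁ := fun _ => a) (a₂ := fun _ => b) (by rw [hlc, hlc]; exact hab)
    exact congr_fun this 0
  · intro y
    obtain ⟨c, hc⟩ := hsurj y
    exact ⟨c 0, by rw [← hlc]; exact hc⟩

end Groth.Agent.S9232
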