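import Groth.Statements.S9239
import Groth.Agent.H47.HensCompletion
import Groth.Agent.S9237
import Groth.Agent.S9238
import Groth.Agent.H47.HensTransport

set_option autoImplicit false
universe u
open Brnch

namespace Groth.Agent.S9239

/-- For a Noetherian local ring A with completion A^ at its maximal ideal, A^ has at least as many
branches as A, and at least as many geometric branches as A. -/
theorem result (A : Type u) [CommRing A] [IsLocalRing A] [IsNoetherianRing A] :
    Brnch.numBranches A ≤ Brnch.numBranches (AdicCompletion (IsLocalRing.maximalIdeal A) A) ∧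
      Brnch.numGeomBranches A ≤
        Brnch.numGeomBranches (AdicCompletion (IsLocalRing.maximalIdeal A) A) := by
  classical
  haveI hlocC : IsLocalHom (algebraMap A (AdicCompletion (IsLocalRing.maximalIdeal A) A)) := by
    refine ((IsLocalRing.local_hom_TFAE
      (algebraMap A (AdicCompletion (IsLocalRing.maximalIdeal A) A))).out 0 2).mpr ?_
    rw [AdicCompletion.maximalIdeal_eq_map]
  haveI : HenselianLocalRing (AdicCompletion (IsLocalRing.maximalIdeal A) A) :=
    Groth.Agent.H3.henselianLocalRing_of_henselianRing_maximalIdeal _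
  constructor
  · obtain ⟨ψ, hψ, -⟩ := Hensel.IsHenselization.universal (R := A)
      (S := Groth.Agent.H47.Hens.Hloc A) (AdicCompletion (IsLocalRing.maximalIdeal A) A)
      (algebraMap A (AdicCompletion (IsLocalRing.maximalIdeal A) A)) hlocC
    letI : Algebra (Groth.Agent.H47.Hens.Hloc A)
      (AdicCompletion (IsLocalRing.maximalIdeal A) A) := ψ.toAlgebra
    haveI : IsScalarTower A (Groth.Agent.H47.Hens.Hloc A)
        (AdicCompletion (IsLocalRing.maximalIdeal A) A) :=
      IsScalarTower.of_algebraMap_eq (fun a => (RingHom.congr_fun hψ a).symm)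
    haveI := Groth.Agent.H47.HensCompletion.flat_completion A (Groth.Agent.H47.Hens.Hloc A)
    haveI := Groth.Agent.H47.HensCompletion.faithfullyFlat_completion A
      (Groth.Agent.H47.Hens.Hloc A)
    haveI := Groth.Agent.H47.HensTensor.isLocalHom_algebraMap_self
      (AdicCompletion (IsLocalRing.maximalIdeal A) A)
    haveI := Groth.Agent.H47.HensTensor.isHenselization_self
      (AdicCompletion (IsLocalRing.maximalIdeal A) A)
    rw [← Groth.Agent.S9237.result A (Groth.Agent.H47.Hens.Hloc A),
      ← Groth.Agent.S9237.result (AdicCompletion (IsLocalRing.maximalIdeal A) A)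
        (AdicCompletion (IsLocalRing.maximalIdeal A) A)]
    exact Groth.Agent.H47.HensCompletion.card_minimalPrimes_le
  · obtain ⟨σ, hσ⟩ := Groth.Agent.H47.HensTransport.exists_sigma A
      (AdicCompletion (IsLocalRing.maximalIdeal A) A) (Groth.Agent.H47.HensK.Hsh A)
      (Groth.Agent.H47.HensK.Hsh (AdicCompletion (IsLocalRing.maximalIdeal A) A))
    letI : Algebra A (Groth.Agent.H47.HensK.Hsh (AdicCompletion (IsLocalRing.maximalIdeal A) A)) :=
      ((algebraMap (AdicCompletion (IsLocalRing.maximalIdeal A) A)
        (Groth.Agent.H47.HensK.Hsh (AdicCompletion (IsLocalRing.maximalIdeal A) A))).comp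
        (algebraMap A (AdicCompletion (IsLocalRing.maximalIdeal A) A))).toAlgebra
    haveI : IsScalarTower A (AdicCompletion (IsLocalRing.maximalIdeal A) A)
        (Groth.Agent.H47.HensK.Hsh (AdicCompletion (IsLocalRing.maximalIdeal A) A)) :=
      IsScalarTower.of_algebraMap_eq (fun _ => rfl)
    letI : Algebra (Groth.Agent.H47.HensK.Hsh A)
      (Groth.Agent.H47.HensK.Hsh (AdicCompletion (IsLocalRing.maximalIdeal A) A)) := σ.toAlgebra
    haveI : IsScalarTower A (Groth.Agent.H47.HensK.Hsh A)
        (Groth.Agent.H47.HensK.Hsh (AdicCompletion (IsLocalRing.maximalIdeal A) A)) :=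
      IsScalarTower.of_algebraMap_eq (fun a => (RingHom.congr_fun hσ a).symm)
    haveI : Module.Flat (AdicCompletion (IsLocalRing.maximalIdeal A) A)
        (Groth.Agent.H47.HensK.Hsh (AdicCompletion (IsLocalRing.maximalIdeal A) A)) :=
      (Groth.Agent.H47.HensNoeth.isIndEtaleLocal_of_isStrictHenselization
        (AdicCompletion (IsLocalRing.maximalIdeal A) A) _).flat
    haveI : Module.Flat A
        (Groth.Agent.H47.HensK.Hsh (AdicCompletion (IsLocalRing.maximalIdeal A) A)) :=
      Module.Flat.trans A (AdicCompletion (IsLocalRing.maximalIdeal A) A) _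
    haveI : Module.Flat (Groth.Agent.H47.HensK.Hsh A)
        (Groth.Agent.H47.HensK.Hsh (AdicCompletion (IsLocalRing.maximalIdeal A) A)) :=
      Groth.Agent.H47.HensCompletion.flat_of_rep
        (Groth.Agent.H47.HensNoeth.isIndEtaleLocal_of_isStrictHenselization A
          (Groth.Agent.H47.HensK.Hsh A)).rep _
    haveI : IsLocalHom (algebraMap A
        (Groth.Agent.H47.HensK.Hsh (AdicCompletion (IsLocalRing.maximalIdeal A) A))) := by
      show IsLocalHom ((algebraMap (AdicCompletion (IsLocalRing.maximalIdeal A) A)
        (Groth.Agent.H47.HensK.Hsh (AdicCompletion (IsLocalRing.maximalIdeal A) A))).comp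
        (algebraMap A (AdicCompletion (IsLocalRing.maximalIdeal A) A)))
      infer_instance
    haveI : IsLocalHom (algebraMap (Groth.Agent.H47.HensK.Hsh A)
        (Groth.Agent.H47.HensK.Hsh (AdicCompletion (IsLocalRing.maximalIdeal A) A))) := by
      refine ((IsLocalRing.local_hom_TFAE (algebraMap (Groth.Agent.H47.HensK.Hsh A)
        (Groth.Agent.H47.HensK.Hsh (AdicCompletion (IsLocalRing.maximalIdeal A) A)))).out 0 2).mpr ?_
      rw [← (Groth.Agent.H47.HensNoeth.isIndEtaleLocal_of_isStrictHenselization A
        (Groth.Agent.H47.HensK.Hsh A)).map_max, Ideal.map_map, ← IsScalarTower.algebraMap_eq]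
      have h02 : (IsLocalRing.maximalIdeal A).map (algebraMap A
          (Groth.Agent.H47.HensK.Hsh (AdicCompletion (IsLocalRing.maximalIdeal A) A))) ≤
          IsLocalRing.maximalIdeal
            (Groth.Agent.H47.HensK.Hsh (AdicCompletion (IsLocalRing.maximalIdeal A) A)) :=
        ((IsLocalRing.local_hom_TFAE (algebraMap A
          (Groth.Agent.H47.HensK.Hsh (AdicCompletion (IsLocalRing.maximalIdeal A) A)))).out 0 2).mp
          ‹_›
      exact h02
    haveI : Module.FaithfullyFlat (Groth.Agent.H47.HensK.Hsh A)
        (Groth.Agent.H47.HensK.Hsh (AdicCompletion (IsLocalRing.maximalIdeal A) A)) :=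
      Module.FaithfullyFlat.of_flat_of_isLocalHom
    rw [← Groth.Agent.S9238.result A (Groth.Agent.H47.HensK.Hsh A),
      ← Groth.Agent.S9238.result (AdicCompletion (IsLocalRing.maximalIdeal A) A)
        (Groth.Agent.H47.HensK.Hsh (AdicCompletion (IsLocalRing.maximalIdeal A) A))]
    exact Groth.Agent.H47.HensCompletion.card_minimalPrimes_le

end Groth.Agent.S9239
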