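import Groth.Statements.S9240
import Groth.Agent.H47.HensCompletion

set_option autoImplicit false
universe u
open Brnch

namespace Groth.Agent.S9240

/-- Let A be a Noetherian local ring, S its henselization and A^ its completion, and let ψ : S → A^ be
the ring map compatible with the structure maps from A (it is unique, A^ being henselian). Then
contraction along ψ sends every minimal prime of A^ to a minimal prime of S, and every minimal prime
of S arises this way: contraction maps the minimal primes of A^ onto the minimal primes of S. -/
theorem result (A S : Type u) [CommRing A] [IsLocalRing A]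
    [IsNoetherianRing A] [CommRing S] [IsLocalRing S] [Algebra A S] [IsLocalHom (algebraMap A S)]
    [Hensel.IsHenselization A S] (ψ : S →+* AdicCompletion (IsLocalRing.maximalIdeal A) A)
    (hψ : ψ.comp (algebraMap A S) = algebraMap A (AdicCompletion (IsLocalRing.maximalIdeal A) A)) :
    Set.MapsTo (Ideal.comap ψ) (minimalPrimes (AdicCompletion (IsLocalRing.maximalIdeal A) A))
        (minimalPrimes S) ∧
      Set.SurjOn (Ideal.comap ψ) (minimalPrimes (AdicCompletion (IsLocalRing.maximalIdeal A) A))
        (minimalPrimes S) := by
  letI : Algebra S (AdicCompletion (IsLocalRing.maximalIdeal A) A) := ψ.toAlgebra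
  haveI : IsScalarTower A S (AdicCompletion (IsLocalRing.maximalIdeal A) A) :=
    IsScalarTower.of_algebraMap_eq (fun a => (RingHom.congr_fun hψ a).symm)
  haveI := Groth.Agent.H47.HensCompletion.flat_completion A S
  haveI := Groth.Agent.H47.HensCompletion.faithfullyFlat_completion A S
  refine ⟨fun P hP => ?_, fun q hq => ?_⟩
  · exact Groth.Agent.H47.HensCompletion.comap_mem_minimalPrimes (S := S) hP
  · obtain ⟨P, hP, hPq⟩ := Groth.Agent.H47.HensCompletion.exists_minimalPrimes_comap_eq
      (T := AdicCompletion (IsLocalRing.maximalIdeal A) A) hq
    exact ⟨P, hP, hPq⟩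

end Groth.Agent.S9240
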