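import Groth.Statements.S9243
import Groth.Agent.H47.HensCompletion
import Groth.Agent.S9237

set_option autoImplicit false
universe u
open Brnch

namespace Groth.Agent.S9243

/-- Let A be a Noetherian local ring with henselization S and completion A^, and ψ : S → A^ the ring map
compatible with the structure maps from A. Then A and A^ have the same number of branches if and
only if, for every minimal prime q of S, the radical of the extension of q along ψ is a prime ideal
of A^. -/
theorem result (A S : Type u) [CommRing A] [IsLocalRing A]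
    [IsNoetherianRing A] [CommRing S] [IsLocalRing S] [Algebra A S] [IsLocalHom (algebraMap A S)]
    [Hensel.IsHenselization A S] (ψ : S →+* AdicCompletion (IsLocalRing.maximalIdeal A) A)
    (hψ : ψ.comp (algebraMap A S) = algebraMap A (AdicCompletion (IsLocalRing.maximalIdeal A) A)) :
    Brnch.numBranches A = Brnch.numBranches (AdicCompletion (IsLocalRing.maximalIdeal A) A) ↔
      ∀ q ∈ minimalPrimes S, (Ideal.map ψ q).radical.IsPrime := by
  classical
  letI : Algebra S (AdicCompletion (IsLocalRing.maximalIdeal A) A) := ψ.toAlgebra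
  haveI : IsScalarTower A S (AdicCompletion (IsLocalRing.maximalIdeal A) A) :=
    IsScalarTower.of_algebraMap_eq (fun a => (RingHom.congr_fun hψ a).symm)
  haveI := Groth.Agent.H47.HensCompletion.flat_completion A S
  haveI := Groth.Agent.H47.HensCompletion.faithfullyFlat_completion A S
  have hind := Groth.Agent.H47.HensNoeth.isIndEtaleLocal_of_isHenselization A S
  haveI : IsNoetherianRing S := hind.isNoetherianRing
  have h1 : Brnch.numBranches A = ENat.card (minimalPrimes S) :=
    (Groth.Agent.S9237.result A S).symm
  haveI : HenselianLocalRing (AdicCompletion (IsLocalRing.maximalIdeal A) A) :=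
    Groth.Agent.H3.henselianLocalRing_of_henselianRing_maximalIdeal _
  haveI := Groth.Agent.H47.HensTensor.isLocalHom_algebraMap_self
    (AdicCompletion (IsLocalRing.maximalIdeal A) A)
  haveI := Groth.Agent.H47.HensTensor.isHenselization_self
    (AdicCompletion (IsLocalRing.maximalIdeal A) A)
  have h2 : Brnch.numBranches (AdicCompletion (IsLocalRing.maximalIdeal A) A) =
      ENat.card (minimalPrimes (AdicCompletion (IsLocalRing.maximalIdeal A) A)) :=
    (Groth.Agent.S9237.result (AdicCompletion (IsLocalRing.maximalIdeal A) A)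
      (AdicCompletion (IsLocalRing.maximalIdeal A) A)).symm
  rw [h1, h2]
  have hfinS : (minimalPrimes S).Finite := minimalPrimes.finite_of_isNoetherianRing S
  let F : minimalPrimes (AdicCompletion (IsLocalRing.maximalIdeal A) A) → minimalPrimes S :=
    fun P => ⟨P.1.comap ψ, Groth.Agent.H47.HensCompletion.comap_mem_minimalPrimes (S := S) P.2⟩
  have hFsurj : Function.Surjective F := by
    rintro ⟨q, hq⟩
    obtain ⟨P, hP, hPq⟩ := Groth.Agent.H47.HensCompletion.exists_minimalPrimes_comap_eq
      (T := AdicCompletion (IsLocalRing.maximalIdeal A) A) hq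
    exact ⟨⟨P, hP⟩, Subtype.ext hPq⟩
  have hiff : ENat.card (minimalPrimes S) =
      ENat.card (minimalPrimes (AdicCompletion (IsLocalRing.maximalIdeal A) A)) ↔
      Function.Injective F := by
    constructor
    · intro hcard
      haveI : Finite (minimalPrimes S) := hfinS.to_subtype
      haveI : Finite (minimalPrimes (AdicCompletion (IsLocalRing.maximalIdeal A) A)) := by
        rw [← ENat.card_lt_top, ← hcard]
        exact ENat.card_lt_top.mpr inferInstance
      have hnat : Nat.card (minimalPrimes (AdicCompletion (IsLocalRing.maximalIdeal A) A)) =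
          Nat.card (minimalPrimes S) := by
        rw [ENat.card_eq_coe_natCard, ENat.card_eq_coe_natCard] at hcard
        exact_mod_cast hcard.symm
      obtain ⟨e⟩ := Finite.card_eq.mp hnat
      exact (Finite.injective_iff_surjective_of_equiv e).mpr hFsurj
    · intro hinj
      exact (ENat.card_congr (Equiv.ofBijective F ⟨hinj, hFsurj⟩)).symm
  rw [hiff]
  constructor
  · intro hinj q hq
    obtain ⟨P₀, hP₀, hP₀q⟩ := Groth.Agent.H47.HensCompletion.exists_minimalPrimes_comap_eq
      (T := AdicCompletion (IsLocalRing.maximalIdeal A) A) hq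
    have hsub : ∀ Q ∈ (Ideal.map ψ q).minimalPrimes, Q = P₀ := by
      intro Q hQ
      obtain ⟨hQmin, hQq⟩ := Groth.Agent.H47.HensCompletion.minimalPrimes_map_subset
        (T := AdicCompletion (IsLocalRing.maximalIdeal A) A) hq hQ
      have hFeq : F ⟨Q, hQmin⟩ = F ⟨P₀, hP₀⟩ := Subtype.ext (hQq.trans hP₀q.symm)
      exact congrArg Subtype.val (hinj hFeq)
    have hle : Ideal.map ψ q ≤ P₀ := by
      rw [Ideal.map_le_iff_le_comap]
      exact hP₀q.ge
    haveI : P₀.IsPrime := hP₀.1.1
    obtain ⟨Q, hQ, hQP₀⟩ := Ideal.exists_minimalPrimes_le hle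
    have hmin : (Ideal.map ψ q).minimalPrimes = {P₀} := by
      ext Q'
      constructor
      · intro hQ'
        exact hsub Q' hQ'
      · intro hQ'
        rw [Set.mem_singleton_iff] at hQ'
        rw [hQ', ← hsub Q hQ]
        exact hQ
    rw [← Ideal.sInf_minimalPrimes, hmin, sInf_singleton]
    exact hP₀.1.1
  · intro h P₁ P₂ hF
    have hq : (F P₁ : Ideal S) ∈ minimalPrimes S := (F P₁).2
    have key : ∀ P : minimalPrimes (AdicCompletion (IsLocalRing.maximalIdeal A) A),
        (F P : Ideal S) = (F P₁ : Ideal S) → (P : Ideal _) = (Ideal.map ψ (F P₁ : Ideal S)).radical := by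
      intro P hP
      have hprime := h _ hq
      have hle : (Ideal.map ψ (F P₁ : Ideal S)).radical ≤ P.1 := by
        haveI : P.1.IsPrime := P.2.1.1
        rw [Ideal.IsPrime.radical_le_iff inferInstance, Ideal.map_le_iff_le_comap, ← hP]
      exact le_antisymm (P.2.2 ⟨hprime, bot_le⟩ hle) hle
    apply Subtype.ext
    rw [key P₁ rfl, key P₂ (congrArg Subtype.val hF).symm]

end Groth.Agent.S9243
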