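import Groth.Statements.S9245
import Mathlib.RingTheory.Etale.Basic
import Mathlib.RingTheory.Smooth.Flat
import Mathlib.RingTheory.Flat.Localization
import Mathlib.RingTheory.Flat.FaithfullyFlat.Algebra
import Mathlib.RingTheory.EssentialFiniteness
import Mathlib.RingTheory.Localization.Submodule
import Mathlib.RingTheory.Localization.AtPrime.Basic

set_option autoImplicit false
universe u
open CAlg

namespace Groth.Agent.S9245

/-- Noetherianity descends along faithfully flat ring maps. -/
theorem isNoetherianRing_of_faithfullyFlat (A B : Type u) [CommRing A] [CommRing B] [Algebra A B]
    [Module.FaithfullyFlat A B] [IsNoetherianRing B] : IsNoetherianRing A := by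
  rw [isNoetherianRing_iff, isNoetherian_iff']
  have hmono : StrictMono (Ideal.map (algebraMap A B)) := by
    apply Monotone.strictMono_of_injective
    · exact fun I J hIJ => Ideal.map_mono hIJ
    · exact Ideal.map_injective_of_faithfullyFlat
  have : WellFoundedGT (Ideal B) := (isNoetherian_iff' (R := B) (M := B)).mp inferInstance
  exact hmono.wellFoundedGT

/-- For an étale ring map A → B and a prime q of B with contraction p in A, the localization A_p is a
Noetherian ring exactly when the localization B_q is. -/
theorem result (A B : Type u) [CommRing A] [CommRing B]
    [Algebra A B] [Algebra.Etale A B] (q : Ideal B) [q.IsPrime] :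
    IsNoetherianRing (Localization.AtPrime (Ideal.comap (algebraMap A B) q)) ↔
      IsNoetherianRing (Localization.AtPrime q) := by
  set p : Ideal A := Ideal.comap (algebraMap A B) q with hp
  have hlies : q.LiesOver p := ⟨rfl⟩
  let alg : Algebra (Localization.AtPrime p) (Localization.AtPrime q) :=
    Localization.AtPrime.algebraOfLiesOver p q
  have hflatAB : Module.Flat A B := inferInstance
  have hflat : Module.Flat (Localization.AtPrime p) (Localization.AtPrime q) := inferInstance
  have hloc : IsLocalHom (algebraMap (Localization.AtPrime p) (Localization.AtPrime q)) := by
    show IsLocalHom (Localization.localRingHom p q (algebraMap A B) Ideal.LiesOver.over)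
    infer_instance
  constructor
  · intro hN
    have h1 : Algebra.EssFiniteType A (Localization.AtPrime q) := inferInstance
    have h2 : Algebra.EssFiniteType (Localization.AtPrime p) (Localization.AtPrime q) :=
      Algebra.EssFiniteType.of_comp A (Localization.AtPrime p) (Localization.AtPrime q)
    exact Algebra.EssFiniteType.isNoetherianRing (Localization.AtPrime p) (Localization.AtPrime q)
  · intro hN
    have : Module.FaithfullyFlat (Localization.AtPrime p) (Localization.AtPrime q) :=
      Module.FaithfullyFlat.of_flat_of_isLocalHom
    exact isNoetherianRing_of_faithfullyFlat (Localization.AtPrime p) (Localization.AtPrime q)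

end Groth.Agent.S9245
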