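import Groth.Statements.S9247
import Groth.Agent.H26.RegUFD

set_option autoImplicit false
universe u
open CAlg

namespace Groth.Agent.S9247

/-- For a regular local ring R and an element f of R, the Picard group of R_f is trivial. -/
theorem result (R : Type u) [CommRing R]
    [IsRegularLocalRing R] (f : R) : Subsingleton (CommRing.Pic (Localization.Away f)) := by
  haveI := Groth.Agent.H23.isDomain_of_isRegularLocalRing R
  haveI : UniqueFactorizationMonoid R := Groth.Agent.H26.RegUFD.ufm_of_isRegularLocalRing R
  haveI : UniqueFactorizationMonoid (Localization.Away f) :=
    UniqueFactorizationMonoid.of_isLocalization (Submonoid.powers f) (Localization.Away f)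
  by_cases hf : f = 0
  · subst hf
    haveI : Subsingleton (Localization.Away (0 : R)) :=
      IsLocalization.subsingleton (M := Submonoid.powers (0 : R)) ⟨1, pow_one 0⟩
    rw [CommRing.Pic.subsingleton_iff]
    intro M _ _ _
    haveI : Subsingleton M := Module.subsingleton (Localization.Away (0 : R)) M
    infer_instance
  · haveI : IsDomain (Localization.Away f) := Localization.Away.isDomain hf
    infer_instance

end Groth.Agent.S9247
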