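import Groth.Statements.S9256
import Mathlib

set_option autoImplicit false
set_option linter.style.haveILetI false
universe u
open CAlg

namespace Groth.Agent.S9256

open TensorProduct

/-- A reduced Artinian ring is a regular ring. -/
theorem isRegularRing_of_isArtinianRing_of_isReduced (T : Type u) [CommRing T] [IsArtinianRing T]
    [IsReduced T] : IsRegularRing T := by
  rw [isRegularRing_iff]
  intro p hp
  have hf : IsField (Localization.AtPrime p) :=
    IsArtinianRing.isField_of_isReduced_of_isLocalRing _
  letI := hf.toField
  infer_instance

/-- An Artinian regular ring is reduced. -/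
theorem isReduced_of_isArtinianRing_of_isRegularRing (T : Type u) [CommRing T] [IsArtinianRing T]
    [IsRegularRing T] : IsReduced T := by
  apply isReduced_ofLocalizationMaximal
  intro J hJ
  haveI : IsRegularLocalRing (Localization.AtPrime J) := inferInstance
  have h1 : ((IsLocalRing.maximalIdeal (Localization.AtPrime J)).spanFinrank : WithBot ℕ∞) =
      ringKrullDim (Localization.AtPrime J) :=
    IsRegularLocalRing.spanFinrank_maximalIdeal
  have h2 : ringKrullDim (Localization.AtPrime J) = 0 :=
    ringKrullDimZero_iff_ringKrullDim_eq_zero.mp inferInstance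
  rw [h2] at h1
  have h3 : (IsLocalRing.maximalIdeal (Localization.AtPrime J)).spanFinrank = 0 := by
    exact_mod_cast h1
  have h4 : IsLocalRing.maximalIdeal (Localization.AtPrime J) = ⊥ :=
    (Submodule.spanFinrank_eq_zero_iff_eq_bot (IsNoetherian.noetherian _)).mp h3
  have hf : IsField (Localization.AtPrime J) := IsLocalRing.isField_iff_maximalIdeal_eq.mpr h4
  letI := hf.toField
  infer_instance

/-- For a field extension K of k, the ring map k → K is regular exactly when K is separable over k, that
is, geometrically reduced over k. -/
theorem result (k K : Type u) [Field k] [Field K]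
    [Algebra k K] : CAlg.IsRegularHom k K ↔ Algebra.IsGeometricallyReduced k K := by
  constructor
  · rintro ⟨-, h⟩
    obtain ⟨-, hgeom⟩ := h ⊥
    let e : k ≃ₐ[k] (⊥ : Ideal k).ResidueField := (⊥ : Ideal k).algEquivResidueFieldOfField
    rw [Algebra.isGeometricallyReduced_field_iff]
    suffices hred : IsReduced (K ⊗[k] AlgebraicClosure k) from
      isReduced_of_injective (Algebra.TensorProduct.comm k (AlgebraicClosure k) K).toRingEquiv.toRingHom
        (Algebra.TensorProduct.comm k (AlgebraicClosure k) K).injective
    apply IsReduced.tensorProduct_of_flat_of_forall_fg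
    intro B hB
    obtain ⟨s, hs⟩ := hB
    let E : IntermediateField k (AlgebraicClosure k) :=
      IntermediateField.adjoin k (s : Set (AlgebraicClosure k))
    have hBE : ∀ b ∈ B, b ∈ E := by
      intro b hb
      rw [← hs] at hb
      exact IntermediateField.algebra_adjoin_le_adjoin k _ hb
    haveI : FiniteDimensional k E :=
      IntermediateField.finiteDimensional_adjoin (fun x _ => Algebra.IsIntegral.isIntegral x)
    let j : B →ₐ[k] E :=
      { toFun := fun b => ⟨b.1, hBE b.1 b.2⟩
        map_one' := rfl
        map_mul' := fun _ _ => rfl
        map_zero' := rfl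
        map_add' := fun _ _ => rfl
        commutes' := fun _ => rfl }
    have hj : Function.Injective j := fun a b hab =>
      Subtype.ext (congrArg (fun x : E => (x : AlgebraicClosure k)) hab)
    have hinj : Function.Injective (Algebra.TensorProduct.map (AlgHom.id K K) j) :=
      Module.Flat.lTensor_preserves_injective_linearMap _ hj
    suffices IsReduced (K ⊗[k] E) from isReduced_of_injective _ hinj
    letI : Algebra (⊥ : Ideal k).ResidueField E :=
      ((algebraMap k E).comp (e.symm : (⊥ : Ideal k).ResidueField →+* k)).toAlgebra
    haveI : IsScalarTower k (⊥ : Ideal k).ResidueField E := IsScalarTower.of_algebraMap_eq (fun x => by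
      show algebraMap k E x = algebraMap k E (e.symm (algebraMap k (⊥ : Ideal k).ResidueField x))
      have : algebraMap k (⊥ : Ideal k).ResidueField x = e x := rfl
      rw [this, AlgEquiv.symm_apply_apply])
    haveI : Module.Finite (⊥ : Ideal k).ResidueField E :=
      Module.Finite.of_restrictScalars_finite k (⊥ : Ideal k).ResidueField E
    have hreg : IsRegularRing (E ⊗[(⊥ : Ideal k).ResidueField] ((⊥ : Ideal k).ResidueField ⊗[k] K)) :=
      hgeom E inferInstance
    let φ : (E ⊗[(⊥ : Ideal k).ResidueField] ((⊥ : Ideal k).ResidueField ⊗[k] K)) ≃+* (K ⊗[k] E) :=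
      (Algebra.TensorProduct.cancelBaseChange k (⊥ : Ideal k).ResidueField
        (⊥ : Ideal k).ResidueField E K).toRingEquiv.trans
        (Algebra.TensorProduct.comm k E K).toRingEquiv
    haveI : IsRegularRing (K ⊗[k] E) := IsRegularRing.of_ringEquiv φ
    haveI : IsArtinianRing (K ⊗[k] E) := IsArtinianRing.of_finite K (K ⊗[k] E)
    exact isReduced_of_isArtinianRing_of_isRegularRing (K ⊗[k] E)
  · intro hgr
    refine ⟨inferInstance, fun p hp => ?_⟩
    haveI : p.IsMaximal := by
      have : p = ⊥ := p.eq_bot_of_prime
      subst this
      exact Ideal.bot_isMaximal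
    haveI : Module.Finite k p.ResidueField := inferInstance
    constructor
    · haveI : IsNoetherianRing (K ⊗[k] p.ResidueField) :=
        IsNoetherianRing.of_finite K (K ⊗[k] p.ResidueField)
      exact isNoetherianRing_of_ringEquiv _ (Algebra.TensorProduct.comm k K p.ResidueField).toRingEquiv
    · intro k' _ _ hfin
      letI : Algebra k k' := ((algebraMap p.ResidueField k').comp (algebraMap k p.ResidueField)).toAlgebra
      haveI : IsScalarTower k p.ResidueField k' := IsScalarTower.of_algebraMap_eq (fun _ => rfl)
      haveI : Module.Finite k k' := Module.Finite.trans p.ResidueField k'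
      haveI : Algebra.IsAlgebraic k k' := Algebra.IsAlgebraic.of_finite k k'
      haveI : IsReduced (k' ⊗[k] K) := inferInstance
      let φ : (k' ⊗[p.ResidueField] (p.ResidueField ⊗[k] K)) ≃+* (K ⊗[k] k') :=
        (Algebra.TensorProduct.cancelBaseChange k p.ResidueField p.ResidueField k' K).toRingEquiv.trans
          (Algebra.TensorProduct.comm k k' K).toRingEquiv
      haveI : IsArtinianRing (K ⊗[k] k') := IsArtinianRing.of_finite K (K ⊗[k] k')
      haveI : IsReduced (K ⊗[k] k') :=
        isReduced_of_injective (Algebra.TensorProduct.comm k K k').toRingEquiv.toRingHom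
          (Algebra.TensorProduct.comm k K k').injective
      haveI := isRegularRing_of_isArtinianRing_of_isReduced (K ⊗[k] k')
      exact IsRegularRing.of_ringEquiv φ.symm

end Groth.Agent.S9256
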