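import Groth.Statements.S9258
import Mathlib
import Groth.Agent.S2462
import Groth.Agent.S0545
import Groth.Agent.S2459
import Groth.Agent.S4537
-- import your own Groth.Agent.* helpers here

set_option autoImplicit false
universe u
open CAlg

set_option linter.style.haveILetI false
set_option linter.unusedSectionVars false
set_option linter.unusedVariables false

namespace Groth.Agent.S9258

open IsLocalRing

/-- A type copy of the trivial square-zero extension `B ⊕ Bε`, so that it can carry a twisted
algebra structure without clashing with the Mathlib instance. -/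
def TC (B : Type u) [CommRing B] : Type u := TrivSqZeroExt B B

section TCsec

variable (B : Type u) [CommRing B]

noncomputable instance instCommRingTC : CommRing (TC B) :=
  inferInstanceAs (CommRing (TrivSqZeroExt B B))

/-- first projection -/
noncomputable def pr : TC B →+* B := (TrivSqZeroExt.fstHom B B B).toRingHom

/-- second projection -/
noncomputable def sn : TC B →+ B := (TrivSqZeroExt.sndHom B B).toAddMonoidHom

/-- inclusion -/
noncomputable def il : B →+* TC B := TrivSqZeroExt.inlHom B B

theorem pr_il (b : B) : pr B (il B b) = b := rfl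

theorem pr_surjective : Function.Surjective (pr B) := fun b => ⟨il B b, pr_il B b⟩

theorem isUnit_iff_pr (x : TC B) : IsUnit x ↔ IsUnit (pr B x) :=
  TrivSqZeroExt.isUnit_iff_isUnit_fst (R := B) (M := B) (x := x)

theorem sn_mul (x y : TC B) : sn B (x * y) = pr B x * sn B y + pr B y * sn B x := by
  have h := TrivSqZeroExt.snd_mul (R := B) (M := B) x y
  simp only [smul_eq_mul, MulOpposite.smul_eq_mul_unop, MulOpposite.unop_op] at h
  rw [mul_comm (TrivSqZeroExt.snd x) _] at h
  exact h

theorem ker_pr_sq : (RingHom.ker (pr B)) ^ 2 = ⊥ := TrivSqZeroExt.kerIdeal_sq B B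

instance instIsLocalRingTC [IsLocalRing B] : IsLocalRing (TC B) := by
  haveI : IsLocalHom (pr B) := ⟨fun x hx => (isUnit_iff_pr B x).mpr hx⟩
  exact RingHom.domain_isLocalRing (pr B)

instance instNoethTC [IsNoetherianRing B] : IsNoetherianRing (TC B) := by
  haveI : Module.Finite B (TrivSqZeroExt B B) := inferInstanceAs (Module.Finite B (B × B))
  exact IsNoetherianRing.of_finite B (TrivSqZeroExt B B)

theorem il_mem_maximalIdeal [IsLocalRing B] {b : B} (hb : b ∈ maximalIdeal B) :
    il B b ∈ maximalIdeal (TC B) := by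
  rw [mem_maximalIdeal, mem_nonunits_iff, isUnit_iff_pr, pr_il]
  exact hb

theorem pr_mem_maximalIdeal [IsLocalRing B] {x : TC B} (hx : x ∈ maximalIdeal (TC B)) :
    pr B x ∈ maximalIdeal B := by
  rw [mem_maximalIdeal, mem_nonunits_iff] at hx ⊢
  rwa [isUnit_iff_pr] at hx

theorem isAdicComplete_TC [IsLocalRing B] [IsNoetherianRing B]
    [IsAdicComplete (maximalIdeal B) B] :
    IsAdicComplete (maximalIdeal (TC B)) (TC B) := by
  haveI : IsAdicComplete (RingHom.ker (pr B)) (TC B) :=
    Groth.Agent.S2459.isAdicComplete_of_pow_eq_bot _ 2 (ker_pr_sq B)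
  let e : TC B ⧸ RingHom.ker (pr B) ≃+* B :=
    RingHom.quotientKerEquivOfSurjective (pr_surjective B)
  have he : ∀ x : TC B, e (Ideal.Quotient.mk _ x) = pr B x := fun x => rfl
  have hmap : (maximalIdeal B).map e.symm =
      (maximalIdeal (TC B)).map (Ideal.Quotient.mk (RingHom.ker (pr B))) := by
    apply le_antisymm
    · rw [Ideal.map_le_iff_le_comap]
      intro b hb
      rw [Ideal.mem_comap]
      have h1 : e.symm b = Ideal.Quotient.mk (RingHom.ker (pr B)) (il B b) := by
        rw [RingEquiv.symm_apply_eq, he, pr_il]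
      rw [h1]
      exact Ideal.mem_map_of_mem _ (il_mem_maximalIdeal B hb)
    · rw [Ideal.map_le_iff_le_comap]
      intro x hx
      rw [Ideal.mem_comap]
      have h1 : Ideal.Quotient.mk (RingHom.ker (pr B)) x = e.symm (pr B x) := by
        rw [RingEquiv.eq_symm_apply, he]
      rw [h1]
      exact Ideal.mem_map_of_mem _ (pr_mem_maximalIdeal B hx)
  haveI : IsAdicComplete ((maximalIdeal (TC B)).map (Ideal.Quotient.mk (RingHom.ker (pr B))))
      (TC B ⧸ RingHom.ker (pr B)) := by
    rw [← hmap]
    exact (IsAdicComplete.congr_ringEquiv (maximalIdeal B) e.symm).mpr inferInstance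
  exact Groth.Agent.S0545.result (TC B) (RingHom.ker (pr B)) (maximalIdeal (TC B))

variable {B}

theorem rho_aux_mul {A : Type u} [CommRing A] [Algebra A B] (D : Derivation ℤ A A) (a b : A) :
    (TrivSqZeroExt.inl (algebraMap A B (a * b)) +
        TrivSqZeroExt.inr (algebraMap A B (D (a * b))) : TrivSqZeroExt B B) =
      (TrivSqZeroExt.inl (algebraMap A B a) + TrivSqZeroExt.inr (algebraMap A B (D a))) *
      (TrivSqZeroExt.inl (algebraMap A B b) + TrivSqZeroExt.inr (algebraMap A B (D b))) := by
  refine TrivSqZeroExt.ext ?_ ?_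
  · simp only [TrivSqZeroExt.fst_mul, TrivSqZeroExt.fst_add, TrivSqZeroExt.fst_inl,
      TrivSqZeroExt.fst_inr, add_zero, map_mul]
  · rw [TrivSqZeroExt.snd_mul]
    simp only [TrivSqZeroExt.snd_add, TrivSqZeroExt.snd_inl,
        TrivSqZeroExt.snd_inr, TrivSqZeroExt.fst_add, TrivSqZeroExt.fst_inl,
        TrivSqZeroExt.fst_inr, zero_add, add_zero, Derivation.leibniz, map_add, smul_eq_mul,
        map_mul, MulOpposite.smul_eq_mul_unop, MulOpposite.unop_op]
    ring

theorem rho_aux_add {A : Type u} [CommRing A] [Algebra A B] (D : Derivation ℤ A A) (a b : A) :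
    (TrivSqZeroExt.inl (algebraMap A B (a + b)) +
        TrivSqZeroExt.inr (algebraMap A B (D (a + b))) : TrivSqZeroExt B B) =
      (TrivSqZeroExt.inl (algebraMap A B a) + TrivSqZeroExt.inr (algebraMap A B (D a))) +
      (TrivSqZeroExt.inl (algebraMap A B b) + TrivSqZeroExt.inr (algebraMap A B (D b))) := by
  rw [map_add, map_add, map_add, TrivSqZeroExt.inl_add, TrivSqZeroExt.inr_add]
  abel

theorem rho_aux_one {A : Type u} [CommRing A] [Algebra A B] (D : Derivation ℤ A A) :
    (TrivSqZeroExt.inl (algebraMap A B 1) + TrivSqZeroExt.inr (algebraMap A B (D 1)) :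
      TrivSqZeroExt B B) = 1 := by
  rw [Derivation.map_one_eq_zero, map_zero, map_one, TrivSqZeroExt.inr_zero, add_zero,
    TrivSqZeroExt.inl_one]

theorem rho_aux_zero {A : Type u} [CommRing A] [Algebra A B] (D : Derivation ℤ A A) :
    (TrivSqZeroExt.inl (algebraMap A B 0) + TrivSqZeroExt.inr (algebraMap A B (D 0)) :
      TrivSqZeroExt B B) = 0 := by
  simp only [map_zero, TrivSqZeroExt.inr_zero, TrivSqZeroExt.inl_zero, add_zero]

/-- the twisted structure map `a ↦ φ a + φ (D a) ε` -/
noncomputable def rho {A : Type u} [CommRing A] [Algebra A B] (D : Derivation ℤ A A) :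
    A →+* TC B where
  toFun a := (TrivSqZeroExt.inl (algebraMap A B a) + TrivSqZeroExt.inr (algebraMap A B (D a)) :
    TrivSqZeroExt B B)
  map_one' := rho_aux_one D
  map_mul' a b := rho_aux_mul D a b
  map_zero' := rho_aux_zero D
  map_add' a b := rho_aux_add D a b

theorem pr_rho {A : Type u} [CommRing A] [Algebra A B] (D : Derivation ℤ A A) (a : A) :
    pr B (rho D a) = algebraMap A B a := by
  show (TrivSqZeroExt.inl (algebraMap A B a) + TrivSqZeroExt.inr (algebraMap A B (D a)) :
    TrivSqZeroExt B B).fst = _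
  simp only [TrivSqZeroExt.fst_add, TrivSqZeroExt.fst_inl, TrivSqZeroExt.fst_inr, add_zero]

theorem sn_rho {A : Type u} [CommRing A] [Algebra A B] (D : Derivation ℤ A A) (a : A) :
    sn B (rho D a) = algebraMap A B (D a) := by
  show (TrivSqZeroExt.inl (algebraMap A B a) + TrivSqZeroExt.inr (algebraMap A B (D a)) :
    TrivSqZeroExt B B).snd = _
  simp only [TrivSqZeroExt.snd_add, TrivSqZeroExt.snd_inl, TrivSqZeroExt.snd_inr, zero_add]

end TCsec


/-- Suppose A → B is a local map of Noetherian local rings, B is complete, and A → B is formally smooth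
for the adic topology of the maximal ideal of B. Then each derivation D of A extends to a derivation
D' of B, in the sense that D' restricted along A → B equals D followed by A → B. -/
theorem result (A B : Type u) [CommRing A]
    [CommRing B] [IsLocalRing A] [IsLocalRing B] [IsNoetherianRing A] [IsNoetherianRing B]
    [Algebra A B] [IsLocalHom (algebraMap A B)]
    [IsAdicComplete (IsLocalRing.maximalIdeal B) B]
    (hfs : CAlgX.IsAdicFormallySmooth A B (IsLocalRing.maximalIdeal B)) (D : Derivation ℤ A A) :
    ∃ D' : Derivation ℤ B B, ∀ a : A, D' (algebraMap A B a) = algebraMap A B (D a) := by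
  have hB : EGA41.IsFormallySmoothAdic A ⊥ B (maximalIdeal B) :=
    (Groth.Agent.S4537.result _).mp hfs
  letI algC : Algebra A (TC B) := (rho (B := B) D).toAlgebra
  haveI := isAdicComplete_TC B
  have hA : (⊥ : Ideal A).map (algebraMap A (TC B)) ≤ maximalIdeal (TC B) := by
    rw [Ideal.map_bot]; exact bot_le
  have hJ : RingHom.ker (pr B) ≠ ⊤ := RingHom.ker_ne_top _
  let u : B →ₐ[A] TC B ⧸ RingHom.ker (pr B) :=
    { toRingHom := (Ideal.Quotient.mk (RingHom.ker (pr B))).comp (il B)
      commutes' := fun a => by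
        show Ideal.Quotient.mk (RingHom.ker (pr B)) (il B (algebraMap A B a)) =
          Ideal.Quotient.mk (RingHom.ker (pr B)) (rho D a)
        rw [Ideal.Quotient.eq, RingHom.mem_ker, map_sub, pr_il, pr_rho, sub_self] }
  have hu : (maximalIdeal B).map u.toRingHom ≤
      (maximalIdeal (TC B)).map (Ideal.Quotient.mk (RingHom.ker (pr B))) := by
    rw [Ideal.map_le_iff_le_comap]
    intro b hb
    rw [Ideal.mem_comap]
    exact Ideal.mem_map_of_mem _ (il_mem_maximalIdeal B hb)
  obtain ⟨v, -, hv⟩ := Groth.Agent.S2462.result (A := A) (B := B) (C := TC B) ⊥ (maximalIdeal B) hB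
    hA (RingHom.ker (pr B)) hJ u hu
  have hfst : ∀ b, pr B (v b) = b := by
    intro b
    have h1 : Ideal.Quotient.mk (RingHom.ker (pr B)) (v b) =
        Ideal.Quotient.mk (RingHom.ker (pr B)) (il B b) :=
      congrArg (fun f : B →ₐ[A] TC B ⧸ RingHom.ker (pr B) => f b) hv
    rw [Ideal.Quotient.eq, RingHom.mem_ker, map_sub, sub_eq_zero, pr_il] at h1
    exact h1
  let g : B →+ B := (sn B).comp (v : B →+* TC B).toAddMonoidHom
  refine ⟨Derivation.mk' g.toIntLinearMap (fun a b => ?_), fun a => ?_⟩
  · show sn B (v (a * b)) = a • sn B (v b) + b • sn B (v a)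
    rw [map_mul, sn_mul, hfst, hfst, smul_eq_mul, smul_eq_mul]
  · show sn B (v (algebraMap A B a)) = algebraMap A B (D a)
    rw [v.commutes]
    exact sn_rho D a

end Groth.Agent.S9258
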