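import Groth.Statements.S9260
import Mathlib

set_option autoImplicit false
universe u
open CAlg

namespace Groth.Agent.S9260

section aux
open Polynomial

theorem rep_mem_map {A R : Type u} [CommRing A] [CommRing R] [Algebra A R] (J : Ideal A) (x : R)
    (hx : x ∈ Ideal.map (algebraMap A R) J) :
    ∃ (k : ℕ) (js : Fin k → A) (rs : Fin k → R), (∀ i, js i ∈ J) ∧
      x = ∑ i, algebraMap A R (js i) * rs i := by
  have hx' : x ∈ Submodule.span R ((algebraMap A R) '' (J : Set A)) := hx
  rw [Submodule.mem_span_set'] at hx'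
  obtain ⟨k, f, g, hfg⟩ := hx'
  have hg : ∀ i, ∃ a, a ∈ J ∧ algebraMap A R a = (g i : R) := fun i => (g i).2
  choose js hjs hjs' using hg
  refine ⟨k, js, f, hjs, ?_⟩
  rw [← hfg]
  refine Finset.sum_congr rfl (fun i _ => ?_)
  rw [hjs' i, smul_eq_mul, mul_comm]

variable {A R G : Type u} [CommRing A] [CommRing R] [Algebra A R] [Group G] [Fintype G]
  [DecidableEq G] [MulSemiringAction G R] [SMulCommClass G A R]

noncomputable def cA {k : ℕ} (js : Fin k → A) : Option (Fin k) → A[X] :=
  fun o => o.elim X (fun i => -C (js i))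

def rho {k : ℕ} (rs : Fin k → R) : G → Option (Fin k) → R :=
  fun σ o => o.elim 1 (fun i => σ • rs i)

def mu {k : ℕ} (ψ : G → Option (Fin k)) : Multiset (Option (Fin k)) :=
  (Finset.univ : Finset G).val.map ψ

noncomputable def Wm {k : ℕ} (js : Fin k → A) (m : Multiset (Option (Fin k))) : A[X] :=
  (m.map (cA js)).prod

def Erho {k : ℕ} (rs : Fin k → R) (ψ : G → Option (Fin k)) : R := ∏ σ, rho rs σ (ψ σ)

def EE {k : ℕ} (rs : Fin k → R) (m : Multiset (Option (Fin k))) : R :=
  ∑ ψ ∈ Finset.univ.filter (fun ψ : G → Option (Fin k) => mu ψ = m), Erho rs ψ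

theorem Wm_mu {k : ℕ} (js : Fin k → A) (ψ : G → Option (Fin k)) :
    Wm js (mu ψ) = ∏ σ, cA js (ψ σ) := by
  unfold Wm mu
  rw [Multiset.map_map]
  rfl

theorem smul_rho {k : ℕ} (rs : Fin k → R) (τ σ : G) (o : Option (Fin k)) :
    τ • rho rs σ o = rho rs (τ * σ) o := by
  cases o with
  | none => simp [rho]
  | some i => simp [rho, smul_smul]

theorem mu_comp {k : ℕ} (ψ : G → Option (Fin k)) (τ : G) :
    mu (fun σ => ψ (τ⁻¹ * σ)) = mu ψ := by
  unfold mu
  have h : (fun σ => ψ (τ⁻¹ * σ)) = ψ ∘ (Equiv.mulLeft τ⁻¹) := rfl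
  rw [h, ← Multiset.map_map, Multiset.map_univ_val_equiv]

theorem EE_inv {k : ℕ} (rs : Fin k → R) (m : Multiset (Option (Fin k))) (τ : G) :
    τ • EE (G := G) rs m = EE (G := G) rs m := by
  unfold EE
  rw [Finset.smul_sum]
  refine Finset.sum_equiv ((Equiv.mulLeft τ).arrowCongr (Equiv.refl _)) ?_ ?_
  · intro ψ
    simp only [Finset.mem_filter, Finset.mem_univ, true_and]
    have h : ((Equiv.mulLeft τ).arrowCongr (Equiv.refl (Option (Fin k)))) ψ =
        fun σ => ψ (τ⁻¹ * σ) := by
      funext σ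
      simp [Equiv.arrowCongr_apply]
    rw [h, mu_comp]
  · intro ψ _
    have h : ((Equiv.mulLeft τ).arrowCongr (Equiv.refl (Option (Fin k)))) ψ =
        fun σ => ψ (τ⁻¹ * σ) := by
      funext σ
      simp [Equiv.arrowCongr_apply]
    rw [h]
    unfold Erho
    rw [Finset.smul_prod']
    refine Fintype.prod_equiv (Equiv.mulLeft τ) _ _ (fun σ => ?_)
    rw [smul_rho]
    simp

theorem factor_eq {k : ℕ} (js : Fin k → A) (rs : Fin k → R) (σ : G) :
    (X : R[X]) - C (σ • ∑ i, algebraMap A R (js i) * rs i) =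
      ∑ o : Option (Fin k), (cA js o).map (algebraMap A R) * C (rho rs σ o) := by
  have h1 : σ • ∑ i, algebraMap A R (js i) * rs i = ∑ i, algebraMap A R (js i) * σ • rs i := by
    rw [Finset.smul_sum]
    refine Finset.sum_congr rfl (fun i _ => ?_)
    rw [smul_mul', smul_algebraMap]
  rw [h1, Fintype.sum_option]
  simp only [cA, rho, Option.elim, Polynomial.map_X, map_one, mul_one, Polynomial.map_neg,
    Polynomial.map_C, map_sum, map_mul, neg_mul, Finset.sum_neg_distrib]
  ring

theorem prod_eq {k : ℕ} (js : Fin k → A) (rs : Fin k → R) :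
    ∏ σ : G, ((X : R[X]) - C (σ • ∑ i, algebraMap A R (js i) * rs i)) =
      ∑ m ∈ (Finset.univ.image (mu : (G → Option (Fin k)) → _)),
        (Wm js m).map (algebraMap A R) * C (EE (G := G) rs m) := by
  have h1 : ∏ σ : G, ((X : R[X]) - C (σ • ∑ i, algebraMap A R (js i) * rs i)) =
      ∑ ψ : G → Option (Fin k), (Wm js (mu ψ)).map (algebraMap A R) * C (Erho rs ψ) := by
    rw [Finset.prod_congr rfl (fun σ _ => factor_eq js rs σ), Fintype.prod_sum]
    refine Finset.sum_congr rfl (fun ψ _ => ?_)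
    rw [Finset.prod_mul_distrib, Wm_mu, Polynomial.map_prod]
    unfold Erho
    rw [map_prod]
  rw [h1, ← Finset.sum_fiberwise_of_maps_to
    (g := (mu : (G → Option (Fin k)) → _)) (t := Finset.univ.image mu)
    (fun ψ _ => Finset.mem_image_of_mem _ (Finset.mem_univ ψ))]
  refine Finset.sum_congr rfl (fun m _ => ?_)
  unfold EE
  rw [map_sum, Finset.mul_sum]
  refine Finset.sum_congr rfl (fun ψ hψ => ?_)
  rw [(Finset.mem_filter.mp hψ).2]

theorem Wm_props {k : ℕ} (js : Fin k → A) (J : Ideal A) (hjs : ∀ i, js i ∈ J)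
    (ψ : G → Option (Fin k)) (σ₀ : G) (i₀ : Fin k) (h0 : ψ σ₀ = some i₀) (a : A) :
    (Wm js (mu ψ) * C a).natDegree ≤ Fintype.card G - 1 ∧
      ∀ m, (Wm js (mu ψ) * C a).coeff m ∈ J := by
  classical
  rw [Wm_mu, ← Finset.mul_prod_erase Finset.univ _ (Finset.mem_univ σ₀), h0]
  have hc : cA js (some i₀) = C (-js i₀) := by simp [cA]
  rw [hc, mul_assoc]
  constructor
  · refine (natDegree_C_mul_le _ _).trans ((natDegree_mul_C_le _ _).trans ?_)
    refine (natDegree_prod_le _ _).trans ?_
    have h1 : ∀ σ ∈ Finset.univ.erase σ₀, (cA js (ψ σ)).natDegree ≤ 1 := by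
      intro σ _
      cases hσ : ψ σ with
      | none => simp [cA, natDegree_X_le]
      | some i => simp [cA]
    refine (Finset.sum_le_card_nsmul _ _ 1 h1).trans ?_
    rw [Finset.card_erase_of_mem (Finset.mem_univ σ₀), Finset.card_univ, smul_eq_mul, mul_one]
  · intro m
    rw [coeff_C_mul]
    exact Ideal.mul_mem_right _ _ (neg_mem (hjs i₀))

theorem EE_zero {k : ℕ} (rs : Fin k → R) :
    EE (G := G) rs (mu (fun _ : G => (none : Option (Fin k)))) = 1 := by
  unfold EE
  rw [Finset.sum_eq_single (fun _ : G => (none : Option (Fin k)))]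
  · unfold Erho
    simp [rho]
  · intro ψ hψ hne
    exfalso
    apply hne
    funext σ
    have h1 : ψ σ ∈ mu ψ := Multiset.mem_map_of_mem ψ (Finset.mem_univ_val σ)
    rw [(Finset.mem_filter.mp hψ).2] at h1
    obtain ⟨_, _, h2⟩ := Multiset.mem_map.mp h1
    exact h2.symm
  · intro h
    exfalso
    apply h
    simp

theorem core [Algebra.IsInvariant A R G] (J : Ideal A)
    (k : ℕ) (js : Fin k → A) (rs : Fin k → R) (hjs : ∀ i, js i ∈ J) :
    ∃ P : Polynomial A, P.Monic ∧ P.natDegree ≤ Fintype.card G ∧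
      (∀ i : ℕ, i < Fintype.card G → P.coeff i ∈ J) ∧
      Polynomial.map (algebraMap A R) P =
        ∏ σ : G, (X - C (σ • ∑ i, algebraMap A R (js i) * rs i)) := by
  have hn1 : 1 ≤ Fintype.card G := Fintype.card_pos
  have hlift : ∀ m : Multiset (Option (Fin k)), ∃ a : A, algebraMap A R a = EE (G := G) rs m :=
    fun m => Algebra.IsInvariant.isInvariant (G := G) _ (fun τ => EE_inv rs m τ)
  choose a ha using hlift
  set m₀ : Multiset (Option (Fin k)) := mu (fun _ : G => (none : Option (Fin k))) with hm₀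
  set T : Finset (Multiset (Option (Fin k))) :=
    Finset.univ.image (mu : (G → Option (Fin k)) → _) with hT
  have hm₀T : m₀ ∈ T := Finset.mem_image_of_mem _ (Finset.mem_univ _)
  have hterm : ∀ m ∈ T.erase m₀, (Wm js m * C (a m)).natDegree ≤ Fintype.card G - 1 ∧
      ∀ i, (Wm js m * C (a m)).coeff i ∈ J := by
    intro m hm
    obtain ⟨hne, hmT⟩ := Finset.mem_erase.mp hm
    obtain ⟨ψ, _, rfl⟩ := Finset.mem_image.mp hmT
    have hex : ∃ σ₀, ψ σ₀ ≠ none := by
      by_contra hcon
      apply hne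
      rw [hm₀]
      congr 1
      funext σ
      by_contra h
      exact hcon ⟨σ, h⟩
    obtain ⟨σ₀, hσ₀⟩ := hex
    obtain ⟨i₀, hi₀⟩ := Option.ne_none_iff_exists'.mp hσ₀
    exact Wm_props js J hjs ψ σ₀ i₀ hi₀ (a (mu ψ))
  set Q : A[X] := ∑ m ∈ T.erase m₀, Wm js m * C (a m) with hQ
  have hQdeg : Q.natDegree ≤ Fintype.card G - 1 :=
    natDegree_sum_le_of_forall_le _ _ (fun m hm => (hterm m hm).1)
  have hQcoeff : ∀ i, Q.coeff i ∈ J := by
    intro i
    rw [hQ, finsetSum_coeff]
    exact Ideal.sum_mem _ (fun m hm => (hterm m hm).2 i)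
  have hQlt : Q.degree < (Fintype.card G : ℕ) := by
    refine lt_of_le_of_lt degree_le_natDegree ?_
    exact_mod_cast lt_of_le_of_lt hQdeg (by omega)
  refine ⟨X ^ Fintype.card G + Q, monic_X_pow_add hQlt, ?_, ?_, ?_⟩
  · refine natDegree_add_le_of_degree_le (natDegree_X_pow_le _) (hQdeg.trans (by omega))
  · intro i hi
    rw [coeff_add, coeff_X_pow, if_neg (by omega), zero_add]
    exact hQcoeff i
  · rw [prod_eq js rs, ← hT, ← Finset.add_sum_erase T _ hm₀T, Polynomial.map_add,
      Polynomial.map_pow, Polynomial.map_X, hQ, Polynomial.map_sum]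
    congr 1
    · rw [hm₀, EE_zero, Wm_mu]
      simp [cA]
    · refine Finset.sum_congr rfl (fun m _ => ?_)
      rw [Polynomial.map_mul, Polynomial.map_C, ha]

end aux

/-- Suppose a finite group G with n elements acts on a ring R by ring automorphisms, A → R is a ring map
compatible with the action whose image contains the invariants (so that A maps onto R^G), J is an
ideal of A, and x lies in JR. Then ∏_σ (T - σ(x)) is the image of a monic polynomial over A of
degree at most n whose coefficients below degree n all lie in J. (The published statement takes A =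
R^G and a polynomial of degree n; this row allows any such A mapping onto R^G and asks degree at
most n, which is the same when A is nonzero.) -/
theorem result (A R G : Type u) [CommRing A]
    [CommRing R] [Algebra A R] [Group G] [Fintype G] [MulSemiringAction G R] [SMulCommClass G A R]
    [Algebra.IsInvariant A R G] (J : Ideal A) (x : R) (hx : x ∈ Ideal.map (algebraMap A R) J) :
    ∃ P : Polynomial A, P.Monic ∧ P.natDegree ≤ Fintype.card G ∧
      (∀ i : ℕ, i < Fintype.card G → P.coeff i ∈ J) ∧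
      Polynomial.map (algebraMap A R) P = ∏ σ : G, (Polynomial.X - Polynomial.C (σ • x)) := by
  classical
  obtain ⟨k, js, rs, hjs, hxe⟩ := rep_mem_map J x hx
  rw [hxe]
  exact core J k js rs hjs

end Groth.Agent.S9260
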