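import Groth.Statements.S9261
import Mathlib

set_option autoImplicit false
set_option linter.style.haveILetI false
universe u
open CAlg

namespace Groth.Agent.S9261

open TensorProduct

/-- Let G be a finite group acting on a ring R, S = R^G its ring of invariants (here: S → R injective
with image the invariants) and A a flat S-algebra. Then the map A → A ⊗_S R is injective with image
the invariants of G acting on A ⊗_S R through the second factor; that is, A → (A ⊗_S R)^G is an
isomorphism. -/
theorem result (S R A G : Type u) [CommRing S] [CommRing R] [Algebra S R]
    [FaithfulSMul S R] [Group G] [Finite G] [MulSemiringAction G R] [SMulCommClass G S R]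
    [Algebra.IsInvariant S R G] [CommRing A] [Algebra S A] [Module.Flat S A] :
    Function.Injective (algebraMap A (TensorProduct S A R)) ∧
      ∀ x : TensorProduct S A R,
        (∀ σ : G, Algebra.TensorProduct.map (AlgHom.id S A) (MulSemiringAction.toAlgHom S R σ) x = x) →
          x ∈ Set.range (algebraMap A (TensorProduct S A R)) := by
  classical
  haveI : Fintype G := Fintype.ofFinite G
  have hιinj : Function.Injective (Algebra.linearMap S R) := FaithfulSMul.algebraMap_injective S R
  have hLinj : Function.Injective ((Algebra.linearMap S R).lTensor A) :=
    Module.Flat.lTensor_preserves_injective_linearMap _ hιinj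
  have halg : ∀ a : A, algebraMap A (A ⊗[S] R) a =
      (Algebra.linearMap S R).lTensor A (a ⊗ₜ[S] (1 : S)) := by
    intro a
    rw [LinearMap.lTensor_tmul, Algebra.linearMap_apply, map_one]
    rfl
  constructor
  · intro a b hab
    rw [halg, halg] at hab
    have h1 := hLinj hab
    have h2 := congrArg (TensorProduct.rid S A) h1
    simpa using h2
  · intro x hx
    -- the map r ↦ (σ ↦ σ • r - r)
    let g : R →ₗ[S] (G → R) :=
      { toFun := fun r σ => σ • r - r
        map_add' := fun r r' => by
          funext σ
          simp only [smul_add, Pi.add_apply]
          ring
        map_smul' := fun s r => by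
          funext σ
          simp only [smul_comm σ s r, Pi.smul_apply, RingHom.id_apply, smul_sub] }
    have hexact : Function.Exact (Algebra.linearMap S R) g := by
      intro r
      constructor
      · intro hr
        have hfix : ∀ σ : G, σ • r = r := fun σ => by
          have := congrFun hr σ
          simpa [g, sub_eq_zero] using this
        obtain ⟨s, hs⟩ := Algebra.IsInvariant.isInvariant (A := S) (B := R) (G := G) r hfix
        exact ⟨s, hs⟩
      · rintro ⟨s, rfl⟩
        funext σ
        show σ • (algebraMap S R s) - algebraMap S R s = 0
        rw [Algebra.algebraMap_eq_smul_one, smul_comm σ s (1 : R), smul_one, sub_self]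
    have hexact' := Module.Flat.lTensor_exact A hexact
    -- compute lTensor g
    have hcomp : ∀ (y : A ⊗[S] R) (σ : G),
        TensorProduct.piRight S S A (fun _ : G => R) (g.lTensor A y) σ =
          Algebra.TensorProduct.map (AlgHom.id S A) (MulSemiringAction.toAlgHom S R σ) y - y := by
      intro y σ
      induction y using TensorProduct.induction_on with
      | zero => simp
      | tmul a r =>
        rw [LinearMap.lTensor_tmul, TensorProduct.piRight_apply, TensorProduct.piRightHom_tmul,
          Algebra.TensorProduct.map_tmul]
        show a ⊗ₜ[S] (σ • r - r) = a ⊗ₜ[S] (σ • r) - a ⊗ₜ[S] r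
        rw [TensorProduct.tmul_sub]
      | add y z hy hz =>
        rw [map_add, map_add, Pi.add_apply, hy, hz, map_add]
        abel
    have hzero : g.lTensor A x = 0 := by
      apply (TensorProduct.piRight S S A (fun _ : G => R)).injective
      rw [map_zero]
      funext σ
      rw [hcomp, hx σ, sub_self]
      rfl
    obtain ⟨y, hy⟩ := (hexact' x).mp hzero
    refine ⟨TensorProduct.rid S A y, ?_⟩
    rw [halg, ← hy]
    congr 1
    rw [← TensorProduct.rid_symm_apply, LinearEquiv.symm_apply_apply]

end Groth.Agent.S9261
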