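import Groth.Statements.S9262
import Groth.Agent.H47.HensNoeth2
import Groth.Agent.S0515
import Groth.Agent.S2748

set_option autoImplicit false
universe u
open Hensel

namespace Groth.Agent.S9262

/-- Let R be a Noetherian local ring with henselization S and strict henselization T. Then R is a
discrete valuation ring exactly when S is one, and exactly when T is one. -/
theorem result (R S T : Type u)
    [CommRing R] [IsLocalRing R] [IsNoetherianRing R] [CommRing S] [IsLocalRing S] [Algebra R S]
    [IsLocalHom (algebraMap R S)] [Hensel.IsHenselization R S] [CommRing T] [IsLocalRing T]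
    [Algebra R T] [IsLocalHom (algebraMap R T)] [Hensel.IsStrictHenselization R T] :
    ((∃ _ : IsDomain R, IsDiscreteValuationRing R) ↔ (∃ _ : IsDomain S, IsDiscreteValuationRing S)) ∧
      ((∃ _ : IsDomain R, IsDiscreteValuationRing R) ↔
        (∃ _ : IsDomain T, IsDiscreteValuationRing T)) := by
  have hS := Groth.Agent.H47.HensNoeth.isIndEtaleLocal_of_isHenselization R S
  have hT := Groth.Agent.H47.HensNoeth.isIndEtaleLocal_of_isStrictHenselization R T
  haveI := hS.flat
  haveI := hT.flat
  haveI := hS.isNoetherianRing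
  haveI := hT.isNoetherianRing
  haveI := hS.faithfullyFlat
  haveI := hT.faithfullyFlat
  constructor
  · constructor
    · rintro ⟨hd, hdvr⟩
      obtain ⟨hdS, -⟩ := (Groth.Agent.S0515.result R S).mp ⟨hd, inferInstance⟩
      exact ⟨hdS, (Groth.Agent.H47.HensNoeth.isDVR_iff_of_flat hS.map_max).mp hdvr⟩
    · rintro ⟨hd, hdvr⟩
      have hdR : IsDomain R :=
        Function.Injective.isDomain (algebraMap R S) (FaithfulSMul.algebraMap_injective R S)
      exact ⟨hdR, (Groth.Agent.H47.HensNoeth.isDVR_iff_of_flat hS.map_max).mpr hdvr⟩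
  · constructor
    · rintro ⟨hd, hdvr⟩
      obtain ⟨hdT, -⟩ := (Groth.Agent.S2748.result R T).mpr ⟨hd, inferInstance⟩
      exact ⟨hdT, (Groth.Agent.H47.HensNoeth.isDVR_iff_of_flat hT.map_max).mp hdvr⟩
    · rintro ⟨hd, hdvr⟩
      have hdR : IsDomain R :=
        Function.Injective.isDomain (algebraMap R T) (FaithfulSMul.algebraMap_injective R T)
      exact ⟨hdR, (Groth.Agent.H47.HensNoeth.isDVR_iff_of_flat hT.map_max).mpr hdvr⟩

end Groth.Agent.S9262
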