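import Groth.Statements.S9267
import Groth.Agent.H82.KCShift
import Groth.Agent.H82.KPow
import Groth.Agent.S9264

set_option autoImplicit false
universe u
attribute [local instance] HasDerivedCategory.standard
open CategoryTheory
open DerCA

namespace Groth.Agent.S9267

/-- For a Koszul-regular sequence f_1, ..., f_r in a ring R, the extended alternating Cech complex R → ⊕
R_{f_i} → ... → R_{f_1 ... f_r} has cohomology only in degree r. -/
theorem result (R : Type u) [CommRing R] (fs : List R)
    (hfs : LCI.IsKoszulRegularSeq R fs) (q : ℤ) (hq : q ≠ (fs.length : ℤ)) :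
    Limits.IsZero (DerCA.extCechH fs (ModuleCat.of R R) q) := by
  by_cases h : q < 0 ∨ (fs.length : ℤ) < q
  · exact Groth.Agent.S9264.result R fs _ q h
  · push_neg at h
    obtain ⟨p, rfl⟩ := Int.eq_ofNat_of_zero_le h.1
    obtain ⟨e⟩ := Groth.Agent.H82.KC.nonempty_koszulHLim_equiv_extCechH fs (ModuleCat.of R R) p
    have hP : Groth.Agent.H82.KPow.P
        (Groth.Agent.H59.Kosz.sgl (ModuleCat.of R R)) fs := by
      intro i hi
      exact (Groth.Agent.H82.KPow.isZero_homology_congr
        (Groth.Agent.H59.Kosz.koszul_eq fs) i).1 (hfs i hi)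
    have hne : (p : ℤ) - fs.length ≠ 0 := sub_ne_zero.2 hq
    have hz : ∀ n : ℕ, 1 ≤ n →
        Limits.IsZero (CohIII.koszulHPow fs (ModuleCat.of R R) p n) := by
      intro n hn
      have := Groth.Agent.H82.KPow.P_map_pow' _ n hn fs hP _ hne
      exact (Groth.Agent.H82.KPow.isZero_homology_congr
        (Groth.Agent.H59.Kosz.koszulCx_eq (ModuleCat.of R R) (fs.map (· ^ n))) _).2 this
    have hsub : Subsingleton (CohIII.koszulHLim fs (ModuleCat.of R R) p) := by
      refine subsingleton_of_forall_eq 0 (fun z => ?_)
      obtain ⟨n, x, rfl⟩ := Module.DirectLimit.exists_of z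
      have key := Module.DirectLimit.of_f (R := R) (ι := ℕ)
        (G := fun n => (CohIII.koszulHPow fs (ModuleCat.of R R) p n : Type u))
        (f := fun n m h => (HomologicalComplex.homologyMap
          (CohIII.koszulTrans (ModuleCat.of R R) n m h fs) ((p : ℤ) - fs.length)).hom)
        (hij := Nat.le_succ n) (x := x)
      refine key.symm.trans ?_
      haveI := ModuleCat.subsingleton_of_isZero (hz (n + 1) (by omega))
      rw [Subsingleton.elim ((HomologicalComplex.homologyMap
          (CohIII.koszulTrans (ModuleCat.of R R) n (n + 1) (Nat.le_succ n) fs)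
            ((p : ℤ) - fs.length)).hom x) 0]
      exact map_zero _
    haveI : Subsingleton (DerCA.extCechH fs (ModuleCat.of R R) (p : ℤ)) :=
      e.symm.toEquiv.subsingleton
    exact ModuleCat.isZero_of_subsingleton _

end Groth.Agent.S9267
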