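import Groth.Statements.S9268
import Groth.Agent.H14.AdicSmooth
import Mathlib

set_option autoImplicit false
universe u
open CAlg

namespace Groth.Agent.S9268


open Groth.Agent.H14


/-- Suppose A is a Noetherian ring and B is a finitely generated A-algebra, and consider a prime q of B
lying over p in A. Then A → B is smooth at q (meaning some g not in q makes A → B_g smooth) exactly
when the induced map A_p → B_q is formally smooth with respect to the adic topology defined by the
maximal ideal of B_q. -/
theorem result (A B : Type u) [CommRing A] [IsNoetherianRing A]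
    [CommRing B] [Algebra A B] [Algebra.FiniteType A B] (q : Ideal B) [q.IsPrime] :
    (∃ g : B, g ∉ q ∧ Algebra.Smooth A (Localization.Away g)) ↔
      letI := (Localization.localRingHom (Ideal.comap (algebraMap A B) q) q (algebraMap A B) rfl).toAlgebra
      CAlgX.IsAdicFormallySmooth (Localization.AtPrime (Ideal.comap (algebraMap A B) q))
        (Localization.AtPrime q) (IsLocalRing.maximalIdeal (Localization.AtPrime q)) := by
  haveI : Algebra.FinitePresentation A B := Algebra.FinitePresentation.of_finiteType.mp inferInstance
  letI alg : Algebra (Localization.AtPrime (Ideal.comap (algebraMap A B) q))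
      (Localization.AtPrime q) :=
    (Localization.localRingHom (Ideal.comap (algebraMap A B) q) q (algebraMap A B) rfl).toAlgebra
  haveI : IsScalarTower A (Localization.AtPrime (Ideal.comap (algebraMap A B) q))
      (Localization.AtPrime q) := IsScalarTower.of_algebraMap_eq fun a => by
    rw [RingHom.algebraMap_toAlgebra, Localization.localRingHom_to_map,
      ← IsScalarTower.algebraMap_apply]
  haveI : Algebra.FormallyEtale A (Localization.AtPrime (Ideal.comap (algebraMap A B) q)) :=
    Algebra.FormallyEtale.of_isLocalization (Ideal.comap (algebraMap A B) q).primeCompl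
  change _ ↔ CAlgX.IsAdicFormallySmooth (Localization.AtPrime (Ideal.comap (algebraMap A B) q))
        (Localization.AtPrime q) (IsLocalRing.maximalIdeal (Localization.AtPrime q))
  constructor
  · rintro ⟨g, hg, hsm⟩
    have h1 : ↑(PrimeSpectrum.basicOpen g) ⊆ Algebra.smoothLocus A B :=
      Algebra.basicOpen_subset_smoothLocus_iff_smooth.mpr hsm
    have h2 : (⟨q, inferInstance⟩ : PrimeSpectrum B) ∈ Algebra.smoothLocus A B := h1 hg
    haveI : Algebra.FormallySmooth A (Localization.AtPrime q) := h2
    haveI : Algebra.FormallySmooth (Localization.AtPrime (Ideal.comap (algebraMap A B) q))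
        (Localization.AtPrime q) :=
      Algebra.FormallySmooth.of_restrictScalars A _ _
    exact isAdicFormallySmooth_of_formallySmooth _
  · intro h
    have h' := isAdicFormallySmooth_of_isLocalization (A := A)
      (Ideal.comap (algebraMap A B) q).primeCompl _ h
    obtain ⟨n, f, hf⟩ := Algebra.FiniteType.iff_quotient_mvPolynomial''.mp
      (inferInstance : Algebra.FiniteType A B)
    letI : Algebra (MvPolynomial (Fin n) A) B := f.toRingHom.toAlgebra
    haveI : IsScalarTower A (MvPolynomial (Fin n) A) B :=
      IsScalarTower.of_algebraMap_eq fun a => (f.commutes a).symm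
    haveI : Algebra.IsSmoothAt A q :=
      formallySmooth_localization_of_isAdicFormallySmooth (B := MvPolynomial (Fin n) A) hf q h'
    obtain ⟨g, hg, hsm⟩ := Algebra.IsSmoothAt.exists_notMem_smooth A q
    exact ⟨g, hg, hsm⟩

end Groth.Agent.S9268
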