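import Groth.Statements.S9270
import Groth.Agent.H87.FlatQuotGlobal

set_option autoImplicit false
set_option maxHeartbeats 400000
universe u
open CAlg

namespace Groth.Agent.S9270

/-- Let A' → B' be a flat ring map of finite presentation, I a locally nilpotent ideal of A', A = A'/I
and B = B'/IB'. Let f'_1, ..., f'_r be elements of B' whose images f_1, ..., f_r in B form a
quasi-regular sequence with B/(f_1, ..., f_r) flat over A. Then B'/(f'_1, ..., f'_r) is flat over
A'. -/
theorem result (A' B' : Type u) [CommRing A']
    [CommRing B'] [Algebra A' B'] [Module.Flat A' B'] [Algebra.FinitePresentation A' B']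
    (I : Ideal A') (hI : ∀ x ∈ I, IsNilpotent x) (r : ℕ) (f' : Fin r → B')
    (hq : CAlgX.IsQuasiRegular
      (fun i => Ideal.Quotient.mk (Ideal.map (algebraMap A' B') I) (f' i)))
    (hflat : Module.Flat (A' ⧸ I)
      ((B' ⧸ Ideal.map (algebraMap A' B') I) ⧸
        Ideal.span (Set.range (fun i => Ideal.Quotient.mk (Ideal.map (algebraMap A' B') I) (f' i))))) :
    Module.Flat A' (B' ⧸ Ideal.span (Set.range f')) := by
  classical
  set J' := Ideal.span (Set.range f') with hJ'
  refine Module.flat_of_isLocalized_maximal B' (B' ⧸ J')
    (fun P _ => Localization.AtPrime P ⧸ Submodule.localized' (Localization.AtPrime P)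
      P.primeCompl (Algebra.linearMap B' (Localization.AtPrime P)) J')
    (fun P _ => Submodule.toLocalizedQuotient' (Localization.AtPrime P) P.primeCompl
      (Algebra.linearMap B' (Localization.AtPrime P)) J') ?_
  intro P hP
  have heq : Submodule.localized' (Localization.AtPrime P) P.primeCompl
      (Algebra.linearMap B' (Localization.AtPrime P)) J' =
      (Ideal.span (Set.range fun i => algebraMap B' (Localization.AtPrime P) (f' i)) :
        Ideal (Localization.AtPrime P)) := by
    rw [Ideal.localized'_eq_map, hJ', Ideal.map_span, ← Set.range_comp]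
    rfl
  by_cases hfP : ∀ i, f' i ∈ P
  · have h := Groth.Agent.H87.FlatQuotGlobal.flat_localization_quotient A' B' I hI r f' hq hflat P hfP
    exact Module.Flat.of_linearEquiv ((Submodule.quotEquivOfEq _ _ heq).restrictScalars A')
  · push_neg at hfP
    obtain ⟨i, hi⟩ := hfP
    have htop : Submodule.localized' (Localization.AtPrime P) P.primeCompl
        (Algebra.linearMap B' (Localization.AtPrime P)) J' = ⊤ := by
      rw [heq]
      have hmem : algebraMap B' (Localization.AtPrime P) (f' i) ∈
          Ideal.span (Set.range fun i => algebraMap B' (Localization.AtPrime P) (f' i)) :=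
        Ideal.subset_span ⟨i, rfl⟩
      exact Ideal.eq_top_of_isUnit_mem _ hmem
        (IsLocalization.map_units (Localization.AtPrime P) (⟨f' i, hi⟩ : P.primeCompl))
    haveI : Subsingleton (Localization.AtPrime P ⧸ Submodule.localized' (Localization.AtPrime P)
        P.primeCompl (Algebra.linearMap B' (Localization.AtPrime P)) J') := by
      rw [htop]
      exact Submodule.Quotient.subsingleton_iff.mpr rfl
    infer_instance

end Groth.Agent.S9270
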