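import Groth.Statements.S9271
import Groth.Agent.S9270

set_option autoImplicit false
set_option maxHeartbeats 400000
universe u
open CAlg

namespace Groth.Agent.S9271

open scoped TensorProduct

/-- Suppose A' → B' is a flat ring map of finite presentation (smooth maps being one example), and let I
be a locally nilpotent ideal of A', with A = A'/I and B = B'/IB'. Let f'_1, ..., f'_r be elements of
B' whose images f_1, ..., f_r in B form a quasi-regular sequence with B/(f_1, ..., f_r) smooth over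
A. Then B'/(f'_1, ..., f'_r) is smooth over A'. -/
theorem result (A' B' : Type u) [CommRing A']
    [CommRing B'] [Algebra A' B'] [Module.Flat A' B'] [Algebra.FinitePresentation A' B']
    (I : Ideal A') (hI : ∀ x ∈ I, IsNilpotent x) (r : ℕ) (f' : Fin r → B')
    (hq : CAlgX.IsQuasiRegular
      (fun i => Ideal.Quotient.mk (Ideal.map (algebraMap A' B') I) (f' i)))
    (hsm : Algebra.Smooth (A' ⧸ I)
      ((B' ⧸ Ideal.map (algebraMap A' B') I) ⧸
        Ideal.span (Set.range (fun i => Ideal.Quotient.mk (Ideal.map (algebraMap A' B') I) (f' i))))) :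
    Algebra.Smooth A' (B' ⧸ Ideal.span (Set.range f')) := by
  classical
  haveI : Module.Flat (A' ⧸ I) ((B' ⧸ Ideal.map (algebraMap A' B') I) ⧸
      Ideal.span (Set.range (fun i => Ideal.Quotient.mk (Ideal.map (algebraMap A' B') I) (f' i)))) :=
    inferInstance
  set J' := Ideal.span (Set.range f') with hJ'
  haveI hflatC : Module.Flat A' (B' ⧸ J') :=
    Groth.Agent.S9270.result A' B' I hI r f' hq inferInstance
  haveI hfpC : Algebra.FinitePresentation A' (B' ⧸ J') :=
    Algebra.FinitePresentation.quotient (Submodule.fg_span (Set.finite_range f'))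
  refine { formallySmooth := ?_, finitePresentation := hfpC }
  rw [← Algebra.smoothLocus_eq_univ_iff, Set.eq_univ_iff_forall]
  intro q
  change Algebra.IsSmoothAt A' q.asIdeal
  set p := q.asIdeal.under A' with hp
  haveI : q.asIdeal.LiesOver p := ⟨rfl⟩
  have hIp : I ≤ p := fun x hx => by
    obtain ⟨n, hn⟩ := hI x hx
    exact Ideal.IsPrime.mem_of_pow_mem inferInstance n (hn ▸ zero_mem _)
  -- the fibre is formally smooth
  set IB := Ideal.map (algebraMap A' B') I with hIB
  letI algAκ : Algebra (A' ⧸ I) p.ResidueField :=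
    (Ideal.Quotient.lift I (algebraMap A' p.ResidueField) (fun a ha => by
      rw [Ideal.algebraMap_residueField_eq_zero]; exact hIp ha)).toAlgebra
  haveI : IsScalarTower A' (A' ⧸ I) p.ResidueField := IsScalarTower.of_algebraMap_eq (fun x => rfl)
  have h1 : Ideal.map (algebraMap A' (B' ⧸ J')) I = IB.map (Ideal.Quotient.mk J') := by
    rw [hIB, Ideal.map_map]; rfl
  have h2 : Ideal.span (Set.range (fun i => Ideal.Quotient.mk IB (f' i))) =
      J'.map (Ideal.Quotient.mk IB) := by
    rw [hJ', Ideal.map_span, ← Set.range_comp]; rfl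
  let ρ : ((B' ⧸ J') ⧸ Ideal.map (algebraMap A' (B' ⧸ J')) I) ≃+*
      ((B' ⧸ IB) ⧸ Ideal.span (Set.range (fun i => Ideal.Quotient.mk IB (f' i)))) :=
    (Ideal.quotEquivOfEq h1).trans ((DoubleQuot.quotQuotEquivComm J' IB).trans
      (Ideal.quotEquivOfEq h2.symm))
  let ρA : ((B' ⧸ J') ⧸ Ideal.map (algebraMap A' (B' ⧸ J')) I) ≃ₐ[A' ⧸ I]
      ((B' ⧸ IB) ⧸ Ideal.span (Set.range (fun i => Ideal.Quotient.mk IB (f' i)))) :=
    AlgEquiv.ofRingEquiv (f := ρ) (fun a => by
      obtain ⟨a, rfl⟩ := Ideal.Quotient.mk_surjective a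
      rfl)
  let e : ((A' ⧸ I) ⊗[A'] (B' ⧸ J')) ≃ₐ[A' ⧸ I]
      ((B' ⧸ IB) ⧸ Ideal.span (Set.range (fun i => Ideal.Quotient.mk IB (f' i)))) :=
    (Algebra.TensorProduct.quotIdealMapEquivQuotTensor (B' ⧸ J') I).symm.trans ρA
  let E : (p.ResidueField ⊗[A'] (B' ⧸ J')) ≃ₐ[p.ResidueField]
      p.ResidueField ⊗[A' ⧸ I]
        ((B' ⧸ IB) ⧸ Ideal.span (Set.range (fun i => Ideal.Quotient.mk IB (f' i)))) :=
    (Algebra.TensorProduct.cancelBaseChange A' (A' ⧸ I) p.ResidueField p.ResidueField
      (B' ⧸ J')).symm.trans (Algebra.TensorProduct.congr AlgEquiv.refl e)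
  haveI : Algebra.FormallySmooth p.ResidueField (p.Fiber (B' ⧸ J')) :=
    Algebra.FormallySmooth.of_equiv (A := p.ResidueField ⊗[A' ⧸ I]
        ((B' ⧸ IB) ⧸ Ideal.span (Set.range (fun i => Ideal.Quotient.mk IB (f' i)))))
      (B := p.ResidueField ⊗[A'] (B' ⧸ J')) E.symm
  exact Algebra.IsSmoothAt.of_formallySmooth_fiber p q.asIdeal

end Groth.Agent.S9271
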