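import Groth.Statements.S9289
import Mathlib
import Groth.Agent.H20.FormalFib
-- import your own Groth.Agent.* helpers here

set_option autoImplicit false
universe u
open CAlg

set_option linter.style.haveILetI false
set_option linter.unusedSectionVars false
set_option linter.unusedVariables false

namespace Groth.Agent.S9289


/-- Let R and R' be Noetherian rings with R' of finite type over R and quasi-finite at the prime p' of
R', lying over p. If R_p has geometrically regular formal fibres, so does R'_{p'}; stated as: if the
completion map of R_p is regular, so is that of R'_{p'}. -/
theorem result (R R' : Type u) [CommRing R]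
    [CommRing R'] [IsNoetherianRing R] [IsNoetherianRing R'] [Algebra R R'] [Algebra.FiniteType R R']
    (p' : Ideal R') [p'.IsPrime] [Algebra.QuasiFiniteAt R p']
    (h : CAlg.IsRegularHom (Localization.AtPrime (Ideal.comap (algebraMap R R') p'))
      (AdicCompletion (IsLocalRing.maximalIdeal (Localization.AtPrime (Ideal.comap (algebraMap R R') p')))
        (Localization.AtPrime (Ideal.comap (algebraMap R R') p')))) :
    CAlg.IsRegularHom (Localization.AtPrime p')
      (AdicCompletion (IsLocalRing.maximalIdeal (Localization.AtPrime p')) (Localization.AtPrime p')) := by
  letI algAC : Algebra (Localization.AtPrime (Ideal.comap (algebraMap R R') p'))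
      (Localization.AtPrime p') :=
    (Localization.localRingHom (Ideal.comap (algebraMap R R') p') p' (algebraMap R R') rfl).toAlgebra
  haveI : IsScalarTower R (Localization.AtPrime (Ideal.comap (algebraMap R R') p'))
      (Localization.AtPrime p') :=
    IsScalarTower.of_algebraMap_eq (R := R)
      (S := Localization.AtPrime (Ideal.comap (algebraMap R R') p')) (A := Localization.AtPrime p')
      (fun a => by
        show algebraMap R (Localization.AtPrime p') a =
          Localization.localRingHom (Ideal.comap (algebraMap R R') p') p' (algebraMap R R') rfl
            (algebraMap R _ a)
        rw [Localization.localRingHom_to_map,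
          IsScalarTower.algebraMap_apply R R' (Localization.AtPrime p')])
  exact Groth.Agent.H20.FormalFib.app_regularHom R R' p' (Ideal.comap (algebraMap R R') p') rfl
    (Localization.AtPrime (Ideal.comap (algebraMap R R') p')) (Localization.AtPrime p') h

end Groth.Agent.S9289
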