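import Groth.Statements.S9274
import Mathlib
import Groth.Agent.H20.GRingFF2
import Groth.Agent.S9289
-- import your own Groth.Agent.* helpers here

set_option autoImplicit false
universe u
open CAlg

set_option linter.style.haveILetI false
set_option linter.unusedSectionVars false
set_option linter.unusedVariables false

namespace Groth.Agent.S9274

open TensorProduct IsLocalRing


/-- For a Noetherian ring R, being a G-ring is equivalent to the following: whenever S is an R-algebra
that is finite and free as an R-module, every formal fibre of every local ring of S is a regular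
ring. -/
theorem result (R : Type u) [CommRing R] [IsNoetherianRing R] :
    CAlg.IsGRing R ↔
      ∀ (S : Type u) [CommRing S] [Algebra R S] [Module.Finite R S] [Module.Free R S]
        (q : Ideal S) [q.IsPrime] (p : Ideal (Localization.AtPrime q)) [p.IsPrime],
        IsRegularRing (EGA4.formalFibre (Localization.AtPrime q) p) := by
  constructor
  · intro hG S _ _ _ _ q _ P _
    haveI : IsNoetherianRing S := Algebra.FiniteType.isNoetherianRing R S
    have h := Groth.Agent.S9289.result R S q (hG.2 (Ideal.comap (algebraMap R S) q))
    have hgeo := (h.2 P).2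
    haveI hreg := hgeo P.ResidueField (Module.Finite.self _)
    exact @IsRegularRing.of_ringEquiv
      (P.ResidueField ⊗[P.ResidueField] EGA4.formalFibre (Localization.AtPrime q) P) _
      (EGA4.formalFibre (Localization.AtPrime q) P) _
      (Algebra.TensorProduct.lid P.ResidueField
        (EGA4.formalFibre (Localization.AtPrime q) P)).toRingEquiv hreg
  · intro H
    refine ⟨inferInstance, fun p _ => ?_⟩
    haveI noethA : IsNoetherianRing (Localization.AtPrime p) :=
      IsLocalization.isNoetherianRing p.primeCompl _ inferInstance
    haveI noethAh : IsNoetherianRing (EGA4.Cpl (Localization.AtPrime p)) :=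
      Groth.Agent.Lead.isNoetherianRing_adicCompletion (maximalIdeal (Localization.AtPrime p))
        (maximalIdeal (Localization.AtPrime p)).fg_of_isNoetherianRing
    refine ⟨inferInstance, fun Q _ =>
      ⟨Groth.Agent.H34.FibLoc.isNoetherianRing_fiber (Localization.AtPrime p)
        (EGA4.Cpl (Localization.AtPrime p)) Q, ?_⟩⟩
    intro k' _ _ hfin
    haveI := hfin
    letI algAk : Algebra (Localization.AtPrime p) k' :=
      ((algebraMap Q.ResidueField k').comp
        (algebraMap (Localization.AtPrime p) Q.ResidueField)).toAlgebra
    haveI towAKk : IsScalarTower (Localization.AtPrime p) Q.ResidueField k' :=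
      IsScalarTower.of_algebraMap_eq' rfl
    letI algRk : Algebra R k' :=
      ((algebraMap (Localization.AtPrime p) k').comp
        (algebraMap R (Localization.AtPrime p))).toAlgebra
    haveI towRAk : IsScalarTower R (Localization.AtPrime p) k' :=
      IsScalarTower.of_algebraMap_eq' rfl
    obtain ⟨S, i1, i2, i3, i4, φ, hφ⟩ :=
      Groth.Agent.H20.GRingFF.exists_finite_free_fractions R p (Localization.AtPrime p) Q k'
    letI := i1
    letI := i2
    haveI := i3
    haveI := i4
    letI algSk : Algebra S k' := φ.toRingHom.toAlgebra
    haveI towRSk : IsScalarTower R S k' :=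
      IsScalarTower.of_algebraMap_eq (fun r => (φ.commutes r).symm)
    haveI hN0 : IsNoetherianRing (Q.Fiber (EGA4.Cpl (Localization.AtPrime p))) :=
      Groth.Agent.H34.FibLoc.isNoetherianRing_fiber (Localization.AtPrime p)
        (EGA4.Cpl (Localization.AtPrime p)) Q
    haveI hN1 : IsNoetherianRing
        (k' ⊗[Q.ResidueField] Q.Fiber (EGA4.Cpl (Localization.AtPrime p))) :=
      Groth.Agent.Lead.GeomRegBC.noeth_tensor Q.ResidueField
        (Q.Fiber (EGA4.Cpl (Localization.AtPrime p))) k'
    let E := Algebra.TensorProduct.cancelBaseChange (Localization.AtPrime p) Q.ResidueField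
        Q.ResidueField k' (EGA4.Cpl (Localization.AtPrime p))
    haveI hN2 : IsNoetherianRing (k' ⊗[Localization.AtPrime p] EGA4.Cpl (Localization.AtPrime p)) :=
      isNoetherianRing_of_ringEquiv _ E.toRingEquiv
    haveI hreg : IsRegularRing (k' ⊗[Localization.AtPrime p] EGA4.Cpl (Localization.AtPrime p)) := by
      rw [isRegularRing_iff]
      intro 𝔓 h𝔓
      exact Groth.Agent.H20.GRingFF.regularLocal_of_formalFibres R p (Localization.AtPrime p) S k'
        (fun x => hφ x) (fun q _ P _ => H S q P) 𝔓
    exact IsRegularRing.of_ringEquiv E.symm.toRingEquiv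

end Groth.Agent.S9274
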