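import Groth.Statements.S9275
import Mathlib.RingTheory.RingHom.Etale
import Mathlib.RingTheory.Etale.Basic
import Mathlib.RingTheory.Localization.Away.Basic
import Mathlib.RingTheory.LocalProperties.Basic

set_option autoImplicit false
universe u
open EtAlg

namespace Groth.Agent.S9275

/-- If `B_h` is etale over `A` then so is `(B_g)_{h}`. -/
theorem etale_away_away (A B : Type u) [CommRing A] [CommRing B] [Algebra A B] (g h : B)
    (hh : Algebra.Etale A (Localization.Away h)) :
    ((algebraMap (Localization.Away g)
      (Localization.Away (algebraMap B (Localization.Away g) h))).comp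
        (algebraMap A (Localization.Away g))).Etale := by
  let T := Localization.Away (algebraMap B (Localization.Away g) h)
  have hunit : IsUnit (algebraMap B T h) := by
    rw [IsScalarTower.algebraMap_apply B (Localization.Away g) T]
    exact IsLocalization.Away.algebraMap_isUnit _
  let alg : Algebra (Localization.Away h) T :=
    (IsLocalization.Away.lift (S := Localization.Away h) h (g := algebraMap B T) hunit).toAlgebra
  have tower : IsScalarTower B (Localization.Away h) T :=
    IsScalarTower.of_algebraMap_eq' (IsLocalization.Away.lift_comp h hunit).symm
  have tower2 : IsScalarTower A (Localization.Away h) T := by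
    refine IsScalarTower.of_algebraMap_eq' ?_
    rw [IsScalarTower.algebraMap_eq A B T, IsScalarTower.algebraMap_eq A B (Localization.Away h),
      ← RingHom.comp_assoc, ← IsScalarTower.algebraMap_eq B (Localization.Away h) T]
  have : IsLocalization.Away (algebraMap B (Localization.Away h) g) T :=
    IsLocalization.Away.commutes (Localization.Away h) (Localization.Away g) T h g
  have : Algebra.Etale (Localization.Away h) T :=
    Algebra.Etale.of_isLocalizationAway (algebraMap B (Localization.Away h) g)
  have : Algebra.Etale A T := Algebra.Etale.comp A (Localization.Away h) T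
  have heq : (algebraMap (Localization.Away g) T).comp (algebraMap A (Localization.Away g)) =
      algebraMap A T := by
    rw [IsScalarTower.algebraMap_eq A (Localization.Away g) T]
  rw [heq, RingHom.etale_algebraMap]
  infer_instance

/-- Let A → B be a ring map and J an ideal of B such that A → B is étale at every prime of V(J), in the
sense that every prime q ⊇ J has some h ∉ q with A → B_h étale. Then there is g ∈ B mapping to a
unit of B/J such that A → B_g is étale. -/
theorem result (A B : Type u) [CommRing A] [CommRing B]
    [Algebra A B] (J : Ideal B)
    (h : ∀ (q : Ideal B) [q.IsPrime], J ≤ q → ∃ h : B, h ∉ q ∧ Algebra.Etale A (Localization.Away h)) :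
    ∃ g : B, IsUnit (Ideal.Quotient.mk J g) ∧ Algebra.Etale A (Localization.Away g) := by
  let E : Set B := {h : B | Algebra.Etale A (Localization.Away h)}
  let H : Ideal B := Ideal.span E
  have htop : J ⊔ H = ⊤ := by
    by_contra hne
    obtain ⟨m, hm, hle⟩ := Ideal.exists_le_maximal _ hne
    have := hm.isPrime
    obtain ⟨h0, h0m, h0e⟩ := h m (le_sup_left.trans hle)
    exact h0m (hle (Ideal.mem_sup_right (Ideal.subset_span h0e)))
  have h1 : (1 : B) ∈ J ⊔ H := by rw [htop]; exact Submodule.mem_top
  obtain ⟨j, hj, g, hg, hjg⟩ := Submodule.mem_sup.mp h1
  refine ⟨g, ?_, ?_⟩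
  · have : Ideal.Quotient.mk J g = 1 := by
      rw [← map_one (Ideal.Quotient.mk J), ← hjg, map_add, Ideal.Quotient.eq_zero_iff_mem.mpr hj,
        zero_add]
    rw [this]
    exact isUnit_one
  · rw [← RingHom.etale_algebraMap]
    let s : Set (Localization.Away g) := (algebraMap B (Localization.Away g)) '' E
    apply RingHom.Etale.ofLocalizationSpanTarget (algebraMap A (Localization.Away g)) s
    · -- the images of E span the unit ideal since g is a unit
      rw [Ideal.eq_top_iff_one]
      have hgu : IsUnit (algebraMap B (Localization.Away g) g) :=
        IsLocalization.Away.algebraMap_isUnit g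
      have hgmem : algebraMap B (Localization.Away g) g ∈ Ideal.span s := by
        have : algebraMap B (Localization.Away g) g ∈ Ideal.map (algebraMap B (Localization.Away g)) H :=
          Ideal.mem_map_of_mem _ hg
        rwa [Ideal.map_span] at this
      exact (Ideal.eq_top_of_isUnit_mem _ hgmem hgu) ▸ Submodule.mem_top
    · rintro ⟨_, h0, hh0, rfl⟩
      exact etale_away_away A B g h0 hh0

end Groth.Agent.S9275
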