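import Groth.Statements.S9278
import Groth.Agent.H46.McCoy
import Mathlib.RingTheory.Ideal.AssociatedPrime.Finiteness

set_option autoImplicit false
universe u
open CAlgX

namespace Groth.Agent.S9278

/-- Let R be a Noetherian local ring and φ : R^m → R^n a map of finite free modules with matrix M. Then
φ is injective if and only if the rank of M is m and the determinantal ideal I(M) is the unit ideal
or contains a nonzerodivisor. -/
theorem result (R : Type u) [CommRing R]
    [IsLocalRing R] [IsNoetherianRing R] (m n : ℕ) (M : Matrix (Fin n) (Fin m) R) :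
    Function.Injective (Matrix.mulVecLin M) ↔
      CAlgX.matrixRank M = m ∧ (CAlgX.detIdeal M = ⊤ ∨ ∃ a ∈ CAlgX.detIdeal M, IsRegular a) := by
  rw [Groth.Agent.H46.mccoy' M]
  refine and_congr_right fun _ => ?_
  constructor
  · intro h
    right
    by_contra hcon
    push Not at hcon
    have hdisj : Disjoint ((CAlgX.detIdeal M : Ideal R) : Set R) (nonZeroDivisors R) := by
      rw [Set.disjoint_left]
      intro a ha ha'
      exact hcon a ha (isRegular_iff_mem_nonZeroDivisors.2 ha')
    have := Ideal.bot_lt_annihilator_of_disjoint_nonZeroDivisors hdisj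
    exact (ne_of_gt this) h
  · intro h
    have h' : ∃ a ∈ CAlgX.detIdeal M, IsRegular a := by
      rcases h with h | h
      · exact ⟨1, by rw [h]; trivial, isRegular_one⟩
      · exact h
    obtain ⟨a, ha, hreg⟩ := h'
    rw [eq_bot_iff]
    intro x hx
    rw [Submodule.mem_bot]
    have := Submodule.mem_annihilator.1 hx a ha
    rw [smul_eq_mul] at this
    exact hreg.right.eq_iff.1 (by rw [this, zero_mul])

end Groth.Agent.S9278
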