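import Groth.Statements.S9279
import Groth.Agent.H47.HensCompletion
import Groth.Agent.H47.HensNoeth
import Groth.Agent.H47.PuncDisc
import Groth.Agent.Lead.CompleteNoetherian
import Groth.Agent.H47.HensTransport

set_option autoImplicit false
universe u
open Brnch

namespace Groth.Agent.S9279

/-- For a Noetherian local ring A with henselization S and completion A^ at its maximal ideal, the
spectrum of A^ with its closed point removed is preconnected exactly when the spectrum of S with its
closed point removed is (the two sets are empty together, namely when A has dimension zero). Stated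
as: the complement of the closed point in Spec A^ is preconnected iff the complement of the closed
point in Spec S is. -/
theorem result (A S : Type u) [CommRing A]
    [IsLocalRing A] [IsNoetherianRing A] [CommRing S] [IsLocalRing S] [Algebra A S]
    [IsLocalHom (algebraMap A S)] [Hensel.IsHenselization A S] :
    IsPreconnected
        ({IsLocalRing.closedPoint (AdicCompletion (IsLocalRing.maximalIdeal A) A)}ᶜ :
          Set (PrimeSpectrum (AdicCompletion (IsLocalRing.maximalIdeal A) A))) ↔
      IsPreconnected ({IsLocalRing.closedPoint S}ᶜ : Set (PrimeSpectrum S)) := by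
  classical
  haveI hlocC : IsLocalHom (algebraMap A (AdicCompletion (IsLocalRing.maximalIdeal A) A)) := by
    refine ((IsLocalRing.local_hom_TFAE
      (algebraMap A (AdicCompletion (IsLocalRing.maximalIdeal A) A))).out 0 2).mpr ?_
    rw [AdicCompletion.maximalIdeal_eq_map]
  haveI : HenselianLocalRing (AdicCompletion (IsLocalRing.maximalIdeal A) A) :=
    Groth.Agent.H3.henselianLocalRing_of_henselianRing_maximalIdeal _
  haveI hNC : IsNoetherianRing (AdicCompletion (IsLocalRing.maximalIdeal A) A) :=
    Groth.Agent.Lead.isNoetherianRing_adicCompletion (IsLocalRing.maximalIdeal A)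
      (IsLocalRing.maximalIdeal A).fg_of_isNoetherianRing
  obtain ⟨ψ, hψ, -⟩ := Hensel.IsHenselization.universal (R := A) (S := S)
    (AdicCompletion (IsLocalRing.maximalIdeal A) A)
    (algebraMap A (AdicCompletion (IsLocalRing.maximalIdeal A) A)) hlocC
  letI : Algebra S (AdicCompletion (IsLocalRing.maximalIdeal A) A) := ψ.toAlgebra
  haveI : IsScalarTower A S (AdicCompletion (IsLocalRing.maximalIdeal A) A) :=
    IsScalarTower.of_algebraMap_eq (fun a => (RingHom.congr_fun hψ a).symm)
  haveI := Groth.Agent.H47.HensCompletion.flat_completion A S
  haveI := Groth.Agent.H47.HensCompletion.isLocalHom_completion A S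
  have hI := Groth.Agent.H47.HensNoeth.isIndEtaleLocal_of_isHenselization A S
  haveI : IsNoetherianRing S := hI.isNoetherianRing
  haveI : HenselianLocalRing S := Hensel.IsHenselization.henselian (R := A) (S := S)
  have hmax : (IsLocalRing.maximalIdeal S).map
      (algebraMap S (AdicCompletion (IsLocalRing.maximalIdeal A) A)) =
      IsLocalRing.maximalIdeal (AdicCompletion (IsLocalRing.maximalIdeal A) A) := by
    rw [← hI.map_max, Ideal.map_map, ← IsScalarTower.algebraMap_eq,
      ← AdicCompletion.maximalIdeal_eq_map]
  have hres : ∀ t : AdicCompletion (IsLocalRing.maximalIdeal A) A, ∃ s : S,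
      t - algebraMap S (AdicCompletion (IsLocalRing.maximalIdeal A) A) s ∈
        IsLocalRing.maximalIdeal (AdicCompletion (IsLocalRing.maximalIdeal A) A) := by
    intro t
    obtain ⟨z, hz⟩ := (AdicCompletion.residueField_map_bijective A).2 (IsLocalRing.residue _ t)
    obtain ⟨a, rfl⟩ := IsLocalRing.residue_surjective z
    refine ⟨algebraMap A S a, ?_⟩
    rw [← IsScalarTower.algebraMap_apply, ← IsLocalRing.residue_eq_zero_iff, map_sub, ← hz,
      IsLocalRing.ResidueField.map_residue, sub_self]
  rw [Groth.Agent.H47.PuncDisc.isPreconnected_punctured_iff,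
    Groth.Agent.H47.PuncDisc.isPreconnected_punctured_iff, not_iff_not]
  exact ⟨Groth.Agent.H47.PuncDisc.disc_of_disc hmax hres,
    Groth.Agent.H47.PuncDisc.disc_map hmax⟩

end Groth.Agent.S9279
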