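import Groth.Statements.S9283
import Mathlib.RingTheory.Finiteness.Ideal
import Mathlib.RingTheory.LocalRing.MaximalIdeal.Basic

set_option autoImplicit false
universe u
open CAlg

namespace Groth.Agent.S9283

/-- Auxiliary: for a finite set of elements each of which has a power killing every multiple of `x`
that is nonzero..., we find a nonzero multiple of `x` killed by all of them. -/
theorem aux (R : Type u) [CommRing R] (s : Finset R) (x : R) (hx : x ≠ 0)
    (h : ∀ f ∈ s, ∃ n : ℕ, f ^ n * x = 0) :
    ∃ c : R, c * x ≠ 0 ∧ ∀ f ∈ s, f * (c * x) = 0 := by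
  classical
  induction s using Finset.induction_on with
  | empty => exact ⟨1, by simpa using hx, by simp⟩
  | insert g s hg ih =>
    obtain ⟨c, hc, hcs⟩ := ih (fun f hf => h f (Finset.mem_insert_of_mem hf))
    obtain ⟨n, hn⟩ := h g (Finset.mem_insert_self g s)
    -- some power of g kills c * x
    have hex : ∃ m : ℕ, g ^ m * (c * x) = 0 := ⟨n, by
      calc g ^ n * (c * x) = c * (g ^ n * x) := by ring
        _ = 0 := by rw [hn, mul_zero]⟩
    let m := Nat.find hex
    have hm : g ^ m * (c * x) = 0 := Nat.find_spec hex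
    have hm0 : m ≠ 0 := by
      intro h0
      rw [h0, pow_zero, one_mul] at hm
      exact hc hm
    obtain ⟨k, hk⟩ := Nat.exists_eq_succ_of_ne_zero hm0
    have hkne : g ^ k * (c * x) ≠ 0 := by
      intro hk0
      have : m ≤ k := Nat.find_min' hex hk0
      omega
    refine ⟨g ^ k * c, ?_, ?_⟩
    · rw [mul_assoc]; exact hkne
    · intro f hf
      rcases Finset.mem_insert.mp hf with rfl | hf
      · calc f * (f ^ k * c * x) = f ^ (k + 1) * (c * x) := by ring
          _ = 0 := by rw [← Nat.succ_eq_add_one, ← hk]; exact hm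
      · calc f * (g ^ k * c * x) = g ^ k * (f * (c * x)) := by ring
          _ = 0 := by rw [hcs f hf, mul_zero]

/-- Let R be an auto-associated ring, that is, a local ring whose maximal ideal is weakly associated to
R: some nonzero x ∈ R is killed by a power of every element of the maximal ideal. Then every proper
finitely generated ideal of R has a nonzero annihilator. -/
theorem result (R : Type u) [CommRing R] [IsLocalRing R]
    (h : ∃ x : R, x ≠ 0 ∧ ∀ f ∈ IsLocalRing.maximalIdeal R, ∃ n : ℕ, f ^ n * x = 0)
    (I : Ideal R) (hI : I.FG) (hI' : I ≠ ⊤) : I.annihilator ≠ ⊥ := by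
  obtain ⟨x, hx, hxm⟩ := h
  obtain ⟨s, hs⟩ := hI
  have hIm : I ≤ IsLocalRing.maximalIdeal R := IsLocalRing.le_maximalIdeal hI'
  have hsm : ∀ f ∈ s, ∃ n : ℕ, f ^ n * x = 0 := by
    intro f hf
    apply hxm
    apply hIm
    rw [← hs]
    exact Ideal.subset_span hf
  obtain ⟨c, hc, hcs⟩ := aux R s x hx hsm
  intro hann
  apply hc
  have : c * x ∈ I.annihilator := by
    rw [← hs, Submodule.mem_annihilator_span]
    rintro ⟨f, hf⟩
    have := hcs f hf
    simpa [smul_eq_mul, mul_comm] using this
  rw [hann] at this
  exact this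

end Groth.Agent.S9283
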