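import Groth.Statements.S9285
import Mathlib.RingTheory.Ideal.Maps
import Mathlib.LinearAlgebra.Pi
import Mathlib.RingTheory.Finiteness.Ideal

set_option autoImplicit false
universe u
open CAlg

namespace Groth.Agent.S9285

/-- A ring R has the property that every proper finitely generated ideal has a nonzero annihilator if
and only if every injective linear map R → R^n admits a retraction. -/
theorem result (R : Type u) [CommRing R] :
    (∀ I : Ideal R, I.FG → I ≠ ⊤ → I.annihilator ≠ ⊥) ↔
      ∀ (n : ℕ) (u : R →ₗ[R] (Fin n → R)), Function.Injective u →
        ∃ v : (Fin n → R) →ₗ[R] R, v.comp u = LinearMap.id := by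
  constructor
  · intro hP n u hu
    -- the ideal generated by the coordinates of u 1
    let a : Fin n → R := u 1
    let I : Ideal R := Ideal.span (Set.range a)
    have hIfg : I.FG := by
      classical
      exact ⟨(Finset.univ.image a), by simp [I]⟩
    have hann : I.annihilator = ⊥ := by
      rw [eq_bot_iff]
      intro x hx
      have hx' : ∀ i, x * a i = 0 := by
        intro i
        have := (Submodule.mem_annihilator.mp hx) (a i) (Ideal.subset_span (Set.mem_range_self i))
        simpa [smul_eq_mul] using this
      have : u x = 0 := by
        have hx1 : u x = x • u 1 := by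
          rw [← LinearMap.map_smul]; simp
        rw [hx1]
        funext i
        simpa [smul_eq_mul] using hx' i
      have : x = 0 := hu (by rw [this, map_zero])
      exact this
    have hItop : I = ⊤ := by
      by_contra hne
      exact hP I hIfg hne hann
    have h1 : (1 : R) ∈ Ideal.span (Set.range a) := by
      show (1 : R) ∈ I
      rw [hItop]; exact Submodule.mem_top
    rw [Ideal.mem_span_range_iff_exists_fun] at h1
    obtain ⟨c, hc⟩ := h1
    refine ⟨∑ i, (c i) • LinearMap.proj i, ?_⟩
    apply LinearMap.ext_ring
    simp only [LinearMap.comp_apply, LinearMap.id_apply, LinearMap.sum_apply, LinearMap.smul_apply,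
      LinearMap.proj_apply, smul_eq_mul]
    exact hc
  · intro hret I hIfg hne hann
    obtain ⟨s, hs⟩ := hIfg
    -- enumerate generators
    let n := s.card
    let e : Fin n ≃ s := (Finset.equivFin s).symm
    let a : Fin n → R := fun i => (e i : R)
    have hrange : Set.range a = (s : Set R) := by
      ext x
      constructor
      · rintro ⟨i, rfl⟩
        exact (e i).2
      · intro hx
        exact ⟨e.symm ⟨x, hx⟩, by simp [a]⟩
    let u : R →ₗ[R] (Fin n → R) := LinearMap.pi (fun i => LinearMap.mulRight R (a i))
    have hu : Function.Injective u := by
      rw [← LinearMap.ker_eq_bot, eq_bot_iff]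
      intro x hx
      have hx' : ∀ i, x * a i = 0 := by
        intro i
        have := congrFun (LinearMap.mem_ker.mp hx) i
        simpa [u] using this
      have hxann : x ∈ I.annihilator := by
        rw [← hs, Submodule.mem_annihilator_span]
        rintro ⟨y, hy⟩
        have hy' : y ∈ Set.range a := by rw [hrange]; exact hy
        obtain ⟨i, rfl⟩ := hy'
        simpa [smul_eq_mul] using hx' i
      rw [hann] at hxann
      exact hxann
    obtain ⟨v, hv⟩ := hret n u hu
    apply hne
    rw [Ideal.eq_top_iff_one]
    have h1 : v (u 1) = 1 := by
      have := congrArg (fun f => f 1) hv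
      simpa using this
    have hu1 : u 1 = ∑ i, a i • (Pi.single i (1 : R) : Fin n → R) := by
      funext j
      simp [u, Finset.sum_apply, Pi.single_apply]
    rw [hu1, map_sum] at h1
    rw [← h1]
    apply Submodule.sum_mem
    intro i _
    rw [LinearMap.map_smul, smul_eq_mul]
    apply Ideal.mul_mem_right
    rw [← hs]
    apply Ideal.subset_span
    exact (e i).2

end Groth.Agent.S9285
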