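import Groth.Statements.S9286
import Groth.Agent.H46.Retract

set_option autoImplicit false
universe u
open CAlg

namespace Groth.Agent.S9286

/-- Let R be a ring in which every proper finitely generated ideal has a nonzero annihilator. Given an
injective R-linear map u : N → M, where both N and M are finite and projective over R, the quotient
Coker(u) = M/u(N) is again projective as an R-module. -/
theorem result (R : Type u) [CommRing R]
    (hP : (∀ I : Ideal R, I.FG → I ≠ ⊤ → I.annihilator ≠ ⊥))
    (N M : Type u) [AddCommGroup N] [Module R N] [Module.Finite R N] [Module.Projective R N]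
    [AddCommGroup M] [Module R M] [Module.Finite R M] [Module.Projective R M]
    (u : N →ₗ[R] M) (hu : Function.Injective u) :
    Module.Projective R (M ⧸ LinearMap.range u) := by
  obtain ⟨w, hw⟩ := Groth.Agent.H46.exists_retraction_of_finite_projective hP u hu
  have hw' : ∀ n, w (u n) = n := fun n => LinearMap.congr_fun hw n
  let i : (M ⧸ LinearMap.range u) →ₗ[R] M :=
    (LinearMap.range u).liftQ (LinearMap.id - u ∘ₗ w) (by
      rintro _ ⟨n, rfl⟩
      simp [hw' n])
  refine Module.Projective.of_split i (LinearMap.range u).mkQ ?_
  ext m
  simp only [LinearMap.comp_apply, Submodule.mkQ_apply, LinearMap.id_apply, i,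
    Submodule.liftQ_apply, LinearMap.sub_apply]
  rw [Submodule.Quotient.mk_sub, sub_eq_self, Submodule.Quotient.mk_eq_zero]
  exact ⟨w m, rfl⟩

end Groth.Agent.S9286
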