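import Groth.Statements.S9288
import Groth.Agent.H87.DiffBasis
import Groth.Agent.S2037
import Groth.Agent.S4573
import Groth.Agent.S2471
import Groth.Agent.S5779
import Groth.Agent.S5777
import Groth.Agent.H29.CM2
import Groth.Agent.H72.RegLoc

set_option autoImplicit false
set_option maxHeartbeats 400000
universe u
open CAlg

namespace Groth.Agent.S9288

/-- Let k be a field of positive characteristic p and (A, m, K) a Noetherian local k-algebra which is
geometrically regular over k. Let F ⊆ K be a subfield containing k, finitely generated over k, and φ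
: k[y_1, ..., y_m] → A a k-algebra map such that each y_i maps into F (modulo m) and such that the
differentials of the images of y_1, ..., y_m form a basis of Ω_{F/k}. Let 𝔭 be the inverse image of
m in k[y_1, ..., y_m]. Then A is flat over k[y_1, ..., y_m] (equivalently over its localization at
𝔭, since A is local) and A/𝔭A is a regular local ring. -/
theorem result (p : ℕ)
    [Fact p.Prime] (k : Type u) [Field k] [CharP k p] (A : Type u) [CommRing A] [IsLocalRing A]
    [IsNoetherianRing A] [Algebra k A] (hA : CAlg.IsGeometricallyRegular k A)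
    (F : IntermediateField k (IsLocalRing.ResidueField A)) (hF : F.FG) (m : ℕ)
    (φ : MvPolynomial (Fin m) k →ₐ[k] A)
    (hφ : ∀ i : Fin m, IsLocalRing.residue A (φ (MvPolynomial.X i)) ∈ F)
    (hb : LinearIndependent F
        (fun i : Fin m => KaehlerDifferential.D k F ⟨IsLocalRing.residue A (φ (MvPolynomial.X i)), hφ i⟩) ∧
      Submodule.span F (Set.range
        (fun i : Fin m => KaehlerDifferential.D k F ⟨IsLocalRing.residue A (φ (MvPolynomial.X i)), hφ i⟩)) = ⊤) :
    letI := φ.toRingHom.toAlgebra
    Module.Flat (MvPolynomial (Fin m) k) A ∧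
      IsRegularLocalRing (A ⧸ Ideal.map φ.toRingHom
        (Ideal.comap φ.toRingHom (IsLocalRing.maximalIdeal A))) := by
  letI algPA : Algebra (MvPolynomial (Fin m) k) A := φ.toRingHom.toAlgebra
  classical
  haveI : ExpChar k p := ExpChar.prime Fact.out
  -- formal smoothness of `A` over `k`
  have hfs : CAlgX.IsAdicFormallySmooth k A (IsLocalRing.maximalIdeal A) :=
    (Groth.Agent.S4573.result p).mpr (fun k' _ _ hfin hpow =>
      (Groth.Agent.S2037.result p).mp hA k' hfin (fun x => hpow x))
  obtain ⟨hreg, hinj⟩ := Groth.Agent.S2471.result.mp hfs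
  -- the prime and the localization
  set 𝔭 : Ideal (MvPolynomial (Fin m) k) :=
    Ideal.comap φ.toRingHom (IsLocalRing.maximalIdeal A) with h𝔭
  haveI : 𝔭.IsPrime := Ideal.comap_isPrime _ _
  let A₀ := Localization.AtPrime 𝔭
  have hunit : ∀ y : 𝔭.primeCompl, IsUnit (φ.toRingHom y) := by
    intro y
    have : φ.toRingHom y ∉ IsLocalRing.maximalIdeal A := fun h => y.2 h
    exact IsLocalRing.notMem_maximalIdeal.mp this
  let φ' : A₀ →+* A := IsLocalization.lift hunit
  have hcomp : ∀ a, φ' (algebraMap _ A₀ a) = φ a := fun a => IsLocalization.lift_eq hunit a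
  have hmap₀ : (IsLocalRing.maximalIdeal A₀).map φ' = 𝔭.map φ.toRingHom := by
    rw [← Localization.AtPrime.map_eq_maximalIdeal, Ideal.map_map]
    congr 1
    exact RingHom.ext hcomp
  have hle : (IsLocalRing.maximalIdeal A₀).map φ' ≤ IsLocalRing.maximalIdeal A := by
    rw [hmap₀]; exact Ideal.map_comap_le
  haveI hloc' : IsLocalHom φ' := ((IsLocalRing.local_hom_TFAE φ').out 0 2).mpr hle
  -- regular system of parameters of `A₀`
  obtain ⟨d, x, hx, hd, hspan, hLI₀⟩ := Groth.Agent.H87.DiffBasis.exists_rsp A₀
  haveI : Algebra.FormallySmooth (⊥ : Subfield k) (IsLocalRing.ResidueField A₀) :=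
    Groth.Agent.H44.CoeffField.formallySmooth_bot' k (IsLocalRing.ResidueField A₀)
  have hE₀ := fun i => Groth.Agent.H87.DiffBasis.exists_derivation_dual (R := A₀)
    (k0 := (⊥ : Subfield k)) x hx hLI₀ i
  choose E₀ hE₀L hE₀x using hE₀
  let E : Fin d → (A₀ →+ IsLocalRing.ResidueField A) := fun i =>
    ((IsLocalRing.ResidueField.map φ' : _ →+* _) : _ →+ _).comp (E₀ i)
  have hE : ∀ i a b, E i (a * b) = IsLocalRing.residue A (φ' a) * E i b +
      IsLocalRing.residue A (φ' b) * E i a := by
    intro i a b
    change IsLocalRing.ResidueField.map φ' (E₀ i (a * b)) = _ *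
      IsLocalRing.ResidueField.map φ' (E₀ i b) + _ * IsLocalRing.ResidueField.map φ' (E₀ i a)
    rw [hE₀L, map_add, map_mul, map_mul, IsLocalRing.ResidueField.map_residue,
      IsLocalRing.ResidueField.map_residue]
  have hEx : ∀ i j, E i (x j) = if j = i then 1 else 0 := by
    intro i j
    change IsLocalRing.ResidueField.map φ' (E₀ i (x j)) = _
    rw [hE₀x]
    split_ifs <;> simp
  have hxA : ∀ j, φ' (x j) ∈ IsLocalRing.maximalIdeal A := fun j =>
    hle (Ideal.mem_map_of_mem _ (hx j))
  have hloc : ∀ j, ∃ s a, IsLocalRing.residue A (φ s) ≠ 0 ∧ IsLocalRing.residue A (φ a) = 0 ∧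
      algebraMap _ A₀ s * x j = algebraMap _ A₀ a := by
    intro j
    obtain ⟨⟨a, s⟩, hsa⟩ := IsLocalization.surj 𝔭.primeCompl (x j)
    refine ⟨s, a, ?_, ?_, ?_⟩
    · rw [Ne, IsLocalRing.residue_eq_zero_iff]
      exact fun h => s.2 h
    · rw [IsLocalRing.residue_eq_zero_iff]
      have h1 : algebraMap _ A₀ a ∈ IsLocalRing.maximalIdeal A₀ := by
        rw [← hsa]
        exact Ideal.mul_mem_right _ _ (hx j)
      exact (IsLocalization.AtPrime.to_map_mem_maximal_iff A₀ 𝔭 a).mp h1
    · rw [mul_comm]; exact hsa
  have hLIA := Groth.Agent.H87.DiffBasis.linearIndependent_cotangent F φ hφ hb.1 hinj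
    (algebraMap _ A₀) φ' hcomp x hloc E hE hEx hxA
  -- the quotient is regular
  obtain ⟨hdim, hregQ⟩ := (Groth.Agent.S5779.result A d
    (fun j => (⟨φ' (x j), hxA j⟩ : IsLocalRing.maximalIdeal A))).1.mp ⟨hreg, hLIA⟩
  have hI : Ideal.span (Set.range fun j => φ' (x j)) = 𝔭.map φ.toRingHom := by
    rw [← hmap₀, ← hspan, Ideal.map_span, ← Set.range_comp]
    rfl
  refine ⟨?_, ?_⟩
  · -- flatness
    letI algA₀A : Algebra A₀ A := φ'.toAlgebra
    haveI : IsScalarTower (MvPolynomial (Fin m) k) A₀ A :=
      IsScalarTower.of_algebraMap_eq (fun a => (hcomp a).symm)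
    haveI : IsLocalHom (algebraMap A₀ A) := hloc'
    have hofList : Ideal.ofList (List.ofFn x) = IsLocalRing.maximalIdeal A₀ := by
      rw [← hspan]
      unfold Ideal.ofList
      congr 1
      ext z
      simp [List.mem_ofFn]
    have hflatA₀ : Module.Flat A₀ A := by
      refine Groth.Agent.S5777.flat_of_regular A₀ A A (List.ofFn x) ?_ ?_ ?_
      · intro f hf
        obtain ⟨j, rfl⟩ := List.mem_ofFn.mp hf
        exact hx j
      · haveI : (Ideal.ofList (List.ofFn x)).IsMaximal := by
          rw [hofList]; infer_instance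
        letI := Ideal.Quotient.field (Ideal.ofList (List.ofFn x))
        infer_instance
      · rw [← RingTheory.Sequence.isWeaklyRegular_map_algebraMap_iff A A (List.ofFn x),
          List.map_ofFn]
        have hCM := Groth.Agent.H72.RegLoc.isCM_of_isRegularLocalRing A
        refine ((Groth.Agent.H29.CM.isWeaklyRegular_iff_of_isCM
          (List.ofFn (algebraMap A₀ A ∘ x)) A hCM ?_).1).mpr ?_
        · intro z hz
          obtain ⟨j, rfl⟩ := List.mem_ofFn.mp hz
          exact hxA j
        · have hofList' : Ideal.ofList (List.ofFn (algebraMap A₀ A ∘ x)) =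
              Ideal.span (Set.range fun j => φ' (x j)) := by
            unfold Ideal.ofList
            congr 1
            ext z
            simp [List.mem_ofFn]
            rfl
          have he : (A ⧸ (Ideal.ofList (List.ofFn (algebraMap A₀ A ∘ x)) •
              (⊤ : Submodule A A))) ≃ₗ[A] (A ⧸ Ideal.span (Set.range fun j => φ' (x j))) :=
            Submodule.quotEquivOfEq _ _ (by
              rw [smul_eq_mul, Ideal.mul_top, hofList'])
          rw [Module.supportDim_eq_of_equiv he, Module.supportDim_quotient_eq_ringKrullDim,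
            Module.supportDim_self_eq_ringKrullDim, List.length_ofFn]
          exact hdim
    haveI : Module.Flat (MvPolynomial (Fin m) k) A₀ := IsLocalization.flat A₀ 𝔭.primeCompl
    exact Module.Flat.trans (MvPolynomial (Fin m) k) A₀ A
  · exact IsRegularLocalRing.of_ringEquiv (Ideal.quotEquivOfEq hI)

end Groth.Agent.S9288
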