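import Groth.Statements.S9292
import Mathlib

set_option autoImplicit false
universe u
open EtAlg

namespace Groth.Agent.S9292

/-- Let A be a ring, I an ideal, and e_1, ..., e_n a complete system of orthogonal idempotents of A/I
(equivalently a finite disjoint open covering of Spec(A/I)). Then one can find an A-algebra A' that
is étale over A, such that the induced map A/I → A'/IA' is bijective, together with a complete
system of orthogonal idempotents of A' lifting the e_j. -/
theorem result (A : Type u) [CommRing A] (I : Ideal A)
    (n : ℕ) (e : Fin n → A ⧸ I) (he : CompleteOrthogonalIdempotents e) :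
    ∃ (A' : Type u) (_ : CommRing A') (_ : Algebra A A'), Algebra.Etale A A' ∧
      Function.Bijective (Ideal.quotientMap (Ideal.map (algebraMap A A') I) (algebraMap A A')
        Ideal.le_comap_map) ∧
      ∃ e' : Fin n → A', CompleteOrthogonalIdempotents e' ∧
        ∀ j, Ideal.Quotient.mk (Ideal.map (algebraMap A A') I) (e' j) =
          Ideal.quotientMap (Ideal.map (algebraMap A A') I) (algebraMap A A') Ideal.le_comap_map
            (e j) := by
  classical
  choose a ha using fun j => Ideal.Quotient.mk_surjective (e j)
  -- facts in `A`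
  have h1 : ∀ i, a i - a i * a i ∈ I := by
    intro i
    rw [← Ideal.Quotient.eq, map_mul, ha]
    exact ((he.idem i).eq).symm
  have h2 : ∀ i j, j ≠ i → a j * a i ∈ I := by
    intro i j hij
    rw [← Ideal.Quotient.eq_zero_iff_mem, map_mul, ha, ha]
    exact he.ortho hij
  let B : Fin n → Type u := fun i => Localization.Away (a i)
  let J : ∀ i, Ideal (B i) := fun i => I.map (algebraMap A (B i))
  have hloc1 : ∀ i, (1 : B i) - algebraMap A (B i) (a i) ∈ J i := by
    intro i
    have hu : algebraMap A (B i) (a i) * IsLocalization.Away.invSelf (a i) = 1 :=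
      IsLocalization.Away.mul_invSelf (a i)
    have e1 : (1 : B i) - algebraMap A (B i) (a i) =
        IsLocalization.Away.invSelf (a i) * algebraMap A (B i) (a i - a i * a i) := by
      rw [map_sub, map_mul, mul_sub, ← mul_assoc, mul_comm (IsLocalization.Away.invSelf (a i)), hu,
        one_mul]
    rw [e1]
    exact Ideal.mul_mem_left _ _ (Ideal.mem_map_of_mem _ (h1 i))
  have hloc2 : ∀ i j, j ≠ i → algebraMap A (B i) (a j) ∈ J i := by
    intro i j hij
    have hu : algebraMap A (B i) (a i) * IsLocalization.Away.invSelf (a i) = 1 :=
      IsLocalization.Away.mul_invSelf (a i)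
    have e1 : algebraMap A (B i) (a j) =
        IsLocalization.Away.invSelf (a i) * algebraMap A (B i) (a j * a i) := by
      rw [map_mul, mul_comm (algebraMap A (B i) (a j)), ← mul_assoc,
        mul_comm (IsLocalization.Away.invSelf (a i)), hu, one_mul]
    rw [e1]
    exact Ideal.mul_mem_left _ _ (Ideal.mem_map_of_mem _ (h2 i j hij))
  -- membership in `I A'` is componentwise
  have hmem : ∀ x : (∀ i, B i), x ∈ I.map (algebraMap A (∀ i, B i)) ↔ ∀ i, x i ∈ J i := by
    intro x
    constructor
    · intro hx i
      have := Ideal.mem_map_of_mem (Pi.evalRingHom B i) hx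
      rw [Ideal.map_map] at this
      exact this
    · intro hx
      rw [← Finset.univ_sum_single x]
      refine Ideal.sum_mem _ fun i _ => ?_
      let K : Ideal (B i) :=
        { carrier := {y | Pi.single i y ∈ I.map (algebraMap A (∀ i, B i))}
          add_mem' := fun {y z} hy hz => by
            simp only [Set.mem_setOf_eq] at hy hz ⊢
            rw [Pi.single_add]
            exact Ideal.add_mem _ hy hz
          zero_mem' := by
            simp only [Set.mem_setOf_eq]
            rw [Pi.single_zero]
            exact Ideal.zero_mem _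
          smul_mem' := fun c y hy => by
            simp only [Set.mem_setOf_eq] at hy ⊢
            rw [smul_eq_mul, Pi.single_mul]
            exact Ideal.mul_mem_left _ _ hy }
      have hK : J i ≤ K := by
        rw [Ideal.map_le_iff_le_comap]
        intro r hr
        change Pi.single i (algebraMap A (B i) r) ∈ I.map (algebraMap A (∀ i, B i))
        have e1 : (Pi.single i (algebraMap A (B i) r) : ∀ i, B i) =
            Pi.single i 1 * algebraMap A (∀ i, B i) r := by
          ext k
          by_cases hk : k = i
          · subst hk
            simp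
          · simp [Pi.single_eq_of_ne hk]
        rw [e1]
        exact Ideal.mul_mem_left _ _ (Ideal.mem_map_of_mem _ hr)
      exact hK (hx i)
  refine ⟨∀ i, B i, inferInstance, inferInstance, inferInstance, ⟨?_, ?_⟩, ?_⟩
  · -- injective
    rw [injective_iff_map_eq_zero]
    intro x hx
    obtain ⟨r, rfl⟩ := Ideal.Quotient.mk_surjective x
    rw [Ideal.quotientMap_mk, Ideal.Quotient.eq_zero_iff_mem, hmem] at hx
    have h3 : ∀ i, e i * Ideal.Quotient.mk I r = 0 := by
      intro i
      have := hx i
      change algebraMap A (B i) r ∈ I.map (algebraMap A (B i)) at this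
      rw [IsLocalization.algebraMap_mem_map_algebraMap_iff (Submonoid.powers (a i))] at this
      obtain ⟨m, ⟨k, rfl⟩, hm⟩ := this
      have h4 : e i ^ k * Ideal.Quotient.mk I r = 0 := by
        rw [← ha i, ← map_pow, ← map_mul]
        exact Ideal.Quotient.eq_zero_iff_mem.mpr hm
      have h5 : e i ^ (k + 1) = e i := (he.idem i).pow_succ_eq k
      rw [← h5, pow_succ', mul_assoc, h4, mul_zero]
    calc Ideal.Quotient.mk I r = (∑ i, e i) * Ideal.Quotient.mk I r := by
          rw [he.complete, one_mul]
      _ = 0 := by
          rw [Finset.sum_mul]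
          exact Finset.sum_eq_zero fun i _ => h3 i
  · -- surjective
    intro y
    obtain ⟨x, rfl⟩ := Ideal.Quotient.mk_surjective y
    choose k b hb using fun i => IsLocalization.Away.surj (a i) (x i)
    refine ⟨Ideal.Quotient.mk I (∑ j, a j * b j), ?_⟩
    rw [Ideal.quotientMap_mk, Ideal.Quotient.eq, hmem]
    intro i
    change algebraMap A (B i) (∑ j, a j * b j) - x i ∈ J i
    rw [← Ideal.Quotient.eq]
    have p1 : Ideal.Quotient.mk (J i) (algebraMap A (B i) (a i)) = 1 := by
      rw [← map_one (Ideal.Quotient.mk (J i)), eq_comm, Ideal.Quotient.eq]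
      exact hloc1 i
    have p2 : ∀ j, j ≠ i → Ideal.Quotient.mk (J i) (algebraMap A (B i) (a j)) = 0 :=
      fun j hj => Ideal.Quotient.eq_zero_iff_mem.mpr (hloc2 i j hj)
    have p3 : Ideal.Quotient.mk (J i) (x i) = Ideal.Quotient.mk (J i) (algebraMap A (B i) (b i)) := by
      rw [← hb i, map_mul, map_pow, p1, one_pow, mul_one]
    rw [p3, map_sum, map_sum]
    rw [Finset.sum_eq_single i]
    · rw [map_mul, map_mul, p1, one_mul]
    · intro j _ hj
      rw [map_mul, map_mul, p2 j hj, zero_mul]
    · intro h
      exact absurd (Finset.mem_univ i) h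
  · refine ⟨fun j => Pi.single j 1, CompleteOrthogonalIdempotents.single B, ?_⟩
    intro j
    rw [← ha j, Ideal.quotientMap_mk, Ideal.Quotient.eq, hmem]
    intro i
    change (Pi.single j (1 : B j) : ∀ i, B i) i - algebraMap A (B i) (a j) ∈ J i
    by_cases hij : i = j
    · subst hij
      rw [Pi.single_eq_same]
      exact hloc1 i
    · rw [Pi.single_eq_of_ne hij, zero_sub]
      exact (J i).neg_mem (hloc2 i j (Ne.symm hij))

end Groth.Agent.S9292
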