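import Groth.Statements.S9298
import Groth.Agent.S8826
import Groth.Agent.S8822
import Groth.Agent.H2.ALG_D1
import Groth.Agent.H2.ALG_D3
import Groth.Agent.H89.ALG_D2
import Groth.Agent.H77.ALG_D4
import Groth.Agent.H45.ALG_D5
import Groth.Agent.H87.ALG_D6
import Groth.Agent.H3.PH10
import Groth.Agent.H3.PH7
import Groth.Agent.H96.FPA_CPL
import Groth.Agent.Lead.CompleteNoetherian

set_option autoImplicit false
universe u
open CAlg

namespace Groth.Agent.S9298

open MvPolynomial Groth.Agent.H15.FPA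

/-- `UnramAt` only depends on the radical: from `t ^ M` to `t`. -/
theorem unramAt_of_pow {R : Type u} [CommRing R] {n m : ℕ} (f : Fin m → MvPolynomial (Fin n) R)
    (t : R) (M : ℕ) (h : UnramAt f (t ^ M)) : UnramAt f t := by
  obtain ⟨e, g, hg⟩ := h
  refine ⟨M * e, g, fun p k => ?_⟩
  have := hg p k
  rwa [← pow_mul] at this

/-- Step 1: the formal point `(j_i)` is algebraic in the henselization. -/
theorem step1 (A : Type u) [CommRing A] [IsNoetherianRing A] {r : ℕ} (t : Fin r → A)
    (B : Type u) [CommRing B] [Algebra A B] [IsNoetherianRing B]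
    (Bh : Type u) [CommRing Bh] [Algebra B Bh] [Algebra A Bh] [IsScalarTower A B Bh]
    [IsNoetherianRing Bh] (Jh : Ideal Bh)
    (hJh : Jh = Ideal.span (Set.range fun i => algebraMap A Bh (t i)))
    [hH : HenselianRing Bh Jh]
    (K : Ideal B)
    (hK : K.map (algebraMap B Bh) ≤ Jh)
    (J : Ideal (AdicCompletion K B)) (M : Fin r → ℕ) (j : Fin r → AdicCompletion K B)
    (hj : ∀ i, j i ∈ J)
    (hkill : ∀ i, ∀ x ∈ J,
      (algebraMap B (AdicCompletion K B) (algebraMap A B (t i)) ^ M i - j i) * x = 0) :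
    ∃ a : Fin r → Bh, ∀ i,
      algebraMap Bh (AdicCompletion Jh Bh) (a i) =
      FSch.complMap K Jh (algebraMap B Bh) hK (j i) := by
  subst hJh
  classical
  set Jh := Ideal.span (Set.range fun i => algebraMap A Bh (t i)) with hJh'
  set κ := FSch.complMap K Jh (algebraMap B Bh) hK with hκ
  set ρ := algebraMap Bh (AdicCompletion Jh Bh) with hρ
  let Θ : MvPolynomial (Fin r) A →+* AdicCompletion Jh Bh :=
    eval₂Hom (ρ.comp (algebraMap A Bh)) (fun i => κ (j i))
  have hΘC : ∀ a : A, Θ (C a) = algebraMap Bh (AdicCompletion Jh Bh) (algebraMap A Bh a) := by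
    intro a
    simp [Θ, hρ]
  have hρκ : ∀ a : A, ρ (algebraMap A Bh a) =
      κ (algebraMap B (AdicCompletion K B) (algebraMap A B a)) := by
    intro a
    rw [hκ, Groth.Agent.H87.ComplFlat.complMap_algebraMap, ← IsScalarTower.algebraMap_apply A B Bh a]
  have hΘf : ∀ q, Θ (idemSys (fun i => t i ^ M i) q) = 0 := by
    intro q
    obtain ⟨⟨i, k⟩, rfl⟩ := finProdFinEquiv.surjective q
    rw [idemSys_apply]
    simp only [Θ, map_mul, map_sub, coe_eval₂Hom, eval₂_X, eval₂_C, RingHom.comp_apply, map_pow]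
    rw [hρκ, ← map_pow, ← map_sub, ← map_mul, mul_comm, hkill i (j k) (hj k), map_zero]
  have hf : ∀ l, UnramAt (idemSys (fun i => t i ^ M i)) (t l) := fun l => Groth.Agent.H89.ALG_D2.unramAt_idemSys t M l
  obtain ⟨a, ha⟩ := Groth.Agent.S8826.core t (idemSys (fun i => t i ^ M i)) hf Θ hΘC hΘf
  refine ⟨a, fun i => ?_⟩
  have := ha (X i)
  simpa [Θ] using this

/-- Composition of two levelwise bijections. -/
theorem bijective_quotientMap_comp {T₁ T₂ T₃ : Type u} [CommRing T₁] [CommRing T₂] [CommRing T₃]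
    (g₁ : T₁ →+* T₂) (g₂ : T₂ →+* T₃) (𝔞 : Ideal T₁)
    (h₁ : Function.Bijective (Ideal.quotientMap (𝔞.map g₁) g₁ Ideal.le_comap_map))
    (h₂ : Function.Bijective (Ideal.quotientMap ((𝔞.map g₁).map g₂) g₂ Ideal.le_comap_map)) :
    Function.Bijective (Ideal.quotientMap (𝔞.map (g₂.comp g₁)) (g₂.comp g₁)
      Ideal.le_comap_map) := by
  have hmm : 𝔞.map (g₂.comp g₁) = (𝔞.map g₁).map g₂ := (Ideal.map_map g₁ g₂).symm
  constructor
  · rw [injective_iff_map_eq_zero]
    intro x hx
    obtain ⟨a, rfl⟩ := Ideal.Quotient.mk_surjective x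
    rw [Ideal.quotientMap_mk, Ideal.Quotient.eq_zero_iff_mem, hmm] at hx
    have h3 : Ideal.quotientMap ((𝔞.map g₁).map g₂) g₂ Ideal.le_comap_map
        (Ideal.Quotient.mk (𝔞.map g₁) (g₁ a)) = 0 := by
      rw [Ideal.quotientMap_mk, Ideal.Quotient.eq_zero_iff_mem]; exact hx
    have h4 := h₂.1 (h3.trans (map_zero _).symm)
    have h5 : Ideal.quotientMap (𝔞.map g₁) g₁ Ideal.le_comap_map (Ideal.Quotient.mk 𝔞 a) = 0 := by
      rw [Ideal.quotientMap_mk]; exact h4
    exact h₁.1 (h5.trans (map_zero _).symm)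
  · intro z
    obtain ⟨s, rfl⟩ := Ideal.Quotient.mk_surjective z
    obtain ⟨x₂, hx₂⟩ := h₂.2 (Ideal.Quotient.mk _ s)
    obtain ⟨b, rfl⟩ := Ideal.Quotient.mk_surjective x₂
    obtain ⟨x₁, hx₁⟩ := h₁.2 (Ideal.Quotient.mk _ b)
    obtain ⟨a, rfl⟩ := Ideal.Quotient.mk_surjective x₁
    refine ⟨Ideal.Quotient.mk _ a, ?_⟩
    rw [Ideal.quotientMap_mk] at hx₁ hx₂ ⊢
    rw [Ideal.Quotient.eq] at hx₁ hx₂ ⊢
    rw [hmm]
    have h6 : g₂ (g₁ a - b) ∈ (𝔞.map g₁).map g₂ := Ideal.mem_map_of_mem g₂ hx₁
    have : (g₂.comp g₁) a - s = g₂ (g₁ a - b) + (g₂ b - s) := by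
      simp only [RingHom.comp_apply, map_sub]; ring
    rw [this]
    exact Ideal.add_mem _ h6 hx₂

/-- The main construction, with the ideal `K = I B` as a variable. -/
theorem main (A : Type u) [CommRing A]
    [IsNoetherianRing A] (I : Ideal A) (B : Type u) [CommRing B] [Algebra A B] [Algebra.FiniteType A B]
    (C : Type u) [CommRing C] (K : Ideal B) (hKdef : K = I.map (algebraMap A B))
    (π : AdicCompletion K B →+* C) (hπ : Function.Surjective π) (c : ℕ)
    (hJ : Ideal.map ((algebraMap B (AdicCompletion K B)).comp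
        (algebraMap A B)) I ^ c * RingHom.ker π ≤ RingHom.ker π ^ 2) :
    ∃ (D : Type u) (_ : CommRing D) (_ : Algebra A D), Algebra.FiniteType A D ∧
      ∃ e : C ≃+* AdicCompletion (Ideal.map (algebraMap A D) I) D,
        ∀ a : A, e (π (algebraMap B _ (algebraMap A B a))) =
          algebraMap D _ (algebraMap A D a) := by
  classical
  obtain ⟨r, t, hI⟩ := Groth.Agent.S8826.exists_fin_span I (IsNoetherian.noetherian I)
  haveI hBN : IsNoetherianRing B := Algebra.FiniteType.isNoetherianRing A B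
  haveI hPN : IsNoetherianRing (AdicCompletion K B) :=
    Groth.Agent.Lead.isNoetherianRing_adicCompletion K (IsNoetherian.noetherian K)
  have hτmem : ∀ i, algebraMap B (AdicCompletion K B) (algebraMap A B (t i)) ∈
      Ideal.map ((algebraMap B (AdicCompletion K B)).comp (algebraMap A B)) I := fun i =>
    Ideal.mem_map_of_mem _ (by rw [hI]; exact Ideal.subset_span ⟨i, rfl⟩)
  have hex : ∀ i, ∃ (M : ℕ) (j : AdicCompletion K B), j ∈ RingHom.ker π ∧ ∀ x ∈ RingHom.ker π,
      (algebraMap B (AdicCompletion K B) (algebraMap A B (t i)) ^ M - j) * x = 0 := by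
    intro i
    apply Groth.Agent.H2.ALG.exists_kill (RingHom.ker π) _ c
    refine le_trans (Ideal.mul_mono_left ?_) hJ
    rw [Ideal.span_le, Set.singleton_subset_iff]
    exact Ideal.pow_mem_pow (hτmem i) c
  choose M j hj hkill using hex
  -- the henselization of `(B, K)`
  obtain ⟨Bh, _, _, hBh⟩ : ∃ (Bh : Type u) (_ : CommRing Bh) (_ : Algebra B Bh),
      Hens2.IsPairHenselization B K Bh :=
    ⟨Groth.Agent.H3.PH.H B (B ⧸ K), inferInstance, inferInstance,
      Groth.Agent.H3.PH.isPairHenselization_H B K⟩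
  letI algABh : Algebra A Bh := ((algebraMap B Bh).comp (algebraMap A B)).toAlgebra
  haveI : IsScalarTower A B Bh := IsScalarTower.of_algebraMap_eq (fun _ => rfl)
  haveI hBhN : IsNoetherianRing Bh :=
    Groth.Agent.H3.PH.isNoetherianRing_of_isPairHenselization K Bh hBh
  obtain ⟨Jh, hJh⟩ : ∃ Jh : Ideal Bh, Jh = Ideal.span (Set.range fun i => algebraMap A Bh (t i)) :=
    ⟨_, rfl⟩
  have hKh : K.map (algebraMap B Bh) = Jh := by
    rw [hJh, hKdef, Ideal.map_map, ← IsScalarTower.algebraMap_eq, hI, Ideal.map_span,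
      ← Set.range_comp]
    rfl
  haveI hHens : HenselianRing Bh Jh := by
    rw [← hKh]; exact hBh.1
  obtain ⟨a, ha⟩ := step1 A t B Bh Jh hJh K hKh.le (RingHom.ker π) M j hj hkill
  -- an étale neighbourhood carrying the `a i`
  obtain ⟨B', _, _, hEt, hq, φ', hφ'⟩ :=
    Groth.Agent.H3.PH.exists_nbhd_rep_finset K Bh hBh (Finset.univ.image a)
  have hy : ∀ i, ∃ y : B', φ' y = a i := fun i =>
    hφ' (a i) (Finset.mem_image_of_mem a (Finset.mem_univ i))
  choose y hya using hy
  letI algB'Bh : Algebra B' Bh := φ'.toRingHom.toAlgebra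
  haveI : IsScalarTower B B' Bh := IsScalarTower.of_algebraMap_eq (fun b => (φ'.commutes b).symm)
  have hBh' : Hens2.IsPairHenselization B' (K.map (algebraMap B B')) Bh :=
    Groth.Agent.H3.PH.isPairHenselization_of_nbhd K Bh hBh B' hq
  letI algAB' : Algebra A B' := ((algebraMap B B').comp (algebraMap A B)).toAlgebra
  haveI : IsScalarTower A B B' := IsScalarTower.of_algebraMap_eq (fun _ => rfl)
  haveI : IsScalarTower A B' Bh := IsScalarTower.of_algebraMap_eq (fun x => by
    show algebraMap B Bh (algebraMap A B x) = algebraMap B' Bh (algebraMap B B' (algebraMap A B x))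
    rw [← IsScalarTower.algebraMap_apply B B' Bh])
  -- the completion of the henselization
  obtain ⟨hSN, hjac, hpure, happ, -⟩ := Groth.Agent.H96.FPA_CPL.completion_facts Jh hHens.jac
  haveI := hSN
  have hκbij : Function.Bijective (FSch.complMap K Jh (algebraMap B Bh) hKh.le) :=
    Groth.Agent.H87.ALG_D6.complMap_bijective_of_isPairHenselization K hBh Jh hKh.symm hKh.le
  obtain ⟨κ, hκ⟩ : ∃ κ : AdicCompletion K B →+* AdicCompletion Jh Bh,
      κ = FSch.complMap K Jh (algebraMap B Bh) hKh.le := ⟨_, rfl⟩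
  rw [← hκ] at ha hκbij
  have hκalg : ∀ b : B, κ (algebraMap B (AdicCompletion K B) b) =
      algebraMap Bh (AdicCompletion Jh Bh) (algebraMap B Bh b) := by
    intro b
    rw [hκ, Groth.Agent.H87.ComplFlat.complMap_algebraMap]
  obtain ⟨ι, hι⟩ : ∃ ι : B' →+* AdicCompletion Jh Bh,
      ι = (algebraMap Bh (AdicCompletion Jh Bh)).comp (algebraMap B' Bh) := ⟨_, rfl⟩
  have hιB : ∀ b : B, ι (algebraMap B B' b) = κ (algebraMap B (AdicCompletion K B) b) := by
    intro b
    rw [hκalg, hι, RingHom.comp_apply, ← IsScalarTower.algebraMap_apply B B' Bh]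
  have hflat : ι.Flat := by
    rw [hι]
    refine RingHom.Flat.comp ?_ ?_
    · rw [RingHom.flat_algebraMap_iff]
      exact Groth.Agent.H3.PH.flat_of_isPairHenselization (K.map (algebraMap B B')) Bh hBh'
    · rw [RingHom.flat_algebraMap_iff]
      infer_instance
  -- generators of `K B'`
  obtain ⟨τ', hτ'⟩ : ∃ τ' : Fin r → B', τ' = fun i => algebraMap A B' (t i) := ⟨_, rfl⟩
  have hK' : Ideal.span (Set.range τ') = K.map (algebraMap B B') := by
    rw [hτ', hKdef, Ideal.map_map, ← IsScalarTower.algebraMap_eq, hI, Ideal.map_span,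
      ← Set.range_comp]
    rfl
  have hK'h : (Ideal.span (Set.range τ')).map (algebraMap B' Bh) = Jh := by
    rw [hK', Ideal.map_map, ← IsScalarTower.algebraMap_eq, hKh]
  have hlev : ∀ n : ℕ, Function.Bijective
      (Ideal.quotientMap (((Ideal.span (Set.range τ')) ^ n).map ι) ι Ideal.le_comap_map) := by
    intro n
    subst hι
    apply bijective_quotientMap_comp
    · rw [hK']
      exact Groth.Agent.H3.PH.quotientMap_pow_bijective (K.map (algebraMap B B')) Bh hBh' n
    · have h𝔟 : ((Ideal.span (Set.range τ')) ^ n).map (algebraMap B' Bh) = Jh ^ n := by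
        rw [Ideal.map_pow, hK'h]
      rw [h𝔟]
      constructor
      · rw [injective_iff_map_eq_zero]
        intro x hx
        obtain ⟨b, rfl⟩ := Ideal.Quotient.mk_surjective x
        rw [Ideal.quotientMap_mk, Ideal.Quotient.eq_zero_iff_mem] at hx
        rw [Ideal.Quotient.eq_zero_iff_mem]
        exact hpure _ b hx
      · intro z
        obtain ⟨s, rfl⟩ := Ideal.Quotient.mk_surjective z
        obtain ⟨x, hx⟩ := happ n s
        refine ⟨Ideal.Quotient.mk _ x, ?_⟩
        rw [Ideal.quotientMap_mk, Ideal.Quotient.eq, ← neg_sub]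
        exact neg_mem hx
  -- the ideal `J_S` and the data of the abstract algebraization
  obtain ⟨JS, hJS⟩ : ∃ JS : Ideal (AdicCompletion Jh Bh), JS = (RingHom.ker π).map κ := ⟨_, rfl⟩
  have hιτ : ∀ i, ι (τ' i) = κ (algebraMap B (AdicCompletion K B) (algebraMap A B (t i))) := by
    intro i
    rw [← hιB, hτ']
    rfl
  have hy' : ∀ i, ι (y i) ∈ JS := by
    intro i
    have : ι (y i) = κ (j i) := by
      rw [← ha i, hι, RingHom.comp_apply]
      congr 1
      exact hya i
    rw [this, hJS]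
    exact Ideal.mem_map_of_mem κ (hj i)
  have hkill' : ∀ i, ∀ x ∈ JS, (ι (τ' i) ^ M i - ι (y i)) * x = 0 := by
    intro i x hx
    rw [hJS] at hx
    obtain ⟨x₀, hx₀, rfl⟩ := (Ideal.mem_map_iff_of_surjective κ hκbij.2).mp hx
    have : ι (y i) = κ (j i) := by
      rw [← ha i, hι, RingHom.comp_apply]
      congr 1
      exact hya i
    rw [hιτ, this, ← map_pow, ← map_sub, ← map_mul, hkill i x₀ hx₀, map_zero]
  -- completeness of `S ⧸ J_S`
  have hIJh : I.map (algebraMap A Bh) = Jh := by
    rw [hJh, hI, Ideal.map_span, ← Set.range_comp]; rfl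
  have hIS : I.map (algebraMap A (AdicCompletion Jh Bh)) =
      Jh.map (algebraMap Bh (AdicCompletion Jh Bh)) := by
    rw [← hIJh, Ideal.map_map]; rfl
  have hτ'S : (Ideal.span (Set.range τ')).map ι =
      Jh.map (algebraMap Bh (AdicCompletion Jh Bh)) := by
    rw [hι, ← Ideal.map_map, hK'h]
  haveI hScompl : IsAdicComplete (I.map (algebraMap A (AdicCompletion Jh Bh)))
      (AdicCompletion Jh Bh) := by
    rw [hIS]
    exact (IsAdicComplete.map_algebraMap_iff Jh (AdicCompletion Jh Bh)).2
      (AdicCompletion.isAdicComplete (IsNoetherian.noetherian Jh))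
  have hfin : Algebra.FiniteType A
      (AdicCompletion Jh Bh ⧸ I.map (algebraMap A (AdicCompletion Jh Bh))) := by
    let g : B →ₐ[A] (AdicCompletion Jh Bh ⧸ I.map (algebraMap A (AdicCompletion Jh Bh))) :=
      (Ideal.Quotient.mkₐ A _).comp
        ((IsScalarTower.toAlgHom A Bh (AdicCompletion Jh Bh)).comp (IsScalarTower.toAlgHom A B Bh))
    refine Algebra.FiniteType.of_surjective g ?_
    intro z
    obtain ⟨s, rfl⟩ := Ideal.Quotient.mk_surjective z
    obtain ⟨x, hx⟩ := happ 1 s
    obtain ⟨b, hb⟩ := Groth.Agent.H3.PH.exists_sub_mem_map_of_isPairHenselization K Bh hBh x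
    refine ⟨b, ?_⟩
    show Ideal.Quotient.mk _ (algebraMap Bh (AdicCompletion Jh Bh) (algebraMap B Bh b)) = _
    rw [Ideal.Quotient.eq, hIS]
    rw [pow_one] at hx
    rw [hKh] at hb
    have h1 := Ideal.mem_map_of_mem (algebraMap Bh (AdicCompletion Jh Bh)) hb
    have : algebraMap Bh (AdicCompletion Jh Bh) (algebraMap B Bh b) - s =
        -((s - algebraMap Bh (AdicCompletion Jh Bh) x) +
          algebraMap Bh (AdicCompletion Jh Bh) (x - algebraMap B Bh b)) := by
      rw [map_sub]; ring
    rw [this]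
    exact neg_mem (Ideal.add_mem _ hx h1)
  have hcompl : IsAdicComplete
      (((Ideal.span (Set.range τ')).map ι).map (Ideal.Quotient.mk JS))
      (AdicCompletion Jh Bh ⧸ JS) := by
    have h1 := Groth.Agent.S8822.result A I (AdicCompletion Jh Bh) hfin JS
    have h2 : I.map (algebraMap A (AdicCompletion Jh Bh ⧸ JS)) =
        ((Ideal.span (Set.range τ')).map ι).map (Ideal.Quotient.mk JS) := by
      rw [hτ'S, ← hIS, Ideal.map_map]; rfl
    rw [← h2]
    exact h1
  -- the finite type algebra `D`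
  haveI hB'ft : Algebra.FiniteType A B' := by
    haveI : Algebra.FiniteType B B' := inferInstance
    exact Algebra.FiniteType.trans (inferInstance : Algebra.FiniteType A B) inferInstance
  have hDft : Algebra.FiniteType A (B' ⧸ JS.comap ι) :=
    Algebra.FiniteType.of_surjective (Ideal.Quotient.mkₐ A (JS.comap ι))
      Ideal.Quotient.mk_surjective
  have hKD : I.map (algebraMap A (B' ⧸ JS.comap ι)) =
      (Ideal.span (Set.range τ')).map (Ideal.Quotient.mk (JS.comap ι)) := by
    have h1 : I.map (algebraMap A B') = Ideal.span (Set.range τ') := by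
      rw [hτ', hI, Ideal.map_span, ← Set.range_comp]; rfl
    rw [← h1, Ideal.map_map]; rfl
  obtain ⟨e₁, he₁⟩ := Groth.Agent.H45.ALG_D5.abs_algebraize_of
    @Groth.Agent.H2.ALG.adicCompletion_equiv_of_levelwise ι τ' hlev JS hcompl
    (fun happ' => Groth.Agent.H77.ALG_D4.algebraic_ideal ι hflat τ' happ' JS M y hy' hkill')
    (I.map (algebraMap A (B' ⧸ JS.comap ι))) hKD
  -- `C ≃ P ⧸ ker π ≃ S ⧸ J_S`
  have hJSeq : JS = (RingHom.ker π).map
      ((RingEquiv.ofBijective κ hκbij : AdicCompletion K B ≃+* AdicCompletion Jh Bh) :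
        AdicCompletion K B →+* AdicCompletion Jh Bh) := by rw [hJS]; rfl
  let e₂ : C ≃+* (AdicCompletion Jh Bh ⧸ JS) :=
    (RingHom.quotientKerEquivOfSurjective hπ).symm.trans
      (Ideal.quotientEquiv (RingHom.ker π) JS (RingEquiv.ofBijective κ hκbij) hJSeq)
  refine ⟨B' ⧸ JS.comap ι, inferInstance, inferInstance, hDft, e₂.trans e₁.symm, fun a' => ?_⟩
  rw [RingEquiv.trans_apply, RingEquiv.symm_apply_eq]
  have h3 : algebraMap A (B' ⧸ JS.comap ι) a' =
      Ideal.Quotient.mk (JS.comap ι) (algebraMap A B' a') := rfl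
  rw [h3, he₁]
  have h4 : e₂ (π (algebraMap B (AdicCompletion K B) (algebraMap A B a'))) =
      Ideal.Quotient.mk JS (κ (algebraMap B (AdicCompletion K B) (algebraMap A B a'))) := by
    show (Ideal.quotientEquiv (RingHom.ker π) JS (RingEquiv.ofBijective κ hκbij) hJSeq)
      ((RingHom.quotientKerEquivOfSurjective hπ).symm _) = _
    have h5 : (RingHom.quotientKerEquivOfSurjective hπ).symm
        (π (algebraMap B (AdicCompletion K B) (algebraMap A B a'))) =
        Ideal.Quotient.mk (RingHom.ker π) (algebraMap B (AdicCompletion K B) (algebraMap A B a')) := by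
      rw [RingEquiv.symm_apply_eq, RingHom.quotientKerEquivOfSurjective_apply_mk]
    rw [h5, Ideal.quotientEquiv_mk]
    rfl
  rw [h4, ← hιB]
  rfl

/-- Let A be a Noetherian ring, I an ideal, B a finite type A-algebra and B^ its I-adic completion. Let
π be a surjective ring map from B^ to C, with kernel J, and suppose some power I^c (c ≥ 0) kills the
conormal module J/J^2. Then, compatibly with the maps from A, C is isomorphic to the I-adic
completion of some finite type A-algebra. -/
theorem result (A : Type u) [CommRing A]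
    [IsNoetherianRing A] (I : Ideal A) (B : Type u) [CommRing B] [Algebra A B] [Algebra.FiniteType A B]
    (C : Type u) [CommRing C]
    (π : AdicCompletion (Ideal.map (algebraMap A B) I) B →+* C) (hπ : Function.Surjective π) (c : ℕ)
    (hJ : Ideal.map ((algebraMap B (AdicCompletion (Ideal.map (algebraMap A B) I) B)).comp
        (algebraMap A B)) I ^ c * RingHom.ker π ≤ RingHom.ker π ^ 2) :
    ∃ (D : Type u) (_ : CommRing D) (_ : Algebra A D), Algebra.FiniteType A D ∧
      ∃ e : C ≃+* AdicCompletion (Ideal.map (algebraMap A D) I) D,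
        ∀ a : A, e (π (algebraMap B _ (algebraMap A B a))) =
          algebraMap D _ (algebraMap A D a) := by
  exact main A I B C _ rfl π hπ c hJ

end Groth.Agent.S9298
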