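import Groth.Statements.S9299
import Groth.Agent.H34.PthRootCore
import Groth.Agent.H61.ObsDimMain
import Groth.Agent.H61.PowerSeriesComplete

set_option autoImplicit false
universe u
open CAlg

namespace Groth.Agent.S9299

/-- Let k be a field of characteristic p, A = k[[x_1, ..., x_n]][y_1, ..., y_m] with fraction field K,
and P a prime of A. Then A_P^ ⊗_A K, the generic formal fibre of the local ring A_P, is
geometrically regular over K. (The ring A is a domain; this is recorded as an instance hypothesis.) -/
theorem result (p : ℕ) [Fact p.Prime]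
    (k : Type u) [Field k] [CharP k p] (n m : ℕ)
    [IsDomain (MvPolynomial (Fin m) (MvPowerSeries (Fin n) k))]
    (P : Ideal (MvPolynomial (Fin m) (MvPowerSeries (Fin n) k))) [P.IsPrime] :
    CAlg.IsGeometricallyRegular (@Ideal.ResidueField (Localization.AtPrime P) _ ⊥ _)
      (EGA4.formalFibre (Localization.AtPrime P) (⊥ : Ideal (Localization.AtPrime P))) := by
  have hregR : IsRegularLocalRing (MvPowerSeries (Fin n) k) :=
    Groth.Agent.H61.Obs.ps_isRegularLocalRing n
  have hcompk : IsAdicComplete (IsLocalRing.maximalIdeal k) k :=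
    Groth.Agent.H61.Obs.field_isAdicComplete k
  have hcomp : IsAdicComplete (IsLocalRing.maximalIdeal (MvPowerSeries (Fin n) k))
      (MvPowerSeries (Fin n) k) := Groth.Agent.H61.PS.isAdicComplete
  have hRR : IsRegularRing (MvPowerSeries (Fin n) k) :=
    Groth.Agent.H44.RegDescend.isRegularRing_of_isRegularLocalRing _
  have hA : IsRegularRing (MvPolynomial (Fin m) (MvPowerSeries (Fin n) k)) := inferInstance
  have hcharR : CharP (MvPowerSeries (Fin n) k) p :=
    charP_of_injective_ringHom (f := (MvPowerSeries.C : k →+* MvPowerSeries (Fin n) k))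
      MvPowerSeries.C_injective p
  have hchar : CharP (MvPolynomial (Fin m) (MvPowerSeries (Fin n) k)) p := inferInstance
  exact Groth.Agent.H34.PthRootCore.core (MvPowerSeries (Fin n) k)
    (MvPolynomial (Fin m) (MvPowerSeries (Fin n) k)) p P (Localization.AtPrime P)

end Groth.Agent.S9299
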