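import Groth.Statements.S9300
import Mathlib.RingTheory.Ideal.Maps
import Mathlib.RingTheory.Spectrum.Prime.Basic

set_option autoImplicit false
universe u
open CAlg

namespace Groth.Agent.S9300

/-- Let A and B be domains and A → B a ring map for which the generic point of Spec(A) has a unique
preimage in Spec(B). Then every nonzero ideal of B has nonzero preimage in A. -/
theorem result (A B : Type u) [CommRing A] [IsDomain A]
    [CommRing B] [IsDomain B] (φ : A →+* B)
    (h : ∃! q : PrimeSpectrum B, Ideal.comap φ q.asIdeal = ⊥) (J : Ideal B) (hJ : J ≠ ⊥) :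
    Ideal.comap φ J ≠ ⊥ := by
  obtain ⟨q, hq, hquniq⟩ := h
  -- φ is injective
  have hker : RingHom.ker φ = ⊥ := by
    rw [eq_bot_iff]
    intro a ha
    have : a ∈ Ideal.comap φ q.asIdeal := by
      rw [Ideal.mem_comap]
      rw [RingHom.mem_ker] at ha
      rw [ha]
      exact zero_mem _
    rw [hq] at this
    exact this
  have hinj : Function.Injective φ := (RingHom.injective_iff_ker_eq_bot φ).mpr hker
  -- the zero ideal is a prime over the generic point
  have hbot : (⟨⊥, Ideal.isPrime_bot⟩ : PrimeSpectrum B) = q := by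
    apply hquniq
    show Ideal.comap φ ⊥ = ⊥
    rw [← RingHom.ker_eq_comap_bot, hker]
  intro hcomap
  -- the multiplicative set φ(A \ 0)
  let S : Submonoid B := (nonZeroDivisors A).map φ
  have hdisj : Disjoint (J : Set B) (S : Set B) := by
    rw [Set.disjoint_left]
    rintro b hbJ ⟨a, ha, rfl⟩
    have hmem : a ∈ Ideal.comap φ J := hbJ
    rw [hcomap] at hmem
    have ha0 : a = 0 := hmem
    exact (nonZeroDivisors.ne_zero ha) ha0
  obtain ⟨P, hP, hJP, hPS⟩ := Ideal.exists_le_prime_disjoint J S hdisj
  have hPq : (⟨P, hP⟩ : PrimeSpectrum B) = q := by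
    apply hquniq
    show Ideal.comap φ P = ⊥
    rw [eq_bot_iff]
    intro a ha
    by_contra ha0
    have ha0' : a ≠ 0 := ha0
    have : φ a ∈ (S : Set B) := ⟨a, mem_nonZeroDivisors_of_ne_zero ha0', rfl⟩
    exact Set.disjoint_left.mp hPS ha this
  have hPbot : P = ⊥ := by
    have := hPq.trans hbot.symm
    exact congrArg PrimeSpectrum.asIdeal this
  apply hJ
  rw [eq_bot_iff]
  rw [← hPbot]
  exact hJP

end Groth.Agent.S9300
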