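import Groth.Statements.S9301
import Groth.Agent.S9300
import Mathlib.RingTheory.QuasiFinite.Basic
import Mathlib.RingTheory.Flat.TorsionFree

set_option autoImplicit false
universe u
open CAlg

namespace Groth.Agent.S9301

/-- Let A and B be domains and A → B a flat ring map which is the localization of a quasi-finite ring
map A → B₀ (of finite type with finite fibres). Then every nonzero ideal of B has nonzero preimage
in A. -/
theorem result (A B₀ B : Type u) [CommRing A] [IsDomain A]
    [CommRing B₀] [CommRing B] [IsDomain B] [Algebra A B₀] [Algebra.FiniteType A B₀]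
    [Algebra.QuasiFinite A B₀] (S : Submonoid B₀) [Algebra B₀ B] [IsLocalization S B] [Algebra A B]
    [IsScalarTower A B₀ B] [Module.Flat A B] (J : Ideal B) (hJ : J ≠ ⊥) :
    Ideal.comap (algebraMap A B) J ≠ ⊥ := by
  have hqf : Algebra.QuasiFinite A B := Algebra.QuasiFinite.of_isLocalization (R := A) (S := B₀) S
  have hinj : Function.Injective (algebraMap A B) := by
    have : Module.IsTorsionFree A B := inferInstance
    exact FaithfulSMul.algebraMap_injective A B
  have hbot : Ideal.comap (algebraMap A B) ⊥ = ⊥ := by
    rw [← RingHom.ker_eq_comap_bot]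
    exact (RingHom.injective_iff_ker_eq_bot _).mp hinj
  apply Groth.Agent.S9300.result A B (algebraMap A B) _ J hJ
  refine ⟨⟨⊥, Ideal.isPrime_bot⟩, hbot, ?_⟩
  intro q hq
  have hq' : (⊥ : Ideal B).under A = q.asIdeal.under A := by
    show Ideal.comap (algebraMap A B) ⊥ = Ideal.comap (algebraMap A B) q.asIdeal
    rw [hbot, hq]
  have := Algebra.QuasiFinite.eq_of_le_of_under_eq (R := A) (⊥ : Ideal B) q.asIdeal bot_le hq'
  exact PrimeSpectrum.ext this.symm

end Groth.Agent.S9301
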