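import Groth.Statements.S9302
import Mathlib.RingTheory.Henselian
import Mathlib.Algebra.Category.Ring.Limits
import Mathlib.RingTheory.Ideal.Maps
import Mathlib.RingTheory.Jacobson.Ideal
import Mathlib.Algebra.Polynomial.Identities
import Mathlib.CategoryTheory.Limits.ConcreteCategory.Basic
import Mathlib.CategoryTheory.Limits.Types.Limits

set_option autoImplicit false
universe u
open CategoryTheory
open EtAlg

namespace Groth.Agent.S9302

open Polynomial in
/-- being a unit modulo `I` -/
theorem isUnit_mk_iff {R : Type u} [CommRing R] (I : Ideal R) (x : R) :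
    IsUnit (Ideal.Quotient.mk I x) ↔ ∃ c : R, x * c - 1 ∈ I := by
  rw [isUnit_iff_exists_inv]
  constructor
  · rintro ⟨b, hb⟩
    obtain ⟨c, rfl⟩ := Ideal.Quotient.mk_surjective b
    refine ⟨c, ?_⟩
    rw [← Ideal.Quotient.eq, map_mul, map_one]
    exact hb
  · rintro ⟨c, hc⟩
    refine ⟨Ideal.Quotient.mk I c, ?_⟩
    rw [← map_mul, ← map_one (Ideal.Quotient.mk I), Ideal.Quotient.eq]
    exact hc

open Polynomial in
/-- uniqueness of Hensel lifts -/
theorem root_unique {R : Type u} [CommRing R] (I : Ideal R) (hI : I ≤ Ideal.jacobson ⊥)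
    (f : R[X]) (a a' : R) (ha : f.IsRoot a) (ha' : f.IsRoot a') (haa' : a' - a ∈ I)
    (hu : ∃ c : R, f.derivative.eval a * c - 1 ∈ I) : a' = a := by
  obtain ⟨c, hc⟩ := hu
  obtain ⟨k, hk⟩ := Polynomial.binomExpansion f a (a' - a)
  have h1 : a + (a' - a) = a' := by ring
  rw [h1, ha.eq_zero, ha'.eq_zero] at hk
  -- 0 = (a' - a) * (f'(a) + k (a' - a))
  set y := a' - a with hy
  have h2 : y * (f.derivative.eval a + k * y) = 0 := by
    have : y * (f.derivative.eval a + k * y) = 0 + f.derivative.eval a * y + k * y ^ 2 := by ring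
    rw [this, ← hk]
  have hunit : IsUnit (f.derivative.eval a + k * y) := by
    have h3 : (f.derivative.eval a + k * y) * c - 1 ∈ I := by
      have : (f.derivative.eval a + k * y) * c - 1 = (f.derivative.eval a * c - 1) + y * (k * c) := by
        ring
      rw [this]
      exact I.add_mem hc (I.mul_mem_right _ haa')
    have h4 : IsUnit ((f.derivative.eval a + k * y) * c) :=
      Ideal.isUnit_of_sub_one_mem_jacobson_bot _ (hI h3)
    exact isUnit_of_mul_isUnit_left h4
  have h5 : y = 0 := by
    have := hunit.mul_left_eq_zero.mp h2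
    exact this
  rw [hy, sub_eq_zero] at h5
  exact h5

section Limit

variable {J : Type u} [Preorder J] (F : J ⥤ CommRingCat.{u})

/-- construct an element of the limit from a compatible family -/
theorem exists_of_compatible (a : ∀ j : J, F.obj j)
    (ha : ∀ (i j : J) (φ : i ⟶ j), (F.map φ).hom (a i) = a j) :
    ∃ x : (Limits.limit F : CommRingCat.{u}), ∀ j, (Limits.limit.π F j).hom x = a j := by
  let hl := Limits.isLimitOfPreserves (forget CommRingCat.{u}) (Limits.limit.isLimit F)
  let s : (F ⋙ forget CommRingCat.{u}).sections := ⟨a, fun {i j} φ => ha i j φ⟩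
  refine ⟨(Limits.Types.isLimitEquivSections hl).symm s, fun j => ?_⟩
  exact Limits.Types.isLimitEquivSections_symm_apply hl s j

theorem limit_ext' (x y : (Limits.limit F : CommRingCat.{u}))
    (h : ∀ j, (Limits.limit.π F j).hom x = (Limits.limit.π F j).hom y) : x = y :=
  Limits.Concrete.limit_ext F x y h

theorem π_map (i j : J) (φ : i ⟶ j) (x : (Limits.limit F : CommRingCat.{u})) :
    (F.map φ).hom ((Limits.limit.π F i).hom x) = (Limits.limit.π F j).hom x := by
  have := Limits.limit.w F φ
  rw [← this]
  rfl

theorem isUnit_of_forall (x : (Limits.limit F : CommRingCat.{u}))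
    (h : ∀ j, IsUnit ((Limits.limit.π F j).hom x)) : IsUnit x := by
  choose b hb using fun j => (isUnit_iff_exists_inv.mp (h j))
  have hcomp : ∀ (i j : J) (φ : i ⟶ j), (F.map φ).hom (b i) = b j := by
    intro i j φ
    have h1 : (Limits.limit.π F j).hom x * (F.map φ).hom (b i) = 1 := by
      rw [← π_map F i j φ x, ← map_mul, hb i, map_one]
    calc (F.map φ).hom (b i) = (b j * (Limits.limit.π F j).hom x) * (F.map φ).hom (b i) := by
          rw [mul_comm (b j), hb j, one_mul]
      _ = b j := by rw [mul_assoc, h1, mul_one]
  obtain ⟨y, hy⟩ := exists_of_compatible F b hcomp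
  rw [isUnit_iff_exists_inv]
  refine ⟨y, ?_⟩
  apply limit_ext'
  intro j
  rw [map_mul, hy j, hb j, map_one]

end Limit

open Polynomial in
/-- Henselian pairs are preserved under limits: for an inverse system (A_j, I_j) of henselian pairs over
a preordered set J, the limit A = lim A_j with the ideal I = lim I_j (elements all of whose
projections lie in the I_j) is a henselian pair. -/
theorem result (J : Type u) [Preorder J] (F : J ⥤ CommRingCat.{u})
    (I : ∀ j : J, Ideal (F.obj j))
    (hI : ∀ (i j : J) (φ : i ⟶ j), Ideal.map (F.map φ).hom (I i) ≤ I j)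
    (h : ∀ j : J, HenselianRing (F.obj j) (I j)) :
    HenselianRing ((Limits.limit F : CommRingCat.{u}) : Type u)
      (⨅ j : J, Ideal.comap (Limits.limit.π F j).hom (I j)) := by
  have hmem : ∀ (x : (Limits.limit F : CommRingCat.{u})),
      x ∈ (⨅ j : J, Ideal.comap (Limits.limit.π F j).hom (I j)) ↔
        ∀ j, (Limits.limit.π F j).hom x ∈ I j := by
    intro x
    simp only [Ideal.mem_iInf, Ideal.mem_comap]
  constructor
  · intro x hx
    rw [Ideal.mem_jacobson_bot]
    intro y
    apply isUnit_of_forall
    intro j
    have hxj : (Limits.limit.π F j).hom x ∈ Ideal.jacobson (⊥ : Ideal (F.obj j)) :=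
      (h j).jac ((hmem x).mp hx j)
    rw [map_add, map_mul, map_one]
    exact Ideal.mem_jacobson_bot.mp hxj _
  · intro f hf a₀ ha₀ hu
    rw [isUnit_mk_iff] at hu
    obtain ⟨c, hc⟩ := hu
    -- componentwise data
    have hfj : ∀ j, (f.map (Limits.limit.π F j).hom).Monic := fun j => hf.map _
    have hevalj : ∀ j, (f.map (Limits.limit.π F j).hom).eval ((Limits.limit.π F j).hom a₀) ∈ I j := by
      intro j
      rw [Polynomial.eval_map, Polynomial.eval₂_hom]
      exact (hmem _).mp ha₀ j
    have hderj : ∀ j, ∃ c' : F.obj j,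
        (f.map (Limits.limit.π F j).hom).derivative.eval ((Limits.limit.π F j).hom a₀) * c' - 1 ∈ I j := by
      intro j
      refine ⟨(Limits.limit.π F j).hom c, ?_⟩
      rw [Polynomial.derivative_map, Polynomial.eval_map, Polynomial.eval₂_hom]
      have := (hmem _).mp hc j
      rwa [map_sub, map_mul, map_one] at this
    have hroot : ∀ j, ∃ a : F.obj j, (f.map (Limits.limit.π F j).hom).IsRoot a ∧
        a - (Limits.limit.π F j).hom a₀ ∈ I j := by
      intro j
      exact (h j).is_henselian _ (hfj j) _ (hevalj j) ((isUnit_mk_iff _ _).mpr (hderj j))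
    choose a har haI using hroot
    -- derivative at a j is a unit mod I j
    have hdera : ∀ j, ∃ c' : F.obj j,
        (f.map (Limits.limit.π F j).hom).derivative.eval (a j) * c' - 1 ∈ I j := by
      intro j
      obtain ⟨c', hc'⟩ := hderj j
      refine ⟨c', ?_⟩
      obtain ⟨z, hz⟩ := Polynomial.evalSubFactor (f.map (Limits.limit.π F j).hom).derivative (a j)
        ((Limits.limit.π F j).hom a₀)
      have : (f.map (Limits.limit.π F j).hom).derivative.eval (a j) * c' - 1 =
          ((f.map (Limits.limit.π F j).hom).derivative.eval ((Limits.limit.π F j).hom a₀) * c' - 1) +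
            (a j - (Limits.limit.π F j).hom a₀) * (z * c') := by
        have hz' : (f.map (Limits.limit.π F j).hom).derivative.eval (a j) =
            (f.map (Limits.limit.π F j).hom).derivative.eval ((Limits.limit.π F j).hom a₀) +
              z * (a j - (Limits.limit.π F j).hom a₀) := by
          rw [← hz]; ring
        rw [hz']; ring
      rw [this]
      exact (I j).add_mem hc' ((I j).mul_mem_right _ (haI j))
    have hcomp : ∀ (i j : J) (φ : i ⟶ j), (F.map φ).hom (a i) = a j := by
      intro i j φ
      have hmapf : (f.map (Limits.limit.π F i).hom).map (F.map φ).hom =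
          f.map (Limits.limit.π F j).hom := by
        rw [Polynomial.map_map]
        congr 1
        ext x
        exact π_map F i j φ x
      apply root_unique (I j) (h j).jac (f.map (Limits.limit.π F j).hom) (a j) _ (har j)
      · rw [← hmapf, Polynomial.IsRoot.def, Polynomial.eval_map, Polynomial.eval₂_hom,
          (har i).eq_zero, map_zero]
      · have h1 : (F.map φ).hom (a i) - a j =
            (F.map φ).hom (a i - (Limits.limit.π F i).hom a₀) -
              (a j - (Limits.limit.π F j).hom a₀) := by
          rw [map_sub, π_map F i j φ a₀]; ring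
        rw [h1]
        apply (I j).sub_mem _ (haI j)
        apply hI i j φ
        exact Ideal.mem_map_of_mem _ (haI i)
      · exact hdera j
    obtain ⟨x, hx⟩ := exists_of_compatible F a hcomp
    refine ⟨x, ?_, ?_⟩
    · rw [Polynomial.IsRoot.def]
      apply limit_ext'
      intro j
      rw [map_zero, ← Polynomial.eval₂_hom, ← Polynomial.eval_map, hx j]
      exact (har j).eq_zero
    · rw [hmem]
      intro j
      rw [map_sub, hx j]
      exact haI j

end Groth.Agent.S9302
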