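import Groth.Statements.S9303
import Mathlib

set_option autoImplicit false
set_option linter.style.haveILetI false
universe u
open CAlg

namespace Groth.Agent.S9303

section idem

variable {B T : Type*} [CommRing B] [CommRing T] [Algebra B T]

theorem map_idem_eq_one {e : B} (he : IsIdempotentElem e) [IsLocalization.Away e T] :
    algebraMap B T e = 1 := by
  have hu : IsUnit (algebraMap B T e) := IsLocalization.Away.algebraMap_isUnit e
  have hi : algebraMap B T e * algebraMap B T e = algebraMap B T e * 1 := by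
    rw [← map_mul, he.eq, mul_one]
  exact hu.mul_left_cancel hi

theorem surj_of_idem {e : B} (he : IsIdempotentElem e) [IsLocalization.Away e T] (t : T) :
    ∃ b : B, algebraMap B T b = t := by
  obtain ⟨k, b, hs⟩ := IsLocalization.Away.surj e t
  refine ⟨b, ?_⟩
  rw [← hs, map_idem_eq_one he, one_pow, mul_one]

theorem ker_of_idem {e : B} (he : IsIdempotentElem e) [IsLocalization.Away e T] {b : B}
    (hb : algebraMap B T b = 0) : e * b = 0 := by
  have hb' : algebraMap B T b = algebraMap B T 0 := by rw [hb, map_zero]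
  obtain ⟨k, hk⟩ := IsLocalization.Away.exists_of_eq e hb'
  rw [mul_zero] at hk
  calc e * b = e ^ (k + 1) * b := by rw [he.pow_succ_eq]
    _ = e * (e ^ k * b) := by rw [pow_succ]; ring
    _ = 0 := by rw [hk, mul_zero]

end idem

variable {A : Type u} [CommRing A]

/-- If a power of each generator kills `x`, a power of each element of the span kills `x`. -/
theorem radical_kill (s : Finset A) (x : A) (h : ∀ g ∈ s, ∃ n : ℕ, g ^ n * x = 0) :
    ∀ g ∈ Ideal.span (s : Set A), ∃ n : ℕ, g ^ n * x = 0 := by
  let N : Ideal A := LinearMap.ker (LinearMap.toSpanSingleton A A x)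
  have hN : ∀ y, y ∈ N ↔ y * x = 0 := fun y => by
    simp [N, LinearMap.mem_ker, LinearMap.toSpanSingleton_apply]
  have hle : Ideal.span (s : Set A) ≤ N.radical := Ideal.span_le.mpr (fun g hg => by
    obtain ⟨n, hn⟩ := h g hg
    exact ⟨n, (hN _).mpr hn⟩)
  intro g hg
  obtain ⟨n, hn⟩ := hle hg
  exact ⟨n, (hN _).mp hn⟩

section general

variable (f : A) (B : Type u) [CommRing B] [Algebra A B]

theorem phi_apply (a : A) :
    algebraMap (Localization.Away f)
        (Localization (Algebra.algebraMapSubmonoid B (Submonoid.powers f)))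
        (algebraMap A (Localization.Away f) a) =
      algebraMap B (Localization (Algebra.algebraMapSubmonoid B (Submonoid.powers f)))
        (algebraMap A B a) := by
  rw [← IsScalarTower.algebraMap_apply, ← IsScalarTower.algebraMap_apply]

theorem iota_eq_iff (b₁ b₂ : B) :
    algebraMap B (Localization (Algebra.algebraMapSubmonoid B (Submonoid.powers f))) b₁ =
      algebraMap B (Localization (Algebra.algebraMapSubmonoid B (Submonoid.powers f))) b₂ ↔
      ∃ n : ℕ, algebraMap A B (f ^ n) * b₁ = algebraMap A B (f ^ n) * b₂ := by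
  rw [IsLocalization.eq_iff_exists (Algebra.algebraMapSubmonoid B (Submonoid.powers f))]
  constructor
  · rintro ⟨⟨t, ht⟩, h⟩
    obtain ⟨y, hy, rfl⟩ := Submonoid.mem_map.mp ht
    obtain ⟨n, rfl⟩ := (Submonoid.mem_powers_iff _ _).mp hy
    exact ⟨n, h⟩
  · rintro ⟨n, h⟩
    exact ⟨⟨algebraMap A B (f ^ n), Submonoid.mem_map.mpr ⟨f ^ n, ⟨n, rfl⟩, rfl⟩⟩, h⟩

theorem iota_eq_zero_iff (b : B) :
    algebraMap B (Localization (Algebra.algebraMapSubmonoid B (Submonoid.powers f))) b = 0 ↔
      ∃ n : ℕ, algebraMap A B (f ^ n) * b = 0 := by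
  have := iota_eq_iff f B b 0
  simpa using this

end general

variable (I : Ideal A) (C : Type u) [CommRing C] [Algebra A C]

/-- The ideal `K`: elements `a` such that `a * j` is `I`-power torsion for all `j` in the kernel of
`A → C`. -/
def Kideal : Ideal A where
  carrier := {a | ∀ j : A, algebraMap A C j = 0 → ∀ g ∈ I, ∃ n : ℕ, g ^ n * (a * j) = 0}
  add_mem' := by
    intro a b ha hb j hj g hg
    obtain ⟨n, hn⟩ := ha j hj g hg
    obtain ⟨m, hm⟩ := hb j hj g hg
    refine ⟨n + m, ?_⟩
    calc g ^ (n + m) * ((a + b) * j) = g ^ m * (g ^ n * (a * j)) + g ^ n * (g ^ m * (b * j)) := by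
          ring
      _ = 0 := by rw [hn, hm]; simp
  zero_mem' := fun j _ g _ => ⟨0, by simp⟩
  smul_mem' := by
    intro c a ha j hj g hg
    obtain ⟨n, hn⟩ := ha j hj g hg
    refine ⟨n, ?_⟩
    calc g ^ n * (c • a * j) = c * (g ^ n * (a * j)) := by rw [smul_eq_mul]; ring
      _ = 0 := by rw [hn, mul_zero]

theorem mem_Kideal (a : A) : a ∈ Kideal I C ↔
    ∀ j : A, algebraMap A C j = 0 → ∀ g ∈ I, ∃ n : ℕ, g ^ n * (a * j) = 0 := Iff.rfl

/-- The data extracted at an element `g` where `A_g → C_g` is a localization at an idempotent. -/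
structure LocData (g : A) (e : Localization.Away g) : Prop where
  kills : ∀ j : A, algebraMap A C j = 0 → e * algebraMap A (Localization.Away g) j = 0
  gen : ∃ (j₀ : A) (k : ℕ), algebraMap A C j₀ = 0 ∧
    (1 - e) * algebraMap A (Localization.Away g) (g ^ k) = algebraMap A (Localization.Away g) j₀
  surj : ∀ c : C, ∃ x₀ : Localization.Away g,
    algebraMap (Localization.Away g)
      (Localization (Algebra.algebraMapSubmonoid C (Submonoid.powers g))) x₀ =
    algebraMap C (Localization (Algebra.algebraMapSubmonoid C (Submonoid.powers g))) c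
  one : algebraMap (Localization.Away g)
      (Localization (Algebra.algebraMapSubmonoid C (Submonoid.powers g))) e = 1

theorem locData (g : A) (e : Localization.Away g) (he : IsIdempotentElem e)
    (hloc : IsLocalization.Away e
      (Localization (Algebra.algebraMapSubmonoid C (Submonoid.powers g)))) :
    LocData C g e := by
  have hone := map_idem_eq_one (T := Localization (Algebra.algebraMapSubmonoid C (Submonoid.powers g))) he
  refine ⟨?_, ?_, ?_, hone⟩
  · intro j hj
    apply ker_of_idem (T := Localization (Algebra.algebraMapSubmonoid C (Submonoid.powers g))) he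
    rw [phi_apply, hj, map_zero]
  · obtain ⟨k, a, hka⟩ := IsLocalization.Away.surj g (1 - e)
    have h0 : algebraMap C (Localization (Algebra.algebraMapSubmonoid C (Submonoid.powers g)))
        (algebraMap A C a) = 0 := by
      rw [← phi_apply, ← hka, map_mul, map_sub, map_one, hone, sub_self, zero_mul]
    obtain ⟨l, hl⟩ := (iota_eq_zero_iff g C _).mp h0
    refine ⟨g ^ l * a, k + l, ?_, ?_⟩
    · rw [map_mul]; exact hl
    · rw [pow_add, map_mul, map_mul, ← mul_assoc, map_pow, hka, map_pow]; ring
  · intro c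
    exact surj_of_idem he _

/-- The purely ring-level consequence of `LocData`. -/
theorem locData_pure {g : A} {e : Localization.Away g} (hd : LocData C g e) :
    ∃ (j₀ : A) (k : ℕ), algebraMap A C j₀ = 0 ∧
      ∀ j : A, algebraMap A C j = 0 → ∃ N : ℕ, g ^ N * (g ^ k * j) = g ^ N * (j₀ * j) := by
  obtain ⟨j₀, k, hj₀, hk⟩ := hd.gen
  refine ⟨j₀, k, hj₀, fun j hj => ?_⟩
  have h1 := hd.kills j hj
  have h2 : algebraMap A (Localization.Away g) (g ^ k * j) =
      algebraMap A (Localization.Away g) (j₀ * j) := by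
    rw [map_mul, map_mul, ← hk]
    calc algebraMap A (Localization.Away g) (g ^ k) * algebraMap A (Localization.Away g) j
        = algebraMap A (Localization.Away g) (g ^ k) *
            (algebraMap A (Localization.Away g) j - e * algebraMap A (Localization.Away g) j) := by
          rw [h1, sub_zero]
      _ = (1 - e) * algebraMap A (Localization.Away g) (g ^ k) *
            algebraMap A (Localization.Away g) j := by ring
  exact IsLocalization.Away.exists_of_eq g h2

/-- Key claim: an element whose products with the kernel are `f`-power torsion has an `f`-multiple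
in `K`. -/
theorem exists_pow_mul_mem_Kideal (s : Finset A) (hs : Ideal.span (s : Set A) = I)
    (hP : ∀ g ∈ s, ∃ (j₀ : A) (k : ℕ), algebraMap A C j₀ = 0 ∧
      ∀ j : A, algebraMap A C j = 0 → ∃ N : ℕ, g ^ N * (g ^ k * j) = g ^ N * (j₀ * j))
    (f a₀ : A) (h1 : ∀ j : A, algebraMap A C j = 0 → ∃ m : ℕ, f ^ m * (a₀ * j) = 0) :
    ∃ m : ℕ, f ^ m * a₀ ∈ Kideal I C := by
  classical
  choose! jj kk hjj hkk using hP
  have h2 : ∀ g ∈ s, ∃ m : ℕ, f ^ m * (a₀ * jj g) = 0 := fun g hg => h1 _ (hjj g hg)
  choose! mm hmm using h2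
  refine ⟨s.sup mm, ?_⟩
  intro j hj g' hg'
  rw [← hs] at hg'
  refine radical_kill s _ ?_ g' hg'
  intro g hg
  obtain ⟨N, hN⟩ := hkk g hg j hj
  obtain ⟨d, hd⟩ := Nat.exists_eq_add_of_le (Finset.le_sup (f := mm) hg)
  refine ⟨N + kk g, ?_⟩
  have h3 : f ^ s.sup mm * (a₀ * jj g) = 0 := by
    rw [hd, pow_add, mul_assoc, mul_comm (f ^ mm g), mul_assoc, mul_comm _ (f ^ mm g), hmm g hg]
    simp
  calc g ^ (N + kk g) * (f ^ s.sup mm * a₀ * j)
      = f ^ s.sup mm * a₀ * (g ^ N * (g ^ kk g * j)) := by ring
    _ = f ^ s.sup mm * a₀ * (g ^ N * (jj g * j)) := by rw [hN]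
    _ = g ^ N * j * (f ^ s.sup mm * (a₀ * jj g)) := by ring
    _ = 0 := by rw [h3, mul_zero]

section main

variable (f : A)

local notation "Af" => Localization.Away f
local notation "Cf" => Localization (Algebra.algebraMapSubmonoid C (Submonoid.powers f))
local notation "BB" => (C × (A ⧸ Kideal I C))
local notation "Bf" =>
  Localization (Algebra.algebraMapSubmonoid (C × (A ⧸ Kideal I C)) (Submonoid.powers f))

theorem bijective_of_locData (s : Finset A) (hs : Ideal.span (s : Set A) = I)
    (hP : ∀ g ∈ s, ∃ (j₀ : A) (k : ℕ), algebraMap A C j₀ = 0 ∧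
      ∀ j : A, algebraMap A C j = 0 → ∃ N : ℕ, g ^ N * (g ^ k * j) = g ^ N * (j₀ * j))
    (hf : f ∈ I) (e : Af) (hd : LocData C f e) :
    Function.Bijective (algebraMap Af Bf) := by
  have hfu : IsUnit (algebraMap A Af f) := IsLocalization.Away.algebraMap_isUnit f
  have hfu' : ∀ n : ℕ, IsUnit (algebraMap A Af (f ^ n)) := fun n => by
    rw [map_pow]; exact hfu.pow n
  constructor
  · rw [injective_iff_map_eq_zero]
    intro x hx
    obtain ⟨n, a, hxa⟩ := IsLocalization.Away.surj f x
    have h1 : algebraMap Af Bf (algebraMap A Af a) = 0 := by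
      rw [← hxa, map_mul, hx, zero_mul]
    rw [phi_apply] at h1
    obtain ⟨m, hm⟩ := (iota_eq_zero_iff f _ _).mp h1
    have hb : algebraMap A BB (f ^ m * a) = 0 := by rw [map_mul]; exact hm
    have hbC : algebraMap A C (f ^ m * a) = 0 := congrArg Prod.fst hb
    have hbK : f ^ m * a ∈ Kideal I C :=
      Ideal.Quotient.eq_zero_iff_mem.mp (congrArg Prod.snd hb)
    have e1 := hd.kills _ hbC
    obtain ⟨j₀, k, hj₀, hjk⟩ := hd.gen
    obtain ⟨n', hn'⟩ := hbK j₀ hj₀ f hf
    have e2 : algebraMap A Af (f ^ m * a) * algebraMap A Af j₀ = 0 := by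
      have h3 : algebraMap A Af (f ^ n') *
          (algebraMap A Af (f ^ m * a) * algebraMap A Af j₀) = 0 := by
        rw [← map_mul, ← map_mul, hn', map_zero]
      exact ((hfu' n').mul_right_eq_zero).mp h3
    have e3 : (1 - e) * algebraMap A Af (f ^ m * a) = 0 := by
      have h3 : algebraMap A Af (f ^ k) * ((1 - e) * algebraMap A Af (f ^ m * a)) = 0 := by
        calc algebraMap A Af (f ^ k) * ((1 - e) * algebraMap A Af (f ^ m * a))
            = ((1 - e) * algebraMap A Af (f ^ k)) * algebraMap A Af (f ^ m * a) := by ring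
          _ = 0 := by rw [hjk, mul_comm, e2]
      exact ((hfu' k).mul_right_eq_zero).mp h3
    have e4 : algebraMap A Af (f ^ m * a) = 0 := by
      calc algebraMap A Af (f ^ m * a)
          = e * algebraMap A Af (f ^ m * a) + (1 - e) * algebraMap A Af (f ^ m * a) := by ring
        _ = 0 := by rw [e1, e3, add_zero]
    have h5 : x * (algebraMap A Af f ^ n * algebraMap A Af (f ^ m)) = 0 := by
      rw [← mul_assoc, hxa, ← map_mul, mul_comm, e4]
    exact (((hfu.pow n).mul (hfu' m)).mul_left_eq_zero).mp h5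
  · intro y
    obtain ⟨⟨b, t⟩, hbt⟩ := IsLocalization.surj
      (Algebra.algebraMapSubmonoid (C × (A ⧸ Kideal I C)) (Submonoid.powers f)) y
    obtain ⟨t, ht⟩ := t
    obtain ⟨t', ht', rfl⟩ := Submonoid.mem_map.mp ht
    obtain ⟨n, rfl⟩ := (Submonoid.mem_powers_iff _ _).mp ht'
    obtain ⟨c, abar⟩ := b
    obtain ⟨a, rfl⟩ := Ideal.Quotient.mk_surjective abar
    have hbt' : y * algebraMap BB Bf (algebraMap A BB (f ^ n)) =
        algebraMap BB Bf (c, Ideal.Quotient.mk (Kideal I C) a) := hbt
    suffices hx : ∃ x : Af, algebraMap Af Bf x =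
        algebraMap BB Bf (c, Ideal.Quotient.mk (Kideal I C) a) by
      obtain ⟨x, hx⟩ := hx
      obtain ⟨u, hu⟩ := hfu' n
      refine ⟨x * ↑u⁻¹, ?_⟩
      have hunit : IsUnit (algebraMap BB Bf (algebraMap A BB (f ^ n))) := by
        rw [← phi_apply]; exact (hfu' n).map _
      apply hunit.mul_left_injective
      show algebraMap Af Bf (x * ↑u⁻¹) * algebraMap BB Bf (algebraMap A BB (f ^ n)) =
        y * algebraMap BB Bf (algebraMap A BB (f ^ n))
      rw [hbt', ← hx, ← phi_apply, ← map_mul, ← hu, mul_assoc, Units.inv_mul, mul_one]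
    obtain ⟨x₀, hx₀⟩ := hd.surj c
    obtain ⟨N, a'', ha''⟩ := IsLocalization.Away.surj f (e * x₀ + (1 - e) * algebraMap A Af a)
    have hψx : algebraMap Af Cf (e * x₀ + (1 - e) * algebraMap A Af a) = algebraMap C Cf c := by
      rw [map_add, map_mul, map_mul, map_sub, map_one, hd.one, hx₀, sub_self, zero_mul,
        add_zero, one_mul]
    have hC : ∃ n₁ : ℕ, algebraMap A C (f ^ n₁) * algebraMap A C a'' =
        algebraMap A C (f ^ n₁) * (algebraMap A C (f ^ N) * c) := by
      rw [← iota_eq_iff f C]
      have l1 : algebraMap C Cf (algebraMap A C a'') =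
          algebraMap C Cf c * algebraMap Af Cf (algebraMap A Af f ^ N) := by
        rw [← phi_apply, ← ha'', map_mul, hψx]
      have l2 : algebraMap C Cf (algebraMap A C (f ^ N) * c) =
          algebraMap Af Cf (algebraMap A Af f ^ N) * algebraMap C Cf c := by
        rw [map_mul, ← phi_apply, map_pow]
      rw [l1, l2, mul_comm]
    have hK : ∃ n₂ : ℕ, f ^ n₂ * (a'' - f ^ N * a) ∈ Kideal I C := by
      apply exists_pow_mul_mem_Kideal I C s hs hP
      intro j hj
      have hz : algebraMap A Af ((a'' - f ^ N * a) * j) = 0 := by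
        have h6 : algebraMap A Af (a'' - f ^ N * a) =
            e * (algebraMap A Af f ^ N * (x₀ - algebraMap A Af a)) := by
          rw [map_sub, map_mul, map_pow, ← ha'']; ring
        rw [map_mul, h6]
        calc e * (algebraMap A Af f ^ N * (x₀ - algebraMap A Af a)) * algebraMap A Af j
            = (algebraMap A Af f ^ N * (x₀ - algebraMap A Af a)) * (e * algebraMap A Af j) := by
              ring
          _ = 0 := by rw [hd.kills j hj, mul_zero]
      have hz' : algebraMap A Af ((a'' - f ^ N * a) * j) = algebraMap A Af 0 := by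
        rw [hz, map_zero]
      obtain ⟨m, hm⟩ := IsLocalization.Away.exists_of_eq f hz'
      exact ⟨m, by rw [hm, mul_zero]⟩
    obtain ⟨n₁, h₁⟩ := hC
    obtain ⟨n₂, h₂⟩ := hK
    have key : algebraMap BB Bf (algebraMap A BB a'') =
        algebraMap BB Bf (algebraMap A BB (f ^ N) * (c, Ideal.Quotient.mk (Kideal I C) a)) := by
      rw [iota_eq_iff f]
      refine ⟨n₁ + n₂, Prod.ext ?_ ?_⟩
      · show algebraMap A C (f ^ (n₁ + n₂)) * algebraMap A C a'' =
          algebraMap A C (f ^ (n₁ + n₂)) * (algebraMap A C (f ^ N) * c)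
        rw [pow_add, map_mul, mul_comm (algebraMap A C (f ^ n₁)), mul_assoc, mul_assoc, h₁]
      · show Ideal.Quotient.mk (Kideal I C) (f ^ (n₁ + n₂)) * Ideal.Quotient.mk (Kideal I C) a'' =
          Ideal.Quotient.mk (Kideal I C) (f ^ (n₁ + n₂)) *
            (Ideal.Quotient.mk (Kideal I C) (f ^ N) * Ideal.Quotient.mk (Kideal I C) a)
        rw [← map_mul, ← map_mul, ← map_mul, Ideal.Quotient.eq]
        have h7 := (Kideal I C).mul_mem_left (f ^ n₁) h₂
        convert h7 using 1
        ring
    refine ⟨e * x₀ + (1 - e) * algebraMap A Af a, ?_⟩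
    have hunit : IsUnit (algebraMap Af Bf (algebraMap A Af f ^ N)) := (hfu.pow N).map _
    apply hunit.mul_left_injective
    show algebraMap Af Bf (e * x₀ + (1 - e) * algebraMap A Af a) *
        algebraMap Af Bf (algebraMap A Af f ^ N) =
      algebraMap BB Bf (c, Ideal.Quotient.mk (Kideal I C) a) *
        algebraMap Af Bf (algebraMap A Af f ^ N)
    rw [← map_mul, ha'', phi_apply, key, map_mul, ← phi_apply, map_pow, mul_comm]

end main

/-- Let A be a ring, I a finitely generated ideal and A → C a ring map such that for every f ∈ I the map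
A_f → C_f is the localization of A_f at an idempotent. Then there is a surjection A → C' (C' = A/K
for an ideal K) such that A_f → (C × C')_f is an isomorphism for every f ∈ I. -/
theorem result (A : Type u) [CommRing A]
    (I : Ideal A) (hI : I.FG) (C : Type u) [CommRing C] [Algebra A C]
    (h : ∀ f ∈ I, ∃ e : Localization.Away f, IsIdempotentElem e ∧
      IsLocalization.Away e (Localization (Algebra.algebraMapSubmonoid C (Submonoid.powers f)))) :
    ∃ K : Ideal A, ∀ f ∈ I, Function.Bijective
      (algebraMap (Localization.Away f)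
        (Localization (Algebra.algebraMapSubmonoid (C × (A ⧸ K)) (Submonoid.powers f)))) := by
  classical
  obtain ⟨s, hs⟩ := hI
  have hP : ∀ g ∈ s, ∃ (j₀ : A) (k : ℕ), algebraMap A C j₀ = 0 ∧
      ∀ j : A, algebraMap A C j = 0 → ∃ N : ℕ, g ^ N * (g ^ k * j) = g ^ N * (j₀ * j) := by
    intro g hg
    obtain ⟨e, he, hloc⟩ := h g (hs ▸ Ideal.subset_span hg)
    exact locData_pure C (locData C g e he hloc)
  refine ⟨Kideal I C, fun f hf => ?_⟩
  obtain ⟨e, he, hloc⟩ := h f hf
  exact bijective_of_locData I C f s hs hP hf e (locData C f e he hloc)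

end Groth.Agent.S9303
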