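import Groth.Statements.S9305
import Groth.Agent.H47.BranchCountStrict

set_option autoImplicit false
universe u
open CAlg

namespace Groth.Agent.S9305

open TensorProduct in
/-- Let A be a local ring with finitely many minimal primes, A' the integral closure of A_red in its
total ring of fractions and A^sh a strict henselization of A. In the ring A' ⊗_A A^sh, each minimal
prime lies in exactly one maximal ideal and each maximal ideal contains exactly one minimal prime. -/
theorem result {A Ash : Type u} [CommRing A]
    [IsLocalRing A] (hfin : (minimalPrimes A).Finite) [CommRing Ash] [IsLocalRing Ash] [Algebra A Ash]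
    [IsLocalHom (algebraMap A Ash)] [Hensel.IsStrictHenselization A Ash] :
    (∀ q ∈ minimalPrimes ((CAlg2.normRed A) ⊗[A] Ash),
        ∃! m : Ideal ((CAlg2.normRed A) ⊗[A] Ash), m.IsMaximal ∧ q ≤ m) ∧
      (∀ m : Ideal ((CAlg2.normRed A) ⊗[A] Ash), m.IsMaximal →
        ∃! q : Ideal ((CAlg2.normRed A) ⊗[A] Ash), q ∈ minimalPrimes ((CAlg2.normRed A) ⊗[A] Ash) ∧ q ≤ m) := by
  haveI : HenselianLocalRing Ash := Hensel.IsStrictHenselization.henselian (R := A)
  haveI : Algebra.IsIntegral A (CAlg2.normRed A) :=
    Groth.Agent.H47.MinPrimeTensor.isIntegral_normRed A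
  have hN : ∀ (N : Ideal (CAlg2.normRed A)) [N.IsMaximal],
      IsDomain (Localization.AtPrime N) ∧ IsIntegrallyClosed (Localization.AtPrime N) :=
    fun N _ => Groth.Agent.H47.BranchCount.normRed_localization A hfin N
  letI : Algebra Ash ((CAlg2.normRed A) ⊗[A] Ash) := Algebra.TensorProduct.rightAlgebra
  haveI : Algebra.IsIntegral Ash ((CAlg2.normRed A) ⊗[A] Ash) :=
    Groth.Agent.H47.BranchCount.isIntegral_right' A Ash (CAlg2.normRed A)
  refine ⟨fun q hq => ?_, fun m hm => ?_⟩
  · haveI : q.IsPrime := hq.1.1
    exact Groth.Agent.H47.BranchCount.existsUnique_isMaximal_ge Ash ((CAlg2.normRed A) ⊗[A] Ash) q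
  · haveI := hm
    exact Groth.Agent.H47.BranchCount.existsUnique_minimalPrime_le (B := (CAlg2.normRed A) ⊗[A] Ash) m
      (Groth.Agent.H47.BranchCount.locDom_of_isStrictHenselization A Ash (CAlg2.normRed A) hN m)

end Groth.Agent.S9305
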