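import Groth.Statements.S9306
import Groth.Agent.H10.UnramExt
import Groth.Agent.H78.ValExt

set_option autoImplicit false
set_option linter.style.haveILetI false
universe u
open EtRam

namespace Groth.Agent.S9306

open TensorProduct in
/-- Let A → B be an injective local homomorphism of discrete valuation rings with fraction fields K ⊆ L,
and let K' be a finite separable extension of K that is unramified relative to A. Then every field F
onto which K' ⊗_K L surjects is, as an extension of L, unramified relative to B. (The published
statement also records that K' ⊗_K L is a finite product of fields, whose factors are these F; this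
row does not state that part.) -/
theorem result (A B K L K' : Type u) [CommRing A] [IsDomain A]
    [IsDiscreteValuationRing A] [CommRing B] [IsDomain B] [IsDiscreteValuationRing B] [Algebra A B]
    [IsLocalHom (algebraMap A B)] (hinj : Function.Injective (algebraMap A B))
    [Field K] [Field L] [Field K'] [Algebra A K] [IsFractionRing A K] [Algebra B L] [IsFractionRing B L]
    [Algebra K L] [Algebra A L] [IsScalarTower A K L] [IsScalarTower A B L]
    [Algebra K K'] [FiniteDimensional K K'] [Algebra.IsSeparable K K']
    (h : EtRam.IsUnramifiedExt A ((algebraMap K K').comp (algebraMap A K)))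
    (F : Type u) [Field F] [Algebra (K' ⊗[K] L) F] (hF : Function.Surjective (algebraMap (K' ⊗[K] L) F)) :
    EtRam.IsUnramifiedExt B ((algebraMap (K' ⊗[K] L) F).comp
      ((Algebra.TensorProduct.includeRight : L →ₐ[K] K' ⊗[K] L).toRingHom.comp (algebraMap B L))) := by
  classical
  intro W hW hloc
  -- notation
  let lam : L →+* F := (algebraMap (K' ⊗[K] L) F).comp
    (Algebra.TensorProduct.includeRight : L →ₐ[K] K' ⊗[K] L).toRingHom
  let ι' : K' →+* F := (algebraMap (K' ⊗[K] L) F).comp
    (Algebra.TensorProduct.includeLeft : K' →ₐ[K] K' ⊗[K] L).toRingHom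
  letI algK'F : Algebra K' F := ι'.toAlgebra
  letI algAK' : Algebra A K' := ((algebraMap K K').comp (algebraMap A K)).toAlgebra
  haveI : IsScalarTower A K K' := IsScalarTower.of_algebraMap_eq (fun _ => rfl)
  letI algBW : Algebra B W := (RingHom.codRestrict (lam.comp (algebraMap B L)) W hW.1).toAlgebra
  haveI : IsLocalHom (algebraMap B W) := hloc
  have hcompat : ∀ a : A, ι' (algebraMap A K' a) = lam (algebraMap B L (algebraMap A B a)) := by
    intro a
    show algebraMap (K' ⊗[K] L) F ((algebraMap K K' (algebraMap A K a)) ⊗ₜ (1 : L)) =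
      algebraMap (K' ⊗[K] L) F ((1 : K') ⊗ₜ (algebraMap B L (algebraMap A B a)))
    congr 1
    rw [← IsScalarTower.algebraMap_apply A B L, IsScalarTower.algebraMap_apply A K L,
      Algebra.algebraMap_eq_smul_one (algebraMap A K a), Algebra.algebraMap_eq_smul_one
      (A := L) (algebraMap A K a), TensorProduct.smul_tmul]
  -- V
  obtain ⟨V, hVdef⟩ : ∃ V : ValuationSubring K', V = W.comap (algebraMap K' F) := ⟨_, rfl⟩
  have hV : EtRam.Dominates A (algebraMap A K') V := by
    rw [hVdef, Groth.Agent.H78.ValExt.dominates_comap_iff]
    refine ⟨fun a => ?_, fun a ha => ?_⟩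
    · show ι' (algebraMap A K' a) ∈ W
      rw [hcompat]; exact hW.1 _
    · show W.valuation (ι' (algebraMap A K' a)) < 1
      rw [hcompat]
      exact hW.2 _ ((IsLocalRing.mem_maximalIdeal _).mpr (fun hu =>
        ((IsLocalRing.mem_maximalIdeal _).mp ha) (isUnit_of_map_unit (algebraMap A B) a hu)))
  letI algAV : Algebra A V :=
    (RingHom.codRestrict ((algebraMap K K').comp (algebraMap A K)) V hV.1).toAlgebra
  haveI hlocAV : IsLocalHom (algebraMap A V) := ⟨fun a ha => by
    by_contra hna
    have h1 : V.valuation (algebraMap A K' a) < 1 := hV.2 a ((IsLocalRing.mem_maximalIdeal _).mpr hna)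
    have h2 : V.valuation ((algebraMap A V a : V) : K') = 1 :=
      (ValuationSubring.valuation_eq_one_iff V _).mp ha
    exact absurd h2 (ne_of_lt h1)⟩
  obtain ⟨hwu, hsep⟩ := h V hV
  haveI := hsep
  haveI hess : Algebra.EssFiniteType A V :=
    Groth.Agent.H10.UnramExt.essFiniteType_of_dominates A K K' V hV
  haveI hfu : Algebra.FormallyUnramified A V :=
    Algebra.FormallyUnramified.iff_map_maximalIdeal_eq.mpr ⟨hsep, hwu⟩
  -- algebra structures on W
  have hVW : ∀ v : V, algebraMap K' F (v : K') ∈ W := by
    have h3 : ∀ x : K', x ∈ V → x ∈ W.comap (algebraMap K' F) := fun x hx => hVdef ▸ hx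
    intro v
    exact h3 _ v.2
  letI algVW : Algebra V W :=
    (RingHom.codRestrict ((algebraMap K' F).comp V.subtype) W hVW).toAlgebra
  letI algAW : Algebra A W := ((algebraMap B W).comp (algebraMap A B)).toAlgebra
  haveI : IsScalarTower A B W := IsScalarTower.of_algebraMap_eq (fun _ => rfl)
  haveI : IsScalarTower A V W := IsScalarTower.of_algebraMap_eq (fun a => by
    apply Subtype.ext
    show lam (algebraMap B L (algebraMap A B a)) = ι' (algebraMap A K' a)
    rw [hcompat])
  have hgen : ∀ z : F, z ∈ Subfield.closure
      (Set.range ((algebraMap W F).comp (algebraMap B W)) ∪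
        Set.range ((algebraMap W F).comp (algebraMap V W))) := by
    intro z
    obtain ⟨t, rfl⟩ := hF z
    induction t using TensorProduct.induction_on with
    | zero => rw [map_zero]; exact zero_mem _
    | add x y hx hy => rw [map_add]; exact add_mem hx hy
    | tmul x y =>
      have hxy : x ⊗ₜ[K] y = (x ⊗ₜ[K] (1 : L)) * ((1 : K') ⊗ₜ[K] y) := by
        rw [Algebra.TensorProduct.tmul_mul_tmul, mul_one, one_mul]
      rw [hxy, map_mul]
      refine mul_mem ?_ ?_
      · -- ι' x
        have hVmem : ∀ v : K', v ∈ V → ι' v ∈ Subfield.closure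
            (Set.range ((algebraMap W F).comp (algebraMap B W)) ∪
              Set.range ((algebraMap W F).comp (algebraMap V W))) := by
          intro v hv
          exact Subfield.subset_closure (Or.inr ⟨⟨v, hv⟩, rfl⟩)
        show ι' x ∈ _
        rcases V.mem_or_inv_mem x with hx | hx
        · exact hVmem x hx
        · have h1 := hVmem x⁻¹ hx
          rw [map_inv₀] at h1
          have h2 := inv_mem h1
          rwa [inv_inv] at h2
      · -- lam y
        show lam y ∈ _
        obtain ⟨b1, b2, -, rfl⟩ := IsFractionRing.div_surjective (A := B) y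
        rw [map_div₀]
        refine div_mem ?_ ?_
        · exact Subfield.subset_closure (Or.inl ⟨b1, rfl⟩)
        · exact Subfield.subset_closure (Or.inl ⟨b2, rfl⟩)
  obtain ⟨hfuW, hessW⟩ := Groth.Agent.H10.UnramExt.key A V W F hgen
  haveI := hfuW
  haveI := hessW
  obtain ⟨h1, h2⟩ := Algebra.FormallyUnramified.iff_map_maximalIdeal_eq (R := B) (S := W) |>.mp hfuW
  exact ⟨h2, h1⟩

end Groth.Agent.S9306
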