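import Groth.Statements.S9307
import Groth.Agent.H14.TameBC3

set_option autoImplicit false
set_option linter.style.haveILetI false
universe u
open EtRam

namespace Groth.Agent.S9307

open TensorProduct in
/-- Let A → B be an injective local homomorphism of discrete valuation rings with fraction fields K ⊆ L,
and let K' be a finite separable extension of K that is tamely ramified relative to A. Then every
field F onto which K' ⊗_K L surjects is, as an extension of L, tamely ramified relative to B. (The
published statement also records that K' ⊗_K L is a finite product of fields, whose factors are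
these F; this row does not state that part.) -/
theorem result (A B K L K' : Type u) [CommRing A] [IsDomain A]
    [IsDiscreteValuationRing A] [CommRing B] [IsDomain B] [IsDiscreteValuationRing B] [Algebra A B]
    [IsLocalHom (algebraMap A B)] (hinj : Function.Injective (algebraMap A B))
    [Field K] [Field L] [Field K'] [Algebra A K] [IsFractionRing A K] [Algebra B L] [IsFractionRing B L]
    [Algebra K L] [Algebra A L] [IsScalarTower A K L] [IsScalarTower A B L]
    [Algebra K K'] [FiniteDimensional K K'] [Algebra.IsSeparable K K']
    (h : EtRam.IsTamelyRamified A ((algebraMap K K').comp (algebraMap A K)))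
    (F : Type u) [Field F] [Algebra (K' ⊗[K] L) F] (hF : Function.Surjective (algebraMap (K' ⊗[K] L) F)) :
    EtRam.IsTamelyRamified B ((algebraMap (K' ⊗[K] L) F).comp
      ((Algebra.TensorProduct.includeRight : L →ₐ[K] K' ⊗[K] L).toRingHom.comp (algebraMap B L))) := by
  classical
  letI algLF : Algebra L F := ((algebraMap (K' ⊗[K] L) F).comp
    (Algebra.TensorProduct.includeRight : L →ₐ[K] K' ⊗[K] L).toRingHom).toAlgebra
  letI algK'F : Algebra K' F := ((algebraMap (K' ⊗[K] L) F).comp
    (Algebra.TensorProduct.includeLeft : K' →ₐ[K] K' ⊗[K] L).toRingHom).toAlgebra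
  letI algKF : Algebra K F := ((algebraMap L F).comp (algebraMap K L)).toAlgebra
  haveI : IsScalarTower K L F := IsScalarTower.of_algebraMap_eq (fun _ => rfl)
  haveI : IsScalarTower K K' F := IsScalarTower.of_algebraMap_eq (fun k => by
    show algebraMap (K' ⊗[K] L) F ((1 : K') ⊗ₜ (algebraMap K L k)) =
      algebraMap (K' ⊗[K] L) F ((algebraMap K K' k) ⊗ₜ (1 : L))
    rw [Algebra.TensorProduct.tmul_one_eq_one_tmul])
  letI algBF : Algebra B F := ((algebraMap (K' ⊗[K] L) F).comp
    ((Algebra.TensorProduct.includeRight : L →ₐ[K] K' ⊗[K] L).toRingHom.comp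
      (algebraMap B L))).toAlgebra
  haveI : IsScalarTower B L F := IsScalarTower.of_algebraMap_eq (fun _ => rfl)
  letI algAK' : Algebra A K' := ((algebraMap K K').comp (algebraMap A K)).toAlgebra
  haveI : IsScalarTower A K K' := IsScalarTower.of_algebraMap_eq (fun _ => rfl)
  have hmul : ∀ (x : K') (y : L), algebraMap (K' ⊗[K] L) F (x ⊗ₜ y) =
      algebraMap K' F x * algebraMap L F y := by
    intro x y
    have hxy : x ⊗ₜ[K] y = (x ⊗ₜ[K] (1 : L)) * ((1 : K') ⊗ₜ[K] y) := by
      rw [Algebra.TensorProduct.tmul_mul_tmul, mul_one, one_mul]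
    rw [hxy, map_mul]
    rfl
  let g : L ⊗[K] K' →ₐ[L] F :=
    Algebra.TensorProduct.productLeftAlgHom (Algebra.ofId L F) (IsScalarTower.toAlgHom K K' F)
  have hg : Function.Surjective g := by
    intro z
    obtain ⟨t, rfl⟩ := hF z
    induction t using TensorProduct.induction_on with
    | zero => exact ⟨0, by rw [map_zero, map_zero]⟩
    | add x y hx hy =>
      obtain ⟨a, ha⟩ := hx
      obtain ⟨b, hb⟩ := hy
      exact ⟨a + b, by rw [map_add, map_add, ha, hb]⟩
    | tmul x y =>
      refine ⟨y ⊗ₜ x, ?_⟩
      rw [hmul, mul_comm]
      simp [g, Algebra.ofId_apply]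
  haveI : Module.Finite L F := Module.Finite.of_surjective g.toLinearMap hg
  haveI : Algebra.FormallyUnramified K K' := Algebra.FormallyUnramified.of_isSeparable K K'
  haveI : Algebra.FormallyUnramified L F := Algebra.FormallyUnramified.of_surjective g hg
  haveI : Algebra.IsSeparable L F := Algebra.FormallyUnramified.isSeparable L F
  have hgenF : ∀ z : F, z ∈ Subfield.closure
      (Set.range (algebraMap L F) ∪ Set.range (algebraMap K' F)) := by
    intro z
    obtain ⟨t, rfl⟩ := hF z
    induction t using TensorProduct.induction_on with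
    | zero => rw [map_zero]; exact zero_mem _
    | add x y hx hy => rw [map_add]; exact add_mem hx hy
    | tmul x y =>
      rw [hmul]
      exact mul_mem (Subfield.subset_closure (Or.inr ⟨x, rfl⟩))
        (Subfield.subset_closure (Or.inl ⟨y, rfl⟩))
  exact Groth.Agent.H14.TameBC3.tame_bc A B K L K' F h hgenF

end Groth.Agent.S9307
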