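import Groth.Statements.S9310
import Mathlib
import Groth.Agent.H65.FormalInv
import Groth.Agent.S3206

set_option autoImplicit false
universe u
open CAlg

namespace Groth.Agent.S9310

open MvPowerSeries Finsupp Groth.Agent.H65

section aux

variable {σ : Type*} {R : Type*} [CommRing R]

/-- Diagonal formal inverse function theorem, as bijectivity of `subst`. -/
theorem bijective_subst_diag [Finite σ] (w : σ → ℕ) (hw : ∀ i, 0 < w i)
    (u q : σ → MvPowerSeries σ R) (hu : ∀ i, IsUnit (constantCoeff (u i)))
    (hq : ∀ i, WOrd w (q i) (w i + 1)) :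
    Function.Bijective
      (subst (fun i => X i * u i + q i) : MvPowerSeries σ R → MvPowerSeries σ R) := by
  classical
  obtain ⟨g, hgdef⟩ : ∃ g : σ → MvPowerSeries σ R, g = fun i => X i * u i + q i := ⟨_, rfl⟩
  obtain ⟨c, hc⟩ : ∃ c : σ → R, c = fun i => constantCoeff (u i) := ⟨_, rfl⟩
  have hg0 : ∀ i, constantCoeff (g i) = 0 := by
    intro i
    rw [hgdef]
    simp only [map_add, map_mul, constantCoeff_X, zero_mul, zero_add]
    exact (hq i).constantCoeff_eq_zero (Nat.succ_pos _)
  have hs : HasSubst g := hasSubst_of_constantCoeff_zero hg0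
  have hnear : ∀ i, WNear w (g i) (c i • X i) (w i) := by
    intro i
    refine ⟨(WOrd.var w i).smul (c i), ?_⟩
    have e : g i - c i • X i = X i * (u i - C (c i)) + q i := by
      rw [hgdef, smul_eq_C_mul]; ring
    rw [e]
    apply WOrd.add
    · have h1 : WOrd w (u i - C (c i)) 1 :=
        WOrd.of_constantCoeff_eq_zero hw (by rw [hc]; simp)
      exact (WOrd.var w i).mul h1
    · exact hq i
  have hu' : ∀ i, ∃ b, c i * b = 1 := fun i => by
    rw [hc]; exact (hu i).exists_right_inv
  choose cinv hcinv using hu'
  obtain ⟨T, hTdef⟩ : ∃ T : MvPowerSeries σ R →ₗ[R] MvPowerSeries σ R,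
      T = (rescaleAlgHom cinv).toLinearMap.comp (substAlgHom (R := R) hs).toLinearMap :=
    ⟨_, rfl⟩
  have hTapp : ∀ f, T f = rescale cinv (subst g f) := fun f => by
    rw [hTdef]
    show rescaleAlgHom cinv (substAlgHom hs f) = _
    rw [rescaleAlgHom_apply, substAlgHom_apply]
  have hresc : ∀ (f : MvPowerSeries σ R) N, WOrd w f N → WOrd w (rescale cinv f) N := by
    intro f N h e he
    rw [coeff_rescale, h e he, mul_zero]
  have hinv : ∀ f : MvPowerSeries σ R, rescale cinv (rescale c f) = f := by
    intro f
    have h1 : c * cinv = 1 := funext hcinv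
    rw [rescale_rescale, h1, rescale_one]; rfl
  have hinv' : ∀ f : MvPowerSeries σ R, rescale c (rescale cinv f) = f := by
    intro f
    have h1 : cinv * c = 1 := funext fun i => by
      rw [Pi.mul_apply, mul_comm, hcinv i]; rfl
    rw [rescale_rescale, h1, rescale_one]; rfl
  have hT : ∀ f N, WOrd w f N → WOrd w (T f - f) (N + 1) := by
    intro f N h
    have h1 := hresc _ _ (word_subst_sub_rescale g c hnear hs h)
    rwa [map_sub, hinv, ← hTapp] at h1
  have hbij := bijective_of_word w T hT
  have hresc_bij : Function.Bijective (rescale c : MvPowerSeries σ R → MvPowerSeries σ R) :=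
    ⟨Function.LeftInverse.injective hinv, Function.RightInverse.surjective hinv'⟩
  have hfun : (subst g : MvPowerSeries σ R → MvPowerSeries σ R) = (rescale c) ∘ T := by
    funext f
    rw [Function.comp_apply, hTapp, hinv']
  rw [← hgdef, hfun]
  exact hresc_bij.comp hbij

end aux

/-- Let K be a field, A = K[[x_1, ..., x_n]], and y_1, ..., y_n ∈ A a regular system of parameters (n
elements generating the maximal ideal). Then the substitution map K[[y_1, ..., y_n]] → A is an
isomorphism: f ↦ f(y_1, ..., y_n) is a bijection of K[[x_1, ..., x_n]] onto itself. -/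
theorem result (K : Type u) [Field K] (n : ℕ)
    (y : Fin n → MvPowerSeries (Fin n) K)
    (hy : Ideal.span (Set.range y) = IsLocalRing.maximalIdeal (MvPowerSeries (Fin n) K)) :
    Function.Bijective (MvPowerSeries.subst y : MvPowerSeries (Fin n) K → MvPowerSeries (Fin n) K) := by
  classical
  have hcc : ∀ g : MvPowerSeries (Fin n) K, g ∈ IsLocalRing.maximalIdeal (MvPowerSeries (Fin n) K) ↔
      constantCoeff g = 0 := by
    intro g
    rw [IsLocalRing.mem_maximalIdeal, mem_nonunits_iff, MvPowerSeries.isUnit_iff_constantCoeff,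
      isUnit_iff_ne_zero, not_not]
  have hy0 : ∀ i, constantCoeff (y i) = 0 := by
    intro i
    rw [← hcc, ← hy]
    exact Ideal.subset_span ⟨i, rfl⟩
  have hX : ∀ j, ∃ cj : Fin n → MvPowerSeries (Fin n) K,
      ∑ i, cj i * y i = (X j : MvPowerSeries (Fin n) K) := by
    intro j
    have h1 : (X j : MvPowerSeries (Fin n) K) ∈ Ideal.span (Set.range y) := by
      rw [hy, hcc]
      exact constantCoeff_X j
    exact (Ideal.mem_span_range_iff_exists_fun).mp h1
  choose a ha using hX
  obtain ⟨M, hM⟩ : ∃ M : Matrix (Fin n) (Fin n) K,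
      M = fun i l => constantCoeff (pderiv K l (y i)) := ⟨_, rfl⟩
  obtain ⟨A0, hA0⟩ : ∃ A0 : Matrix (Fin n) (Fin n) K,
      A0 = fun j i => constantCoeff (a j i) := ⟨_, rfl⟩
  have hAM : A0 * M = 1 := by
    ext j l
    have h1 := congrArg (fun g => constantCoeff (pderiv K l g)) (ha j)
    simp only [map_sum, Derivation.leibniz, smul_eq_mul, map_add, map_mul, hy0, zero_mul,
      add_zero] at h1
    rw [Matrix.mul_apply, hM, hA0]
    simp only []
    rw [h1, pderiv_X, Matrix.one_apply, Pi.single_apply]
    split_ifs <;> simp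
  have hMA : M * A0 = 1 := mul_eq_one_comm.mp hAM
  -- the twisted family z i = ∑ j, A0 i j • y j = X i + higher order
  obtain ⟨z, hz⟩ : ∃ z : Fin n → MvPowerSeries (Fin n) K, z = fun i => ∑ j, A0 i j • y j :=
    ⟨_, rfl⟩
  have hz0 : ∀ i, constantCoeff (z i) = 0 := by
    intro i
    rw [hz]
    simp only [map_sum, smul_eq_C_mul, map_mul, hy0, mul_zero, Finset.sum_const_zero]
  have hq : ∀ i, WOrd (fun _ : Fin n => 1) (z i - X i) (1 + 1) := by
    intro i e he
    rw [Groth.Agent.S3206.wdeg] at he
    rcases Groth.Agent.S3206.deg_lt_three e (by omega) with rfl | ⟨l, rfl⟩ | ⟨b, c, _, rfl⟩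
    · rw [coeff_zero_eq_constantCoeff_apply, map_sub, hz0, constantCoeff_X, sub_zero]
    · have h1 : coeff (single l 1) (z i - X i) = constantCoeff (pderiv K l (z i - X i)) := by
        rw [← coeff_zero_eq_constantCoeff_apply, coeff_pderiv]
        simp
      rw [h1, hz]
      simp only [map_sub, map_sum, Derivation.map_smul]
      simp only [smul_eq_C_mul, map_mul, constantCoeff_C, pderiv_X, Pi.single_apply]
      have h2 := congrFun (congrFun hAM i) l
      rw [Matrix.mul_apply, hM] at h2
      simp only [] at h2
      rw [h2, Matrix.one_apply]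
      split_ifs <;> simp_all
    · exfalso
      rw [map_add, degree_single, degree_single] at he
      omega
  have hzbij : Function.Bijective (subst z : MvPowerSeries (Fin n) K → MvPowerSeries (Fin n) K) := by
    have h1 := bijective_subst_diag (fun _ : Fin n => 1) (fun _ => Nat.one_pos)
      (fun _ => (1 : MvPowerSeries (Fin n) K)) (fun i => z i - X i)
      (fun i => by simp) hq
    have h2 : (fun i => X i * (1 : MvPowerSeries (Fin n) K) + (z i - X i)) = z := by
      funext i
      ring
    rwa [h2] at h1
  have hzs : HasSubst z := hasSubst_of_constantCoeff_zero hz0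
  -- linear substitutions
  have hlin0 : ∀ (N : Matrix (Fin n) (Fin n) K) i,
      constantCoeff (∑ j, N i j • (X j : MvPowerSeries (Fin n) K)) = 0 := by
    intro N i
    simp only [map_sum, smul_eq_C_mul, map_mul, constantCoeff_X, mul_zero, Finset.sum_const_zero]
  have hlins : ∀ (N : Matrix (Fin n) (Fin n) K),
      HasSubst (fun i => ∑ j, N i j • (X j : MvPowerSeries (Fin n) K)) :=
    fun N => hasSubst_of_constantCoeff_zero (hlin0 N)
  have hlin : ∀ (N : Matrix (Fin n) (Fin n) K) (g : Fin n → MvPowerSeries (Fin n) K)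
      (hg : HasSubst g) i,
      subst g (∑ j, N i j • (X j : MvPowerSeries (Fin n) K)) = ∑ j, N i j • g j := by
    intro N g hg i
    rw [← substAlgHom_apply hg]
    simp only [map_sum, map_smul, substAlgHom_X]
  have hcomp : ∀ (N N' : Matrix (Fin n) (Fin n) K), N * N' = 1 →
      ∀ f : MvPowerSeries (Fin n) K,
      subst (fun i => ∑ j, N' i j • (X j : MvPowerSeries (Fin n) K))
        (subst (fun i => ∑ j, N i j • (X j : MvPowerSeries (Fin n) K)) f) = f := by
    intro N N' hNN f
    rw [subst_comp_subst_apply (hlins N) (hlins N')]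
    have h1 : (fun s => subst (fun i => ∑ j, N' i j • (X j : MvPowerSeries (Fin n) K))
        (∑ j, N s j • (X j : MvPowerSeries (Fin n) K))) = X := by
      funext s
      rw [hlin N _ (hlins N') s]
      simp only [Finset.smul_sum, smul_smul]
      rw [Finset.sum_comm]
      simp only [← Finset.sum_smul]
      have h2 : ∀ l, ∑ j, N s j * N' j l = (1 : Matrix (Fin n) (Fin n) K) s l := by
        intro l
        rw [← hNN, Matrix.mul_apply]
      simp only [h2, Matrix.one_apply, ite_smul, one_smul, zero_smul, Finset.sum_ite_eq,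
        Finset.mem_univ, if_true]
    rw [h1, subst_self]
    rfl
  have hMbij : Function.Bijective (subst (fun i => ∑ j, M i j • (X j : MvPowerSeries (Fin n) K)) :
      MvPowerSeries (Fin n) K → MvPowerSeries (Fin n) K) :=
    ⟨Function.LeftInverse.injective (hcomp M A0 hMA),
      Function.RightInverse.surjective (hcomp A0 M hAM)⟩
  have hfac : (subst y : MvPowerSeries (Fin n) K → MvPowerSeries (Fin n) K) =
      subst z ∘ subst (fun i => ∑ j, M i j • (X j : MvPowerSeries (Fin n) K)) := by
    funext f
    rw [Function.comp_apply, subst_comp_subst_apply (hlins M) hzs]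
    congr 1
    funext s
    rw [hlin M z hzs s, hz]
    simp only [Finset.smul_sum, smul_smul]
    rw [Finset.sum_comm]
    simp only [← Finset.sum_smul]
    have h2 : ∀ l, ∑ j, M s j * A0 j l = (1 : Matrix (Fin n) (Fin n) K) s l := by
      intro l
      rw [← hMA, Matrix.mul_apply]
    simp only [h2, Matrix.one_apply, ite_smul, one_smul, zero_smul, Finset.sum_ite_eq,
      Finset.mem_univ, if_true]
  rw [hfac]
  exact hzbij.comp hMbij

end Groth.Agent.S9310
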