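import Groth.Statements.S9311
import Mathlib
import Groth.Agent.H65.FormalInv
import Groth.Agent.S3206
import Groth.Agent.S9310

set_option autoImplicit false
universe u
open CAlg

namespace Groth.Agent.S9311

open MvPowerSeries Finsupp Groth.Agent.H65

section aux

/-- General formal inverse function theorem: if the linear part of `y` is an invertible matrix,
`subst y` is bijective. -/
theorem bijective_subst_of_matrix {R : Type*} [CommRing R] {n : ℕ}
    (y : Fin n → MvPowerSeries (Fin n) R) (hy0 : ∀ i, constantCoeff (y i) = 0)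
    (M A0 : Matrix (Fin n) (Fin n) R)
    (hM : M = fun i l => constantCoeff (pderiv R l (y i)))
    (hAM : A0 * M = 1) (hMA : M * A0 = 1) :
    Function.Bijective (subst y : MvPowerSeries (Fin n) R → MvPowerSeries (Fin n) R) := by
  classical
  obtain ⟨z, hz⟩ : ∃ z : Fin n → MvPowerSeries (Fin n) R, z = fun i => ∑ j, A0 i j • y j :=
    ⟨_, rfl⟩
  have hz0 : ∀ i, constantCoeff (z i) = 0 := by
    intro i
    rw [hz]
    simp only [map_sum, smul_eq_C_mul, map_mul, hy0, mul_zero, Finset.sum_const_zero]
  have hq : ∀ i, WOrd (fun _ : Fin n => 1) (z i - X i) (1 + 1) := by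
    intro i e he
    rw [Groth.Agent.S3206.wdeg] at he
    rcases Groth.Agent.S3206.deg_lt_three e (by omega) with rfl | ⟨l, rfl⟩ | ⟨b, c, _, rfl⟩
    · rw [coeff_zero_eq_constantCoeff_apply, map_sub, hz0, constantCoeff_X, sub_zero]
    · have h1 : coeff (single l 1) (z i - X i) = constantCoeff (pderiv R l (z i - X i)) := by
        rw [← coeff_zero_eq_constantCoeff_apply, coeff_pderiv]
        simp
      rw [h1, hz]
      simp only [map_sub, map_sum, Derivation.map_smul]
      simp only [smul_eq_C_mul, map_mul, constantCoeff_C, pderiv_X, Pi.single_apply]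
      have h2 := congrFun (congrFun hAM i) l
      rw [Matrix.mul_apply, hM] at h2
      simp only [] at h2
      rw [h2, Matrix.one_apply]
      split_ifs <;> simp_all
    · exfalso
      rw [map_add, degree_single, degree_single] at he
      omega
  have hzbij : Function.Bijective (subst z : MvPowerSeries (Fin n) R → MvPowerSeries (Fin n) R) := by
    have h1 := Groth.Agent.S9310.bijective_subst_diag (fun _ : Fin n => 1) (fun _ => Nat.one_pos)
      (fun _ => (1 : MvPowerSeries (Fin n) R)) (fun i => z i - X i)
      (fun i => by simp) hq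
    have h2 : (fun i => X i * (1 : MvPowerSeries (Fin n) R) + (z i - X i)) = z := by
      funext i
      ring
    rwa [h2] at h1
  have hzs : HasSubst z := hasSubst_of_constantCoeff_zero hz0
  have hlin0 : ∀ (N : Matrix (Fin n) (Fin n) R) i,
      constantCoeff (∑ j, N i j • (X j : MvPowerSeries (Fin n) R)) = 0 := by
    intro N i
    simp only [map_sum, smul_eq_C_mul, map_mul, constantCoeff_X, mul_zero, Finset.sum_const_zero]
  have hlins : ∀ (N : Matrix (Fin n) (Fin n) R),
      HasSubst (fun i => ∑ j, N i j • (X j : MvPowerSeries (Fin n) R)) :=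
    fun N => hasSubst_of_constantCoeff_zero (hlin0 N)
  have hlin : ∀ (N : Matrix (Fin n) (Fin n) R) (g : Fin n → MvPowerSeries (Fin n) R)
      (hg : HasSubst g) i,
      subst g (∑ j, N i j • (X j : MvPowerSeries (Fin n) R)) = ∑ j, N i j • g j := by
    intro N g hg i
    rw [← substAlgHom_apply hg]
    simp only [map_sum, map_smul, substAlgHom_X]
  have hcomp : ∀ (N N' : Matrix (Fin n) (Fin n) R), N * N' = 1 →
      ∀ f : MvPowerSeries (Fin n) R,
      subst (fun i => ∑ j, N' i j • (X j : MvPowerSeries (Fin n) R))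
        (subst (fun i => ∑ j, N i j • (X j : MvPowerSeries (Fin n) R)) f) = f := by
    intro N N' hNN f
    rw [subst_comp_subst_apply (hlins N) (hlins N')]
    have h1 : (fun s => subst (fun i => ∑ j, N' i j • (X j : MvPowerSeries (Fin n) R))
        (∑ j, N s j • (X j : MvPowerSeries (Fin n) R))) = X := by
      funext s
      rw [hlin N _ (hlins N') s]
      simp only [Finset.smul_sum, smul_smul]
      rw [Finset.sum_comm]
      simp only [← Finset.sum_smul]
      have h2 : ∀ l, ∑ j, N s j * N' j l = (1 : Matrix (Fin n) (Fin n) R) s l := by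
        intro l
        rw [← hNN, Matrix.mul_apply]
      simp only [h2, Matrix.one_apply, ite_smul, one_smul, zero_smul, Finset.sum_ite_eq,
        Finset.mem_univ, if_true]
    rw [h1, subst_self]
    rfl
  have hMbij : Function.Bijective (subst (fun i => ∑ j, M i j • (X j : MvPowerSeries (Fin n) R)) :
      MvPowerSeries (Fin n) R → MvPowerSeries (Fin n) R) :=
    ⟨Function.LeftInverse.injective (hcomp M A0 hMA),
      Function.RightInverse.surjective (hcomp A0 M hAM)⟩
  have hfac : (subst y : MvPowerSeries (Fin n) R → MvPowerSeries (Fin n) R) =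
      subst z ∘ subst (fun i => ∑ j, M i j • (X j : MvPowerSeries (Fin n) R)) := by
    funext f
    rw [Function.comp_apply, subst_comp_subst_apply (hlins M) hzs]
    congr 1
    funext s
    rw [hlin M z hzs s, hz]
    simp only [Finset.smul_sum, smul_smul]
    rw [Finset.sum_comm]
    simp only [← Finset.sum_smul]
    have h2 : ∀ l, ∑ j, M s j * A0 j l = (1 : Matrix (Fin n) (Fin n) R) s l := by
      intro l
      rw [← hMA, Matrix.mul_apply]
    simp only [h2, Matrix.one_apply, ite_smul, one_smul, zero_smul, Finset.sum_ite_eq,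
      Finset.mem_univ, if_true]
  rw [hfac]
  exact hzbij.comp hMbij

end aux

/-- Let Λ be a Cohen ring (a complete discrete valuation ring whose maximal ideal is generated by a
prime number p), B = Λ[[x_1, ..., x_n]], and y_1, ..., y_n ∈ B with zero constant terms such that p,
y_1, ..., y_n is a regular system of parameters of B (these n + 1 elements generate the maximal
ideal). Then the substitution map Λ[[y_1, ..., y_n]] → B is an isomorphism: f ↦ f(y_1, ..., y_n) is
a bijection of Λ[[x_1, ..., x_n]] onto itself. (The published statement allows the y_i to have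
constant terms in pΛ, the substitution being defined through the (p, x)-adic topology of B; this row
asks the constant terms to vanish, the case in which substitution is defined coefficientwise with no
topology on Λ.) -/
theorem result (Λ : Type u) [CommRing Λ] [IsDomain Λ]
    [IsDiscreteValuationRing Λ] [IsAdicComplete (IsLocalRing.maximalIdeal Λ) Λ] (p : ℕ) (hp : p.Prime)
    (hm : IsLocalRing.maximalIdeal Λ = Ideal.span {(p : Λ)}) (n : ℕ)
    (y : Fin n → MvPowerSeries (Fin n) Λ) (hy0 : ∀ i, MvPowerSeries.constantCoeff (y i) = 0)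
    (hy : Ideal.span (insert (p : MvPowerSeries (Fin n) Λ) (Set.range y)) =
      IsLocalRing.maximalIdeal (MvPowerSeries (Fin n) Λ)) :
    Function.Bijective (MvPowerSeries.subst y : MvPowerSeries (Fin n) Λ → MvPowerSeries (Fin n) Λ) := by
  classical
  have hXmem : ∀ j, (X j : MvPowerSeries (Fin n) Λ) ∈
      IsLocalRing.maximalIdeal (MvPowerSeries (Fin n) Λ) := by
    intro j
    rw [IsLocalRing.mem_maximalIdeal, mem_nonunits_iff, MvPowerSeries.isUnit_iff_constantCoeff,
      constantCoeff_X]
    exact not_isUnit_zero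
  have hX : ∀ j, ∃ (b : MvPowerSeries (Fin n) Λ) (cj : Fin n → MvPowerSeries (Fin n) Λ),
      (X j : MvPowerSeries (Fin n) Λ) = b * (p : MvPowerSeries (Fin n) Λ) + ∑ i, cj i * y i := by
    intro j
    have h1 := hXmem j
    rw [← hy, Ideal.mem_span_insert] at h1
    obtain ⟨b, zz, hzz, h2⟩ := h1
    obtain ⟨cj, hcj⟩ := (Ideal.mem_span_range_iff_exists_fun).mp hzz
    exact ⟨b, cj, by rw [h2, hcj]⟩
  choose b a ha using hX
  obtain ⟨M, hM⟩ : ∃ M : Matrix (Fin n) (Fin n) Λ,
      M = fun i l => constantCoeff (pderiv Λ l (y i)) := ⟨_, rfl⟩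
  obtain ⟨A0, hA0⟩ : ∃ A0 : Matrix (Fin n) (Fin n) Λ,
      A0 = fun j i => constantCoeff (a j i) := ⟨_, rfl⟩
  obtain ⟨β, hβ⟩ : ∃ β : Matrix (Fin n) (Fin n) Λ,
      β = fun j l => constantCoeff (pderiv Λ l (b j)) := ⟨_, rfl⟩
  have hAMβ : A0 * M = 1 - (p : Λ) • β := by
    ext j l
    have h1 := congrArg (fun g => constantCoeff (pderiv Λ l g)) (ha j)
    simp only [map_sum, Derivation.leibniz, smul_eq_mul, map_add, map_mul, hy0, zero_mul,
      add_zero, Derivation.map_natCast, mul_zero, zero_add, map_natCast] at h1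
    rw [Matrix.mul_apply, hM, hA0, Matrix.sub_apply, Matrix.smul_apply, hβ]
    simp only []
    rw [eq_sub_iff_add_eq, add_comm, smul_eq_mul, ← h1, pderiv_X, Matrix.one_apply,
      Pi.single_apply]
    split_ifs <;> simp
  have hdet : IsUnit (A0 * M).det := by
    rw [hAMβ]
    by_contra hnu
    have hmem : (1 - (p : Λ) • β).det ∈ IsLocalRing.maximalIdeal Λ :=
      (IsLocalRing.mem_maximalIdeal _).mpr hnu
    rw [hm] at hmem
    have h0 : Ideal.Quotient.mk (Ideal.span {(p : Λ)}) ((1 - (p : Λ) • β).det) = 0 :=
      Ideal.Quotient.eq_zero_iff_mem.mpr hmem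
    rw [RingHom.map_det] at h0
    have h1 : (Ideal.Quotient.mk (Ideal.span {(p : Λ)})).mapMatrix (1 - (p : Λ) • β) = 1 := by
      ext i j
      rw [RingHom.mapMatrix_apply, Matrix.map_apply, Matrix.sub_apply, Matrix.smul_apply,
        map_sub, smul_eq_mul, map_mul]
      have hp0 : Ideal.Quotient.mk (Ideal.span {(p : Λ)}) (p : Λ) = 0 :=
        Ideal.Quotient.eq_zero_iff_mem.mpr (Ideal.mem_span_singleton_self _)
      rw [hp0, zero_mul, sub_zero, Matrix.one_apply, Matrix.one_apply]
      split_ifs <;> simp
    rw [h1, Matrix.det_one] at h0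
    have htop : Ideal.span {(p : Λ)} = ⊤ := by
      rw [Ideal.eq_top_iff_one]
      exact Ideal.Quotient.eq_zero_iff_mem.mp h0
    rw [← hm] at htop
    exact (IsLocalRing.maximalIdeal.isMaximal Λ).ne_top htop
  rw [Matrix.det_mul] at hdet
  have hdetM : IsUnit M.det := isUnit_of_mul_isUnit_right hdet
  exact bijective_subst_of_matrix y hy0 M M⁻¹ hM (Matrix.nonsing_inv_mul M hdetM)
    (Matrix.mul_nonsing_inv M hdetM)

end Groth.Agent.S9311
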