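import Groth.Statements.S9313
import Groth.Agent.H3.ZMTFactor

set_option autoImplicit false
universe u
open CAlg

namespace Groth.Agent.S9313

/-- Let A be a ring with an ideal I and A → B a ring map of finite type, and suppose B/IB = C_1 × C_2
(given by an idempotent e of B/IB with C_1 = (B/IB)/(1 - e)) where C_1 is finite over A/I. Writing
B' for the integral closure of A in B, some g ∈ B' has idempotent image in B'/IB' lifting e (so
B'/IB' = C_1' × C_2' compatibly with the decomposition of B/IB), and the map B'_g → B_g is an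
isomorphism (whence C_1' = C_1). -/
theorem result (A B : Type u) [CommRing A] [CommRing B]
    [Algebra A B] [Algebra.FiniteType A B] (I : Ideal A) (e : B ⧸ Ideal.map (algebraMap A B) I)
    (he : IsIdempotentElem e)
    (hfin : Module.Finite (A ⧸ I) ((B ⧸ Ideal.map (algebraMap A B) I) ⧸ Ideal.span {1 - e})) :
    ∃ g : integralClosure A B,
      IsIdempotentElem (Ideal.Quotient.mk (Ideal.map (algebraMap A (integralClosure A B)) I) g) ∧
      Ideal.Quotient.mk (Ideal.map (algebraMap A B) I) (g : B) = e ∧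
      Function.Bijective (algebraMap (Localization.Away g)
        (Localization (Algebra.algebraMapSubmonoid B (Submonoid.powers g)))) := by
  classical
  obtain ⟨𝔞, h𝔞⟩ : ∃ 𝔞 : Ideal B, 𝔞 = Ideal.map (algebraMap A B) I := ⟨_, rfl⟩
  obtain ⟨ε, rfl⟩ := Ideal.Quotient.mk_surjective e
  have hε : ε * (1 - ε) ∈ Ideal.map (algebraMap A B) I := by
    rw [← Ideal.Quotient.eq_zero_iff_mem, map_mul, map_sub, map_one, mul_sub, mul_one, he.eq,
      sub_self]
  haveI : Module.Finite A
      ((B ⧸ Ideal.map (algebraMap A B) I) ⧸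
        Ideal.span {1 - Ideal.Quotient.mk (Ideal.map (algebraMap A B) I) ε}) :=
    Module.Finite.trans (A ⧸ I) _
  let π : B →ₐ[A] ((B ⧸ Ideal.map (algebraMap A B) I) ⧸
        Ideal.span {1 - Ideal.Quotient.mk (Ideal.map (algebraMap A B) I) ε}) :=
    (Ideal.Quotient.mkₐ A _).comp (Ideal.Quotient.mkₐ A _)
  have hπ : Function.Surjective π :=
    (Ideal.Quotient.mkₐ_surjective A _).comp (Ideal.Quotient.mkₐ_surjective A _)
  have hπ0 : ∀ x : B, π x = 0 ↔
      x ∈ Ideal.map (algebraMap A B) I ⊔ Ideal.span {1 - ε} := by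
    intro x
    change Ideal.Quotient.mk _ (Ideal.Quotient.mk _ x) = 0 ↔ _
    rw [Ideal.Quotient.eq_zero_iff_mem, Ideal.mem_span_singleton']
    constructor
    · rintro ⟨c, hc⟩
      obtain ⟨d, rfl⟩ := Ideal.Quotient.mk_surjective c
      rw [← map_one (Ideal.Quotient.mk _), ← map_sub, ← map_mul, Ideal.Quotient.eq] at hc
      have : x = (-(d * (1 - ε) - x)) + d * (1 - ε) := by ring
      rw [this]
      exact Ideal.add_mem _ (Ideal.mem_sup_left ((Ideal.neg_mem_iff _).mpr hc))
        (Ideal.mem_sup_right (Ideal.mul_mem_left _ _ (Ideal.mem_span_singleton_self _)))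
    · intro hx
      obtain ⟨a, ha, c, hc, hac⟩ := Submodule.mem_sup.mp hx
      obtain ⟨d, rfl⟩ := Ideal.mem_span_singleton'.mp hc
      refine ⟨Ideal.Quotient.mk _ d, ?_⟩
      rw [← hac, map_add, Ideal.Quotient.eq_zero_iff_mem.mpr ha, zero_add, map_mul, map_sub,
        map_one]
  haveI : Module.Finite A (B ⧸ RingHom.ker π.toRingHom) :=
    Module.Finite.equiv (Ideal.quotientKerAlgEquivOfSurjective hπ).symm.toLinearEquiv
  obtain ⟨g, hg1, hg2, hg3⟩ := Groth.Agent.H3.exists_lift_integralClosure_of_finite_factor I ε hε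
    (RingHom.ker π.toRingHom) (fun x hx => (hπ0 x).mp hx) (fun x hx => (hπ0 x).mpr hx)
  refine ⟨g, ?_, ?_, hg3⟩
  · change Ideal.Quotient.mk _ g * Ideal.Quotient.mk _ g = Ideal.Quotient.mk _ g
    rw [← map_mul, Ideal.Quotient.eq]
    exact hg1
  · rw [Ideal.Quotient.eq]; exact hg2

end Groth.Agent.S9313
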