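import Groth.Statements.S9315
import Groth.Agent.S9316
import Mathlib.Tactic

set_option autoImplicit false
universe u
open CAlg

namespace Groth.Agent.S9315

section Aux
open IsLocalRing

variable {R S : Type u} [CommRing R] [CommRing S] [IsLocalRing R] [IsLocalRing S] [Algebra R S]

/-- the lifting property for local rings with nilpotent maximal ideal -/
def NilLift (R S : Type u) [CommRing R] [CommRing S] [IsLocalRing R] [IsLocalRing S]
    [Algebra R S] : Prop :=
  ∀ (A : Type u) [CommRing A] [IsLocalRing A] [Algebra R A] [IsLocalHom (algebraMap R A)]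
    (J : Ideal A), J ^ 2 = ⊥ → (∃ n : ℕ, maximalIdeal A ^ n = ⊥) →
    ∀ [IsLocalRing (A ⧸ J)] (ψ : S →ₐ[R] A ⧸ J) [IsLocalHom ψ.toRingHom],
      Function.Bijective (ResidueField.map ψ.toRingHom) →
      ∃ χ : S →ₐ[R] A, (Ideal.Quotient.mkₐ R J).comp χ = ψ

theorem nilLift_surj [IsLocalHom (algebraMap R S)] (H : NilLift R S) {m : ℕ} (hm : m ≠ 0)
    (A : Type u) [CommRing A] [Algebra R A]
    (π : A →ₐ[R] S ⧸ (maximalIdeal S) ^ m) (hπ : Function.Surjective π)
    (hsq : ∀ x y, π x = 0 → π y = 0 → x * y = 0) :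
    ∃ χ : S →ₐ[R] A, π.comp χ = Ideal.Quotient.mkₐ R ((maximalIdeal S) ^ m) := by
  haveI hT : IsLocalRing (S ⧸ (maximalIdeal S) ^ m) :=
    Groth.Agent.S9316.isLocalRing_quot_pow hm
  haveI : IsLocalHom π.toRingHom :=
    ⟨fun a ha => Groth.Agent.S9316.isUnit_of_map_sqZero π.toRingHom hπ hsq a ha⟩
  haveI : IsLocalRing A := RingHom.domain_isLocalRing π.toRingHom
  haveI : IsLocalHom (algebraMap R A) := by
    constructor
    intro r hr
    have h1 : IsUnit (π (algebraMap R A r)) := hr.map π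
    rw [AlgHom.commutes] at h1
    have h2 : algebraMap R (S ⧸ (maximalIdeal S) ^ m) r =
        Ideal.Quotient.mk _ (algebraMap R S r) := rfl
    rw [h2] at h1
    haveI : IsLocalHom (Ideal.Quotient.mk ((maximalIdeal S) ^ m)) :=
      IsLocalHom.of_surjective _ Ideal.Quotient.mk_surjective
    exact isUnit_of_map_unit (algebraMap R S) r
      (isUnit_of_map_unit (Ideal.Quotient.mk _) _ h1)
  have hsqJ' : RingHom.ker π ^ 2 = ⊥ := by
    rw [pow_two, eq_bot_iff, Ideal.mul_le]
    intro u hu v hv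
    rw [hsq u v (RingHom.mem_ker.mp hu) (RingHom.mem_ker.mp hv)]
    exact Submodule.zero_mem _
  have hnil : ∃ n : ℕ, maximalIdeal A ^ n = ⊥ := by
    refine ⟨m + m, ?_⟩
    have h1 : ∀ x ∈ maximalIdeal A ^ m, π x = 0 := by
      intro x hx
      have h2 : maximalIdeal A ≤ Ideal.comap π.toRingHom
          (maximalIdeal (S ⧸ (maximalIdeal S) ^ m)) := by
        intro y hy
        rw [Ideal.mem_comap, mem_maximalIdeal, mem_nonunits_iff]
        intro hu
        exact (mem_nonunits_iff.mp ((mem_maximalIdeal y).mp hy))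
          (isUnit_of_map_unit π.toRingHom y hu)
      have h3 : π.toRingHom x ∈ (maximalIdeal (S ⧸ (maximalIdeal S) ^ m)) ^ m :=
        Ideal.le_comap_pow _ m (Ideal.pow_right_mono h2 m hx)
      rw [← Groth.Agent.H23.map_mk_maximalIdeal ((maximalIdeal S) ^ m),
        ← Ideal.map_pow, Ideal.map_quotient_self, Ideal.mem_bot] at h3
      exact h3
    rw [pow_add (maximalIdeal A) m m, eq_bot_iff, Ideal.mul_le]
    intro u hu v hv
    rw [hsq u v (h1 u hu) (h1 v hv)]
    exact Submodule.zero_mem _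
  let e := Ideal.quotientKerAlgEquivOfSurjective hπ
  haveI : IsLocalRing (A ⧸ RingHom.ker π) := e.symm.toRingEquiv.isLocalRing
  let ψ₁ : S →ₐ[R] A ⧸ RingHom.ker π :=
    e.symm.toAlgHom.comp (Ideal.Quotient.mkₐ R ((maximalIdeal S) ^ m))
  have hsurj : Function.Surjective ψ₁ :=
    e.symm.surjective.comp (Ideal.Quotient.mkₐ_surjective R _)
  haveI : IsLocalHom ψ₁.toRingHom := IsLocalHom.of_surjective _ hsurj
  have hbij : Function.Bijective (ResidueField.map ψ₁.toRingHom) := by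
    refine ⟨(ResidueField.map ψ₁.toRingHom).injective, fun y => ?_⟩
    obtain ⟨y, rfl⟩ := residue_surjective y
    obtain ⟨s, rfl⟩ := hsurj y
    exact ⟨residue S s, ResidueField.map_residue _ _⟩
  obtain ⟨χ, hχ⟩ := H A (RingHom.ker π) hsqJ' hnil ψ₁ hbij
  refine ⟨χ, AlgHom.ext fun s => ?_⟩
  have h1 : e ((Ideal.Quotient.mkₐ R (RingHom.ker π)) (χ s)) = e (ψ₁ s) := by
    rw [← hχ]; rfl
  have h2 : e ((Ideal.Quotient.mkₐ R (RingHom.ker π)) (χ s)) = π (χ s) :=
    Ideal.quotientKerAlgEquivOfSurjective_mk hπ (χ s)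
  have h3 : e (ψ₁ s) = Ideal.Quotient.mkₐ R ((maximalIdeal S) ^ m) s :=
    e.apply_symm_apply _
  show π (χ s) = _
  rw [← h2, h1, h3]

theorem main [IsLocalHom (algebraMap R S)] (H : NilLift R S) :
    CAlgX.IsAdicFormallySmooth R S (maximalIdeal S) := by
  intro A _ _ J hJ ψ hψ
  obtain ⟨k, hk⟩ := hψ
  have hm : k + 1 ≠ 0 := Nat.succ_ne_zero k
  have hk' : ∀ x ∈ (maximalIdeal S) ^ (k + 1), ψ x = 0 := fun x hx =>
    hk x (Ideal.pow_le_pow_right (Nat.le_succ k) hx)
  let ψb : S ⧸ (maximalIdeal S) ^ (k + 1) →ₐ[R] A ⧸ J := Ideal.Quotient.liftₐ _ ψ hk'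
  have hψb : ∀ s, ψb (Ideal.Quotient.mk _ s) = ψ s := fun s => rfl
  let A' : Subalgebra R (A × (S ⧸ (maximalIdeal S) ^ (k + 1))) :=
    AlgHom.equalizer ((Ideal.Quotient.mkₐ R J).comp (AlgHom.fst R A _))
      (ψb.comp (AlgHom.snd R A _))
  have hA' : ∀ x : A', Ideal.Quotient.mk J x.1.1 = ψb x.1.2 := fun x => x.2
  let π' : A' →ₐ[R] S ⧸ (maximalIdeal S) ^ (k + 1) := (AlgHom.snd R A _).comp A'.val
  have hπ' : Function.Surjective π' := by
    intro t
    obtain ⟨a, ha⟩ := Ideal.Quotient.mk_surjective (ψb t)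
    exact ⟨⟨(a, t), ha⟩, rfl⟩
  have hsq : ∀ x y : A', π' x = 0 → π' y = 0 → x * y = 0 := by
    intro x y hx hy
    have hx2 : x.1.2 = 0 := hx
    have hy2 : y.1.2 = 0 := hy
    have hx1 : x.1.1 ∈ J := by
      rw [← Ideal.Quotient.eq_zero_iff_mem, hA' x, hx2, map_zero]
    have hy1 : y.1.1 ∈ J := by
      rw [← Ideal.Quotient.eq_zero_iff_mem, hA' y, hy2, map_zero]
    apply Subtype.ext
    apply Prod.ext
    · show x.1.1 * y.1.1 = 0
      have h3 : x.1.1 * y.1.1 ∈ J ^ 2 := by rw [pow_two]; exact Ideal.mul_mem_mul hx1 hy1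
      rw [hJ] at h3; exact (Ideal.mem_bot).mp h3
    · show x.1.2 * y.1.2 = 0
      rw [hx2, zero_mul]
  obtain ⟨χ', hχ'⟩ := nilLift_surj H hm A' π' hπ' hsq
  have hπχ : ∀ s, π' (χ' s) = Ideal.Quotient.mk _ s := fun s => congrArg (fun f => f s) hχ'
  refine ⟨(AlgHom.fst R A _).comp (A'.val.comp χ'), AlgHom.ext fun s => ?_⟩
  show Ideal.Quotient.mk J (χ' s).1.1 = ψ s
  rw [hA' (χ' s), ← hψb s, ← hπχ s]; rfl

end Aux

open IsLocalRing in
/-- Let `R → S` be a local homomorphism of local rings (no Noetherian hypothesis). Then `R → S` is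
formally smooth for the adic topology of the maximal ideal of `S` if and only if the following
lifting property holds: for every local ring `A` with a local structure map `R → A`, every ideal `J`
of `A` of square zero such that some power of the maximal ideal of `A` is zero, and every local
`R`-algebra homomorphism `ψ : S → A/J` inducing a bijection on residue fields, there is an
`R`-algebra homomorphism `S → A` lifting `ψ`. -/
theorem result {R S : Type u} [CommRing R] [CommRing S]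
    [IsLocalRing R] [IsLocalRing S] [Algebra R S] [IsLocalHom (algebraMap R S)] :
    CAlgX.IsAdicFormallySmooth R S (maximalIdeal S) ↔
      ∀ (A : Type u) [CommRing A] [IsLocalRing A] [Algebra R A] [IsLocalHom (algebraMap R A)]
        (J : Ideal A), J ^ 2 = ⊥ → (∃ n : ℕ, maximalIdeal A ^ n = ⊥) →
        ∀ [IsLocalRing (A ⧸ J)] (ψ : S →ₐ[R] A ⧸ J) [IsLocalHom ψ.toRingHom],
          Function.Bijective (ResidueField.map ψ.toRingHom) →
          ∃ χ : S →ₐ[R] A, (Ideal.Quotient.mkₐ R J).comp χ = ψ := by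
  constructor
  · intro hsm A _ _ _ _ J hJ hnil _ ψ _ hbij
    apply hsm A J hJ ψ
    obtain ⟨n, hn⟩ := hnil
    refine ⟨n, fun x hx => ?_⟩
    have h1 : maximalIdeal S ≤ Ideal.comap ψ.toRingHom (maximalIdeal (A ⧸ J)) := by
      intro y hy
      rw [Ideal.mem_comap, mem_maximalIdeal, mem_nonunits_iff]
      intro hu
      exact (mem_nonunits_iff.mp ((mem_maximalIdeal y).mp hy))
        (isUnit_of_map_unit ψ.toRingHom y hu)
    have h2 : ψ.toRingHom x ∈ (maximalIdeal (A ⧸ J)) ^ n :=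
      Ideal.le_comap_pow _ n (Ideal.pow_right_mono h1 n hx)
    rw [← Groth.Agent.H23.map_mk_maximalIdeal J, ← Ideal.map_pow, hn, Ideal.map_bot,
      Ideal.mem_bot] at h2
    exact h2
  · intro H
    exact main H

end Groth.Agent.S9315
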