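import Groth.Statements.S9317
import Groth.Agent.S9318

set_option autoImplicit false
universe u
open CAlg

namespace Groth.Agent.S9317

section Aux

open Groth.Agent.S9318

theorem ringHom_ext_of_kill {R : Type u} [CommRing R] (𝔪 : Ideal R) (h𝔪 : 𝔪.FG)
    {B : Type u} [CommRing B] (α β : AdicCompletion 𝔪 R →+* B) (N : ℕ)
    (hαβ : ∀ r, α (algebraMap R (AdicCompletion 𝔪 R) r) = β (algebraMap R (AdicCompletion 𝔪 R) r))
    (hα : ∀ x ∈ (𝔪.map (algebraMap R (AdicCompletion 𝔪 R))) ^ N, α x = 0)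
    (hβ : ∀ x ∈ (𝔪.map (algebraMap R (AdicCompletion 𝔪 R))) ^ N, β x = 0) : α = β := by
  ext x
  obtain ⟨r, hr⟩ := exists_sub 𝔪 N x
  have hx := mem_pow_of_ev_eq_zero 𝔪 h𝔪 N _ hr
  have h1 := hα _ hx
  have h2 := hβ _ hx
  rw [map_sub, sub_eq_zero] at h1 h2
  rw [h1, h2, hαβ]

theorem map_mem_of_gen {R : Type u} [CommRing R] (𝔪 : Ideal R)
    {B : Type u} [CommRing B] (α : AdicCompletion 𝔪 R →+* B) (J' : Ideal B) (m : ℕ)
    (h : ∀ r ∈ 𝔪 ^ m, α (algebraMap R (AdicCompletion 𝔪 R) r) ∈ J') :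
    ∀ x ∈ (𝔪.map (algebraMap R (AdicCompletion 𝔪 R))) ^ m, α x ∈ J' := by
  intro x hx
  rw [← Ideal.map_pow] at hx
  have hle : Ideal.map (algebraMap R (AdicCompletion 𝔪 R)) (𝔪 ^ m) ≤ Ideal.comap α J' := by
    rw [Ideal.map_le_iff_le_comap]; intro r hr; exact h r hr
  exact hle hx

theorem kill_double {A : Type u} [CommRing A] (J : Ideal A) (hJ : J ^ 2 = ⊥)
    {B : Type u} [CommRing B] (I : Ideal B) (α : B →+* A) (m : ℕ)
    (h : ∀ x ∈ I ^ m, α x ∈ J) : ∀ x ∈ I ^ (m + m), α x = 0 := by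
  intro x hx
  rw [pow_add, ← Ideal.smul_eq_mul] at hx
  refine Submodule.smul_induction_on hx ?_ ?_
  · intro a ha b hb
    rw [smul_eq_mul, map_mul]
    have h1 : α a * α b ∈ J ^ 2 := by
      rw [pow_two]; exact Ideal.mul_mem_mul (h a ha) (h b hb)
    rw [hJ] at h1
    exact Ideal.mem_bot.mp h1
  · intro y z hy hz
    rw [map_add, hy, hz, add_zero]

theorem cont_pow {R : Type u} [CommRing R] (𝔪 : Ideal R) {T : Type u} [CommRing T] [Algebra R T]
    (𝔞 : Ideal T) (c : ℕ) (hc : (𝔪 ^ c).map (algebraMap R T) ≤ 𝔞) (k : ℕ) :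
    ∀ r ∈ 𝔪 ^ (c * k), algebraMap R T r ∈ 𝔞 ^ k := by
  intro r hr
  have h1 : (𝔪 ^ (c * k)).map (algebraMap R T) ≤ 𝔞 ^ k := by
    rw [pow_mul, Ideal.map_pow]; exact Ideal.pow_right_mono hc k
  exact h1 (Ideal.mem_map_of_mem _ hr)

theorem fwd {R : Type u} [CommRing R] (𝔪 : Ideal R) (h𝔪 : 𝔪.FG)
    {T : Type u} [CommRing T] [Algebra R T] [Algebra (AdicCompletion 𝔪 R) T]
    [IsScalarTower R (AdicCompletion 𝔪 R) T] (𝔞 : Ideal T)
    (c : ℕ) (hc : (𝔪 ^ c).map (algebraMap R T) ≤ 𝔞)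
    (hR : CAlgX.IsAdicFormallySmooth R T 𝔞) :
    CAlgX.IsAdicFormallySmooth (AdicCompletion 𝔪 R) T 𝔞 := by
  intro A _ _ J hJ φ hφ
  obtain ⟨k, hk⟩ := hφ
  letI : Algebra R A := ((algebraMap (AdicCompletion 𝔪 R) A).comp
    (algebraMap R (AdicCompletion 𝔪 R))).toAlgebra
  haveI : IsScalarTower R (AdicCompletion 𝔪 R) A := IsScalarTower.of_algebraMap_eq (fun _ => rfl)
  haveI : IsScalarTower R (AdicCompletion 𝔪 R) (A ⧸ J) :=
    IsScalarTower.of_algebraMap_eq (fun _ => rfl)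
  obtain ⟨χ, hχ⟩ := hR A J hJ (φ.restrictScalars R) ⟨k, hk⟩
  have hχs : ∀ t, Ideal.Quotient.mk J (χ t) = φ t := fun t => congrArg (fun f => f t) hχ
  let α : AdicCompletion 𝔪 R →+* A := (χ : T →+* A).comp (algebraMap (AdicCompletion 𝔪 R) T)
  let β : AdicCompletion 𝔪 R →+* A := algebraMap (AdicCompletion 𝔪 R) A
  have hαβ : ∀ r, α (algebraMap R (AdicCompletion 𝔪 R) r) =
      β (algebraMap R (AdicCompletion 𝔪 R) r) := by
    intro r
    show χ (algebraMap (AdicCompletion 𝔪 R) T (algebraMap R (AdicCompletion 𝔪 R) r)) =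
      algebraMap (AdicCompletion 𝔪 R) A (algebraMap R (AdicCompletion 𝔪 R) r)
    rw [← IsScalarTower.algebraMap_apply R (AdicCompletion 𝔪 R) T,
      ← IsScalarTower.algebraMap_apply R (AdicCompletion 𝔪 R) A, χ.commutes]
  have hgen : ∀ r ∈ 𝔪 ^ (c * k), β (algebraMap R (AdicCompletion 𝔪 R) r) ∈ J := by
    intro r hr
    rw [← Ideal.Quotient.eq_zero_iff_mem]
    have h1 : Ideal.Quotient.mk J (β (algebraMap R (AdicCompletion 𝔪 R) r)) =
        φ (algebraMap R T r) := by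
      rw [IsScalarTower.algebraMap_apply R (AdicCompletion 𝔪 R) T, φ.commutes]; rfl
    rw [h1]; exact hk _ (cont_pow 𝔪 𝔞 c hc k r hr)
  have hβJ := map_mem_of_gen 𝔪 β J (c * k) hgen
  have hαJ := map_mem_of_gen 𝔪 α J (c * k) (fun r hr => by rw [hαβ]; exact hgen r hr)
  have hβ0 := kill_double J hJ _ β (c * k) hβJ
  have hα0 := kill_double J hJ _ α (c * k) hαJ
  have heq : α = β := ringHom_ext_of_kill 𝔪 h𝔪 α β (c * k + c * k) hαβ hα0 hβ0
  refine ⟨{ (χ : T →+* A) with commutes' := fun x => RingHom.congr_fun heq x },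
    AlgHom.ext fun t => ?_⟩
  exact hχs t

theorem bwd {R : Type u} [CommRing R] (𝔪 : Ideal R) (h𝔪 : 𝔪.FG)
    {T : Type u} [CommRing T] [Algebra R T] [Algebra (AdicCompletion 𝔪 R) T]
    [IsScalarTower R (AdicCompletion 𝔪 R) T] (𝔞 : Ideal T)
    (c : ℕ) (hc : (𝔪 ^ c).map (algebraMap R T) ≤ 𝔞)
    (hR' : CAlgX.IsAdicFormallySmooth (AdicCompletion 𝔪 R) T 𝔞) :
    CAlgX.IsAdicFormallySmooth R T 𝔞 := by
  intro A _ _ J hJ φ hφ
  obtain ⟨k, hk⟩ := hφ
  have hgen : ∀ r ∈ 𝔪 ^ (c * k), algebraMap R A r ∈ J := by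
    intro r hr
    rw [← Ideal.Quotient.eq_zero_iff_mem]
    have h1 : Ideal.Quotient.mk J (algebraMap R A r) = φ (algebraMap R T r) := by
      rw [φ.commutes]; rfl
    rw [h1]; exact hk _ (cont_pow 𝔪 𝔞 c hc k r hr)
  have h0 : ∀ r ∈ 𝔪 ^ (c * k + c * k), algebraMap R A r = 0 :=
    kill_double J hJ 𝔪 (algebraMap R A) (c * k) hgen
  let γ : AdicCompletion 𝔪 R →+* A :=
    (Ideal.Quotient.lift (𝔪 ^ (c * k + c * k)) (algebraMap R A) h0).comp
      (AdicCompletion.evalₐ 𝔪 (c * k + c * k)).toRingHom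
  have hγι : ∀ r, γ (algebraMap R (AdicCompletion 𝔪 R) r) = algebraMap R A r := by
    intro r
    show Ideal.Quotient.lift (𝔪 ^ (c * k + c * k)) (algebraMap R A) h0 (AdicCompletion.evalₐ 𝔪 (c * k + c * k)
      (algebraMap R (AdicCompletion 𝔪 R) r)) = _
    rw [ev_ι]; rfl
  letI : Algebra (AdicCompletion 𝔪 R) A := γ.toAlgebra
  haveI : IsScalarTower R (AdicCompletion 𝔪 R) A :=
    IsScalarTower.of_algebraMap_eq (fun r => (hγι r).symm)
  haveI : IsScalarTower R (AdicCompletion 𝔪 R) (A ⧸ J) :=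
    IsScalarTower.of_algebraMap_eq (fun r => by
      show Ideal.Quotient.mk J (algebraMap R A r) =
        Ideal.Quotient.mk J (γ (algebraMap R (AdicCompletion 𝔪 R) r))
      rw [hγι])
  let α : AdicCompletion 𝔪 R →+* A ⧸ J :=
    (φ : T →+* A ⧸ J).comp (algebraMap (AdicCompletion 𝔪 R) T)
  let β : AdicCompletion 𝔪 R →+* A ⧸ J := algebraMap (AdicCompletion 𝔪 R) (A ⧸ J)
  have hαβ : ∀ r, α (algebraMap R (AdicCompletion 𝔪 R) r) =
      β (algebraMap R (AdicCompletion 𝔪 R) r) := by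
    intro r
    show φ (algebraMap (AdicCompletion 𝔪 R) T (algebraMap R (AdicCompletion 𝔪 R) r)) =
      algebraMap (AdicCompletion 𝔪 R) (A ⧸ J) (algebraMap R (AdicCompletion 𝔪 R) r)
    rw [← IsScalarTower.algebraMap_apply R (AdicCompletion 𝔪 R) T,
      ← IsScalarTower.algebraMap_apply R (AdicCompletion 𝔪 R) (A ⧸ J), φ.commutes]
  have hα0 : ∀ x ∈ (𝔪.map (algebraMap R (AdicCompletion 𝔪 R))) ^ (c * k + c * k), α x = 0 := by
    have h1 := map_mem_of_gen 𝔪 α ⊥ (c * k) (fun r hr => by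
      rw [Ideal.mem_bot]
      show φ (algebraMap (AdicCompletion 𝔪 R) T (algebraMap R (AdicCompletion 𝔪 R) r)) = 0
      rw [← IsScalarTower.algebraMap_apply R (AdicCompletion 𝔪 R) T]
      exact hk _ (cont_pow 𝔪 𝔞 c hc k r hr))
    intro x hx
    exact Ideal.mem_bot.mp (h1 x (Ideal.pow_le_pow_right (Nat.le_add_right _ _) hx))
  have hβ0 : ∀ x ∈ (𝔪.map (algebraMap R (AdicCompletion 𝔪 R))) ^ (c * k + c * k), β x = 0 := by
    intro x hx
    show Ideal.Quotient.mk J (γ x) = 0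
    have hγ0 : γ x = 0 := by
      show Ideal.Quotient.lift (𝔪 ^ (c * k + c * k)) (algebraMap R A) h0 (AdicCompletion.evalₐ 𝔪 (c * k + c * k) x) = 0
      rw [ev_eq_zero_of_mem_pow 𝔪 (c * k + c * k) x hx, map_zero]
    rw [hγ0, map_zero]
  have heq : α = β := ringHom_ext_of_kill 𝔪 h𝔪 α β (c * k + c * k) hαβ hα0 hβ0
  let φ' : T →ₐ[AdicCompletion 𝔪 R] A ⧸ J :=
    { (φ : T →+* A ⧸ J) with commutes' := fun x => RingHom.congr_fun heq x }
  obtain ⟨χ', hχ'⟩ := hR' A J hJ φ' ⟨k, hk⟩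
  refine ⟨χ'.restrictScalars R, AlgHom.ext fun t => ?_⟩
  exact congrArg (fun f => f t) hχ'

end Aux

/-- Let `R → S` be a ring map, let `𝔪 ⊆ R` and `𝔫 ⊆ S` be finitely generated ideals such that some power
of `𝔪` maps into `𝔫`, and let `R^`, `S^` be the `𝔪`-adic and `𝔫`-adic completions. Let `ψ : R^ → S^`
be a ring map whose composite with `R → R^` is the composite `R → S → S^` (there is exactly one such
map, the canonical one, since any such map is continuous for the adic topologies). Then `R → S` is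
formally smooth for the `𝔫`-adic topology if and only if `R^ → S^`, i.e. `S^` viewed as an
`R^`-algebra through `ψ`, is formally smooth for the adic topology of the extension of `𝔫` to `S^`. -/
theorem result {R S : Type u} [CommRing R] [CommRing S]
    [Algebra R S] (𝔪 : Ideal R) (𝔫 : Ideal S) (h𝔪 : 𝔪.FG) (h𝔫 : 𝔫.FG)
    (hc : ∃ c : ℕ, (𝔪 ^ c).map (algebraMap R S) ≤ 𝔫)
    (ψ : AdicCompletion 𝔪 R →+* AdicCompletion 𝔫 S)
    (hψ : ψ.comp (algebraMap R (AdicCompletion 𝔪 R)) =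
      (algebraMap S (AdicCompletion 𝔫 S)).comp (algebraMap R S)) :
    CAlgX.IsAdicFormallySmooth R S 𝔫 ↔
      letI : Algebra (AdicCompletion 𝔪 R) (AdicCompletion 𝔫 S) := ψ.toAlgebra
      CAlgX.IsAdicFormallySmooth (AdicCompletion 𝔪 R) (AdicCompletion 𝔫 S)
        (𝔫.map (algebraMap S (AdicCompletion 𝔫 S))) := by
  obtain ⟨c, hc⟩ := hc
  letI : Algebra (AdicCompletion 𝔪 R) (AdicCompletion 𝔫 S) := ψ.toAlgebra
  haveI : IsScalarTower R (AdicCompletion 𝔪 R) (AdicCompletion 𝔫 S) :=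
    IsScalarTower.of_algebraMap_eq (fun r => (RingHom.congr_fun hψ r).symm)
  have hcont : (𝔪 ^ c).map (algebraMap R (AdicCompletion 𝔫 S)) ≤
      𝔫.map (algebraMap S (AdicCompletion 𝔫 S)) := by
    have e : algebraMap R (AdicCompletion 𝔫 S) =
        (algebraMap S (AdicCompletion 𝔫 S)).comp (algebraMap R S) := RingHom.ext fun r => rfl
    rw [e, ← Ideal.map_map]; exact Ideal.map_mono hc
  rw [Groth.Agent.S9318.result 𝔫 h𝔫]
  exact ⟨fwd 𝔪 h𝔪 _ c hcont, bwd 𝔪 h𝔪 _ c hcont⟩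

end Groth.Agent.S9317
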