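import Groth.Statements.S9320
import Groth.Agent.H44.Fredholm

set_option autoImplicit false
universe u
open CAlg

namespace Groth.Agent.S9320

section aux

attribute [local instance] SMulCommClass.of_commMonoid

variable {k k' K K' : Type u} [Field k] [Field k']
    [Field K] [Field K'] [Algebra k k'] [Algebra k K] [Algebra k K'] [Algebra k' K'] [Algebra K K']
    [IsScalarTower k k' K'] [IsScalarTower k K K']

set_option backward.isDefEq.respectTransparency false in
theorem h1map_comp (y : Algebra.H1Cotangent k K) :
    Algebra.H1Cotangent.map k k' K K' y =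
      Algebra.H1Cotangent.map k k' K' K' (Algebra.H1Cotangent.map k k K K' y) := by
  show Algebra.Extension.H1Cotangent.map
      (Algebra.Generators.defaultHom (Algebra.Generators.self k K)
        (Algebra.Generators.self k' K')).toExtensionHom y =
    Algebra.Extension.H1Cotangent.map
      (Algebra.Generators.defaultHom (Algebra.Generators.self k K')
        (Algebra.Generators.self k' K')).toExtensionHom
      (Algebra.Extension.H1Cotangent.map
        (Algebra.Generators.defaultHom (Algebra.Generators.self k K)
          (Algebra.Generators.self k K')).toExtensionHom y)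
  rw [← Algebra.Extension.H1Cotangent.map_comp_apply]
  exact DFunLike.congr_fun (Algebra.Extension.H1Cotangent.map_eq _ _) y

theorem kmap_comp (ω : Ω[K⁄k]) :
    KaehlerDifferential.map k k' K K' ω =
      KaehlerDifferential.map k k' K' K' (KaehlerDifferential.map k k K K' ω) := by
  have hω : ω ∈ Submodule.span K (Set.range (KaehlerDifferential.D k K)) := by
    rw [KaehlerDifferential.span_range_derivation]
    trivial
  induction hω using Submodule.span_induction with
  | mem x hx =>
    obtain ⟨y, rfl⟩ := hx
    simp only [KaehlerDifferential.map_D, Algebra.algebraMap_self, RingHom.id_apply]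
  | zero => simp only [map_zero]
  | add x y _ _ hx hy => simp only [map_add, hx, hy]
  | smul r x _ hx =>
    rw [map_smul, map_smul, hx, LinearMap.map_smul_of_tower]

end aux



open TensorProduct in
/-- Consider a commutative square of fields with maps `k → K`, `k → k'`, `k' → K'` and `K → K'`, where
`k'` is a finitely generated field extension of `k` and `K'` is a finitely generated field extension
of `K`. Let `α : Ω_{K/k} ⊗_K K' → Ω_{K'/k'}` and `β : H_1(L_{K/k}) ⊗_K K' → H_1(L_{K'/k'})` be the
comparison maps (`H_1(L)` the first homology of the naive cotangent complex). Then the kernels and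
cokernels of `α` and `β` are finite-dimensional `K'`-vector spaces, and the difference of
transcendence degrees trdeg_k(k') − trdeg_K(K') equals (dim Ker α + dim Coker β) − (dim Coker α +
dim Ker β). -/
theorem result {k k' K K' : Type u} [Field k] [Field k']
    [Field K] [Field K'] [Algebra k k'] [Algebra k K] [Algebra k K'] [Algebra k' K'] [Algebra K K']
    [IsScalarTower k k' K'] [IsScalarTower k K K']
    [Algebra.EssFiniteType k k'] [Algebra.EssFiniteType K K'] :
    Module.Finite K' (LinearMap.ker ((KaehlerDifferential.map k k' K K').liftBaseChange K')) ∧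
      Module.Finite K' (Ω[K'⁄k'] ⧸ LinearMap.range ((KaehlerDifferential.map k k' K K').liftBaseChange K')) ∧
      Module.Finite K' (LinearMap.ker ((Algebra.H1Cotangent.map k k' K K').liftBaseChange K')) ∧
      Module.Finite K' (Algebra.H1Cotangent k' K' ⧸ LinearMap.range ((Algebra.H1Cotangent.map k k' K K').liftBaseChange K')) ∧
      ((Module.finrank K' (LinearMap.ker ((KaehlerDifferential.map k k' K K').liftBaseChange K')) : ℤ)
          - Module.finrank K' (Ω[K'⁄k'] ⧸ LinearMap.range ((KaehlerDifferential.map k k' K K').liftBaseChange K'))
          - Module.finrank K' (LinearMap.ker ((Algebra.H1Cotangent.map k k' K K').liftBaseChange K'))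
          + Module.finrank K' (Algebra.H1Cotangent k' K' ⧸ LinearMap.range ((Algebra.H1Cotangent.map k k' K K').liftBaseChange K'))
        = (Cardinal.toNat (Algebra.trdeg k k') : ℤ) - Cardinal.toNat (Algebra.trdeg K K')) := by
  classical
  obtain ⟨c1, c2, c3⟩ := Groth.Agent.H44.Cartier.cartier K K'
  obtain ⟨c4, c5, c6⟩ := Groth.Agent.H44.Cartier.cartier k k'
  haveI := c1
  haveI := c2
  haveI := c4
  haveI := c5
  -- the tower k → K → K'
  have e12 : Function.Exact ((Algebra.H1Cotangent.map k k K K').liftBaseChange K')
      (Algebra.H1Cotangent.map k K K' K') := Algebra.H1Cotangent.exact_liftBaseChange_map_of_flat k K K'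
  have e23 : Function.Exact (Algebra.H1Cotangent.map k K K' K') (Algebra.H1Cotangent.δ k K K') :=
    Algebra.H1Cotangent.exact_map_δ k K K'
  have e34 : Function.Exact (Algebra.H1Cotangent.δ k K K') (KaehlerDifferential.mapBaseChange k K K') :=
    Algebra.H1Cotangent.exact_δ_mapBaseChange k K K'
  have e45 : Function.Exact (KaehlerDifferential.mapBaseChange k K K')
      (KaehlerDifferential.map k K K' K') := KaehlerDifferential.exact_mapBaseChange_map k K K'
  have s5 : Function.Surjective (KaehlerDifferential.map k K K' K') :=
    KaehlerDifferential.map_surjective k K K'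
  have i1 : Function.Injective ((Algebra.H1Cotangent.map k k K K').liftBaseChange K') :=
    Groth.Agent.H44.H1Nat.injective_liftBaseChange_map
  -- the tower k → k' → K'
  have e12' : Function.Exact ((Algebra.H1Cotangent.map k k k' K').liftBaseChange K')
      (Algebra.H1Cotangent.map k k' K' K') := Algebra.H1Cotangent.exact_liftBaseChange_map_of_flat k k' K'
  have e23' : Function.Exact (Algebra.H1Cotangent.map k k' K' K') (Algebra.H1Cotangent.δ k k' K') :=
    Algebra.H1Cotangent.exact_map_δ k k' K'
  have e34' : Function.Exact (Algebra.H1Cotangent.δ k k' K') (KaehlerDifferential.mapBaseChange k k' K') :=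
    Algebra.H1Cotangent.exact_δ_mapBaseChange k k' K'
  have e45' : Function.Exact (KaehlerDifferential.mapBaseChange k k' K')
      (KaehlerDifferential.map k k' K' K') := KaehlerDifferential.exact_mapBaseChange_map k k' K'
  have s5' : Function.Surjective (KaehlerDifferential.map k k' K' K') :=
    KaehlerDifferential.map_surjective k k' K'
  have i1' : Function.Injective ((Algebra.H1Cotangent.map k k k' K').liftBaseChange K') :=
    Groth.Agent.H44.H1Nat.injective_liftBaseChange_map
  -- indices
  have ia := Groth.Agent.H44.Fredholm.hasIndex_of_exact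
    (0 : K' →ₗ[K'] TensorProduct K K' (Algebra.H1Cotangent k K)) _ _
    ((LinearMap.exact_zero_iff_injective K' _).mpr i1) e12
  have ib := Groth.Agent.H44.Fredholm.hasIndex_of_exact _ _ _ e12' e23'
  have ic := Groth.Agent.H44.Fredholm.hasIndex_of_exact _ _ _ e34 e45
  have id' := Groth.Agent.H44.Fredholm.hasIndex_of_exact _ _
    (0 : Ω[K'⁄k'] →ₗ[K'] K') e45' ((LinearMap.exact_zero_iff_surjective K' _).mpr s5')
  have iβ := ia.comp ib
  have iα := ic.comp id'
  have hβ : (Algebra.H1Cotangent.map k k' K K').liftBaseChange K' =
      (Algebra.H1Cotangent.map k k' K' K') ∘ₗ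
        ((Algebra.H1Cotangent.map k k K K').liftBaseChange K') := by
    refine LinearMap.ext fun z => ?_
    induction z using TensorProduct.induction_on with
    | zero => simp only [map_zero]
    | tmul x y =>
      rw [LinearMap.liftBaseChange_tmul, LinearMap.comp_apply, LinearMap.liftBaseChange_tmul,
        map_smul, h1map_comp]
    | add x y hx hy => rw [map_add, map_add, hx, hy]
  have hα : (KaehlerDifferential.map k k' K K').liftBaseChange K' =
      (KaehlerDifferential.map k k' K' K') ∘ₗ (KaehlerDifferential.mapBaseChange k K K') := by
    refine LinearMap.ext fun z => ?_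
    induction z using TensorProduct.induction_on with
    | zero => simp only [map_zero]
    | tmul x y =>
      rw [LinearMap.liftBaseChange_tmul, LinearMap.comp_apply,
        KaehlerDifferential.mapBaseChange_tmul, map_smul, kmap_comp]
    | add x y hx hy => rw [map_add, map_add, hx, hy]
  rw [← hβ] at iβ
  rw [← hα] at iα
  have d2 := Groth.Agent.H44.Cartier.finrank_exact _ _ e23
  have d3' := Groth.Agent.H44.Cartier.finrank_exact _ _ e34'
  have z1 : Module.finrank K' (LinearMap.range
      (0 : K' →ₗ[K'] TensorProduct K K' (Algebra.H1Cotangent k K))) = 0 := by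
    rw [LinearMap.range_zero, finrank_bot]
  have z2 : Module.finrank K' (LinearMap.range (0 : Ω[K'⁄k'] →ₗ[K'] K')) = 0 := by
    rw [LinearMap.range_zero, finrank_bot]
  have r1' : Module.finrank K' (LinearMap.range
      ((Algebra.H1Cotangent.map k k k' K').liftBaseChange K')) =
      Module.finrank k' (Algebra.H1Cotangent k k') := by
    rw [LinearMap.finrank_range_of_inj i1', Module.finrank_baseChange]
  have r5 : Module.finrank K' (LinearMap.range (KaehlerDifferential.map k K K' K')) =
      Module.finrank K' Ω[K'⁄K] := by
    rw [LinearMap.range_eq_top.mpr s5, finrank_top]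
  have r34' : Module.finrank K' (TensorProduct k' K' Ω[k'⁄k]) = Module.finrank k' Ω[k'⁄k] :=
    Module.finrank_baseChange
  refine ⟨iα.finKer, iα.finCoker, iβ.finKer, iβ.finCoker, ?_⟩
  have q1 := iα.eq
  have q2 := iβ.eq
  rw [← c3, ← c6]
  omega

end Groth.Agent.S9320
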