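import Groth.Statements.S9321
import Groth.Agent.S9318
import Mathlib.RingTheory.MvPowerSeries.Equiv
import Mathlib.RingTheory.MvPowerSeries.Inverse
import Mathlib.RingTheory.Smooth.Field
import Mathlib.FieldTheory.Perfect
import Mathlib.Algebra.Algebra.Hom.Rat
import Mathlib.Tactic

set_option autoImplicit false
open CAlg

namespace Groth.Agent.S9321

section Aux

theorem formallySmooth_rat (K : Type) [Field K] [CharZero K] : Algebra.FormallySmooth ℚ K := by
  obtain ⟨ι, v, hv⟩ := exists_isTranscendenceBasis'.{0} ℚ K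
  have : Algebra.IsAlgebraic (IntermediateField.adjoin ℚ (Set.range v)) K := hv.isAlgebraic_field
  exact Algebra.FormallySmooth.of_algebraicIndependent_of_isSeparable hv.1

theorem X_mem_maximalIdeal (K : Type) [Field K] (n : ℕ) (i : Fin n) :
    algebraMap (MvPolynomial (Fin n) K) (MvPowerSeries (Fin n) K) (MvPolynomial.X i) ∈
      IsLocalRing.maximalIdeal (MvPowerSeries (Fin n) K) := by
  rw [IsLocalRing.mem_maximalIdeal, mem_nonunits_iff, MvPowerSeries.isUnit_iff_constantCoeff]
  have h : MvPowerSeries.constantCoeff (algebraMap (MvPolynomial (Fin n) K)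
      (MvPowerSeries (Fin n) K) (MvPolynomial.X i)) = 0 := by
    simp [MvPowerSeries.algebraMap_apply']
  rw [h]
  exact not_isUnit_zero

end Aux

/-- Let `K` be a field of characteristic zero and `n ≥ 0`. Then `ℚ → K[[x_1, …, x_n]]` is formally
smooth for the adic topology of the maximal ideal of the power series ring. (`K` is taken in the
lowest universe, where `ℚ` lives.) -/
theorem result (K : Type) [Field K] [CharZero K] (n : ℕ) :
    CAlgX.IsAdicFormallySmooth ℚ (MvPowerSeries (Fin n) K)
      (IsLocalRing.maximalIdeal (MvPowerSeries (Fin n) K)) := by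
  have hK : Algebra.FormallySmooth ℚ K := formallySmooth_rat K
  have hP : Algebra.FormallySmooth ℚ (MvPolynomial (Fin n) K) :=
    Algebra.FormallySmooth.comp ℚ K (MvPolynomial (Fin n) K)
  have hPadic : CAlgX.IsAdicFormallySmooth ℚ (MvPolynomial (Fin n) K)
      (MvPolynomial.idealOfVars (Fin n) K) := by
    intro A _ _ J hJ ψ _
    exact Algebra.FormallySmooth.exists_lift J ⟨2, hJ⟩ ψ
  have hhat := (Groth.Agent.S9318.result (R := ℚ) (MvPolynomial.idealOfVars (Fin n) K)
    (MvPolynomial.idealOfVars_fg (Fin n) K)).mp hPadic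
  let e := MvPowerSeries.toAdicCompletionAlgEquiv (Fin n) K
  let eH : MvPowerSeries (Fin n) K →ₐ[ℚ]
      AdicCompletion (MvPolynomial.idealOfVars (Fin n) K) (MvPolynomial (Fin n) K) :=
    RingHom.toRatAlgHom (e.toRingEquiv.toRingHom)
  let eS : AdicCompletion (MvPolynomial.idealOfVars (Fin n) K) (MvPolynomial (Fin n) K) →ₐ[ℚ]
      MvPowerSeries (Fin n) K :=
    RingHom.toRatAlgHom (e.symm.toRingEquiv.toRingHom)
  have heS : ∀ x, eS x = e.symm x := fun x => rfl
  have heH : ∀ t, eH t = e t := fun t => rfl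
  intro A _ _ J hJ ψ hψ
  obtain ⟨k, hk⟩ := hψ
  have hle1 : (MvPolynomial.idealOfVars (Fin n) K).map (algebraMap (MvPolynomial (Fin n) K)
      (AdicCompletion (MvPolynomial.idealOfVars (Fin n) K) (MvPolynomial (Fin n) K))) ≤
      Ideal.comap (eS : _ →+* MvPowerSeries (Fin n) K)
        (IsLocalRing.maximalIdeal (MvPowerSeries (Fin n) K)) := by
    rw [Ideal.map_le_iff_le_comap]
    refine Ideal.span_le.mpr ?_
    rintro _ ⟨i, rfl⟩
    show eS (algebraMap (MvPolynomial (Fin n) K) (AdicCompletion (MvPolynomial.idealOfVars (Fin n) K) (MvPolynomial (Fin n) K)) (MvPolynomial.X i)) ∈ IsLocalRing.maximalIdeal (MvPowerSeries (Fin n) K)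
    rw [heS, e.symm.commutes]
    exact X_mem_maximalIdeal K n i
  have hkill : ∀ x ∈ ((MvPolynomial.idealOfVars (Fin n) K).map
      (algebraMap (MvPolynomial (Fin n) K)
        (AdicCompletion (MvPolynomial.idealOfVars (Fin n) K) (MvPolynomial (Fin n) K)))) ^ k,
      (ψ.comp eS) x = 0 := by
    intro x hx
    apply hk
    have h2 := (Ideal.pow_right_mono hle1 k).trans (Ideal.le_comap_pow _ k) hx
    exact h2
  obtain ⟨χ', hχ'⟩ := hhat A J hJ (ψ.comp eS) ⟨k, hkill⟩
  refine ⟨χ'.comp eH, AlgHom.ext fun t => ?_⟩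
  have h3 := congrArg (fun f => f (eH t)) hχ'
  simp only [AlgHom.comp_apply] at h3 ⊢
  rw [h3, heS, heH, AlgEquiv.symm_apply_apply]

end Groth.Agent.S9321
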