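import Groth.Statements.S9324
import Groth.Agent.H3.PH3
import Groth.Agent.H3.HPair9
import Groth.Agent.H3.Hensel2

set_option autoImplicit false
universe u
open Hensel

namespace Groth.Agent.S9324

open TensorProduct in
/-- Let `(A, I) → (B, J)` be a map of pairs, i.e. `I B ⊆ J`, such that `J` and `I B` have the same
radical, and suppose `A → B` is integral. Let `A^h` be a henselization of the pair `(A, I)`, `B^h` a
henselization of the pair `(B, J)`, and `φ : A^h → B^h` an `A`-algebra homomorphism (there is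
exactly one, by the universal property of `A^h`). Then the induced map `A^h ⊗_A B → B^h` is
bijective: henselization commutes with integral base change. -/
theorem result {A B Ah Bh : Type u} [CommRing A]
    [CommRing B] [CommRing Ah] [CommRing Bh] [Algebra A B] (I : Ideal A) (J : Ideal B)
    (hIJ : I.map (algebraMap A B) ≤ J) (hrad : J.radical = (I.map (algebraMap A B)).radical)
    [Algebra.IsIntegral A B] [Algebra A Ah] (hA : Hens2.IsPairHenselization A I Ah)
    [Algebra B Bh] [Algebra A Bh] [IsScalarTower A B Bh] (hB : Hens2.IsPairHenselization B J Bh)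
    (φ : Ah →ₐ[A] Bh) :
    Function.Bijective (Algebra.TensorProduct.productMap φ (IsScalarTower.toAlgHom A B Bh)) := by
  let iL : Ah →ₐ[A] Ah ⊗[A] B := Algebra.TensorProduct.includeLeft
  let iR : B →ₐ[A] Ah ⊗[A] B := Algebra.TensorProduct.includeRight
  haveI := hA.1
  have h1 : HenselianRing (Ah ⊗[A] B)
      ((I.map (algebraMap A Ah)).map (algebraMap Ah (Ah ⊗[A] B))) :=
    Groth.Agent.H3.henselianRing_map_of_isIntegral (I.map (algebraMap A Ah)) (Ah ⊗[A] B)
  have hK : (I.map (algebraMap A Ah)).map (algebraMap Ah (Ah ⊗[A] B)) =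
      (I.map (algebraMap A B)).map iR.toRingHom := by
    rw [Ideal.map_map, Ideal.map_map]
    congr 1
    ext a
    show algebraMap Ah (Ah ⊗[A] B) (algebraMap A Ah a) = iR (algebraMap A B a)
    rw [iR.commutes]
    exact (IsScalarTower.algebraMap_apply A Ah _ a).symm
  rw [hK] at h1
  have hKJ : (I.map (algebraMap A B)).map iR.toRingHom ≤ J.map iR.toRingHom :=
    Ideal.map_mono hIJ
  have hJK : J.map iR.toRingHom ≤ ((I.map (algebraMap A B)).map iR.toRingHom).radical := by
    calc J.map iR.toRingHom ≤ J.radical.map iR.toRingHom := Ideal.map_mono Ideal.le_radical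
      _ = (I.map (algebraMap A B)).radical.map iR.toRingHom := by rw [hrad]
      _ ≤ _ := Ideal.map_radical_le _
  haveI h2 : HenselianRing (Ah ⊗[A] B) ((I.map (algebraMap A B)).map iR.toRingHom).radical :=
    (Groth.Agent.H3.henselianRing_radical_iff _).mpr h1
  have hHT : HenselianRing (Ah ⊗[A] B) (J.map iR.toRingHom) :=
    Groth.Agent.H3.henselianRing_of_le _ _ hJK
  obtain ⟨h, hh, -⟩ := hB.2 (Ah ⊗[A] B) (J.map iR.toRingHom) iR.toRingHom hHT le_rfl
  let Φ : Ah ⊗[A] B →ₐ[A] Bh :=
    Algebra.TensorProduct.productMap φ (IsScalarTower.toAlgHom A B Bh)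
  have hΦR : ∀ b, Φ (iR b) = algebraMap B Bh b := fun b =>
    Algebra.TensorProduct.productMap_right_apply _ _ b
  have hΦL : ∀ a, Φ (iL a) = φ a := fun a =>
    Algebra.TensorProduct.productMap_left_apply _ _ a
  have hhR : ∀ b, h (algebraMap B Bh b) = iR b := fun b => RingHom.congr_fun hh b
  obtain ⟨i, -, hi⟩ := hB.2 Bh (J.map (algebraMap B Bh)) (algebraMap B Bh) hB.1 le_rfl
  have h3 : Φ.toRingHom.comp h = RingHom.id Bh := by
    rw [hi (Φ.toRingHom.comp h) (by
      ext b
      show Φ (h (algebraMap B Bh b)) = algebraMap B Bh b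
      rw [hhR, hΦR]), hi (RingHom.id Bh) (RingHom.id_comp _)]
  have hIT : I.map (algebraMap A (Ah ⊗[A] B)) ≤ J.map iR.toRingHom := by
    refine le_trans (le_of_eq ?_) hKJ
    rw [Ideal.map_map]
    congr 1
    ext a
    exact (iR.commutes a).symm
  obtain ⟨j, -, hj⟩ := hA.2 (Ah ⊗[A] B) (J.map iR.toRingHom) (algebraMap A (Ah ⊗[A] B)) hHT hIT
  have h4 : (h.comp Φ.toRingHom).comp iL.toRingHom = iL.toRingHom := by
    rw [hj ((h.comp Φ.toRingHom).comp iL.toRingHom) (by
      ext a
      show h (Φ (iL (algebraMap A Ah a))) = algebraMap A (Ah ⊗[A] B) a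
      rw [hΦL, φ.commutes, IsScalarTower.algebraMap_apply A B Bh, hhR]
      exact iR.commutes a), hj iL.toRingHom (by
      ext a
      exact iL.commutes a)]
  have h5 : ∀ x, h (Φ x) = x := by
    intro x
    induction x using TensorProduct.induction_on with
    | zero => rw [map_zero, map_zero]
    | tmul a b =>
      have hab : a ⊗ₜ[A] b = iL a * iR b := by
        show a ⊗ₜ[A] b = (a ⊗ₜ[A] (1 : B)) * ((1 : Ah) ⊗ₜ[A] b)
        rw [Algebra.TensorProduct.tmul_mul_tmul, mul_one, one_mul]
      have h6 : h (Φ (iL a)) = iL a := RingHom.congr_fun h4 a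
      rw [hab, map_mul, map_mul, hΦR, hhR, h6]
    | add x y hx hy => rw [map_add, map_add, hx, hy]
  exact Function.bijective_iff_has_inverse.mpr ⟨h, h5, fun y => RingHom.congr_fun h3 y⟩

end Groth.Agent.S9324
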