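import Groth.Statements.S9325
import Mathlib.RingTheory.Localization.Away.Basic
import Mathlib.RingTheory.Localization.Ideal
import Mathlib.RingTheory.Ideal.Colon
import Mathlib.RingTheory.Ideal.Maps

set_option autoImplicit false
universe u
open CAlg

namespace Groth.Agent.S9325

theorem uniform {c : ℕ} (P : Fin c → ℕ → Prop) (hmono : ∀ i n, P i n → P i (n + 1))
    (h : ∀ i, ∃ n, P i n) : ∃ N, ∀ i, P i N := by
  choose n hn using h
  refine ⟨Finset.univ.sup n, fun i => ?_⟩
  have hle : n i ≤ Finset.univ.sup n := Finset.le_sup (Finset.mem_univ i)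
  obtain ⟨d, hd⟩ := Nat.exists_eq_add_of_le hle
  rw [hd]
  clear hd hle
  induction d with
  | zero => exact hn i
  | succ d ih => exact hmono i _ ih

theorem sum_single_mul {R : Type u} [CommRing R] {c : ℕ} (i : Fin c) (r : R) (a : Fin c → R) :
    ∑ k, Pi.single (M := fun _ => R) i r k * a k = r * a i := by
  rw [Finset.sum_eq_single i (fun k _ hk => by rw [Pi.single_eq_of_ne hk, zero_mul])
    (fun h => absurd (Finset.mem_univ i) h), Pi.single_eq_same]

section ML

variable {A : Type u} [CommRing A] (I J : Ideal A) (gt : A)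
  (B : Type u) [CommRing B] [Algebra (A ⧸ I) B] [IsLocalization.Away (Ideal.Quotient.mk I gt) B]

/-- the composite `A → A/I → B` -/
noncomputable def phi : A →+* B := (algebraMap (A ⧸ I) B).comp (Ideal.Quotient.mk I)

theorem phi_apply (t : A) : phi I B t = algebraMap (A ⧸ I) B (Ideal.Quotient.mk I t) := rfl

theorem phi_eq_zero_of_mem {t : A} (ht : t ∈ I) : phi I B t = 0 := by
  rw [phi_apply, Ideal.Quotient.eq_zero_iff_mem.2 ht, map_zero]

theorem ker_phi (t : A) (ht : phi I B t = 0) : ∃ k : ℕ, gt ^ k * t ∈ I := by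
  rw [phi_apply, IsLocalization.map_eq_zero_iff (Submonoid.powers (Ideal.Quotient.mk I gt)) B] at ht
  obtain ⟨⟨_, k, rfl⟩, hk⟩ := ht
  refine ⟨k, ?_⟩
  rw [← Ideal.Quotient.eq_zero_iff_mem, map_mul, map_pow]
  exact hk

theorem lift_phi (β : B) : ∃ (n : ℕ) (r : A), phi I B gt ^ n * β = phi I B r := by
  obtain ⟨n, a, e⟩ := IsLocalization.Away.surj (Ideal.Quotient.mk I gt) β
  obtain ⟨r, rfl⟩ := Ideal.Quotient.mk_surjective a
  refine ⟨n, r, ?_⟩
  rw [mul_comm]
  exact e

theorem pred_span {c : ℕ} (f : Fin c → B) (a : Fin c → A) (m : ℕ)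
    (ha : ∀ i, phi I B (a i) = phi I B gt ^ m * f i) (v : Fin c → B)
    (hv : v ∈ Submodule.span B
      {v : Fin c → B | ∃ i j : Fin c, v = Pi.single i (f j) - Pi.single j (f i)}) :
    ∃ (n : ℕ) (w : Fin c → A), (∀ i, phi I B (w i) = phi I B gt ^ n * v i) ∧
      ∑ i, w i * a i = 0 := by
  induction hv using Submodule.span_induction with
  | mem v hv =>
    obtain ⟨i, j, rfl⟩ := hv
    refine ⟨m, Pi.single i (a j) - Pi.single j (a i), fun k => ?_, ?_⟩
    · have e : ∀ (i' j' : Fin c), phi I B (Pi.single (M := fun _ => A) i' (a j') k) =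
          phi I B gt ^ m * Pi.single (M := fun _ => B) i' (f j') k := by
        intro i' j'
        by_cases hk : k = i'
        · subst hk
          rw [Pi.single_eq_same, Pi.single_eq_same, ha]
        · rw [Pi.single_eq_of_ne hk, Pi.single_eq_of_ne hk, map_zero, mul_zero]
      rw [Pi.sub_apply, Pi.sub_apply, map_sub, mul_sub, e i j, e j i]
    · have e : ∀ k, (Pi.single i (a j) - Pi.single j (a i) : Fin c → A) k * a k =
          Pi.single (M := fun _ => A) i (a j) k * a k - Pi.single (M := fun _ => A) j (a i) k * a k :=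
        fun k => by rw [Pi.sub_apply, sub_mul]
      rw [Finset.sum_congr rfl (fun k _ => e k), Finset.sum_sub_distrib, sum_single_mul,
        sum_single_mul, mul_comm, sub_self]
  | zero =>
    refine ⟨0, 0, fun i => ?_, ?_⟩
    · rw [Pi.zero_apply, Pi.zero_apply, map_zero, mul_zero]
    · exact Finset.sum_eq_zero (fun i _ => by rw [Pi.zero_apply, zero_mul])
  | add v v' _ _ ih ih' =>
    obtain ⟨n, w, h1, h2⟩ := ih
    obtain ⟨n', w', h1', h2'⟩ := ih'
    refine ⟨n + n', fun i => gt ^ n' * w i + gt ^ n * w' i, fun i => ?_, ?_⟩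
    · rw [map_add, map_mul, map_mul, map_pow, map_pow, h1, h1', Pi.add_apply]
      ring
    · have e : ∀ i, (gt ^ n' * w i + gt ^ n * w' i) * a i =
          gt ^ n' * (w i * a i) + gt ^ n * (w' i * a i) := fun i => by ring
      rw [Finset.sum_congr rfl (fun i _ => e i), Finset.sum_add_distrib, ← Finset.mul_sum,
        ← Finset.mul_sum, h2, h2', mul_zero, mul_zero, add_zero]
  | smul β v _ ih =>
    obtain ⟨n, w, h1, h2⟩ := ih
    obtain ⟨n', r, hr⟩ := lift_phi I gt B β
    refine ⟨n' + n, fun i => r * w i, fun i => ?_, ?_⟩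
    · rw [map_mul, h1, ← hr, Pi.smul_apply, smul_eq_mul]
      ring
    · have e : ∀ i, (r * w i) * a i = r * (w i * a i) := fun i => by ring
      rw [Finset.sum_congr rfl (fun i _ => e i), ← Finset.mul_sum, h2, mul_zero]

theorem span_lift {c : ℕ} (f : Fin c → B) (a : Fin c → A) (m : ℕ)
    (ha : ∀ i, phi I B (a i) = phi I B gt ^ m * f i) (y : B)
    (hy : y ∈ Submodule.span B (Set.range f)) :
    ∃ (n : ℕ) (r : Fin c → A), phi I B gt ^ n * y = phi I B (∑ i, r i * a i) := by
  induction hy using Submodule.span_induction with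
  | mem y hy =>
    obtain ⟨i, rfl⟩ := hy
    refine ⟨m, Pi.single i 1, ?_⟩
    rw [sum_single_mul, one_mul, ha]
  | zero =>
    refine ⟨0, 0, ?_⟩
    rw [mul_zero, Finset.sum_eq_zero (fun i _ => by rw [Pi.zero_apply, zero_mul]), map_zero]
  | add y y' _ _ ih ih' =>
    obtain ⟨n, r, h⟩ := ih
    obtain ⟨n', r', h'⟩ := ih'
    refine ⟨n + n', fun i => gt ^ n' * r i + gt ^ n * r' i, ?_⟩
    have e : ∑ i, (gt ^ n' * r i + gt ^ n * r' i) * a i =
        gt ^ n' * ∑ i, r i * a i + gt ^ n * ∑ i, r' i * a i := by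
      rw [Finset.mul_sum, Finset.mul_sum, ← Finset.sum_add_distrib]
      exact Finset.sum_congr rfl (fun i _ => by ring)
    rw [e, map_add, map_mul, map_mul, map_pow, map_pow, ← h, ← h']
    ring
  | smul β y _ ih =>
    obtain ⟨n, r, h⟩ := ih
    obtain ⟨n', s, hs⟩ := lift_phi I gt B β
    refine ⟨n' + n, fun i => s * r i, ?_⟩
    have e : ∑ i, (s * r i) * a i = s * ∑ i, r i * a i := by
      rw [Finset.mul_sum]
      exact Finset.sum_congr rfl (fun i _ => by ring)
    rw [e, map_mul, ← h, ← hs, smul_eq_mul]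
    ring

theorem sq_lift {c : ℕ} (f : Fin c → B) (a : Fin c → A) (m : ℕ)
    (ha : ∀ i, phi I B (a i) = phi I B gt ^ m * f i)
    (hspan : Ideal.span (Set.range f) =
      (J.map (Ideal.Quotient.mk I)).map (algebraMap (A ⧸ I) B))
    (x : A) (hx : x ∈ J ^ 2) :
    ∃ (L : ℕ) (b : Fin c → A), gt ^ L * x - ∑ i, b i * a i ∈ I * J := by
  have hx' : x ∈ J • J := by
    rw [smul_eq_mul, ← pow_two]
    exact hx
  refine Submodule.smul_induction_on hx' ?_ ?_
  · intro u hu v hv
    have hφv : phi I B v ∈ Submodule.span B (Set.range f) := by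
      have h1 : phi I B v ∈ (J.map (Ideal.Quotient.mk I)).map (algebraMap (A ⧸ I) B) := by
        rw [phi_apply]
        exact Ideal.mem_map_of_mem _ (Ideal.mem_map_of_mem _ hv)
      rw [← hspan] at h1
      exact h1
    obtain ⟨n, r, h⟩ := span_lift I gt B f a m ha _ hφv
    have hker : phi I B (gt ^ n * v - ∑ i, r i * a i) = 0 := by
      rw [map_sub, map_mul, map_pow, h, sub_self]
    obtain ⟨k, hk⟩ := ker_phi I gt B _ hker
    refine ⟨k + n, fun i => u * (gt ^ k * r i), ?_⟩
    have e : gt ^ (k + n) * (u • v) - ∑ i, (u * (gt ^ k * r i)) * a i =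
        (gt ^ k * (gt ^ n * v - ∑ i, r i * a i)) * u := by
      have e' : ∑ i, (u * (gt ^ k * r i)) * a i = u * gt ^ k * ∑ i, r i * a i := by
        rw [Finset.mul_sum]
        exact Finset.sum_congr rfl (fun i _ => by ring)
      rw [e', smul_eq_mul]
      ring
    rw [e]
    exact Ideal.mul_mem_mul hk hu
  · rintro x y ⟨L, b, h⟩ ⟨L', b', h'⟩
    refine ⟨L + L', fun i => gt ^ L' * b i + gt ^ L * b' i, ?_⟩
    have e : gt ^ (L + L') * (x + y) - ∑ i, (gt ^ L' * b i + gt ^ L * b' i) * a i =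
        gt ^ L' * (gt ^ L * x - ∑ i, b i * a i) + gt ^ L * (gt ^ L' * y - ∑ i, b' i * a i) := by
      have e' : ∑ i, (gt ^ L' * b i + gt ^ L * b' i) * a i =
          gt ^ L' * ∑ i, b i * a i + gt ^ L * ∑ i, b' i * a i := by
        rw [Finset.mul_sum, Finset.mul_sum, ← Finset.sum_add_distrib]
        exact Finset.sum_congr rfl (fun i _ => by ring)
      rw [e']
      ring
    rw [e]
    exact Ideal.add_mem _ (Ideal.mul_mem_left _ _ h) (Ideal.mul_mem_left _ _ h')

theorem main_local {c : ℕ} (f : Fin c → B) (hH1 : CAlgX.IsH1Regular f)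
    (hspan : Ideal.span (Set.range f) =
      (J.map (Ideal.Quotient.mk I)).map (algebraMap (A ⧸ I) B))
    (x : A) (hxI : x ∈ I) (hxJ : x ∈ J ^ 2) : ∃ N : ℕ, gt ^ N * x ∈ I * J := by
  have hP : ∃ m, ∀ i, ∃ a ∈ J, phi I B a = phi I B gt ^ m * f i := by
    refine uniform (fun i k => ∃ a ∈ J, phi I B a = phi I B gt ^ k * f i) ?_ ?_
    · rintro i k ⟨a, haJ, ha⟩
      refine ⟨gt * a, Ideal.mul_mem_left _ _ haJ, ?_⟩
      rw [map_mul, ha, pow_succ]
      ring
    · intro i
      have hfi : f i ∈ (J.map (Ideal.Quotient.mk I)).map (algebraMap (A ⧸ I) B) := by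
        rw [← hspan]
        exact Ideal.subset_span ⟨i, rfl⟩
      rw [IsLocalization.mem_map_algebraMap_iff (Submonoid.powers (Ideal.Quotient.mk I gt)) B]
        at hfi
      obtain ⟨⟨⟨jb, hjb⟩, ⟨_, k, rfl⟩⟩, e⟩ := hfi
      obtain ⟨a, haJ, rfl⟩ :=
        (Ideal.mem_map_iff_of_surjective _ Ideal.Quotient.mk_surjective).1 hjb
      refine ⟨k, a, haJ, ?_⟩
      rw [phi_apply, phi_apply, ← map_pow, mul_comm]
      exact e.symm
  obtain ⟨m, hm⟩ := hP
  choose a haJ ha using hm
  obtain ⟨L, b, hL⟩ := sq_lift I J gt B f a m ha hspan x hxJ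
  have hIJ' : I * J ≤ I := Ideal.mul_le_left
  have h0 : phi I B (∑ i, b i * a i) = 0 := by
    have e : ∑ i, b i * a i = gt ^ L * x - (gt ^ L * x - ∑ i, b i * a i) := by ring
    rw [e, map_sub, phi_eq_zero_of_mem I B (Ideal.mul_mem_left _ _ hxI),
      phi_eq_zero_of_mem I B (hIJ' hL), sub_zero]
  have hrel : ∑ i, phi I B (gt ^ m * b i) * f i = 0 := by
    rw [← h0, map_sum]
    refine Finset.sum_congr rfl (fun i _ => ?_)
    rw [map_mul, map_mul, ha, map_pow]
    ring
  have hv := hH1 (fun i => phi I B (gt ^ m * b i)) hrel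
  obtain ⟨n, w, hw1, hw2⟩ := pred_span I gt B f a m ha _ hv
  have hker : ∀ i, ∃ k, gt ^ k * (gt ^ n * (gt ^ m * b i) - w i) ∈ I := by
    intro i
    refine ker_phi I gt B _ ?_
    rw [map_sub, map_mul, map_pow, hw1, sub_self]
  obtain ⟨l, hl⟩ := uniform (fun i k => gt ^ k * (gt ^ n * (gt ^ m * b i) - w i) ∈ I)
    (fun i k h => by
      rw [pow_succ', mul_assoc]
      exact Ideal.mul_mem_left _ _ h) hker
  refine ⟨l + n + m + L, ?_⟩
  have e : gt ^ (l + n + m + L) * x = gt ^ (l + n + m) * (gt ^ L * x - ∑ i, b i * a i) +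
      ∑ i, (gt ^ l * (gt ^ n * (gt ^ m * b i) - w i)) * a i := by
    have e1 : ∑ i, (gt ^ l * (gt ^ n * (gt ^ m * b i) - w i)) * a i =
        gt ^ (l + n + m) * ∑ i, b i * a i - gt ^ l * ∑ i, w i * a i := by
      rw [Finset.mul_sum, Finset.mul_sum, ← Finset.sum_sub_distrib]
      exact Finset.sum_congr rfl (fun i _ => by ring)
    rw [e1, hw2]
    ring
  rw [e]
  exact Ideal.add_mem _ (Ideal.mul_mem_left _ _ hL)
    (Ideal.sum_mem _ (fun i _ => Ideal.mul_mem_mul (hl i) (haJ i)))

end ML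

/-- Let `A` be a ring and `I ⊆ J` ideals of `A` such that the ideal `J/I` of `A/I` is `H_1`-regular: for
every prime `𝔮` of `A/I` containing `J/I` there is `g ∉ 𝔮` such that the extension of `J/I` to
`(A/I)_g` is generated by an `H_1`-regular sequence (a finite sequence all of whose linear relations
are combinations of the trivial ones). Then `I ∩ J² = I J`. -/
theorem result {A : Type u} [CommRing A] (I J : Ideal A)
    (hIJ : I ≤ J)
    (h : ∀ (𝔮 : Ideal (A ⧸ I)) [𝔮.IsPrime], J.map (Ideal.Quotient.mk I) ≤ 𝔮 →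
      ∃ g : A ⧸ I, g ∉ 𝔮 ∧ ∃ (c : ℕ) (f : Fin c → Localization.Away g),
        CAlgX.IsH1Regular f ∧
          Ideal.span (Set.range f) =
            (J.map (Ideal.Quotient.mk I)).map (algebraMap (A ⧸ I) (Localization.Away g))) :
    I ⊓ J ^ 2 = I * J := by
  refine le_antisymm ?_ (le_inf Ideal.mul_le_left ?_)
  · intro x hx
    obtain ⟨hxI, hxJ⟩ := hx
    by_contra hxn
    have hne : (I * J).colon {x} ≠ ⊤ := by
      intro htop
      apply hxn
      have h1 : (1 : A) ∈ (I * J).colon {x} := by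
        rw [htop]
        trivial
      rw [Submodule.mem_colon_singleton, one_smul] at h1
      exact h1
    obtain ⟨𝔪, h𝔪, hle⟩ := Ideal.exists_le_maximal _ hne
    have hI𝔪 : I ≤ 𝔪 := by
      intro t ht
      apply hle
      rw [Submodule.mem_colon_singleton, smul_eq_mul]
      exact Ideal.mul_mem_mul ht (Ideal.pow_le_self two_ne_zero hxJ)
    by_cases hJ : J ≤ 𝔪
    · have hprime : (𝔪.map (Ideal.Quotient.mk I)).IsPrime :=
        Ideal.map_isPrime_of_surjective Ideal.Quotient.mk_surjective (by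
          rw [Ideal.mk_ker]
          exact hI𝔪)
      obtain ⟨g, hg, c, f, hH1, hspan⟩ := h (𝔪.map (Ideal.Quotient.mk I)) (Ideal.map_mono hJ)
      obtain ⟨gt, rfl⟩ := Ideal.Quotient.mk_surjective g
      obtain ⟨N, hN⟩ := main_local I J gt (Localization.Away (Ideal.Quotient.mk I gt)) f hH1 hspan
        x hxI hxJ
      apply hg
      apply Ideal.mem_map_of_mem
      have hmem : gt ^ N ∈ 𝔪 := hle (by
        rw [Submodule.mem_colon_singleton, smul_eq_mul]
        exact hN)
      exact h𝔪.isPrime.mem_of_pow_mem N hmem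
    · obtain ⟨s, hsJ, hs𝔪⟩ := SetLike.not_le_iff_exists.1 hJ
      apply hs𝔪
      apply hle
      rw [Submodule.mem_colon_singleton, smul_eq_mul, Ideal.mul_comm]
      exact Ideal.mul_mem_mul hsJ hxI
  · rw [pow_two]
    exact Ideal.mul_mono_left hIJ

end Groth.Agent.S9325
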