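import Groth.Statements.S9326
import Mathlib
-- import your own Groth.Agent.* helpers here

set_option autoImplicit false
universe u
open CAlg

namespace Groth.Agent.S9326


open Filter Topology

theorem not_both {N M : Type u} [AddCommGroup N] [AddCommGroup M] [TopologicalSpace N]
    [TopologicalSpace M] (u : N →+ M) (hopen : IsOpenMap u) (V : OpenAddSubgroup N)
    (hV : IsNowhereDense (u '' (V : Set N))) : False := by
  have h1 : IsOpen (u '' (V : Set N)) := hopen _ V.isOpen
  have h2 : u '' (V : Set N) ⊆ interior (closure (u '' (V : Set N))) :=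
    interior_maximal subset_closure h1
  have h3 : (0 : M) ∈ u '' (V : Set N) := ⟨0, zero_mem V, map_zero u⟩
  have h4 := h2 h3
  rw [show interior (closure (u '' (V : Set N))) = ∅ from hV] at h4
  exact h4

theorem isOpenMap_of_forall {N M : Type u} [AddCommGroup N] [AddCommGroup M] [UniformSpace N]
    [IsUniformAddGroup N] [TopologicalSpace M] [IsTopologicalAddGroup M] [T2Space M]
    [CompleteSpace N] [NonarchimedeanAddGroup N] [FirstCountableTopology N]
    (u : N →+ M) (hu : Continuous u)
    (h : ∀ V : OpenAddSubgroup N, ¬ IsNowhereDense (u '' (V : Set N))) : IsOpenMap u := by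
  have hWopen : ∀ V : OpenAddSubgroup N, IsOpen (closure (u '' (V : Set N))) := by
    intro V
    have hne : (interior (closure (u '' (V : Set N)))).Nonempty :=
      Set.nonempty_iff_ne_empty.2 (h V)
    obtain ⟨g, hg⟩ := hne
    have hcl : (((V : AddSubgroup N).map u).topologicalClosure : Set M) =
        closure (u '' (V : Set N)) := by
      rw [AddSubgroup.topologicalClosure_coe, AddSubgroup.coe_map]; rfl
    rw [← hcl]
    apply AddSubgroup.isOpen_of_mem_nhds _ (g := g)
    rw [hcl]
    exact mem_interior_iff_mem_nhds.1 hg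
  have hzero : ∀ V : OpenAddSubgroup N, u '' (V : Set N) ∈ 𝓝 (0 : M) := by
    intro V
    obtain ⟨B, hB⟩ := (𝓝 (0 : N)).exists_antitone_basis
    have hV' : ∀ n, ∃ V' : OpenAddSubgroup N, (V' : Set N) ⊆ B n := fun n =>
      NonarchimedeanAddGroup.is_nonarchimedean (B n) (hB.toHasBasis.mem_of_mem trivial)
    choose V' hV' using hV'
    obtain ⟨Vn, hVnV, hVnB⟩ : ∃ Vn : ℕ → OpenAddSubgroup N,
        (∀ n, ∀ x ∈ Vn n, x ∈ V) ∧ ∀ n, ∀ x ∈ Vn n, x ∈ B n :=
      ⟨fun n => V ⊓ V' n, fun n x hx => (OpenAddSubgroup.mem_inf.1 hx).1,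
        fun n x hx => hV' n (OpenAddSubgroup.mem_inf.1 hx).2⟩
    have hW0 : ∀ n, (0 : M) ∈ closure (u '' (Vn n : Set N)) := fun n =>
      subset_closure ⟨0, zero_mem (Vn n), map_zero u⟩
    have hWn : ∀ n, closure (u '' (Vn n : Set N)) ∈ 𝓝 (0 : M) := fun n =>
      (hWopen (Vn n)).mem_nhds (hW0 n)
    have hstep : ∀ n (z : M), z ∈ closure (u '' (Vn n : Set N)) →
        ∃ x, x ∈ Vn n ∧ z - u x ∈ closure (u '' (Vn (n+1) : Set N)) := by
      intro n z hz
      have hnhds : (fun w => z - w) ⁻¹' closure (u '' (Vn (n+1) : Set N)) ∈ 𝓝 z := by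
        have hc : ContinuousAt (fun w : M => z - w) z :=
          (continuous_const.sub continuous_id).continuousAt
        apply hc.preimage_mem_nhds
        rw [sub_self]
        exact hWn (n+1)
      obtain ⟨w, hw1, x, hx, rfl⟩ := mem_closure_iff_nhds.1 hz _ hnhds
      exact ⟨x, hx, hw1⟩
    choose! f hf using hstep
    have hsub : closure (u '' (Vn 0 : Set N)) ⊆ u '' (V : Set N) := by
      intro y hy
      obtain ⟨Z, hZ0, hZs⟩ : ∃ Z : ℕ → M, Z 0 = y ∧ ∀ n, Z (n+1) = Z n - u (f n (Z n)) :=
        ⟨fun n => Nat.rec y (fun n z => z - u (f n z)) n, rfl, fun n => rfl⟩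
      have hZmem : ∀ n, Z n ∈ closure (u '' (Vn n : Set N)) := by
        intro n
        induction n with
        | zero => rw [hZ0]; exact hy
        | succ n ih => rw [hZs]; exact (hf n (Z n) ih).2
      have hxV : ∀ n, f n (Z n) ∈ Vn n := fun n => (hf n (Z n) (hZmem n)).1
      obtain ⟨s, hs0, hss⟩ : ∃ s : ℕ → N, s 0 = 0 ∧ ∀ n, s (n+1) = s n + f n (Z n) :=
        ⟨fun n => ∑ i ∈ Finset.range n, f i (Z i), Finset.sum_range_zero _,
          fun n => Finset.sum_range_succ _ n⟩
      have hZy : ∀ n, Z n = y - u (s n) := by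
        intro n
        induction n with
        | zero => rw [hZ0, hs0, map_zero, sub_zero]
        | succ n ih => rw [hZs, hss, map_add, ih]; abel
      have hxlim : Tendsto (fun n => f n (Z n)) atTop (𝓝 0) :=
        hB.tendsto (fun n => hVnB n _ (hxV n))
      have hcauchy : CauchySeq s := by
        apply NonarchimedeanAddGroup.cauchySeq_of_tendsto_sub_nhds_zero
        have hfe : (fun n => s (n+1) - s n) = fun n => f n (Z n) := by
          funext n; rw [hss]; abel
        rw [hfe]; exact hxlim
      obtain ⟨xl, hxl⟩ := cauchySeq_tendsto_of_complete hcauchy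
      have hsV : ∀ n, s n ∈ V := by
        intro n
        induction n with
        | zero => rw [hs0]; exact zero_mem V
        | succ n ih => rw [hss]; exact add_mem ih (hVnV n _ (hxV n))
      have hxlV : xl ∈ (V : Set N) :=
        V.isClosed.mem_of_tendsto hxl (Filter.Eventually.of_forall hsV)
      have h1 : Tendsto Z atTop (𝓝 (y - u xl)) := by
        have hZe : Z = fun n => y - u (s n) := funext hZy
        rw [hZe]
        exact tendsto_const_nhds.sub ((hu.tendsto xl).comp hxl)
      have h2 : Tendsto Z atTop (𝓝 0) := by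
        rw [Filter.tendsto_def]
        intro O hO
        obtain ⟨O', hO', hO'c, hO'O⟩ := exists_mem_nhds_isClosed_subset hO
        have hpre : u ⁻¹' O' ∈ 𝓝 (0 : N) := by
          apply hu.continuousAt.preimage_mem_nhds
          rw [map_zero]; exact hO'
        obtain ⟨m, -, hm⟩ := hB.toHasBasis.mem_iff.1 hpre
        rw [Filter.mem_atTop_sets]
        refine ⟨m, fun n hn => ?_⟩
        apply hO'O
        have hcl : closure (u '' (Vn n : Set N)) ⊆ O' := by
          apply closure_minimal _ hO'c
          rintro _ ⟨a, ha, rfl⟩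
          exact hm (hB.antitone hn (hVnB n a ha))
        exact hcl (hZmem n)
      have h3 : y - u xl = 0 := tendsto_nhds_unique h1 h2
      exact ⟨xl, hxlV, (sub_eq_zero.1 h3).symm⟩
    exact Filter.mem_of_superset (hWn 0) hsub
  apply IsOpenMap.of_nhds_le
  intro a S hS
  have hS' : u ⁻¹' S ∈ 𝓝 a := hS
  have hT : (fun x => a + x) ⁻¹' (u ⁻¹' S) ∈ 𝓝 (0 : N) := by
    have hc : ContinuousAt (fun x : N => a + x) 0 :=
      (continuous_const.add continuous_id).continuousAt
    apply hc.preimage_mem_nhds
    rw [add_zero]; exact hS'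
  obtain ⟨V, hV⟩ := NonarchimedeanAddGroup.is_nonarchimedean _ hT
  have hpre : (fun m => m - u a) ⁻¹' (u '' (V : Set N)) ∈ 𝓝 (u a) := by
    have hc : ContinuousAt (fun m : M => m - u a) (u a) :=
      (continuous_id.sub continuous_const).continuousAt
    apply hc.preimage_mem_nhds
    rw [sub_self]; exact hzero V
  refine Filter.mem_of_superset hpre ?_
  rintro m ⟨v, hv, hvm⟩
  have hvm' : u v = m - u a := hvm
  have hm : m = u (a + v) := by rw [map_add, hvm']; abel
  rw [hm]; exact hV hv



/-- Let `u : N → M` be a continuous homomorphism of topological abelian groups. Assume `M` is Hausdorff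
and `N` is Hausdorff and complete, linearly topologized (every neighbourhood of zero contains an
open subgroup) and first countable (zero has a countable basis of neighbourhoods). Then exactly one
of two things holds: `u` is an open map; or there is an open subgroup of `N` whose image is nowhere
dense in `M`. -/
theorem result {N M : Type u} [AddCommGroup N]
    [AddCommGroup M] [UniformSpace N] [IsUniformAddGroup N] [TopologicalSpace M]
    [IsTopologicalAddGroup M] [T2Space M] [T2Space N] [CompleteSpace N] [NonarchimedeanAddGroup N]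
    [FirstCountableTopology N] (u : N →+ M) (hu : Continuous u) :
    Xor (IsOpenMap u) (∃ V : OpenAddSubgroup N, IsNowhereDense (u '' (V : Set N))) := by
  by_cases h : ∃ V : OpenAddSubgroup N, IsNowhereDense (u '' (V : Set N))
  · obtain ⟨V, hV⟩ := h
    exact Or.inr ⟨⟨V, hV⟩, fun hopen => not_both u hopen V hV⟩
  · exact Or.inl ⟨isOpenMap_of_forall u hu (fun V hV => h ⟨V, hV⟩), h⟩

end Groth.Agent.S9326
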