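import Groth.Statements.S9330
import Groth.Agent.H3.PH9

set_option autoImplicit false
universe u
open Hensel

namespace Groth.Agent.S9330

/-- Let `(A_i, I_i)` be a directed system of pairs (rings `A_i` with ideals `I_i`, the transition maps
sending `I_i` into `I_j`), with colimit ring `A` and `I ⊆ A` the ideal generated by (equivalently,
the union of) the images of the `I_i`. For each `i` let `B_i` be a henselization of the pair `(A_i,
I_i)`, with the compatible transition maps `B_i → B_j` over `A_i → A_j` (these are the induced ones,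
being unique), and give the colimit of the `B_i` the `A`-algebra structure induced by the maps `A_i
→ B_i`. Then `colim B_i`, with the extension of `I`, is a henselization of the pair `(A, I)`. (The
index set is taken in the universe of the rings; the statement fails for non-filtered colimits.) -/
theorem result {ι : Type u} [Preorder ι] [IsDirectedOrder ι] [Nonempty ι]
    (G : ι → Type u) [∀ i, CommRing (G i)] (f : ∀ i j : ι, i ≤ j → (G i →+* G j))
    [DirectedSystem G (fun i j h => f i j h)] (I : ∀ i, Ideal (G i))
    (hI : ∀ (i j : ι) (h : i ≤ j), (I i).map (f i j h) ≤ I j)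
    (B : ι → Type u) [∀ i, CommRing (B i)] [∀ i, Algebra (G i) (B i)]
    (hB : ∀ i, Hens2.IsPairHenselization (G i) (I i) (B i))
    (g : ∀ i j : ι, i ≤ j → (B i →+* B j)) [DirectedSystem B (fun i j h => g i j h)]
    (hg : ∀ (i j : ι) (h : i ≤ j), (g i j h).comp (algebraMap (G i) (B i)) = (algebraMap (G j) (B j)).comp (f i j h))
    [Algebra (DirectLimit G f) (DirectLimit B g)]
    (halg : ∀ (i : ι) (x : G i), algebraMap (DirectLimit G f) (DirectLimit B g) (DirectLimit.Ring.of G f i x) =
      DirectLimit.Ring.of B g i (algebraMap (G i) (B i) x)) :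
    Hens2.IsPairHenselization (DirectLimit G f) (⨆ i, (I i).map (DirectLimit.Ring.of G f i))
      (DirectLimit B g) := by
  have hcomp : ∀ i, (algebraMap (DirectLimit G f) (DirectLimit B g)).comp
      (DirectLimit.Ring.of G f i) =
      (DirectLimit.Ring.of B g i).comp (algebraMap (G i) (B i)) :=
    fun i => RingHom.ext fun x => halg i x
  let J : ∀ i, Ideal (B i) := fun i => (I i).map (algebraMap (G i) (B i))
  have hJ : ∀ (i j : ι) (h : i ≤ j), (J i).map (g i j h) ≤ J j := by
    intro i j h
    show ((I i).map (algebraMap (G i) (B i))).map (g i j h) ≤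
      (I j).map (algebraMap (G j) (B j))
    rw [Ideal.map_map, hg i j h, ← Ideal.map_map]
    exact Ideal.map_mono (hI i j h)
  haveI : ∀ i, HenselianRing (B i) (J i) := fun i => (hB i).1
  have hHens := Groth.Agent.H3.PH.Lim.henselian_directLimit B g J hJ
  have hideal : (⨆ i, (I i).map (DirectLimit.Ring.of G f i)).map
      (algebraMap (DirectLimit G f) (DirectLimit B g)) =
      Groth.Agent.H3.PH.Lim.limIdeal B g J := by
    unfold Groth.Agent.H3.PH.Lim.limIdeal
    rw [Ideal.map_iSup]
    congr 1
    funext i
    show ((I i).map _).map _ = ((I i).map _).map _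
    rw [Ideal.map_map, Ideal.map_map, hcomp i]
  refine ⟨hideal ▸ hHens, ?_⟩
  intro C _ K φ hC hφ
  have hφi : ∀ i, (I i).map (φ.comp (DirectLimit.Ring.of G f i)) ≤ K := by
    intro i
    rw [← Ideal.map_map]
    exact (Ideal.map_mono
      (le_iSup (fun i => (I i).map (DirectLimit.Ring.of G f i)) i)).trans hφ
  choose γ hγ hγuniq using fun i =>
    (hB i).2 C K (φ.comp (DirectLimit.Ring.of G f i)) hC (hφi i)
  have hcompat : ∀ i j (h : i ≤ j) (x : B i), γ j (g i j h x) = γ i x := by
    intro i j h x
    have : (γ j).comp (g i j h) = γ i := by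
      apply hγuniq i
      show ((γ j).comp (g i j h)).comp (algebraMap (G i) (B i)) = _
      rw [RingHom.comp_assoc, hg i j h, ← RingHom.comp_assoc, hγ j, RingHom.comp_assoc]
      congr 1
      ext y
      exact DirectLimit.Ring.of_f h y
    exact RingHom.congr_fun this x
  refine ⟨DirectLimit.Ring.lift B g C γ hcompat, ?_, ?_⟩
  · apply DirectLimit.Ring.hom_ext
    intro i
    rw [RingHom.comp_assoc, hcomp i, ← RingHom.comp_assoc, DirectLimit.Ring.lift_comp_of, hγ i]
  · intro γ' hγ'
    apply DirectLimit.Ring.hom_ext
    intro i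
    rw [DirectLimit.Ring.lift_comp_of]
    apply hγuniq i
    show (γ'.comp (DirectLimit.Ring.of B g i)).comp (algebraMap (G i) (B i)) = _
    rw [RingHom.comp_assoc, ← hcomp i, ← RingHom.comp_assoc, hγ']

end Groth.Agent.S9330
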