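import Groth.Statements.S9331
import Mathlib

set_option autoImplicit false
universe u
open QFin

namespace Groth.Agent.S9331

open AlgebraicGeometry CategoryTheory in
/-- Let f : X → S be a morphism of schemes, x ∈ X, s = f x. If κ(x) is algebraic over κ(s) (through the
residue field map of f at x), then x is a closed point of the fibre X_s, and if in addition s is
closed in S then x is closed in X. -/
theorem result {X S : Scheme.{u}} (f : X ⟶ S) (x : X)
    (halg : @Algebra.IsAlgebraic (S.residueField (f.base x)) (X.residueField x) _ _ (f.residueFieldMap x).hom.toAlgebra) :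
    IsClosed ({f.asFiber x} : Set ↑(f.fiber (f.base x))) ∧
      (IsClosed ({f.base x} : Set ↑S) → IsClosed ({x} : Set ↑X)) := by
  have h1 : IsClosed ({f.asFiber x} : Set ↑(f.fiber (f.base x))) := by
    have hint : (f.residueFieldMap x).hom.IsIntegral := by
      letI := (f.residueFieldMap x).hom.toAlgebra
      haveI := halg
      intro z
      exact (Algebra.IsIntegral.isIntegral (R := S.residueField (f.base x)) z)
    have hII : IsIntegralHom (f.asFiberHom x ≫ f.fiberToSpecResidueField (f.base x)) := by
      rw [f.asFiberHom_fiberToSpecResidueField x]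
      exact IsIntegralHom.SpecMap_iff.mpr hint
    rw [← closure_subset_iff_isClosed]
    intro z hz
    rw [← specializes_iff_mem_closure] at hz
    by_contra hne
    obtain ⟨U, hU, hzU, -⟩ := exists_isAffineOpen_mem_and_subset (x := z)
      (U := (⊤ : (f.fiber (f.base x)).Opens)) trivial
    have hyU : f.asFiber x ∈ U := hz.mem_open U.2 hzU
    have hrange : Set.range (f.asFiberHom x) ⊆ Set.range U.ι := by
      rw [f.range_asFiberHom x, Scheme.Opens.range_ι]
      exact Set.singleton_subset_iff.mpr hyU
    let h' := IsOpenImmersion.lift U.ι (f.asFiberHom x) hrange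
    have hfac : h' ≫ U.ι = f.asFiberHom x := IsOpenImmersion.lift_fac _ _ _
    haveI : IsAffine ↑U := hU
    haveI : IsIntegralHom (h' ≫ (U.ι ≫ f.fiberToSpecResidueField (f.base x))) := by
      rw [← Category.assoc, hfac]
      exact hII
    have hI' : IsIntegralHom h' :=
      IsIntegralHom.of_comp h' (U.ι ≫ f.fiberToSpecResidueField (f.base x))
    have hcl : IsClosed (Set.range h') := h'.isClosedMap.isClosed_range
    have hopen : IsOpen (U.ι '' (Set.range h')ᶜ) :=
      U.ι.isOpenEmbedding.isOpenMap _ hcl.isOpen_compl
    have hzO : z ∈ U.ι '' (Set.range h')ᶜ := by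
      refine ⟨⟨z, hzU⟩, ?_, rfl⟩
      rintro ⟨t, ht⟩
      apply hne
      have e : (f.asFiberHom x) t = z := by
        rw [← hfac, Scheme.Hom.comp_apply, ht]
        rfl
      rw [← e, f.asFiberHom_apply]
      exact Set.mem_singleton _
    have hyO : f.asFiber x ∈ U.ι '' (Set.range h')ᶜ := hz.mem_open hopen hzO
    obtain ⟨w, hw, hwy⟩ := hyO
    apply hw
    let t : Spec (X.residueField x) := IsLocalRing.closedPoint (X.residueField x)
    refine ⟨t, ?_⟩
    apply U.ι.isOpenEmbedding.injective
    have e : (h' ≫ U.ι) t = f.asFiber x := by rw [hfac, f.asFiberHom_apply]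
    exact (Scheme.Hom.comp_apply h' U.ι t).symm.trans (e.trans hwy.symm)
  refine ⟨h1, fun hs => ?_⟩
  have hci : IsClosedImmersion (S.fromSpecResidueField (f.base x)) :=
    isClosed_singleton_iff_isClosedImmersion.mp hs
  have hci2 : IsClosedImmersion (f.fiberι (f.base x)) :=
    MorphismProperty.pullback_fst _ _ hci
  have := (f.fiberι (f.base x)).isClosedEmbedding.isClosedMap _ h1
  rwa [Set.image_singleton, f.fiberι_asFiber] at this

end Groth.Agent.S9331
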