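import Groth.Statements.S9332
import Mathlib

set_option autoImplicit false
universe u
open QFin

namespace Groth.Agent.S9332

open AlgebraicGeometry CategoryTheory in
/-- Let f : X → S be locally of finite type and x ∈ X. Then x is closed in its fibre X_{f x} if and only
if κ(x) is a finite extension of κ(f x) (via the residue field map of f at x). -/
theorem result {X S : Scheme.{u}} (f : X ⟶ S) [LocallyOfFiniteType f] (x : X) :
    IsClosed ({f.asFiber x} : Set ↑(f.fiber (f.base x))) ↔ (f.residueFieldMap x).hom.Finite := by
  have hLOFT : LocallyOfFiniteType (f.fiberToSpecResidueField (f.base x)) :=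
    MorphismProperty.pullback_snd _ _ inferInstance
  rw [← IsFinite.SpecMap_iff, ← f.asFiberHom_fiberToSpecResidueField x, ← f.range_asFiberHom x]
  constructor
  · intro hcl
    have : IsClosedImmersion (f.asFiberHom x) := .of_isPreimmersion _ hcl
    have : LocallyOfFiniteType (f.asFiberHom x ≫ f.fiberToSpecResidueField (f.base x)) :=
      inferInstance
    exact isFinite_iff_locallyOfFiniteType_of_jacobsonSpace.mpr this
  · intro hfin
    have : LocallyOfFiniteType (f.asFiberHom x ≫ f.fiberToSpecResidueField (f.base x)) :=
      inferInstance
    have : LocallyOfFiniteType (f.asFiberHom x) :=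
      locallyOfFiniteType_of_comp _ (f.fiberToSpecResidueField (f.base x))
    have : IsFinite (f.asFiberHom x) := isFinite_iff_locallyOfFiniteType_of_jacobsonSpace.mpr this
    exact (f.asFiberHom x).isClosedMap.isClosed_range

end Groth.Agent.S9332
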