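import Groth.Statements.S9333
import Mathlib

set_option autoImplicit false
universe u
open QFin

namespace Groth.Agent.S9333

open AlgebraicGeometry CategoryTheory Limits in
lemma isClosed_singleton_fiber_of_asFiber {X S : Scheme.{u}} (f : X ⟶ S)
    (s : S) (z : f.fiber s) (x : X) (hx : f.fiberι s z = x)
    (hcl : IsClosed ({f.asFiber x} : Set (f.fiber (f x)))) : IsClosed ({z} : Set (f.fiber s)) := by
  have hs : f x = s := by
    have : x ∈ Set.range (f.fiberι s) := ⟨z, hx⟩
    rw [f.range_fiberι] at this
    exact this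
  subst hs
  have hz' : z = f.asFiber x := by
    apply (f.fiberι (f x)).isEmbedding.injective
    rw [hx, f.fiberι_asFiber]
  rw [hz']
  exact hcl

open AlgebraicGeometry CategoryTheory Limits in
lemma key {X S : Scheme.{u}} (f : X ⟶ S) [LocallyOfFiniteType f] {F' K' X' : Scheme.{u}}
    [Subsingleton K'] (s : S)
    (H : F' ⟶ f.fiber s) (a : F' ⟶ K') (c : K' ⟶ Spec (S.residueField s))
    (hpb : IsPullback H a (f.fiberToSpecResidueField s) c)
    (ι' : F' ⟶ X') (g' : X' ⟶ X) (hcomm : H ≫ f.fiberι s = ι' ≫ g')
    (z' : F') (x : X) (hxz : g' (ι' z') = x)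
    (hcl : IsClosed ({f.asFiber x} : Set (f.fiber (f x)))) : IsClosed ({z'} : Set F') := by
  have hz : IsClosed ({H z'} : Set (f.fiber s)) := by
    refine isClosed_singleton_fiber_of_asFiber f s (H z') x ?_ hcl
    rw [← Scheme.Hom.comp_apply, hcomm, Scheme.Hom.comp_apply, hxz]
  have hci : IsClosedImmersion ((f.fiber s).fromSpecResidueField (H z')) :=
    isClosed_singleton_iff_isClosedImmersion.mp hz
  have hL : LocallyOfFiniteType (f.fiberToSpecResidueField s) :=
    MorphismProperty.pullback_snd _ _ inferInstance
  have hfin : IsFinite ((f.fiber s).fromSpecResidueField (H z') ≫ f.fiberToSpecResidueField s) :=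
    isFinite_iff_locallyOfFiniteType_of_jacobsonSpace.mpr inferInstance
  have hleft : IsPullback (pullback.fst H ((f.fiber s).fromSpecResidueField (H z')))
      (pullback.snd H ((f.fiber s).fromSpecResidueField (H z'))) H
      ((f.fiber s).fromSpecResidueField (H z')) := IsPullback.of_hasPullback _ _
  have hbig := hleft.paste_horiz hpb.flip
  have hq : IsFinite (pullback.fst H ((f.fiber s).fromSpecResidueField (H z')) ≫ a) :=
    MorphismProperty.of_isPullback (P := @IsFinite) hbig.flip hfin
  have hdisc : _root_.IsDiscrete ((pullback.fst H ((f.fiber s).fromSpecResidueField (H z')) ≫ a) ⁻¹'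
      {a z'}) := Scheme.Hom.isDiscrete_preimage_singleton _ _
  have huniv : ((pullback.fst H ((f.fiber s).fromSpecResidueField (H z')) ≫ a) ⁻¹' {a z'}) =
      Set.univ := by
    ext w
    simp only [Set.mem_preimage, Set.mem_singleton_iff, Set.mem_univ, iff_true]
    exact Subsingleton.elim _ _
  rw [huniv, isDiscrete_univ_iff] at hdisc
  have hjci : IsClosedImmersion (pullback.fst H ((f.fiber s).fromSpecResidueField (H z'))) :=
    MorphismProperty.pullback_fst _ _ hci
  have hmem : z' ∈ Set.range (pullback.fst H ((f.fiber s).fromSpecResidueField (H z'))) := by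
    rw [Scheme.Pullback.range_fst, Scheme.range_fromSpecResidueField]
    rfl
  obtain ⟨w, hw⟩ := hmem
  have h1 := (pullback.fst H ((f.fiber s).fromSpecResidueField (H z'))).isClosedEmbedding.isClosedMap
    _ (isClosed_discrete {w})
  rwa [Set.image_singleton, hw] at h1

open AlgebraicGeometry CategoryTheory in
/-- Let f : X → S be locally of finite type, g : S' → S any morphism and X' = X ×_S S' with projections
g' : X' → X and f' : X' → S'. If x' ∈ X' maps to x ∈ X and x is closed in the fibre X_{f x}, then x'
is closed in the fibre X'_{f' x'}. -/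
theorem result {X S X' S' : Scheme.{u}} (f : X ⟶ S) [LocallyOfFiniteType f] (g : S' ⟶ S)
    (g' : X' ⟶ X) (f' : X' ⟶ S') (hsq : IsPullback g' f' f g) (x' : X')
    (hx : IsClosed ({f.asFiber (g'.base x')} : Set ↑(f.fiber (f.base (g'.base x'))))) :
    IsClosed ({f'.asFiber x'} : Set ↑(f'.fiber (f'.base x'))) := by
  have hpb := isPullback_fiberToSpecResidueField_of_isPullback hsq (f' x')
  exact key f (g (f' x')) _ _ _ hpb (f'.fiberι (f' x')) g' (Limits.pullback.lift_fst _ _ _)
    (f'.asFiber x') (g' x') (congrArg g' (f'.fiberι_asFiber x')) hx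

end Groth.Agent.S9333
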