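import Groth.Statements.S9335
import Mathlib.AlgebraicGeometry.Noetherian
import Mathlib.Topology.NoetherianSpace

set_option autoImplicit false
universe u
open QFin

namespace Groth.Agent.S9335

lemma finite_open_points (α : Type*) [TopologicalSpace α] [TopologicalSpace.NoetherianSpace α] :
    {y : α | IsOpen ({y} : Set α)}.Finite := by
  have hc : IsCompact {y : α | IsOpen ({y} : Set α)} :=
    TopologicalSpace.NoetherianSpace.isCompact _
  apply hc.finite
  rw [isDiscrete_iff_forall_mem_exists_isOpen]
  intro y hy
  refine ⟨{y}, hy, ?_⟩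
  ext z
  simp only [Set.mem_inter_iff, Set.mem_singleton_iff, Set.mem_setOf_eq]
  constructor
  · exact fun h => h.1
  · rintro rfl
    exact ⟨rfl, hy⟩

open AlgebraicGeometry CategoryTheory in
/-- If f : X → S is of finite type and s ∈ S, then f is quasi-finite at only finitely many points of the
fibre over s. -/
theorem result {X S : Scheme.{u}} (f : X ⟶ S) [LocallyOfFiniteType f] [QuasiCompact f] (s : S) :
    {x : ↑X | f.base x = s ∧ f.QuasiFiniteAt x}.Finite := by
  have : IsLocallyNoetherian (f.fiber s) := by
    unfold Scheme.Hom.fiber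
    infer_instance
  have : IsNoetherian (f.fiber s) := {}
  have hfin : {y : f.fiber s | IsOpen ({y} : Set (f.fiber s))}.Finite := finite_open_points _
  refine (hfin.image (f.fiberι s)).subset ?_
  rintro x ⟨rfl, hx⟩
  refine ⟨f.asFiber x, ?_, f.fiberι_asFiber x⟩
  exact Scheme.Hom.quasiFiniteAt_iff_isOpen_singleton_asFiber.mp hx

end Groth.Agent.S9335
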