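import Groth.Statements.S9336
import Mathlib
import Groth.Agent.S9332
import Groth.Agent.S9333

set_option autoImplicit false
universe u
open QFin

namespace Groth.Agent.S9336

open AlgebraicGeometry CategoryTheory Limits in
lemma discreteTopology_of_forall_isClosed (W : Scheme.{u}) [IsLocallyNoetherian W]
    (h : ∀ w : W, IsClosed ({w} : Set W)) : DiscreteTopology W := by
  have hdim : topologicalKrullDim W ≤ 0 := by
    refine Order.krullDim_nonpos_iff_forall_isMax.mpr fun Z Z' hZZ' => ?_
    obtain ⟨η, hη⟩ := QuasiSober.sober Z'.isIrreducible Z'.isClosed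
    have hZ' : (Z' : Set W) = {η} := by
      rw [← hη.def, (h η).closure_eq]
    obtain ⟨z, hz⟩ := Z.isIrreducible.nonempty
    have hzη : z = η := by
      have h1 : z ∈ (Z' : Set W) := hZZ' hz
      rw [hZ'] at h1
      exact h1
    intro w hw
    have h2 : w ∈ (Z' : Set W) := hw
    rw [hZ'] at h2
    have h3 : w = η := h2
    rw [h3, ← hzη]
    exact hz
  have := IsLocallyArtinian.of_topologicalKrullDim_le_zero hdim
  infer_instance

lemma finite_of_comp {K L M : Type*} [Field K] [Field L] [Field M] (φ : K →+* L) (ψ : L →+* M)
    (h : (ψ.comp φ).Finite) : φ.Finite := by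
  algebraize [φ, ψ, ψ.comp φ]
  have : Module.Finite K M := h
  exact Module.Finite.of_injective (IsScalarTower.toAlgHom K L M).toLinearMap ψ.injective

open AlgebraicGeometry CategoryTheory in
/-- Let f : X → Y be surjective and g : Y → S locally of finite type. If g ∘ f is locally quasi-finite
(and locally of finite type), then g is locally quasi-finite. -/
theorem result {X Y S : Scheme.{u}} (f : X ⟶ Y) (g : Y ⟶ S) [Surjective f]
    [LocallyQuasiFinite (f ≫ g)] [LocallyOfFiniteType (f ≫ g)] [LocallyOfFiniteType g] :
    LocallyQuasiFinite g := by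
  rw [locallyQuasiFinite_iff_isDiscrete_preimage_singleton]
  intro s
  have hNoeth : IsLocallyNoetherian (g.fiber s) := by
    unfold Scheme.Hom.fiber
    infer_instance
  have hcl : ∀ w : g.fiber s, IsClosed ({w} : Set (g.fiber s)) := by
    intro w
    obtain ⟨x, hx⟩ := f.surjective (g.fiberι s w)
    refine Groth.Agent.S9333.isClosed_singleton_fiber_of_asFiber g s w (f x) hx.symm ?_
    rw [Groth.Agent.S9332.result g (f x)]
    have h1 : ((f ≫ g).residueFieldMap x).hom.Finite := by
      rw [← Groth.Agent.S9332.result (f ≫ g) x]
      exact isClosed_discrete _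
    rw [Scheme.residueFieldMap_comp] at h1
    exact finite_of_comp (g.residueFieldMap (f x)).hom (f.residueFieldMap x).hom h1
  have := discreteTopology_of_forall_isClosed (g.fiber s) hcl
  simpa [Scheme.Hom.range_fiberι] using
    (isDiscrete_univ_iff.mpr this).image (g.fiberι s).isEmbedding.toIsInducing

end Groth.Agent.S9336
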