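import Groth.Statements.S9337
import Groth.Agent.H38.FtPts

set_option autoImplicit false
universe u
open FtPts

namespace Groth.Agent.S9337

open AlgebraicGeometry CategoryTheory in
/-- Let k be a field and f : Spec k → S a morphism of schemes with image point u. Then f is locally of
finite type if and only if some affine open U ∋ u of S has u as a closed point and the residue field
of Spec k (that is, k) is finite over κ(u). -/
theorem result (S : Scheme.{u}) (k : Type u) [Field k] (f : Spec (CommRingCat.of k) ⟶ S) :
    LocallyOfFiniteType f ↔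
      ∃ U : S.Opens, IsAffineOpen U ∧ ∃ hu : f.base (IsLocalRing.closedPoint k) ∈ U,
        IsClosed ({⟨f.base (IsLocalRing.closedPoint k), hu⟩} : Set ↥U) ∧
          (f.residueFieldMap (IsLocalRing.closedPoint k)).hom.Finite := by
  set x0 : Spec (CommRingCat.of k) := IsLocalRing.closedPoint k with hx0
  have hcl0 : IsClosed ({x0} : Set (Spec (CommRingCat.of k))) :=
    IsLocalRing.isClosed_singleton_closedPoint k
  haveI hci : IsClosedImmersion ((Spec (CommRingCat.of k)).fromSpecResidueField x0) :=
    isClosed_singleton_iff_isClosedImmersion.mp hcl0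
  haveI : Subsingleton (Spec (CommRingCat.of k)) :=
    (inferInstance : Subsingleton (PrimeSpectrum k))
  haveI : Surjective ((Spec (CommRingCat.of k)).fromSpecResidueField x0) :=
    ⟨fun y => ⟨default, Subsingleton.elim _ _⟩⟩
  haveI : IsIso ((Spec (CommRingCat.of k)).fromSpecResidueField x0) :=
    isIso_of_isClosedImmersion_of_surjective _
  have key := Scheme.Hom.SpecMap_residueFieldMap_fromSpecResidueField f x0
  constructor
  · intro h
    obtain ⟨U, hU, hu, hcl⟩ := H38.FtPts.exists_affineOpen_isClosed_of_lft k f _ rfl
    refine ⟨U, hU, hu, hcl, ?_⟩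
    have h1 : LocallyOfFiniteType
        (Spec.map (f.residueFieldMap x0) ≫ S.fromSpecResidueField (f.base x0)) := by
      rw [key]; infer_instance
    have h2 : LocallyOfFiniteType (Spec.map (f.residueFieldMap x0)) :=
      locallyOfFiniteType_of_comp _ (S.fromSpecResidueField (f.base x0))
    have h3 : (f.residueFieldMap x0).hom.FiniteType := HasRingHomProperty.Spec_iff.mp h2
    exact RingHom.finite_iff_finiteType_of_isJacobsonRing.mpr h3
  · rintro ⟨U, hU, hu, hcl, hfin⟩
    have h1 : LocallyOfFiniteType (S.fromSpecResidueField (f.base x0)) :=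
      H38.FtPts.lft_fromSpecResidueField_of_isClosed U _ hu hcl
    have h2 : LocallyOfFiniteType (Spec.map (f.residueFieldMap x0)) :=
      HasRingHomProperty.Spec_iff.mpr (RingHom.FiniteType.of_finite hfin)
    have h3 : LocallyOfFiniteType
        ((Spec (CommRingCat.of k)).fromSpecResidueField x0 ≫ f) := by
      rw [← key]; infer_instance
    exact (MorphismProperty.cancel_left_of_respectsIso @LocallyOfFiniteType
      ((Spec (CommRingCat.of k)).fromSpecResidueField x0) f).mp h3

end Groth.Agent.S9337
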