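import Groth.Statements.S9338
import Mathlib

set_option autoImplicit false
universe u
open FtPts

namespace Groth.Agent.S9338

lemma finiteType_of_residue {R A : Type u} [CommRing R] [CommRing A] [IsArtinianRing A]
    [IsLocalRing A] [Algebra R A]
    (h : Algebra.FiniteType R (IsLocalRing.ResidueField A)) : Algebra.FiniteType R A := by
  classical
  obtain ⟨n, f, hf⟩ := Algebra.FiniteType.iff_quotient_mvPolynomial''.mp h
  have hlift : ∀ i : Fin n, ∃ a : A, IsLocalRing.residue A a = f (MvPolynomial.X i) :=
    fun i => IsLocalRing.residue_surjective _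
  choose a ha using hlift
  let g : MvPolynomial (Fin n) R →ₐ[R] A := MvPolynomial.aeval a
  have hgf : (IsScalarTower.toAlgHom R A (IsLocalRing.ResidueField A)).comp g = f := by
    apply MvPolynomial.algHom_ext
    intro i
    simp only [AlgHom.comp_apply, g, MvPolynomial.aeval_X, IsScalarTower.coe_toAlgHom']
    exact ha i
  letI algPA : Algebra (MvPolynomial (Fin n) R) A := g.toRingHom.toAlgebra
  haveI : IsScalarTower R (MvPolynomial (Fin n) R) A :=
    IsScalarTower.of_algebraMap_eq (fun r => by
      show algebraMap R A r = g (algebraMap R _ r)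
      rw [AlgHom.commutes])
  have hsurj : Function.Surjective
      (algebraMap (MvPolynomial (Fin n) R) (IsLocalRing.ResidueField A)) := fun x => by
    obtain ⟨p, hp⟩ := hf x
    refine ⟨p, ?_⟩
    rw [← hp, ← hgf]
    rfl
  haveI : Module.Finite (MvPolynomial (Fin n) R) (IsLocalRing.ResidueField A) :=
    RingHom.finite_algebraMap.mp (RingHom.Finite.of_surjective _ hsurj)
  have hfin : Module.Finite (MvPolynomial (Fin n) R) A := by
    refine Module.finite_of_surjective_of_ker_le_nilradical
      (IsScalarTower.toAlgHom (MvPolynomial (Fin n) R) A (IsLocalRing.ResidueField A)) ?_ ?_ ?_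
    · exact IsLocalRing.residue_surjective
    · intro x hx
      have hx0 : IsLocalRing.residue A x = 0 := RingHom.mem_ker.mp hx
      have hxm : x ∈ IsLocalRing.maximalIdeal A := (IsLocalRing.residue_eq_zero_iff x).mp hx0
      obtain ⟨k, hk⟩ := IsArtinianRing.isNilpotent_jacobson_bot (R := A)
      rw [IsLocalRing.jacobson_eq_maximalIdeal ⊥ bot_ne_top] at hk
      refine ⟨k, ?_⟩
      have h1 : x ^ k ∈ IsLocalRing.maximalIdeal A ^ k := Ideal.pow_mem_pow hxm k
      rw [hk, Ideal.zero_eq_bot, Ideal.mem_bot] at h1
      exact h1
    · exact IsNoetherian.noetherian _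
  exact Algebra.FiniteType.trans
    (inferInstance : Algebra.FiniteType R (MvPolynomial (Fin n) R)) inferInstance

lemma ringHom_finiteType_of_residue {R A : Type u} [CommRing R] [CommRing A] [IsArtinianRing A]
    [IsLocalRing A] (φ : R →+* A) (h : ((IsLocalRing.residue A).comp φ).FiniteType) :
    φ.FiniteType := by
  letI := φ.toAlgebra
  have e : algebraMap R (IsLocalRing.ResidueField A) = (IsLocalRing.residue A).comp φ := rfl
  have h' : Algebra.FiniteType R (IsLocalRing.ResidueField A) := by
    rw [← RingHom.finiteType_algebraMap, e]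
    exact h
  exact finiteType_of_residue h'

open AlgebraicGeometry CategoryTheory in
/-- For an Artinian local ring A with residue field κ, a morphism f : Spec A → S is (locally) of finite
type exactly when the composite Spec κ → Spec A → S is. -/
theorem result (S : Scheme.{u}) (A : Type u) [CommRing A] [IsArtinianRing A] [IsLocalRing A]
    (f : Spec (CommRingCat.of A) ⟶ S) :
    LocallyOfFiniteType f ↔
      LocallyOfFiniteType (Spec.map (CommRingCat.ofHom (IsLocalRing.residue A)) ≫ f) := by
  constructor
  · intro h
    have : LocallyOfFiniteType (Spec.map (CommRingCat.ofHom (IsLocalRing.residue A))) :=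
      HasRingHomProperty.Spec_iff.mpr
        (RingHom.FiniteType.of_surjective _ IsLocalRing.residue_surjective)
    infer_instance
  · intro h
    let x0 : Spec (CommRingCat.of A) := IsLocalRing.closedPoint A
    have hsub : ∀ x : Spec (CommRingCat.of A), x = x0 := by
      intro x
      apply PrimeSpectrum.ext
      have : (x : PrimeSpectrum A).asIdeal.IsMaximal :=
        IsArtinianRing.isMaximal_of_isPrime _
      exact IsLocalRing.eq_maximalIdeal this
    obtain ⟨V, hV, hsV, -⟩ := exists_isAffineOpen_mem_and_subset (x := f x0)
      (U := (⊤ : S.Opens)) trivial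
    have hrange : Set.range f ⊆ Set.range hV.fromSpec := by
      rw [hV.range_fromSpec]
      rintro _ ⟨x, rfl⟩
      rw [hsub x]
      exact hsV
    let k := IsOpenImmersion.lift hV.fromSpec f hrange
    have hk : k ≫ hV.fromSpec = f := IsOpenImmersion.lift_fac _ _ _
    obtain ⟨φ, hφ⟩ := Spec.map_surjective k
    rw [← hk, ← hφ] at h ⊢
    have h1 : LocallyOfFiniteType
        (Spec.map (CommRingCat.ofHom (IsLocalRing.residue A)) ≫ Spec.map φ) := by
      rw [← Category.assoc] at h
      exact locallyOfFiniteType_of_comp _ hV.fromSpec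
    rw [← Spec.map_comp] at h1
    have h2 : (φ ≫ CommRingCat.ofHom (IsLocalRing.residue A)).hom.FiniteType :=
      HasRingHomProperty.Spec_iff.mp h1
    have h3 : φ.hom.FiniteType := ringHom_finiteType_of_residue φ.hom h2
    have : LocallyOfFiniteType (Spec.map φ) := HasRingHomProperty.Spec_iff.mpr h3
    infer_instance

end Groth.Agent.S9338
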