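import Groth.Statements.S9339
import Groth.Agent.H38.FtPts

set_option autoImplicit false
universe u
open FtPts

namespace Groth.Agent.S9339

open AlgebraicGeometry CategoryTheory in
/-- A morphism locally of finite type maps finite type points (points s whose canonical morphism Spec
κ(s) → S is locally of finite type) to finite type points. -/
theorem result {T S : Scheme.{u}} (f : T ⟶ S) [LocallyOfFiniteType f] :
    f.base '' {t : ↑T | LocallyOfFiniteType (T.fromSpecResidueField t)} ⊆
      {s : ↑S | LocallyOfFiniteType (S.fromSpecResidueField s)} := by
  rintro _ ⟨t, ht, rfl⟩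
  have ht' : LocallyOfFiniteType (T.fromSpecResidueField t) := ht
  show LocallyOfFiniteType (S.fromSpecResidueField (f.base t))
  have hcomp : LocallyOfFiniteType (T.fromSpecResidueField t ≫ f) := inferInstance
  obtain ⟨U, hU, hu, hcl⟩ := H38.FtPts.exists_affineOpen_isClosed_of_lft (T.residueField t)
    (T.fromSpecResidueField t ≫ f) (f.base t)
      (congrArg f.base (Scheme.fromSpecResidueField_apply t _))
  exact H38.FtPts.lft_fromSpecResidueField_of_isClosed U _ hu hcl

end Groth.Agent.S9339
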