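import Groth.Statements.S9340
import Groth.Agent.H38.FtPts

set_option autoImplicit false
universe u
open FtPts

namespace Groth.Agent.S9340

open AlgebraicGeometry CategoryTheory in
/-- A surjective morphism locally of finite type maps the set of finite type points of the source onto
the set of finite type points of the target. -/
theorem result {T S : Scheme.{u}} (f : T ⟶ S) [LocallyOfFiniteType f] [Surjective f] :
    f.base '' {t : ↑T | LocallyOfFiniteType (T.fromSpecResidueField t)} =
      {s : ↑S | LocallyOfFiniteType (S.fromSpecResidueField s)} := by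
  apply Set.Subset.antisymm
  · rintro _ ⟨t, ht, rfl⟩
    have ht' : LocallyOfFiniteType (T.fromSpecResidueField t) := ht
    show LocallyOfFiniteType (S.fromSpecResidueField (f.base t))
    have hcomp : LocallyOfFiniteType (T.fromSpecResidueField t ≫ f) := inferInstance
    obtain ⟨U, hU, hu, hcl⟩ := H38.FtPts.exists_affineOpen_isClosed_of_lft (T.residueField t)
      (T.fromSpecResidueField t ≫ f) (f.base t)
      (congrArg f.base (Scheme.fromSpecResidueField_apply t _))
    exact H38.FtPts.lft_fromSpecResidueField_of_isClosed U _ hu hcl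
  · intro s hs
    have hs' : LocallyOfFiniteType (S.fromSpecResidueField s) := hs
    obtain ⟨U, hU, hsU, hcl⟩ := (H38.FtPts.lft_iff s).mp hs'
    obtain ⟨t₀, rfl⟩ := f.surjective s
    obtain ⟨W, hW, ht₀W, hWU⟩ :=
      exists_isAffineOpen_mem_and_subset (x := t₀) (U := f ⁻¹ᵁ U) hsU
    obtain ⟨t, htC, htW, htcl⟩ := H38.FtPts.exists_mem_isClosed_singleton hW
      (f.base ⁻¹' closure {f.base t₀}) (isClosed_closure.preimage f.continuous)
      (z := t₀) (subset_closure rfl) ht₀W
    have htU : f.base t ∈ U := hWU htW
    have hsp : f.base t₀ ⤳ f.base t := specializes_iff_mem_closure.mpr htC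
    have hsp' : (⟨f.base t₀, hsU⟩ : ↥U) ⤳ ⟨f.base t, htU⟩ := (subtype_specializes_iff _ _).mpr hsp
    have heq : (⟨f.base t, htU⟩ : ↥U) = ⟨f.base t₀, hsU⟩ := hsp'.mem_closed hcl rfl
    refine ⟨t, ?_, congrArg Subtype.val heq⟩
    exact H38.FtPts.lft_fromSpecResidueField_of_isClosed W t htW htcl

end Groth.Agent.S9340
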