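import Groth.Statements.S9341
import Groth.Agent.H38.FtPts

set_option autoImplicit false
universe u
open FtPts

namespace Groth.Agent.S9341

open AlgebraicGeometry CategoryTheory in
/-- Every nonempty locally closed subset of a scheme S contains a finite type point of S; in particular
for a closed subset Z the finite type points lying in Z are dense in Z. -/
theorem result (S : Scheme.{u}) :
    (∀ Z : Set ↑S, IsLocallyClosed Z → Z.Nonempty →
        (Z ∩ {s : ↑S | LocallyOfFiniteType (S.fromSpecResidueField s)}).Nonempty) ∧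
      ∀ Z : Set ↑S, IsClosed Z →
        Z ⊆ closure (Z ∩ {s : ↑S | LocallyOfFiniteType (S.fromSpecResidueField s)}) := by
  have key : ∀ Z : Set ↑S, IsLocallyClosed Z → Z.Nonempty →
      (Z ∩ {s : ↑S | LocallyOfFiniteType (S.fromSpecResidueField s)}).Nonempty := by
    rintro _ ⟨O, C, hO, hC, rfl⟩ ⟨z, hzO, hzC⟩
    obtain ⟨W, hW, hzW, hWO⟩ :=
      exists_isAffineOpen_mem_and_subset (x := z) (U := (⟨O, hO⟩ : S.Opens)) hzO
    obtain ⟨t, htC, htW, htcl⟩ := H38.FtPts.exists_mem_isClosed_singleton hW C hC hzC hzW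
    exact ⟨t, ⟨hWO htW, htC⟩, H38.FtPts.lft_fromSpecResidueField_of_isClosed W t htW htcl⟩
  refine ⟨key, fun Z hZ z hz => ?_⟩
  rw [mem_closure_iff]
  intro O hO hzO
  obtain ⟨t, ⟨htO, htZ⟩, htft⟩ := key (O ∩ Z) ⟨O, Z, hO, hZ, rfl⟩ ⟨z, hzO, hz⟩
  exact ⟨t, htO, htZ, htft⟩

end Groth.Agent.S9341
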