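import Groth.Statements.S9343
import Mathlib
import Groth.Agent.H47.MaximalPoints

set_option autoImplicit false
universe u
open Dom

namespace Groth.Agent.S9343

open AlgebraicGeometry CategoryTheory in
/-- The base change of a quasi-compact dominant morphism f : X → S along a morphism g : S' → S along
which generalizations lift is dominant. -/
theorem result {X S X' S' : Scheme.{u}} (f : X ⟶ S) [QuasiCompact f] [IsDominant f]
    (g : S' ⟶ S) (g' : X' ⟶ X) (f' : X' ⟶ S') (hsq : IsPullback g' f' f g) (hg : GeneralizingMap g.base) :
    IsDominant f' := by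
  have hqc : QuasiCompact f' := MorphismProperty.of_isPullback hsq ‹_›
  refine ⟨Groth.Agent.H47.denseRange_of_forall_maximal_mem_range f' fun η' hη' => ?_⟩
  have hgη : closure {g η'} ∈ irreducibleComponents (↑S : Type u) :=
    Groth.Agent.H47.mem_irreducibleComponents_of_generalizingMap g hg η' hη'
  have hcl : g η' ∈ closure (Set.range f) := f.denseRange (g η')
  obtain ⟨x, hx⟩ := Groth.Agent.H47.mem_range_of_mem_closure_range f (g η') hgη hcl
  obtain ⟨x', -, hx'⟩ := Scheme.exists_preimage_of_isPullback hsq x η' hx
  exact ⟨x', hx'⟩

end Groth.Agent.S9343
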