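import Groth.Statements.S9345
import Mathlib
import Groth.Agent.H47.MaximalPoints

set_option autoImplicit false
universe u
open Dom

namespace Groth.Agent.S9345

lemma aux {X S : Type*} [TopologicalSpace X] [TopologicalSpace S] [QuasiSober X]
    [T0Space S] (f : X → S) (hf : Continuous f) (hX : (irreducibleComponents X).Finite)
    (hd : DenseRange f) (s : S) (hs : closure {s} ∈ irreducibleComponents S) :
    ∃ Z ∈ irreducibleComponents X, closure (f '' Z) = closure {s} ∧ s ∈ Set.range f := by
  have hcover : (⋃ Z ∈ irreducibleComponents X, closure (f '' Z)) = Set.univ := by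
    rw [← hX.closure_biUnion, ← Set.image_iUnion₂, ← Set.sUnion_eq_biUnion,
      sUnion_irreducibleComponents, Set.image_univ]
    exact hd.closure_range
  have hs' : s ∈ ⋃ Z ∈ irreducibleComponents X, closure (f '' Z) := by
    rw [hcover]
    exact Set.mem_univ s
  simp only [Set.mem_iUnion] at hs'
  obtain ⟨Z, hZ, hsZ⟩ := hs'
  have hZcl : IsClosed Z := isClosed_of_mem_irreducibleComponents Z hZ
  obtain ⟨ξ, hξ⟩ := QuasiSober.sober hZ.prop hZcl
  have he : closure {ξ} = Z := hξ.def
  have hξZ : ξ ∈ Z := he ▸ subset_closure rfl
  have hcl : closure (f '' Z) = closure {f ξ} := by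
    apply subset_antisymm
    · apply closure_minimal _ isClosed_closure
      rw [← he]
      refine (image_closure_subset_closure_image hf).trans ?_
      rw [Set.image_singleton]
    · exact closure_mono (Set.singleton_subset_iff.mpr ⟨ξ, hξZ, rfl⟩)
  rw [hcl] at hsZ
  have hspec : f ξ ⤳ s := specializes_iff_mem_closure.mpr hsZ
  have heq : f ξ = s := Groth.Agent.H47.eq_of_specializes_of_mem_irreducibleComponents hs hspec
  exact ⟨Z, hZ, by rw [hcl, heq], ξ, heq⟩

open AlgebraicGeometry CategoryTheory in
/-- For a morphism f : X → S whose source has only finitely many irreducible components, the image of f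
is dense exactly when it contains the generic point of each irreducible component of S, and then S
too has finitely many. -/
theorem result {X S : Scheme.{u}} (f : X ⟶ S)
    (hX : (irreducibleComponents (↑X : Type u)).Finite) :
    (IsDominant f ↔ ∀ s : ↑S, closure {s} ∈ irreducibleComponents (↑S : Type u) → s ∈ Set.range f.base) ∧
      (IsDominant f → (irreducibleComponents (↑S : Type u)).Finite) := by
  refine ⟨⟨fun hd s hs => ?_, fun h => ⟨?_⟩⟩, fun hd => ?_⟩
  · obtain ⟨Z, -, -, hmem⟩ := aux f f.continuous hX f.denseRange s hs
    exact hmem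
  · exact Groth.Agent.H47.denseRange_of_forall_maximal_mem_range f h
  · refine (hX.image (fun Z => closure (f '' Z))).subset ?_
    intro u hu
    have hucl : IsClosed u := isClosed_of_mem_irreducibleComponents u hu
    obtain ⟨η, hη⟩ := QuasiSober.sober hu.prop hucl
    have he : closure {η} = u := hη.def
    obtain ⟨Z, hZ, hZu, -⟩ := aux f f.continuous hX f.denseRange η (he ▸ hu)
    exact ⟨Z, hZ, hZu.trans he⟩

end Groth.Agent.S9345
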