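import Groth.Statements.S9346
import Mathlib

set_option autoImplicit false
universe u
open Dom

namespace Groth.Agent.S9346

open AlgebraicGeometry CategoryTheory TopologicalSpace

section
variable {X Y : Scheme.{u}} [AlgebraicGeometry.IsIntegral X] [AlgebraicGeometry.IsIntegral Y]

lemma gen_of_dominant (f : X ⟶ Y) [IsDominant f] : f (genericPoint X) = genericPoint Y := by
  have h1 : IsGenericPoint (f (genericPoint X)) (closure (f '' Set.univ)) :=
    (genericPoint_spec X).image f.continuous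
  rw [Set.image_univ, f.denseRange.closure_range] at h1
  exact h1.eq (genericPoint_spec Y)

lemma dominant_of_gen (f : X ⟶ Y) (h : f (genericPoint X) = genericPoint Y) : IsDominant f := by
  refine ⟨fun y => ?_⟩
  have h1 : y ∈ closure {genericPoint Y} := by
    rw [(genericPoint_spec Y).def]
    trivial
  exact closure_mono (by rintro _ rfl; exact ⟨genericPoint X, h⟩) h1

lemma genericPoint_mem {Z : Scheme.{u}} [AlgebraicGeometry.IsIntegral Z] (U : Z.Opens)
    (hU : (U : Set Z).Nonempty) : genericPoint Z ∈ U := by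
  have := ((genericPoint_spec Z).mem_open_set_iff U.isOpen).mpr (by rwa [Set.univ_inter])
  exact this

lemma inj_of_gen (f : X ⟶ Y) (h : f (genericPoint X) = genericPoint Y)
    (U : X.Opens) (V : Y.Opens) (hUV : U ≤ f ⁻¹ᵁ V) (hU : (U : Set X).Nonempty) :
    Function.Injective (f.appLE V U hUV) := by
  rw [injective_iff_map_eq_zero]
  intro a ha
  by_contra hne
  have hD : Y.basicOpen a ≠ ⊥ := fun h0 => hne ((basicOpen_eq_bot_iff a).mp h0)
  have hξY : genericPoint Y ∈ Y.basicOpen a :=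
    genericPoint_mem _ ((Opens.ne_bot_iff_nonempty _).mp hD)
  have hξX : genericPoint X ∈ U := genericPoint_mem U hU
  have h1 : genericPoint X ∈ X.basicOpen (f.appLE V U hUV a) := by
    rw [Scheme.basicOpen_appLE]
    refine ⟨hξX, ?_⟩
    show f (genericPoint X) ∈ Y.basicOpen a
    rw [h]
    exact hξY
  rw [ha, Scheme.basicOpen_zero] at h1
  exact h1

lemma gen_of_inj (f : X ⟶ Y) (U : X.Opens) (V : Y.Opens) (hUV : U ≤ f ⁻¹ᵁ V)
    (hV : IsAffineOpen V) (hU : (U : Set X).Nonempty)
    (hinj : Function.Injective (f.appLE V U hUV)) : f (genericPoint X) = genericPoint Y := by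
  have hξX : genericPoint X ∈ U := genericPoint_mem U hU
  have hfξV : f (genericPoint X) ∈ V := hUV hξX
  have hdense : Dense ({f (genericPoint X)} : Set Y) := by
    rw [dense_iff_inter_open]
    intro O hO hOne
    have hOV : (O ∩ (V : Set Y)).Nonempty :=
      nonempty_preirreducible_inter hO V.isOpen hOne ⟨_, hfξV⟩
    obtain ⟨y, hyO, hyV⟩ := hOV
    obtain ⟨a, haO, hya⟩ := hV.exists_basicOpen_le (V := ⟨O, hO⟩) ⟨y, hyO⟩ hyV
    have ha0 : a ≠ 0 := by
      rintro rfl
      rw [Scheme.basicOpen_zero] at hya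
      exact hya
    have hφa : f.appLE V U hUV a ≠ 0 := fun h0 => ha0 (hinj (h0.trans (map_zero _).symm))
    have hD : X.basicOpen (f.appLE V U hUV a) ≠ ⊥ :=
      fun h0 => hφa ((basicOpen_eq_bot_iff _).mp h0)
    have h1 : genericPoint X ∈ X.basicOpen (f.appLE V U hUV a) :=
      genericPoint_mem _ ((Opens.ne_bot_iff_nonempty _).mp hD)
    rw [Scheme.basicOpen_appLE] at h1
    exact ⟨f (genericPoint X), haO h1.2, rfl⟩
  have h1 : IsGenericPoint (f (genericPoint X)) Set.univ := hdense.closure_eq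
  exact h1.eq (genericPoint_spec Y)

lemma exists_affine_pair (f : X ⟶ Y) (x : X) (W : Y.Opens) (hW : f x ∈ W) :
    ∃ (U : X.Opens) (V : Y.Opens) (hUV : U ≤ f ⁻¹ᵁ V), IsAffineOpen U ∧ IsAffineOpen V ∧
      x ∈ U ∧ f x ∈ V ∧ V ≤ W := by
  obtain ⟨V, hV, hfxV, hVW⟩ := exists_isAffineOpen_mem_and_subset (x := f x) (U := W) hW
  obtain ⟨U, hU, hxU, hUV⟩ := exists_isAffineOpen_mem_and_subset (x := x) (U := f ⁻¹ᵁ V) hfxV
  exact ⟨U, V, fun z hz => hUV hz, hU, hV, hxU, hfxV, fun z hz => hVW hz⟩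

lemma stalkMap_germ_appLE (f : X ⟶ Y) (x : X) (U : X.Opens) (V : Y.Opens) (hUV : U ≤ f ⁻¹ᵁ V)
    (hxU : x ∈ U) (a : Γ(Y, V)) :
    f.stalkMap x (Y.presheaf.germ V (f x) (hUV hxU) a) =
      X.presheaf.germ U x hxU (f.appLE V U hUV a) := by
  rw [Scheme.Hom.germ_stalkMap_apply]
  simp only [Scheme.Hom.appLE, CommRingCat.comp_apply]
  rw [TopCat.Presheaf.germ_res_apply]

end

open AlgebraicGeometry CategoryTheory in
/-- For a morphism f : X → Y between integral schemes, these six conditions coincide: (1) f is dominant;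
(2) f sends the generic point of X to that of Y; (3) there exist affine opens U ⊆ X, V ⊆ Y with U
nonempty and U ⊆ f⁻¹V such that the induced ring map on sections is injective; (4) the same for all
such pairs; (5) for some x ∈ X the map of local rings O_{Y,f x} → O_{X,x} is injective; (6) the same
for all x. -/
theorem result {X Y : Scheme.{u}} [AlgebraicGeometry.IsIntegral X] [AlgebraicGeometry.IsIntegral Y] (f : X ⟶ Y) :
    [IsDominant f,
      f.base (genericPoint ↑X) = genericPoint ↑Y,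
      ∃ (U : X.Opens) (V : Y.Opens) (hUV : U ≤ f ⁻¹ᵁ V), IsAffineOpen U ∧ IsAffineOpen V ∧ (U : Set ↑X).Nonempty ∧
        Function.Injective (f.appLE V U hUV),
      ∀ (U : X.Opens) (V : Y.Opens) (hUV : U ≤ f ⁻¹ᵁ V), IsAffineOpen U → IsAffineOpen V → (U : Set ↑X).Nonempty →
        Function.Injective (f.appLE V U hUV),
      ∃ x : ↑X, Function.Injective (f.stalkMap x),
      ∀ x : ↑X, Function.Injective (f.stalkMap x)].TFAE := by
  tfae_have 1 → 2 := fun h => gen_of_dominant f
  tfae_have 2 → 1 := fun h => dominant_of_gen f h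
  tfae_have 2 → 4 := fun h U V hUV _ _ hU => inj_of_gen f h U V hUV hU
  tfae_have 4 → 3 := by
    intro h4
    obtain ⟨x⟩ : Nonempty X := inferInstance
    obtain ⟨U, V, hUV, hU, hV, hxU, -, -⟩ := exists_affine_pair f x ⊤ trivial
    exact ⟨U, V, hUV, hU, hV, ⟨x, hxU⟩, h4 U V hUV hU hV ⟨x, hxU⟩⟩
  tfae_have 3 → 2 := by
    rintro ⟨U, V, hUV, -, hV, hU, hinj⟩
    exact gen_of_inj f U V hUV hV hU hinj
  tfae_have 4 → 6 := by
    intro h4 x
    rw [injective_iff_map_eq_zero]
    intro t ht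
    obtain ⟨W, hfxW, a, rfl⟩ := Y.presheaf.germ_exist (x := f x) t
    obtain ⟨U, V, hUV, hU, hV, hxU, hfxV, hVW⟩ := exists_affine_pair f x W hfxW
    have e1 : Y.presheaf.germ W (f x) hfxW a =
        Y.presheaf.germ V (f x) (hUV hxU) (Y.presheaf.map (homOfLE hVW).op a) :=
      (TopCat.Presheaf.germ_res_apply Y.presheaf (homOfLE hVW) (f x) (hUV hxU) a).symm
    rw [e1] at ht ⊢
    rw [stalkMap_germ_appLE f x U V hUV hxU] at ht
    have h0 : f.appLE V U hUV (Y.presheaf.map (homOfLE hVW).op a) = 0 := by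
      apply germ_injective_of_isIntegral (X := X) x hxU
      rw [ht, map_zero]
    have h1 : Y.presheaf.map (homOfLE hVW).op a = 0 :=
      h4 U V hUV hU hV ⟨x, hxU⟩ (h0.trans (map_zero _).symm)
    rw [h1, map_zero]
  tfae_have 6 → 5 := by
    intro h6
    obtain ⟨x⟩ : Nonempty X := inferInstance
    exact ⟨x, h6 x⟩
  tfae_have 5 → 3 := by
    rintro ⟨x, hx⟩
    obtain ⟨U, V, hUV, hU, hV, hxU, -, -⟩ := exists_affine_pair f x ⊤ trivial
    refine ⟨U, V, hUV, hU, hV, ⟨x, hxU⟩, ?_⟩
    rw [injective_iff_map_eq_zero]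
    intro a ha
    have h0 : f.stalkMap x (Y.presheaf.germ V (f x) (hUV hxU) a) = 0 := by
      rw [stalkMap_germ_appLE f x U V hUV hxU, ha, map_zero]
    have h1 : Y.presheaf.germ V (f x) (hUV hxU) a = 0 := hx (h0.trans (map_zero _).symm)
    exact germ_injective_of_isIntegral (X := Y) (f x) (hUV hxU) (h1.trans (map_zero _).symm)
  tfae_finish

end Groth.Agent.S9346
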