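import Groth.Statements.S9348
import Mathlib.AlgebraicGeometry.PullbackCarrier

set_option autoImplicit false
universe u
open Dom

namespace Groth.Agent.S9348

open AlgebraicGeometry CategoryTheory in
/-- Let f : X → Y be a morphism and g : Y' → Y open and surjective. If the base change f' : X ×_Y Y' →
Y' of f is quasi-compact, then so is f. -/
theorem result {X Y X' Y' : Scheme.{u}} (f : X ⟶ Y) (g : Y' ⟶ Y) [Surjective g]
    (hg : IsOpenMap g.base) (g' : X' ⟶ X) (f' : X' ⟶ Y') (hsq : IsPullback g' f' f g) [QuasiCompact f'] :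
    QuasiCompact f := by
  refine ⟨fun U hU hUc => ?_⟩
  have hcov : ∀ y ∈ U, ∃ V : Y'.Opens, IsAffineOpen V ∧ (V : Set Y') ⊆ g.base ⁻¹' U ∧
      y ∈ g.base '' (V : Set Y') := by
    intro y hy
    obtain ⟨y', rfl⟩ := g.surjective y
    obtain ⟨_, ⟨V, hV, rfl⟩, hyV, hVW⟩ := Y'.isBasis_affineOpens.exists_subset_of_mem_open
      (show y' ∈ g.base ⁻¹' U from hy) (hU.preimage g.continuous)
    exact ⟨V, hV, hVW, y', hyV, rfl⟩
  choose! V hVaff hVW hyV using hcov
  obtain ⟨t, htU, htfin, ht⟩ := hUc.elim_finite_subcover_image (b := U)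
    (c := fun y => g.base '' (V y : Set Y')) (fun y _ => hg _ (V y).2)
    (fun y hy => Set.mem_biUnion hy (hyV y hy))
  have hK : IsCompact (⋃ y ∈ t, (V y : Set Y')) :=
    htfin.isCompact_biUnion (fun y hy => (hVaff y (htU hy)).isCompact)
  have hKo : IsOpen (⋃ y ∈ t, (V y : Set Y')) := isOpen_biUnion (fun y _ => (V y).2)
  have hgK : g.base '' (⋃ y ∈ t, (V y : Set Y')) = U := by
    apply subset_antisymm
    · rw [Set.image_subset_iff]
      exact Set.iUnion₂_subset (fun y hy => hVW y (htU hy))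
    · rw [Set.image_iUnion₂]
      exact ht
  have h1 := Scheme.image_preimage_eq_of_isPullback hsq.flip (⋃ y ∈ t, (V y : Set Y'))
  rw [hgK] at h1
  change IsCompact (f.base ⁻¹' U)
  rw [← h1]
  exact (QuasiCompact.isCompact_preimage (f := f') _ hKo hK).image g'.continuous

end Groth.Agent.S9348
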