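import Mathlib
import Groth.Statements.S9351

set_option autoImplicit false
universe u
open FlatMod

namespace Groth.Agent.S9351

section Ring

open PrimeSpectrum

variable {A : Type*} [CommRing A]

/-- The kernel of `A → ∏_{p ∈ S} A_p`. -/
noncomputable def K (S : Set (PrimeSpectrum A)) : Ideal A :=
  ⨅ p ∈ S, RingHom.ker (algebraMap A (Localization.AtPrime p.asIdeal))

lemma mem_K_iff {S : Set (PrimeSpectrum A)} {a : A} :
    a ∈ K S ↔ ∀ p ∈ S, ∃ s : A, s ∉ p.asIdeal ∧ s * a = 0 := by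
  simp only [K, Ideal.mem_iInf, RingHom.mem_ker]
  refine forall₂_congr fun p _ => ?_
  rw [IsLocalization.map_eq_zero_iff p.asIdeal.primeCompl]
  constructor
  · rintro ⟨m, hm⟩
    exact ⟨m.1, m.2, hm⟩
  · rintro ⟨s, hs, h⟩
    exact ⟨⟨s, hs⟩, h⟩

lemma exists_one_add_mul_eq_zero {J : Ideal A} {a : A}
    (ha : a ∈ K (zeroLocus (J : Set A))) : ∃ j ∈ J, (1 + j) * a = 0 := by
  rw [mem_K_iff] at ha
  set N : Ideal A := (⊥ : Ideal A).colon ({a} : Set A) with hN
  have hmemN : ∀ x, x ∈ N ↔ x * a = 0 := fun x => by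
    rw [hN, Submodule.mem_colon_singleton, smul_eq_mul, Ideal.mem_bot]
  have htop : N ⊔ J = ⊤ := by
    by_contra hne
    obtain ⟨m, hm, hle⟩ := Ideal.exists_le_maximal _ hne
    have hp : (⟨m, hm.isPrime⟩ : PrimeSpectrum A) ∈ zeroLocus (J : Set A) :=
      (mem_zeroLocus _ _).mpr fun x hx => hle (Ideal.mem_sup_right hx)
    obtain ⟨s, hs, hsa⟩ := ha _ hp
    exact hs (hle (Ideal.mem_sup_left ((hmemN s).mpr hsa)))
  have h1 : (1 : A) ∈ N ⊔ J := by rw [htop]; exact Submodule.mem_top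
  obtain ⟨s, hs, j, hj, hsj⟩ := Submodule.mem_sup.mp h1
  refine ⟨-j, J.neg_mem hj, ?_⟩
  have : 1 + -j = s := by rw [← hsj]; ring
  rw [this]
  exact (hmemN s).mp hs

lemma exists_pow_mem_K {J : Ideal A} (hg : StableUnderGeneralization (zeroLocus (J : Set A)))
    {j : A} (hj : j ∈ J) : ∃ n : ℕ, j ^ n ∈ K (zeroLocus (J : Set A)) := by
  let M : Submonoid A :=
    { carrier := {x | ∃ n : ℕ, ∃ i ∈ J, x = j ^ n * (1 + i)}
      one_mem' := ⟨0, 0, J.zero_mem, by simp⟩
      mul_mem' := by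
        rintro x y ⟨n, i, hi, rfl⟩ ⟨m, i', hi', rfl⟩
        exact ⟨n + m, i + i' + i * i',
          J.add_mem (J.add_mem hi hi') (J.mul_mem_left _ hi'), by ring⟩ }
  have hmemM : ∀ x, x ∈ M ↔ ∃ n : ℕ, ∃ i ∈ J, x = j ^ n * (1 + i) := fun x => Iff.rfl
  by_cases h0 : (0 : A) ∈ M
  · obtain ⟨n, i, hi, h⟩ := (hmemM 0).mp h0
    refine ⟨n, mem_K_iff.mpr fun p hp => ⟨1 + i, fun h1 => ?_, ?_⟩⟩
    · have hip : i ∈ p.asIdeal := (mem_zeroLocus _ _).mp hp hi
      have : (1 : A) ∈ p.asIdeal := by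
        have := p.asIdeal.sub_mem h1 hip
        simpa using this
      exact p.2.ne_top ((Ideal.eq_top_iff_one _).mpr this)
    · rw [mul_comm]
      exact h.symm
  · exfalso
    have hdisj : Disjoint ((⊥ : Ideal A) : Set A) (M : Set A) := by
      rw [Set.disjoint_left]
      intro x hx hxM
      have hx0 : x = 0 := by simpa using hx
      exact h0 (hx0 ▸ hxM)
    obtain ⟨q, hq, -, hqM⟩ := Ideal.exists_le_prime_disjoint ⊥ M hdisj
    have hne : q ⊔ J ≠ ⊤ := by
      intro htop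
      have h1 : (1 : A) ∈ q ⊔ J := by rw [htop]; exact Submodule.mem_top
      obtain ⟨x, hx, i, hi, hxi⟩ := Submodule.mem_sup.mp h1
      have hx1 : x = 1 - i := eq_sub_of_add_eq hxi
      have hxM : x ∈ M := (hmemM x).mpr ⟨0, -i, J.neg_mem hi, by rw [hx1]; ring⟩
      exact Set.disjoint_left.mp hqM hx hxM
    obtain ⟨m, hm, hle⟩ := Ideal.exists_le_maximal _ hne
    have hmS : (⟨m, hm.isPrime⟩ : PrimeSpectrum A) ∈ zeroLocus (J : Set A) :=
      (mem_zeroLocus _ _).mpr fun x hx => hle (Ideal.mem_sup_right hx)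
    have hqm : (⟨q, hq⟩ : PrimeSpectrum A) ≤ ⟨m, hm.isPrime⟩ := le_sup_left.trans hle
    have hsp : (⟨q, hq⟩ : PrimeSpectrum A) ⤳ ⟨m, hm.isPrime⟩ :=
      (PrimeSpectrum.le_iff_specializes _ _).mp hqm
    have hqS : (⟨q, hq⟩ : PrimeSpectrum A) ∈ zeroLocus (J : Set A) := hg hsp hmS
    have hjq : j ∈ q := (mem_zeroLocus _ _).mp hqS hj
    have hjM : j ∈ M := (hmemM j).mpr ⟨1, 0, J.zero_mem, by simp⟩
    exact Set.disjoint_left.mp hqM hjq hjM

lemma K_pure_aux {J : Ideal A} (hg : StableUnderGeneralization (zeroLocus (J : Set A))) :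
    ∀ a ∈ K (zeroLocus (J : Set A)), ∃ b ∈ K (zeroLocus (J : Set A)), a = a * b := by
  intro a ha
  obtain ⟨j, hj, hja⟩ := exists_one_add_mul_eq_zero ha
  obtain ⟨n, hn⟩ := exists_pow_mem_K hg (J.neg_mem hj)
  have h1 : a = a * (-j) := by
    have h2 : a + j * a = 0 := by rw [← hja]; ring
    have h3 : a = -(j * a) := eq_neg_of_add_eq_zero_left h2
    calc a = -(j * a) := h3
      _ = a * (-j) := by ring
  have hpow : ∀ k : ℕ, a = a * (-j) ^ k := by
    intro k
    induction k with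
    | zero => simp
    | succ k ih =>
      rw [pow_succ, ← mul_assoc, ← ih]
      exact h1
  exact ⟨(-j) ^ n, hn, hpow n⟩

lemma pure_of_forall_exists_eq_mul {I : Ideal A} (h : ∀ x ∈ I, ∃ y ∈ I, x = x * y) :
    I.Pure := by
  refine Ideal.Pure.of_inf_eq_mul I fun J _ => ?_
  refine le_antisymm (fun x hx => ?_) Ideal.mul_le_inf
  obtain ⟨hxI, hxJ⟩ := Ideal.mem_inf.mp hx
  obtain ⟨y, hy, hxy⟩ := h x hxI
  have h2 : y * x ∈ I * J := Ideal.mul_mem_mul hy hxJ
  rwa [mul_comm y x, ← hxy] at h2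

lemma pure_map {B : Type*} [CommRing B] (φ : A →+* B) {I : Ideal A} (hI : I.Pure) :
    (I.map φ).Pure := by
  haveI := hI
  refine pure_of_forall_exists_eq_mul fun x hx => ?_
  have hx' : x ∈ Submodule.span B (φ '' (I : Set A)) := hx
  refine Submodule.span_induction (p := fun x _ => ∃ y ∈ I.map φ, x = x * y) ?_ ?_ ?_ ?_ hx'
  · rintro _ ⟨a, ha, rfl⟩
    obtain ⟨c, hc, hac⟩ := Ideal.exists_eq_mul_of_pure (I := I) ha
    exact ⟨φ c, Ideal.mem_map_of_mem φ hc, by rw [← map_mul, ← hac]⟩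
  · exact ⟨0, Ideal.zero_mem _, by simp⟩
  · rintro x₁ x₂ _ _ ⟨y₁, hy₁, h₁⟩ ⟨y₂, hy₂, h₂⟩
    refine ⟨y₁ + y₂ - y₁ * y₂, ?_, ?_⟩
    · exact Ideal.sub_mem _ (Ideal.add_mem _ hy₁ hy₂) (Ideal.mul_mem_left _ _ hy₂)
    · have e₁ : x₁ * y₁ = x₁ := h₁.symm
      have e₂ : x₂ * y₂ = x₂ := h₂.symm
      calc x₁ + x₂ = x₁ * y₁ + x₂ * y₂ + (x₁ * y₂ - (x₁ * y₁) * y₂)
            + (x₂ * y₁ - (x₂ * y₂) * y₁) := by rw [e₁, e₂]; ring
        _ = (x₁ + x₂) * (y₁ + y₂ - y₁ * y₂) := by ring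
  · rintro b x _ ⟨y, hy, h⟩
    exact ⟨y, hy, by rw [smul_eq_mul, mul_assoc, ← h]⟩

lemma zeroLocus_map {B : Type*} [CommRing B] (φ : A →+* B) (I : Ideal A) :
    zeroLocus ((I.map φ : Ideal B) : Set B) = comap φ ⁻¹' zeroLocus (I : Set A) := by
  rw [preimage_comap_zeroLocus, Ideal.map, zeroLocus_span]

lemma K_pure {S : Set (PrimeSpectrum A)} (hS : IsClosed S)
    (hg : StableUnderGeneralization S) : (K S).Pure := by
  obtain ⟨J, rfl⟩ := (isClosed_iff_zeroLocus_ideal S).mp hS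
  exact pure_of_forall_exists_eq_mul (K_pure_aux hg)

lemma zeroLocus_K {S : Set (PrimeSpectrum A)} (hS : IsClosed S)
    (hg : StableUnderGeneralization S) : zeroLocus (K S : Set A) = S := by
  obtain ⟨J, rfl⟩ := (isClosed_iff_zeroLocus_ideal S).mp hS
  apply Set.Subset.antisymm
  · intro p hp
    rw [mem_zeroLocus] at hp ⊢
    intro j hj
    obtain ⟨n, hn⟩ := exists_pow_mem_K hg hj
    exact p.2.mem_of_pow_mem n (hp hn)
  · intro p hp
    rw [mem_zeroLocus]
    intro a ha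
    obtain ⟨s, hs, hsa⟩ := mem_K_iff.mp ha p hp
    have h0 : s * a ∈ p.asIdeal := hsa ▸ p.asIdeal.zero_mem
    exact (p.2.mem_or_mem h0).resolve_left hs

lemma K_map {B : Type*} [CommRing B] (φ : A →+* B) {S : Set (PrimeSpectrum A)}
    (hS : IsClosed S) (hg : StableUnderGeneralization S) :
    (K S).map φ = K (comap φ ⁻¹' S) := by
  have h1 : ((K S).map φ).Pure := pure_map φ (K_pure hS hg)
  have hS' : IsClosed (comap φ ⁻¹' S) := hS.preimage (continuous_comap φ)
  have hg' : StableUnderGeneralization (comap φ ⁻¹' S) := hg.preimage (continuous_comap φ)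
  have h2 : (K (comap φ ⁻¹' S)).Pure := K_pure hS' hg'
  haveI := h1
  haveI := h2
  rw [← Ideal.zeroLocus_inj_of_pure, zeroLocus_map, zeroLocus_K hS hg, zeroLocus_K hS' hg']

end Ring

section Sch

open AlgebraicGeometry CategoryTheory

variable {X : Scheme.{u}}

/-- The preimage of `Z` in the spectrum of `Γ(X, U)`. -/
def SU (Z : Set X) (U : X.affineOpens) : Set (PrimeSpectrum Γ(X, U)) :=
  U.2.fromSpec ⁻¹' Z

lemma isClosed_SU {Z : Set X} (hZ : IsClosed Z) (U : X.affineOpens) : IsClosed (SU Z U) :=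
  hZ.preimage U.2.fromSpec.continuous

lemma stable_SU {Z : Set X} (hZ : StableUnderGeneralization Z) (U : X.affineOpens) :
    StableUnderGeneralization (SU Z U) :=
  hZ.preimage U.2.fromSpec.continuous

/-- The candidate ideal on the affine open `U`. -/
noncomputable def idl (Z : Set X) (U : X.affineOpens) : Ideal Γ(X, U) := K (SU Z U)

lemma idl_map_basicOpen {Z : Set X} (hZ : IsClosed Z) (hg : StableUnderGeneralization Z)
    (U : X.affineOpens) (f : Γ(X, U)) :
    (idl Z U).map (X.presheaf.map (homOfLE (X.basicOpen_le f)).op).hom =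
      idl Z (X.affineBasicOpen f) := by
  unfold idl
  rw [K_map _ (isClosed_SU hZ U) (stable_SU hg U)]
  congr 1
  ext p
  have h := U.2.map_fromSpec (X.affineBasicOpen f).2 (homOfLE (X.basicOpen_le f)).op
  simp only [SU, Set.mem_preimage]
  rw [← h]
  exact Iff.rfl

lemma mem_iff_mem_zeroLocus_idl {Z : Set X} (hZ : IsClosed Z)
    (hg : StableUnderGeneralization Z) (U : X.affineOpens) (x : X) (hx : x ∈ U.1) :
    x ∈ Z ↔ x ∈ X.zeroLocus (U := U.1) (idl Z U : Set Γ(X, U)) := by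
  have h1 : U.2.fromSpec (U.2.primeIdealOf ⟨x, hx⟩) = x := U.2.fromSpec_primeIdealOf ⟨x, hx⟩
  have h2 := U.2.fromSpec_preimage_zeroLocus (idl Z U : Set Γ(X, U))
  have h3 : PrimeSpectrum.zeroLocus (idl Z U : Set Γ(X, U)) = SU Z U :=
    zeroLocus_K (isClosed_SU hZ U) (stable_SU hg U)
  constructor
  · intro hxZ
    have h4 : U.2.primeIdealOf ⟨x, hx⟩ ∈ SU Z U := by
      show U.2.fromSpec (U.2.primeIdealOf ⟨x, hx⟩) ∈ Z
      rw [h1]
      exact hxZ
    rw [← h3, ← h2] at h4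
    have h5 := Set.mem_preimage.mp h4
    rwa [h1] at h5
  · intro hxz
    have h4 : U.2.primeIdealOf ⟨x, hx⟩ ∈
        U.2.fromSpec ⁻¹' X.zeroLocus (U := U.1) (idl Z U : Set Γ(X, U)) := by
      show U.2.fromSpec (U.2.primeIdealOf ⟨x, hx⟩) ∈ X.zeroLocus (U := U.1) (idl Z U : Set Γ(X, U))
      rw [h1]
      exact hxz
    rw [h2, h3] at h4
    have h5 : U.2.fromSpec (U.2.primeIdealOf ⟨x, hx⟩) ∈ Z := h4
    rwa [h1] at h5

lemma zeroLocus_ideal_eq (I : X.IdealSheafData) (U : X.affineOpens) :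
    PrimeSpectrum.zeroLocus (I.ideal U : Set Γ(X, U)) =
      U.2.fromSpec ⁻¹' (I.support : Set X) := by
  rw [← U.2.fromSpec_preimage_zeroLocus]
  ext p
  have hp : U.2.fromSpec p ∈ U.1 := by
    have h : U.2.fromSpec p ∈ Set.range U.2.fromSpec := ⟨p, rfl⟩
    rw [U.2.range_fromSpec] at h
    exact h
  simp only [Set.mem_preimage]
  exact (I.mem_support_iff_of_mem hp).symm

lemma pure_of_flat (I : X.IdealSheafData) (hI : Flat I.subschemeι) (U : X.affineOpens) :
    (I.ideal U).Pure := by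
  have hV : IsAffineOpen (I.subschemeι ⁻¹ᵁ U.1) := U.2.preimage I.subschemeι
  have h : (I.subschemeι.appLE U.1 (I.subschemeι ⁻¹ᵁ U.1) le_rfl).hom.Flat :=
    HasRingHomProperty.appLE @Flat I.subschemeι hI U ⟨_, hV⟩ le_rfl
  rw [Scheme.Hom.appLE_eq_app, I.subschemeι_app U, CommRingCat.hom_comp,
    RingHom.Flat.respectsIso.cancel_right_isIso] at h
  have h' : (algebraMap Γ(X, U) (Γ(X, U) ⧸ I.ideal U)).Flat := h
  exact RingHom.flat_algebraMap_iff.mp h'

lemma flat_of_pure (I : X.IdealSheafData) (h : ∀ U : X.affineOpens, (I.ideal U).Pure) :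
    Flat I.subschemeι := by
  rw [IsZariskiLocalAtSource.iff_of_openCover (P := @Flat) I.subschemeCover.openCover]
  intro (U : X.affineOpens)
  have e : I.subschemeCover.openCover.f U ≫ I.subschemeι =
      Spec.map (CommRingCat.ofHom (Ideal.Quotient.mk (I.ideal U))) ≫ U.2.fromSpec := by
    rw [← I.glueDataObjι_ι U]
    exact I.subschemeCover_map_subschemeι U
  rw [e]
  have h0 : (algebraMap Γ(X, U) (Γ(X, U) ⧸ I.ideal U)).Flat :=
    RingHom.flat_algebraMap_iff.mpr (h U)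
  have h1 : Flat (Spec.map (CommRingCat.ofHom (Ideal.Quotient.mk (I.ideal U)))) :=
    (HasRingHomProperty.Spec_iff (P := @Flat)).mpr h0
  have h2 : Flat U.2.fromSpec := inferInstance
  exact @Flat.comp _ _ _ _ _ h1 h2

lemma isUnit_one_sub_app {I : X.IdealSheafData} {Y : Scheme.{u}} (g : Y ⟶ X)
    (hg : Set.range g.base ⊆ (I.support : Set X)) (U : X.affineOpens) (b : Γ(X, U))
    (hb : b ∈ I.ideal U) : IsUnit (1 - (g.app U.1).hom b) := by
  refine Y.toRingedSpace.isUnit_of_isUnit_germ (g ⁻¹ᵁ U.1) (1 - (g.app U.1).hom b)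
    fun y hy => ?_
  have hgy : g y ∈ (I.support : Set X) := hg ⟨y, rfl⟩
  have hgyU : g y ∈ U.1 := hy
  have hz : g y ∈ X.zeroLocus (U := U.1) (I.ideal U : Set Γ(X, U)) :=
    (I.mem_support_iff_of_mem hgyU).mp hgy
  have hnb : g y ∉ X.basicOpen b := (X.mem_zeroLocus_iff _ _).mp hz b hb
  have hpre : g ⁻¹ᵁ X.basicOpen b = Y.basicOpen ((g.app U.1).hom b) :=
    Scheme.preimage_basicOpen g b
  have hns : y ∉ Y.basicOpen ((g.app U.1).hom b) := fun h => hnb (by
    rw [← hpre] at h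
    exact h)
  have hnu : ¬ IsUnit (Y.presheaf.germ (g ⁻¹ᵁ U.1) y hy ((g.app U.1).hom b)) :=
    fun h => hns ((Y.mem_basicOpen _ y hy).mpr h)
  have hu : IsUnit (1 - Y.presheaf.germ (g ⁻¹ᵁ U.1) y hy ((g.app U.1).hom b)) :=
    IsLocalRing.isUnit_one_sub_self_of_mem_nonunits _ hnu
  have e : Y.presheaf.germ (g ⁻¹ᵁ U.1) y hy (1 - (g.app U.1).hom b) =
      1 - Y.presheaf.germ (g ⁻¹ᵁ U.1) y hy ((g.app U.1).hom b) := by
    rw [map_sub, map_one]
  exact e ▸ hu

end Sch

open AlgebraicGeometry CategoryTheory in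
/-- On a scheme X, taking supports is a bijection from the closed subschemes Z ⊆ X with Z → X flat
(indexed by their quasi-coherent ideal sheaves) onto the closed subsets of X stable under
generalization; and any morphism g : Y → X with image inside such a Z factors through Z. -/
theorem result (X : Scheme.{u}) :
    Set.BijOn (fun I : X.IdealSheafData => I.support) {I : X.IdealSheafData | Flat I.subschemeι}
        {Z : TopologicalSpace.Closeds ↑X | StableUnderGeneralization (Z : Set ↑X)} ∧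
      ∀ I : X.IdealSheafData, Flat I.subschemeι → ∀ (Y : Scheme.{u}) (g : Y ⟶ X),
        Set.range g.base ⊆ (I.support : Set ↑X) → ∃ g' : Y ⟶ I.subscheme, g' ≫ I.subschemeι = g := by
  refine ⟨⟨?_, ?_, ?_⟩, ?_⟩
  · intro I hI
    have hI' : Flat I.subschemeι := hI
    show StableUnderGeneralization ((I.support : TopologicalSpace.Closeds X) : Set X)
    rw [← I.range_subschemeι]
    exact (Flat.generalizingMap I.subschemeι).stableUnderGeneralization_range
  · intro I hI J hJ hIJ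
    have hsupp : I.support = J.support := hIJ
    apply Scheme.IdealSheafData.ext
    funext U
    haveI := pure_of_flat I hI U
    haveI := pure_of_flat J hJ U
    rw [← Ideal.zeroLocus_inj_of_pure, zeroLocus_ideal_eq I U, zeroLocus_ideal_eq J U, hsupp]
  · intro Z hZ
    have hZg : StableUnderGeneralization (Z : Set X) := hZ
    have hZc : IsClosed (Z : Set X) := Z.isClosed
    let I : X.IdealSheafData := Scheme.IdealSheafData.mkOfMemSupportIff (idl (Z : Set X))
      (idl_map_basicOpen hZc hZg) (Z : Set X)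
      (fun U x hx => mem_iff_mem_zeroLocus_idl hZc hZg U x hx)
    refine ⟨I, ?_, ?_⟩
    · show Flat I.subschemeι
      exact flat_of_pure I fun U => K_pure (isClosed_SU hZc U) (stable_SU hZg U)
    · show I.support = Z
      exact TopologicalSpace.Closeds.ext rfl
  · intro I hI Y g hg
    have H : I.subschemeι.ker ≤ g.ker := by
      rw [Scheme.IdealSheafData.ker_subschemeι]
      refine Scheme.IdealSheafData.le_ofIdeals_iff.mpr fun U a ha => ?_
      haveI := pure_of_flat I hI U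
      obtain ⟨b, hb, hab⟩ := Ideal.exists_eq_mul_of_pure (I := I.ideal U) ha
      rw [RingHom.mem_ker]
      have hu := isUnit_one_sub_app g hg U b hb
      have h0 : (g.app U.1).hom a * (1 - (g.app U.1).hom b) = 0 := by
        rw [mul_sub, mul_one, ← map_mul, ← hab, sub_self]
      exact (hu.mul_left_eq_zero).mp h0
    exact ⟨IsClosedImmersion.lift I.subschemeι g H, IsClosedImmersion.lift_fac _ _ H⟩

end Groth.Agent.S9351
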