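import Groth.Statements.S9356
import Groth.Agent.H54.FibreTdeg

set_option autoImplicit false
universe u
open FibDim

namespace Groth.Agent.S9356

open AlgebraicGeometry CategoryTheory in
/-- Let f : X → S be locally of finite type and x ⤳ x' a nontrivial specialization of points of the
fibre X_s. Then dim_x(X_s) ≤ dim_{x'}(X_s) and dim O_{X_s,x} < dim O_{X_s,x'}. (The assertion on
transcendence degrees of residue fields is a separate statement.) -/
theorem result {X S : Scheme.{u}} (f : X ⟶ S) [LocallyOfFiniteType f] (s : S)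
    (x x' : ↑(f.fiber s)) (hsp : x ⤳ x') (hne : x ≠ x') :
    FlatMor.localDim ↑(f.fiber s) x ≤ FlatMor.localDim ↑(f.fiber s) x' ∧
      ringKrullDim ((f.fiber s).presheaf.stalk x) < ringKrullDim ((f.fiber s).presheaf.stalk x') := by

  constructor
  · unfold FlatMor.localDim
    apply le_iInf
    rintro ⟨U, hU⟩
    exact iInf_le_of_le ⟨U, hsp.mem_open U.isOpen hU⟩ le_rfl
  · rw [ringKrullDim_stalk_eq_coheight, ringKrullDim_stalk_eq_coheight]
    have hlt : x' < x := (Groth.Agent.H54.scheme_lt_iff x' x).mpr ⟨hsp, Ne.symm hne⟩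
    have hfin : Order.coheight x < ⊤ :=
      lt_top_iff_ne_top.mpr (Groth.Agent.H54.coheight_ne_top (Groth.Agent.H54.fiberQ f s) x)
    exact WithBot.coe_lt_coe.mpr (Order.coheight_strictAnti hlt hfin)

end Groth.Agent.S9356
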