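import Groth.Statements.S9360
import Groth.Agent.H54.ReducedKer

set_option autoImplicit false
universe u
open SchDense

namespace Groth.Agent.S9360


open AlgebraicGeometry CategoryTheory in
theorem isReduced_of_nilradical_eq_bot (X : Scheme.{u}) (h : X.nilradical = ⊥) : IsReduced X := by
  rw [IsReduced.iff_of_openCover X (X.openCoverOfIsOpenCover (fun V : X.affineOpens => V.1)
    (iSup_affineOpens_eq_top X))]
  intro V
  show IsReduced ((V.1 : X.Opens) : Scheme.{u})
  haveI : IsAffine ((V.1 : X.Opens) : Scheme.{u}) := V.2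
  have h1 : (X.nilradical).ideal V = ⊥ := by rw [h]; rfl
  have h2 : nilradical Γ(X, V.1) = ⊥ := h1
  haveI : _root_.IsReduced Γ(X, V.1) := nilradical_eq_bot_iff.mp h2
  haveI : _root_.IsReduced Γ(((V.1 : X.Opens) : Scheme.{u}), ⊤) :=
    isReduced_of_injective (V.1.topIso.hom.hom)
      ((ConcreteCategory.bijective_of_isIso (V.1.topIso.hom)).1)
  exact isReduced_of_isAffine_isReduced _

open AlgebraicGeometry CategoryTheory in
theorem isSchemeTheoreticallyDominant_iff' {A B : Scheme.{u}} [IsReduced A] (f : A ⟶ B) :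
    IsSchemeTheoreticallyDominant f ↔ DenseRange f ∧ IsReduced B := by
  rw [isSchemeTheoreticallyDominant_iff, Groth.Agent.H54.ker_eq_vanishingIdeal]
  constructor
  · intro h
    have h1 : (⟨closure (Set.range f), isClosed_closure⟩ : TopologicalSpace.Closeds B) = ⊤ := by
      have := congrArg Scheme.IdealSheafData.support h
      rw [Scheme.IdealSheafData.support_bot] at this
      rw [← this]; exact TopologicalSpace.Closeds.ext rfl
    have hd : DenseRange f := by
      rw [DenseRange, dense_iff_closure_eq]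
      exact congrArg (fun Z : TopologicalSpace.Closeds B => (Z : Set B)) h1
    refine ⟨hd, isReduced_of_nilradical_eq_bot B ?_⟩
    rw [← Scheme.IdealSheafData.vanishingIdeal_top, ← h1]; exact h
  · rintro ⟨hd, hr⟩
    have h1 : (⟨closure (Set.range f), isClosed_closure⟩ : TopologicalSpace.Closeds B) = ⊤ :=
      TopologicalSpace.Closeds.ext (by simpa using hd.closure_eq)
    rw [h1, Scheme.IdealSheafData.vanishingIdeal_top, Scheme.nilradical_eq_bot]


open AlgebraicGeometry CategoryTheory in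
/-- Let U ⊆ X be a reduced open subscheme. Then the scheme-theoretic closure of U in X is X if and only
if U is scheme-theoretically dense in X (for every open W the scheme-theoretic closure of U ∩ W in W
is W); and in that case X is reduced. -/
theorem result (X : Scheme.{u}) (U : X.Opens) [IsReduced (↑U : Scheme.{u})] :
    (IsSchemeTheoreticallyDominant U.ι ↔
        ∀ W : X.Opens, IsSchemeTheoreticallyDominant (X.homOfLE (inf_le_right : U ⊓ W ≤ W))) ∧
      (IsSchemeTheoreticallyDominant U.ι → IsReduced X) := by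

  have hL := isSchemeTheoreticallyDominant_iff' U.ι
  have hW : ∀ W : X.Opens,
      IsSchemeTheoreticallyDominant (X.homOfLE (inf_le_right : U ⊓ W ≤ W)) ↔
        DenseRange (X.homOfLE (inf_le_right : U ⊓ W ≤ W)) ∧ IsReduced (↑W : Scheme.{u}) := by
    intro W
    haveI : IsReduced (↑(U ⊓ W) : Scheme.{u}) :=
      isReduced_of_isOpenImmersion (X.homOfLE (inf_le_left : U ⊓ W ≤ U))
    exact isSchemeTheoreticallyDominant_iff' _
  refine ⟨⟨fun h W => ?_, fun h => ?_⟩, fun h => (hL.mp h).2⟩
  · obtain ⟨hd, hr⟩ := hL.mp h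
    haveI := hr
    rw [hW]
    refine ⟨?_, inferInstance⟩
    have hdU : Dense (U : Set X) := by
      rw [← Scheme.Opens.range_ι]; exact hd
    intro w
    rw [mem_closure_iff]
    intro O hO hwO
    have hOX : IsOpen (W.ι '' O) := W.ι.isOpenEmbedding.isOpenMap O hO
    obtain ⟨x, hxO, hxU⟩ := hdU.inter_open_nonempty _ hOX ⟨W.ι w, w, hwO, rfl⟩
    obtain ⟨w', hw'O, rfl⟩ := hxO
    refine ⟨w', hw'O, ⟨⟨W.ι w', ⟨hxU, w'.2⟩⟩, ?_⟩⟩
    apply W.ι.isOpenEmbedding.injective
    rw [← Scheme.Hom.comp_apply, X.homOfLE_ι]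
    rfl
  · obtain ⟨hd, hr⟩ := (hW ⊤).mp (h ⊤)
    rw [hL]
    haveI := hr
    refine ⟨?_, isReduced_of_isOpenImmersion (X.topIso.inv)⟩
    rw [DenseRange, Scheme.Opens.range_ι]
    intro x
    rw [mem_closure_iff]
    intro O hO hxO
    have hx := hd ⟨x, trivial⟩
    rw [mem_closure_iff] at hx
    obtain ⟨w, hwO, ⟨z, rfl⟩⟩ := hx ((⊤ : X.Opens).ι ⁻¹' O)
      (hO.preimage (⊤ : X.Opens).ι.continuous) hxO
    refine ⟨(U ⊓ ⊤).ι z, ?_, z.2.1⟩
    have h3 : (⊤ : X.Opens).ι (X.homOfLE (inf_le_right : U ⊓ ⊤ ≤ ⊤) z) = (U ⊓ ⊤).ι z := by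
      rw [← Scheme.Hom.comp_apply, X.homOfLE_ι]
    rw [← h3]; exact hwO

end Groth.Agent.S9360
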