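import Groth.Statements.S9361
import Mathlib

set_option autoImplicit false
universe u
open SchImage

namespace Groth.Agent.S9361


open AlgebraicGeometry CategoryTheory


open AlgebraicGeometry CategoryTheory in
/-- Let f : X → Y be separated, V ⊆ Y a retrocompact open and s : V → X a section of f over V. If Y' ⊆ X
is the scheme-theoretic image of s, then Y' → Y is an isomorphism over V. -/
theorem result {X Y : Scheme.{u}} (f : X ⟶ Y) [IsSeparated f] (V : Y.Opens) [QuasiCompact V.ι]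
    (s : (↑V : Scheme.{u}) ⟶ X) (hs : s ≫ f = V.ι) :
    IsIso ((s.imageι ≫ f) ∣_ V) := by
  have hqc : QuasiCompact s := by
    have h0 : QuasiCompact (s ≫ f) := by rw [hs]; infer_instance
    exact QuasiCompact.of_comp s f
  rw [morphismRestrict_comp]
  have hιiso : IsIso (V.ι ∣_ V) := by
    have e1 : V.ι ∣_ V = (V.ι ⁻¹ᵁ V).ι := by
      rw [← cancel_mono V.ι, morphismRestrict_ι]
    rw [e1]
    have e2 : ∀ (O : V.toScheme.Opens), O = ⊤ → IsIso O.ι := by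
      rintro O rfl
      exact inferInstanceAs (IsIso (Scheme.topIso V.toScheme).hom)
    exact e2 _ V.ι_preimage_self
  have h1 : IsIso (s ∣_ (f ⁻¹ᵁ V) ≫ f ∣_ V) := by
    rw [← morphismRestrict_comp]
    have e3 : ∀ (h : (V : Scheme.{u}) ⟶ Y), h = V.ι → IsIso (h ∣_ V) := by
      rintro h rfl
      exact hιiso
    exact e3 _ hs
  have hsep : IsSeparated (f ∣_ V) := IsZariskiLocalAtTarget.restrict ‹IsSeparated f› V
  have hci1 : IsClosedImmersion (s ∣_ (f ⁻¹ᵁ V)) := by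
    have h2 : IsClosedImmersion (s ∣_ (f ⁻¹ᵁ V) ≫ f ∣_ V) := inferInstance
    exact IsClosedImmersion.of_comp (s ∣_ (f ⁻¹ᵁ V)) (f ∣_ V)
  have hci2 : IsClosedImmersion (s.imageι ∣_ (f ⁻¹ᵁ V)) :=
    IsZariskiLocalAtTarget.restrict (inferInstance : IsClosedImmersion s.imageι) (f ⁻¹ᵁ V)
  have hker : (s.imageι ∣_ (f ⁻¹ᵁ V)).ker = (s ∣_ (f ⁻¹ᵁ V)).ker := by
    apply Scheme.IdealSheafData.ext
    funext U
    rw [Scheme.ker_morphismRestrict_ideal, Scheme.ker_morphismRestrict_ideal,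
      Scheme.IdealSheafData.ker_subschemeι]
  obtain ⟨φ, hφ⟩ : ∃ φ, φ ≫ s.imageι ∣_ (f ⁻¹ᵁ V) = s ∣_ (f ⁻¹ᵁ V) :=
    ⟨IsClosedImmersion.lift _ _ hker.le, IsClosedImmersion.lift_fac _ _ _⟩
  have hφiso : IsIso φ :=
    IsClosedImmersion.isIso_of_ker_eq (s ∣_ (f ⁻¹ᵁ V)) (s.imageι ∣_ (f ⁻¹ᵁ V)) φ hφ hker.symm
  have h3 : IsIso (φ ≫ (s.imageι ∣_ (f ⁻¹ᵁ V) ≫ f ∣_ V)) := by
    rw [← Category.assoc, hφ]
    exact h1
  exact IsIso.of_isIso_comp_left φ _

end Groth.Agent.S9361
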