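import Groth.Statements.S9362
import Groth.Agent.H95.QCohColim
import Groth.Agent.H22.QCohAbelian
import Groth.Agent.H31.GrothAb

set_option autoImplicit false
set_option linter.style.haveILetI false
universe u
open QCohSub

namespace Groth.Agent.S9362

section Aux
open AlgebraicGeometry CategoryTheory CategoryTheory.Limits

variable {X : Scheme.{u}}

/-- A monomorphism `k' : image (φ ≫ j) ⟶ G` lifting the image inclusion, for `j` mono. -/
theorem exists_imageLift {A : Type*} [Category A] [Abelian A] {H G F : A} (φ : H ⟶ G) (j : G ⟶ F)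
    [Mono j] : ∃ k : Limits.image (φ ≫ j) ⟶ G, k ≫ j = Limits.image.ι (φ ≫ j) ∧ Mono k ∧
      factorThruImage (φ ≫ j) ≫ k = φ := by
  let F' : MonoFactorisation (φ ≫ j) :=
    { I := Limits.image φ
      m := Limits.image.ι φ ≫ j
      e := factorThruImage φ
      fac := by simp }
  have h1 : (image.lift F' ≫ Limits.image.ι φ) ≫ j = Limits.image.ι (φ ≫ j) := by
    rw [Category.assoc]
    exact image.lift_fac F'
  refine ⟨image.lift F' ≫ Limits.image.ι φ, h1, ?_, ?_⟩
  · haveI : Mono ((image.lift F' ≫ Limits.image.ι φ) ≫ j) := by rw [h1]; infer_instance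
    exact mono_of_mono _ j
  · rw [← cancel_mono j, Category.assoc, h1, image.fac]

theorem isQuasicoherent_limitsImage {M N : X.Modules} [M.IsQuasicoherent] [N.IsQuasicoherent]
    (φ : M ⟶ N) : (Limits.image φ).IsQuasicoherent := by
  haveI := Groth.Agent.H22.QCohAbelian.isQuasicoherent_image φ
  exact (SheafOfModules.isQuasicoherent X.ringCatSheaf).prop_of_iso (Abelian.imageIsoImage φ) ‹_›

theorem aux (F G : X.Modules) (hF : F.IsQuasicoherent) (j : G ⟶ F) [Mono j] :
    ∃ (G' : X.Modules) (k : G' ⟶ G), G'.IsQuasicoherent ∧ Mono k ∧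
      ∀ H : X.Modules, H.IsQuasicoherent → Function.Bijective (fun φ : H ⟶ G' => φ ≫ k) := by
  have hgr := Groth.Agent.H31.GrothAb.isGrothendieckAbelian (Opens.grothendieckTopology X)
    X.ringCatSheaf
  have hwp : WellPowered.{u} (SheafOfModules.{u} X.ringCatSheaf) := inferInstance
  haveI : WellPowered.{u} X.Modules := hwp
  let I₀ := {S : Subobject G // (S : X.Modules).IsQuasicoherent}
  haveI hsm : Small.{u} (Subobject G) := WellPowered.subobject_small G
  haveI hsm' : Small.{u} I₀ := small_subtype _ _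
  let I : Type u := Shrink.{u} I₀
  let e : I ≃ I₀ := (equivShrink.{u} I₀).symm
  let f : I → X.Modules := fun i => ((e i).1 : X.Modules)
  have hf : ∀ i, (f i).IsQuasicoherent := fun i => (e i).2
  haveI hsig : (∐ f).IsQuasicoherent := by
    have := Groth.Agent.H95.QCohColim.isQuasicoherent_colimit (Discrete.functor f)
      (fun i => hf i.as)
    exact this
  let a : ∐ f ⟶ G := Sigma.desc (fun i => (e i).1.arrow)
  obtain ⟨k, hk, hkm, hka⟩ := exists_imageLift a j
  haveI := hF
  refine ⟨Limits.image (a ≫ j), k, isQuasicoherent_limitsImage (a ≫ j), hkm, ?_⟩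
  intro H hH
  haveI := hH
  constructor
  · intro φ ψ h
    exact (cancel_mono k).1 h
  · intro φ
    obtain ⟨k', hk', hkm', hka'⟩ := exists_imageLift φ j
    haveI := hkm'
    have hH' : (Limits.image (φ ≫ j)).IsQuasicoherent := isQuasicoherent_limitsImage (φ ≫ j)
    have hS : ((Subobject.mk k' : Subobject G) : X.Modules).IsQuasicoherent :=
      (SheafOfModules.isQuasicoherent X.ringCatSheaf).prop_of_iso
        (Subobject.underlyingIso k').symm hH'
    obtain ⟨i, hi⟩ : ∃ i, e i = ⟨Subobject.mk k', hS⟩ := ⟨e.symm _, e.apply_symm_apply _⟩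
    have hi' : (e i).1 = Subobject.mk k' := congrArg Subtype.val hi
    let t : ((Subobject.mk k' : Subobject G) : X.Modules) ⟶ f i :=
      Subobject.ofLE _ _ (le_of_eq hi'.symm)
    refine ⟨factorThruImage (φ ≫ j) ≫ (Subobject.underlyingIso k').inv ≫ t ≫ Sigma.ι f i ≫
      factorThruImage (a ≫ j), ?_⟩
    show (factorThruImage (φ ≫ j) ≫ (Subobject.underlyingIso k').inv ≫ t ≫ Sigma.ι f i ≫
      factorThruImage (a ≫ j)) ≫ k = φ
    simp only [Category.assoc]
    rw [hka]
    have h1 : Sigma.ι f i ≫ a = (e i).1.arrow := Sigma.ι_desc _ _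
    rw [h1]
    have h2 : t ≫ (e i).1.arrow = (Subobject.mk k').arrow := Subobject.ofLE_arrow _
    rw [h2, Subobject.underlyingIso_arrow, hka']

end Aux

open AlgebraicGeometry CategoryTheory in
/-- Let F be a quasi-coherent O_X-module and G ⊆ F an O_X-submodule. There is a quasi-coherent submodule
G' ⊆ G such that Hom(H, G') → Hom(H, G) is bijective for every quasi-coherent O_X-module H; in
particular G' is the largest quasi-coherent submodule of F contained in G (it is unique up to unique
isomorphism over G). -/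
theorem result (X : Scheme.{u}) (F G : X.Modules) (hF : Coh.IsQCoh F) (j : G ⟶ F) [Mono j] :
    ∃ (G' : X.Modules) (k : G' ⟶ G), Coh.IsQCoh G' ∧ Mono k ∧
      ∀ H : X.Modules, Coh.IsQCoh H → Function.Bijective (fun φ : H ⟶ G' => φ ≫ k) := by
  exact aux F G hF j

end Groth.Agent.S9362
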