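import Groth.Statements.S9368
import Groth.Agent.H66.FieldBase
import Groth.Agent.S9144

set_option autoImplicit false
universe u
open Synt

namespace Groth.Agent.S9368

set_option linter.style.haveILetI false
open AlgebraicGeometry CategoryTheory
variable {k : Type u} [Field k] {X : Scheme.{u}} (p : X ⟶ Spec (CommRingCat.of k))

/-- the `k`-algebra structure on sections -/
@[reducible] noncomputable def algSec (W : X.Opens) : Algebra k Γ(X, W) :=
  ((Scheme.ΓSpecIso (CommRingCat.of k)).inv ≫ p.appLE ⊤ W le_top).hom.toAlgebra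

noncomputable def σk (k : Type u) [Field k] : k ≃+* Γ(Spec (CommRingCat.of k), ⊤) :=
  (Scheme.ΓSpecIso (CommRingCat.of k)).symm.commRingCatIsoToRingEquiv

theorem σk_apply (a : k) : σk k a = (Scheme.ΓSpecIso (CommRingCat.of k)).inv.hom a := rfl

theorem nonempty_basicOpen_equiv (U : X.Opens) (hU : IsAffineOpen U) (g : Γ(X, U)) :
    letI := algSec p U
    letI := algSec p (X.basicOpen g)
    Nonempty (Localization.Away g ≃ₐ[k] Γ(X, X.basicOpen g)) := by
  letI := algSec p U
  letI := algSec p (X.basicOpen g)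
  haveI := hU.isLocalization_basicOpen g
  haveI : IsScalarTower k Γ(X, U) Γ(X, X.basicOpen g) := by
    have hcomp : p.appLE ⊤ (X.basicOpen g) le_top =
        p.appLE ⊤ U le_top ≫ X.presheaf.map (homOfLE (X.basicOpen_le g)).op :=
      (Scheme.Hom.appLE_map p le_top (homOfLE (X.basicOpen_le g)).op).symm
    refine IsScalarTower.of_algebraMap_eq (fun a => ?_)
    show ((Scheme.ΓSpecIso (CommRingCat.of k)).inv ≫ p.appLE ⊤ (X.basicOpen g) le_top).hom a =
      (X.presheaf.map (homOfLE (X.basicOpen_le g)).op).hom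
        (((Scheme.ΓSpecIso (CommRingCat.of k)).inv ≫ p.appLE ⊤ U le_top).hom a)
    rw [hcomp]
    rfl
  exact ⟨(IsLocalization.algEquiv (Submonoid.powers g) (Localization.Away g)
    Γ(X, X.basicOpen g)).restrictScalars k⟩

/-- the `k`-algebra structure on stalks -/
@[reducible] noncomputable def algStalk (x : X) : Algebra k (X.presheaf.stalk x) :=
  ((Scheme.ΓSpecIso (CommRingCat.of k)).inv ≫ p.appLE ⊤ ⊤ le_top ≫
    X.presheaf.germ ⊤ x trivial).hom.toAlgebra

theorem nonempty_stalk_equiv (U : X.Opens) (hU : IsAffineOpen U) (x : X) (hx : x ∈ U) :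
    letI := algSec p U
    letI := algStalk p x
    Nonempty (Localization.AtPrime (hU.primeIdealOf ⟨x, hx⟩).asIdeal ≃ₐ[k] X.presheaf.stalk x) := by
  letI := algSec p U
  letI := algStalk p x
  letI : Algebra Γ(X, U) (X.presheaf.stalk x) :=
    TopCat.Presheaf.algebra_section_stalk X.presheaf ⟨x, hx⟩
  haveI : IsLocalization.AtPrime (X.presheaf.stalk x) (hU.primeIdealOf ⟨x, hx⟩).asIdeal :=
    hU.isLocalization_stalk ⟨x, hx⟩
  haveI : IsScalarTower k Γ(X, U) (X.presheaf.stalk x) := by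
    have hcomp : p.appLE ⊤ U le_top =
        p.appLE ⊤ ⊤ le_top ≫ X.presheaf.map (homOfLE (le_top : U ≤ ⊤)).op :=
      (Scheme.Hom.appLE_map p le_top (homOfLE (le_top : U ≤ ⊤)).op).symm
    refine IsScalarTower.of_algebraMap_eq (fun a => ?_)
    show ((Scheme.ΓSpecIso (CommRingCat.of k)).inv ≫ p.appLE ⊤ ⊤ le_top ≫
        X.presheaf.germ ⊤ x trivial).hom a =
      (X.presheaf.germ U x hx).hom
        (((Scheme.ΓSpecIso (CommRingCat.of k)).inv ≫ p.appLE ⊤ U le_top).hom a)
    rw [hcomp]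
    simp only [CommRingCat.hom_comp, RingHom.comp_apply]
    exact (TopCat.Presheaf.germ_res_apply X.presheaf (homOfLE (le_top : U ≤ ⊤)) x hx _).symm
  exact ⟨(IsLocalization.algEquiv (hU.primeIdealOf ⟨x, hx⟩).asIdeal.primeCompl
    (Localization.AtPrime (hU.primeIdealOf ⟨x, hx⟩).asIdeal)
    (X.presheaf.stalk x)).restrictScalars k⟩

theorem mem_basicOpen_of_notMem (U : X.Opens) (hU : IsAffineOpen U) (x : X) (hx : x ∈ U)
    (g : Γ(X, U)) (hg : g ∉ (hU.primeIdealOf ⟨x, hx⟩).asIdeal) : x ∈ X.basicOpen g := by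
  letI : Algebra Γ(X, U) (X.presheaf.stalk x) :=
    TopCat.Presheaf.algebra_section_stalk X.presheaf ⟨x, hx⟩
  haveI : IsLocalization.AtPrime (X.presheaf.stalk x) (hU.primeIdealOf ⟨x, hx⟩).asIdeal :=
    hU.isLocalization_stalk ⟨x, hx⟩
  have h1 := (IsLocalization.AtPrime.isUnit_to_map_iff (X.presheaf.stalk x)
    (hU.primeIdealOf ⟨x, hx⟩).asIdeal g).mpr hg
  exact (Scheme.mem_basicOpen' X g ⟨x, hx⟩).mpr h1


open AlgebraicGeometry CategoryTheory in
/-- For X locally of finite type over a field k with structure morphism p, the following are equivalent: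
(1) p is syntomic; (2) every x ∈ X has an affine open neighbourhood whose coordinate ring is a
global complete intersection over k; (3) each stalk O_{X,x} is a complete intersection ring over k
(k-algebra structures induced by p). -/
theorem result (k : Type u) [Field k] (X : Scheme.{u}) (p : X ⟶ Spec (CommRingCat.of k)) [LocallyOfFiniteType p] :
    [Synt.IsSyntomicMor p,
      ∀ x : ↑X, ∃ U : X.affineOpens, x ∈ U.1 ∧
        letI := ((Scheme.ΓSpecIso (CommRingCat.of k)).inv ≫ p.appLE ⊤ U.1 le_top).hom.toAlgebra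
        Synt.IsGlobalCI k Γ(X, U.1),
      ∀ x : ↑X,
        letI := ((Scheme.ΓSpecIso (CommRingCat.of k)).inv ≫ p.appLE ⊤ ⊤ le_top ≫ X.presheaf.germ ⊤ x trivial).hom.toAlgebra
        Synt.IsCIOver k (X.presheaf.stalk x)].TFAE := by
  tfae_have 1 → 2 := by
    intro h x
    obtain ⟨U, V, e, hxU, hsyn⟩ := h x
    obtain ⟨V1, hV1⟩ := V
    have hVtop : V1 = ⊤ := by
      ext y
      simp only [TopologicalSpace.Opens.coe_top, Set.mem_univ, iff_true]
      haveI : Subsingleton (Spec (CommRingCat.of k)) :=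
        (inferInstance : Subsingleton (PrimeSpectrum k))
      have : y = p.base x := Subsingleton.elim _ _
      rw [this]; exact e hxU
    subst hVtop
    letI := algSec p U.1
    letI : Algebra Γ(Spec (CommRingCat.of k), ⊤) Γ(X, U.1) := (p.appLE ⊤ U.1 e).hom.toAlgebra
    have hlci : Synt.IsLCIOver k Γ(X, U.1) :=
      Groth.Agent.H66.FieldBase.isLCIOver_of_isSyntomic (σk k) (fun a => rfl) hsyn
    obtain ⟨g, hg, hgci⟩ := hlci.2 (U.2.primeIdealOf ⟨x, hxU⟩)
    obtain ⟨eg⟩ := nonempty_basicOpen_equiv p U.1 U.2 g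
    refine ⟨⟨X.basicOpen g, U.2.basicOpen g⟩, mem_basicOpen_of_notMem U.1 U.2 x hxU g hg, ?_⟩
    letI := algSec p (X.basicOpen g)
    exact Groth.Agent.S9146.gci_of_algEquiv eg hgci
  tfae_have 2 → 1 := by
    intro h x
    obtain ⟨U, hxU, hgci⟩ := h x
    refine ⟨U, ⟨⊤, isAffineOpen_top _⟩, le_top, hxU, ?_⟩
    letI := algSec p U.1
    letI : Algebra Γ(Spec (CommRingCat.of k), ⊤) Γ(X, U.1) :=
      (p.appLE ⊤ U.1 le_top).hom.toAlgebra
    haveI : Nontrivial Γ(X, U.1) :=
      (PrimeSpectrum.nonempty_iff_nontrivial).mp ⟨U.2.primeIdealOf ⟨x, hxU⟩⟩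
    rcases hgci with hsub | ⟨n, c, hcn, φ, r, hφ, hker, hdim⟩
    · exact absurd hsub (not_subsingleton _)
    · exact Groth.Agent.H66.FieldBase.isSyntomic_of_pres (σk k) (fun a => rfl) n c hcn φ r hφ
        hker hdim
  tfae_have 2 → 3 := by
    intro h x
    obtain ⟨U, hxU, hgci⟩ := h x
    letI := algSec p U.1
    letI := algStalk p x
    obtain ⟨es⟩ := nonempty_stalk_equiv p U.1 U.2 x hxU
    exact Groth.Agent.H66.GlobalCI.isCIOver_of_algEquiv es
      (Groth.Agent.H66.GlobalCI.isCIOver_atPrime_of_isGlobalCI hgci _)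
  tfae_have 3 → 2 := by
    intro h x
    obtain ⟨U, hU, hxU, -⟩ :=
      exists_isAffineOpen_mem_and_subset (X := X) (x := x) (U := ⊤) trivial
    letI := algSec p U
    letI := algStalk p x
    letI algk' : Algebra Γ(Spec (CommRingCat.of k), ⊤) Γ(X, U) :=
      (p.appLE ⊤ U le_top).hom.toAlgebra
    haveI : Algebra.FiniteType Γ(Spec (CommRingCat.of k), ⊤) Γ(X, U) :=
      p.finiteType_appLE (isAffineOpen_top _) hU le_top
    haveI : Algebra.FiniteType k Γ(X, U) :=
      Groth.Agent.H66.FieldBase.finiteType_of_equiv (σk k) (fun a => rfl)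
    obtain ⟨es⟩ := nonempty_stalk_equiv p U hU x hxU
    have h1 : Synt.IsCIOver k (Localization.AtPrime (hU.primeIdealOf ⟨x, hxU⟩).asIdeal) :=
      Groth.Agent.H66.GlobalCI.isCIOver_of_algEquiv es.symm (h x)
    obtain ⟨g, hg, hgci⟩ := ((Groth.Agent.S9144.result k Γ(X, U) _).2).mp h1
    obtain ⟨eg⟩ := nonempty_basicOpen_equiv p U hU g
    refine ⟨⟨X.basicOpen g, hU.basicOpen g⟩, mem_basicOpen_of_notMem U hU x hxU g hg, ?_⟩
    letI := algSec p (X.basicOpen g)
    exact Groth.Agent.S9146.gci_of_algEquiv eg hgci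
  tfae_finish

end Groth.Agent.S9368
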