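import Groth.Statements.S9365
import Groth.Agent.H9.CMFlatSch
import Groth.Agent.S9368
import Groth.Agent.H66.RelCI2
import Groth.Agent.H66.RelGCI5

set_option autoImplicit false
universe u
open Synt

namespace Groth.Agent.S9365

set_option linter.style.haveILetI false
open AlgebraicGeometry CategoryTheory

/-- `Γ(X, D(g)) ≅ Γ(X, W)_g` as algebras over `Γ(S, V)`. -/
theorem nonempty_basicOpen_equiv {X S : Scheme.{u}} (f : X ⟶ S) (V : S.Opens) (W : X.Opens)
    (hW : IsAffineOpen W) (e : W ≤ f ⁻¹ᵁ V) (g : Γ(X, W)) :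
    letI := (f.appLE V W e).hom.toAlgebra
    letI := (f.appLE V (X.basicOpen g) ((X.basicOpen_le g).trans e)).hom.toAlgebra
    Nonempty (Localization.Away g ≃ₐ[Γ(S, V)] Γ(X, X.basicOpen g)) := by
  letI := (f.appLE V W e).hom.toAlgebra
  letI := (f.appLE V (X.basicOpen g) ((X.basicOpen_le g).trans e)).hom.toAlgebra
  haveI := hW.isLocalization_basicOpen g
  haveI : IsScalarTower Γ(S, V) Γ(X, W) Γ(X, X.basicOpen g) := by
    have hcomp : f.appLE V (X.basicOpen g) ((X.basicOpen_le g).trans e) =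
        f.appLE V W e ≫ X.presheaf.map (homOfLE (X.basicOpen_le g)).op :=
      (Scheme.Hom.appLE_map f e (homOfLE (X.basicOpen_le g)).op).symm
    refine IsScalarTower.of_algebraMap_eq (fun a => ?_)
    show (f.appLE V (X.basicOpen g) ((X.basicOpen_le g).trans e)).hom a =
      (X.presheaf.map (homOfLE (X.basicOpen_le g)).op).hom ((f.appLE V W e).hom a)
    rw [hcomp]
    rfl
  exact ⟨(IsLocalization.algEquiv (Submonoid.powers g) (Localization.Away g)
    Γ(X, X.basicOpen g)).restrictScalars Γ(S, V)⟩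

/-- Local criterion: flat + finitely presented chart + complete intersection fibre stalk gives
`IsSyntomicAt`. -/
theorem isSyntomicAt_of_chart {X S : Scheme.{u}} (f : X ⟶ S) (x : X) (V : S.Opens)
    (hV : IsAffineOpen V) (W : X.Opens) (hW : IsAffineOpen W) (hWV : W ≤ f ⁻¹ᵁ V) (hxW : x ∈ W)
    (hfp : (f.appLE V W hWV).hom.FinitePresentation)
    (hfl : (f.appLE V W hWV).hom.Flat)
    (hci : ∃ (R0 : Type u) (_ : CommRing R0) (_ : IsRegularLocalRing R0) (rs0 : List R0),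
      RingTheory.Sequence.IsRegular R0 rs0 ∧
        Nonempty ((f.fiber (f x)).presheaf.stalk (f.asFiber x) ≃+* R0 ⧸ Ideal.ofList rs0)) :
    Synt.IsSyntomicAt f x := by
  letI alg : Algebra Γ(S, V) Γ(X, W) := (f.appLE V W hWV).hom.toAlgebra
  haveI hfp' : Algebra.FinitePresentation Γ(S, V) Γ(X, W) := hfp
  haveI hflatB : Module.Flat Γ(S, V) Γ(X, W) := hfl
  obtain ⟨q, hq⟩ : ∃ q, q = hW.primeIdealOf ⟨x, hxW⟩ := ⟨_, rfl⟩
  have hflat : Module.Flat Γ(S, V) (Localization.AtPrime q.asIdeal) :=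
    Module.Flat.trans _ Γ(X, W) _
  obtain ⟨e1⟩ := Groth.Agent.H9.CMFlatSch.nonempty_fibreStalk_equiv f x hV hW hWV hxW
  rw [← hq] at e1
  obtain ⟨R0, i1, i2, rs0, hreg, ⟨e2⟩⟩ := hci
  obtain ⟨n, φ, hφ, hfg⟩ := hfp'.out
  obtain ⟨g, hgq, n', c', F', hrel, ⟨e3⟩⟩ :=
    Groth.Agent.H66.RelCI.exists_relGCI_away φ hφ hfg q.asIdeal hflat
      ⟨R0, i1, i2, rs0, hreg, ⟨e1.symm.trans e2⟩⟩
  obtain ⟨e4⟩ := nonempty_basicOpen_equiv f V W hW hWV g
  refine ⟨⟨X.basicOpen g, hW.basicOpen g⟩, ⟨V, hV⟩, (X.basicOpen_le g).trans hWV,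
    Groth.Agent.S9368.mem_basicOpen_of_notMem W hW x hxW g (hq ▸ hgq), ?_⟩
  letI : Algebra Γ(S, V) Γ(X, X.basicOpen g) :=
    (f.appLE V (X.basicOpen g) ((X.basicOpen_le g).trans hWV)).hom.toAlgebra
  exact Groth.Agent.H66.RelCI.isSyntomic_of_algEquiv (e3.symm.trans e4)
    (Groth.Agent.H66.RelGCI.isSyntomic_of_isRelGCI Γ(S, V) n' c' F' hrel)


open AlgebraicGeometry CategoryTheory in
/-- If f : X → S is flat, locally of finite presentation, and every fibre X_s → Spec κ(s) is syntomic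
(X_s is a local complete intersection over κ(s)), then f is syntomic. -/
theorem result {X S : Scheme.{u}} (f : X ⟶ S) [Flat f] [LocallyOfFinitePresentation f]
    (hfib : ∀ s : S, Synt.IsSyntomicMor (f.fiberToSpecResidueField s)) :
    Synt.IsSyntomicMor f := by
  intro x
  obtain ⟨V, hV, hxV, -⟩ :=
    exists_isAffineOpen_mem_and_subset (X := S) (x := f.base x) (U := ⊤) trivial
  obtain ⟨W, hW, hxW, hWV⟩ :=
    exists_isAffineOpen_mem_and_subset (X := X) (x := x) (U := f ⁻¹ᵁ V) hxV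
  refine isSyntomicAt_of_chart f x V hV W hW hWV hxW (f.finitePresentation_appLE hV hW hWV)
    (f.flat_appLE hV hW hWV) ?_
  haveI : LocallyOfFiniteType (f.fiberToSpecResidueField (f x)) :=
    MorphismProperty.pullback_snd _ _ inferInstance
  have htfae := @Groth.Agent.S9368.result (IsLocalRing.ResidueField (S.presheaf.stalk (f x))) _
    (f.fiber (f x)) (f.fiberToSpecResidueField (f x)) this
  have h13 := htfae.out 0 2
  have h3 := h13.mp (hfib (f x)) (f.asFiber x)
  obtain ⟨R0, i1, i2, i3, hess, rs, hrsm, hreg, ⟨e2⟩⟩ := h3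
  letI := Groth.Agent.S9368.algStalk (k := IsLocalRing.ResidueField (S.presheaf.stalk (f x)))
    (f.fiberToSpecResidueField (f x)) (f.asFiber x)
  exact ⟨R0, i1, i2, rs, hreg, ⟨e2.toRingEquiv⟩⟩

end Groth.Agent.S9365
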