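import Groth.Statements.S9364
import Groth.Agent.Lead.SyntLocal
import Groth.Agent.S9365
import Groth.Agent.H66.RelCI4

set_option autoImplicit false
universe u
open Synt

namespace Groth.Agent.S9364

set_option linter.style.haveILetI false
open AlgebraicGeometry CategoryTheory Groth.Agent.Lead.SyntLocal

theorem respectsIso_Q : (RingHom.toMorphismProperty @Q).RespectsIso :=
  RingHom.toMorphismProperty_respectsIso_iff.mp propertyIsLocal.respectsIso

/-- a syntomic chart makes `U₀ ⟶ S` a syntomic morphism -/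
theorem syntMor_ι_comp {X S : Scheme.{u}} (f : X ⟶ S) (U₀ : X.affineOpens) (V₀ : S.affineOpens)
    (e₀ : U₀.1 ≤ f ⁻¹ᵁ V₀.1) (h : Q (f.appLE V₀.1 U₀.1 e₀).hom) : SyntMor (U₀.1.ι ≫ f) := by
  have h2 : SyntMor (f.resLE V₀.1 U₀.1 e₀) := by
    haveI : IsAffine (V₀.1 : Scheme) := V₀.2
    haveI : IsAffine (U₀.1 : Scheme) := U₀.2
    rw [HasRingHomProperty.iff_of_isAffine (P := SyntMor)]
    haveI := respectsIso_Q
    exact (MorphismProperty.arrow_mk_iso_iff (RingHom.toMorphismProperty @Q)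
      (arrowResLEAppIso f V₀.1 U₀.1 e₀)).mpr h
  rw [← Scheme.Hom.resLE_comp_ι f e₀]
  have := HasRingHomProperty.respects_isOpenImmersion (P := SyntMor)
    stableUnderCompositionWithLocalizationAwaySource
  exact MorphismProperty.RespectsRight.postcomp (Q := @IsOpenImmersion) _ inferInstance _ h2

theorem isStandardSyntomic_of_equiv {X S : Scheme.{u}} (f : X ⟶ S) (V : S.Opens)
    (hV : IsAffineOpen V) (U : X.Opens) (hU : IsAffineOpen U) (e : U ≤ f ⁻¹ᵁ V) (n c : ℕ)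
    (F : Fin c → MvPolynomial (Fin n) Γ(S, V)) (hrel : Synt.IsRelGCI Γ(S, V) n c F)
    (ψ : letI := (f.appLE V U e).hom.toAlgebra
      Synt.RelGCIRing Γ(S, V) n c F ≃ₐ[Γ(S, V)] Γ(X, U)) :
    Synt.IsStandardSyntomic (f.resLE V U e) := by
  letI := (f.appLE V U e).hom.toAlgebra
  let i : CommRingCat.of (Synt.RelGCIRing Γ(S, V) n c F) ≅ Γ(X, U) :=
    ψ.toRingEquiv.toCommRingCatIso
  refine ⟨Γ(S, V), inferInstance, n, c, F, hrel, hU.isoSpec ≪≫ Scheme.Spec.mapIso i.op,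
    hV.isoSpec, ?_⟩
  have hcomp : CommRingCat.ofHom (algebraMap Γ(S, V) (Synt.RelGCIRing Γ(S, V) n c F)) ≫ i.hom =
      f.appLE V U e := by
    ext r
    exact ψ.commutes r
  simp only [Iso.trans_hom, Functor.mapIso_hom, Iso.op_hom, Scheme.Spec_map, Quiver.Hom.unop_op,
    Category.assoc, IsAffineOpen.isoSpec_hom]
  rw [← Spec.map_comp, hcomp, Scheme.Opens.toSpecΓ_SpecMap_appLE]


open AlgebraicGeometry CategoryTheory in
/-- Let f : X → S, x ∈ X and V ⊆ S an affine open neighbourhood of f x. Then f is syntomic at x if and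
only if some affine open U ∋ x with f(U) ⊆ V has f|_U : U → V standard syntomic. -/
theorem result {X S : Scheme.{u}} (f : X ⟶ S) (x : X) (V : S.affineOpens)
    (hV : f.base x ∈ V.1) :
    Synt.IsSyntomicAt f x ↔
      ∃ (U : X.affineOpens) (e : U.1 ≤ f ⁻¹ᵁ V.1), x ∈ U.1 ∧ Synt.IsStandardSyntomic (f.resLE V.1 U.1 e) := by
  constructor
  · rintro ⟨U₀, V₀, e₀, hxU₀, hsyn⟩
    have hg : SyntMor (U₀.1.ι ≫ f) := syntMor_ι_comp f U₀ V₀ e₀ hsyn
    obtain ⟨x', hx'⟩ : ∃ x' : (U₀.1 : Scheme), U₀.1.ι.base x' = x := ⟨⟨x, hxU₀⟩, rfl⟩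
    obtain ⟨W', hW', hxW', hW'V⟩ := exists_isAffineOpen_mem_and_subset
      (X := (U₀.1 : Scheme)) (x := x') (U := (U₀.1.ι ≫ f) ⁻¹ᵁ V.1)
      (by show f.base (U₀.1.ι.base x') ∈ V.1; rw [hx']; exact hV)
    have hQ := HasRingHomProperty.appLE SyntMor (U₀.1.ι ≫ f) hg V ⟨W', hW'⟩ hW'V
    obtain ⟨W, hWdef⟩ : ∃ W : X.Opens, W = U₀.1.ι ''ᵁ W' := ⟨_, rfl⟩
    have hW : IsAffineOpen W := hWdef ▸ hW'.image_of_isOpenImmersion U₀.1.ι
    have hWV : W ≤ f ⁻¹ᵁ V.1 := by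
      rw [hWdef]
      rintro _ ⟨y', hy', rfl⟩
      exact hW'V hy'
    have hxW : x ∈ W := by
      rw [hWdef]
      exact ⟨x', hxW', hx'⟩
    have hQ' : Q (f.appLE V.1 W hWV).hom := by
      subst hWdef
      have h3 : (U₀.1.ι ≫ f).appLE V.1 W' hW'V = f.appLE V.1 (U₀.1.ι ''ᵁ W') hWV := by
        rw [← Scheme.Hom.appLE_comp_appLE U₀.1.ι f V.1 (U₀.1.ι ''ᵁ W') W' hWV
          (by intro y hy; exact ⟨y, hy, rfl⟩)]
        simp
        exact Category.comp_id _
      rwa [h3] at hQ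
    letI alg : Algebra Γ(S, V.1) Γ(X, W) := (f.appLE V.1 W hWV).hom.toAlgebra
    have hsynW : Synt.IsSyntomic Γ(S, V.1) Γ(X, W) := hQ'
    obtain ⟨g, hg, n, c, F, hrel, ⟨e3⟩⟩ :=
      Groth.Agent.H66.RelCI.exists_relGCI_of_isSyntomic hsynW (hW.primeIdealOf ⟨x, hxW⟩)
    obtain ⟨e4⟩ := Groth.Agent.S9365.nonempty_basicOpen_equiv f V.1 W hW hWV g
    refine ⟨⟨X.basicOpen g, hW.basicOpen g⟩, (X.basicOpen_le g).trans hWV,
      Groth.Agent.S9368.mem_basicOpen_of_notMem W hW x hxW g hg, ?_⟩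
    letI : Algebra Γ(S, V.1) Γ(X, X.basicOpen g) :=
      (f.appLE V.1 (X.basicOpen g) ((X.basicOpen_le g).trans hWV)).hom.toAlgebra
    exact isStandardSyntomic_of_equiv f V.1 V.2 (X.basicOpen g) (hW.basicOpen g)
      ((X.basicOpen_le g).trans hWV) n c F hrel (e3.symm.trans e4)
  · rintro ⟨U, e, hxU, R, _, n, c, F, hrel, e₁, e₂, hcompat⟩
    refine ⟨U, V, e, hxU, ?_⟩
    have h1 : SyntMor (Spec.map (CommRingCat.ofHom
        (algebraMap R (Synt.RelGCIRing R n c F)))) := by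
      rw [HasRingHomProperty.Spec_iff (P := SyntMor)]
      exact Q_algebraMap_iff.mpr (Groth.Agent.H66.RelGCI.isSyntomic_of_isRelGCI R n c F hrel)
    have h2 : SyntMor (f.resLE V.1 U.1 e) := by
      have h3 : f.resLE V.1 U.1 e = e₁.hom ≫ Spec.map (CommRingCat.ofHom
          (algebraMap R (Synt.RelGCIRing R n c F))) ≫ e₂.inv := by
        rw [← Category.assoc, hcompat, Category.assoc, Iso.hom_inv_id, Category.comp_id]
      rw [h3]
      exact (MorphismProperty.cancel_left_of_respectsIso SyntMor e₁.hom _).mpr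
        ((MorphismProperty.cancel_right_of_respectsIso SyntMor _ e₂.inv).mpr h1)
    haveI : IsAffine (V.1 : Scheme) := V.2
    haveI : IsAffine (U.1 : Scheme) := U.2
    rw [HasRingHomProperty.iff_of_isAffine (P := SyntMor)] at h2
    haveI := respectsIso_Q
    exact (MorphismProperty.arrow_mk_iso_iff (RingHom.toMorphismProperty @Q)
      (arrowResLEAppIso f V.1 U.1 e)).mp h2

end Groth.Agent.S9364
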