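import Groth.Statements.S9367
import Groth.Agent.H66.RelCI3

set_option autoImplicit false
universe u
open Synt

namespace Groth.Agent.S9367

open AlgebraicGeometry CategoryTheory in
/-- If f : X → S is syntomic, then x ↦ dim_x(X_{f x}) is locally constant on X. -/
theorem result {X S : Scheme.{u}} (f : X ⟶ S) (hf : Synt.IsSyntomicMor f) :
    IsLocallyConstant (fun x : ↑X => FlatMor.fibreDimAt f x) := by
  rw [IsLocallyConstant.iff_exists_open]
  intro x
  obtain ⟨U, V, e, hxU, hsyn⟩ := hf x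
  letI : Algebra Γ(S, V.1) Γ(X, U.1) := (f.appLE V.1 U.1 e).hom.toAlgebra
  have hx' : x ∈ Set.range U.2.fromSpec.base := by
    rw [U.2.range_fromSpec]; exact hxU
  obtain ⟨q0, rfl⟩ := hx'
  obtain ⟨g, hg, m, hm⟩ := Groth.Agent.H66.RelCI.exists_tfd_const_of_isSyntomic hsyn q0
  refine ⟨U.2.fromSpec.base '' (PrimeSpectrum.basicOpen g : Set (PrimeSpectrum Γ(X, U.1))),
    U.2.fromSpec.isOpenEmbedding.isOpenMap _ (PrimeSpectrum.basicOpen g).2, ⟨q0, hg, rfl⟩, ?_⟩
  rintro _ ⟨y, hy, rfl⟩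
  show FlatMor.fibreDimAt f _ = FlatMor.fibreDimAt f _
  rw [Groth.Agent.H9.FibDim.fibreDimAt_fromSpec f U.2 V.2 e y,
    Groth.Agent.H9.FibDim.fibreDimAt_fromSpec f U.2 V.2 e q0]
  exact (hm y hy).trans (hm q0 hg).symm

end Groth.Agent.S9367
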