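import Groth.Statements.S9373
import Groth.Agent.H8.QCohStalk

set_option autoImplicit false
universe u
open QCohSub

namespace Groth.Agent.S9373

open AlgebraicGeometry CategoryTheory in
/-- The support of a quasi-coherent O_X-module is closed under specialization. -/
theorem result (X : Scheme.{u}) (F : X.Modules) (hF : Coh.IsQCoh F) :
    StableUnderSpecialization (CohB1.support F) := by
  haveI : F.IsQuasicoherent := hF
  intro x y hxy hx hysub
  obtain ⟨_, ⟨U, hU, rfl⟩, hyU, -⟩ := X.isBasis_affineOpens.exists_subset_of_mem_open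
    (Set.mem_univ y) isOpen_univ
  have hxU : x ∈ U := hxy.mem_open U.2 hyU
  apply hx
  refine ⟨fun a b => ?_⟩
  suffices h : ∀ t : F.presheaf.stalk x, t = 0 by rw [h a, h b]
  intro t
  obtain ⟨a, hxa, n, hn⟩ := H8.exists_germ_smul_eq_germ F hU x hxU t
  have h0 : F.presheaf.germ U y hyU n = 0 := Subsingleton.elim _ _
  obtain ⟨b, hyb, hbn⟩ := H8.exists_smul_eq_zero_of_germ_eq_zero F hU y hyU n h0
  have hxb : x ∈ X.basicOpen b := hxy.mem_open (X.basicOpen b).2 hyb
  have hua : IsUnit (X.presheaf.germ U x hxU a) := (Scheme.mem_basicOpen _ _ _ hxU).mp hxa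
  have hub : IsUnit (X.presheaf.germ U x hxU b) := (Scheme.mem_basicOpen _ _ _ hxU).mp hxb
  have h1 : (X.presheaf.germ U x hxU b * X.presheaf.germ U x hxU a) • t = 0 := by
    rw [mul_smul, hn, ← H8.germ_smul, hbn, map_zero]
  obtain ⟨u, hu⟩ := hub.mul hua
  rw [← hu, ← Units.smul_def] at h1
  exact (smul_eq_zero_iff_eq u).mp h1

end Groth.Agent.S9373
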