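import Groth.Statements.S9374
import Groth.Agent.H9.CMFlatApp

set_option linter.style.haveILetI false

set_option autoImplicit false
universe u
open FibDim

namespace Groth.Agent.S9374


open AlgebraicGeometry CategoryTheory in
theorem result' {X S : Scheme.{u}} (f : X ⟶ S) [Flat f]
    [LocallyOfFinitePresentation f] (hcm : ∀ x : X, MoreMor.IsCMAt f x) :
    IsLocallyConstant (fun x : ↑X => FlatMor.fibreDimAt f x) := by
  rw [IsLocallyConstant.iff_exists_open]
  intro x
  obtain ⟨n, U', hxU', h⟩ := Groth.Agent.H9.CMFlatApp.exists_open_cm f x (hcm x)
  exact ⟨U', U'.2, hxU', fun z hz => by rw [(h z hz).2, (h x hxU').2]⟩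


open AlgebraicGeometry CategoryTheory in
/-- Let f : X → S be flat, locally of finite presentation, with Cohen–Macaulay fibres. Then x ↦
dim_x(X_{f x}) is locally constant on X. (The published statement also decomposes X into the open
and closed pieces X_d = {dim_x(X_{f x}) = d} and says f has relative dimension d on X_d; this row
asserts only the local constancy.) -/
theorem result {X S : Scheme.{u}} (f : X ⟶ S) [Flat f]
    [LocallyOfFinitePresentation f] (hcm : ∀ x : X, MoreMor.IsCMAt f x) :
    IsLocallyConstant (fun x : ↑X => FlatMor.fibreDimAt f x) := by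
  exact result' f hcm

end Groth.Agent.S9374
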