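import Groth.Statements.S9377
import Groth.Agent.H8.SchSupport

set_option autoImplicit false
universe u
open QCohSub

namespace Groth.Agent.S9377

open AlgebraicGeometry CategoryTheory Opposite in
/-- A finite type quasi-coherent O_X-module F has a scheme-theoretic support: a closed subscheme Z
(ideal sheaf J), cut out on each affine open U by the annihilator of F(U), such that F ≅ i_* i^* F
via the unit, any other closed subscheme for which this unit is an isomorphism contains Z (i.e. its
ideal sheaf lies below J), and Z has the same underlying set as Supp(F). (The published statement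
also says that the O_Z-module G with i_*G ≅ F is unique up to unique isomorphism and of finite type;
those clauses are not stated here.) -/
theorem result (X : Scheme.{u}) (F : X.Modules) (hq : Coh.IsQCoh F) (hft : CohB1.IsFT F) :
    ∃ J : X.IdealSheafData,
      (∀ U : X.affineOpens, J.ideal U = Module.annihilator Γ(X, U.1) Γ(F, U.1)) ∧
        IsIso ((Scheme.Modules.pullbackPushforwardAdjunction J.subschemeι).unit.app F) ∧
          (∀ J' : X.IdealSheafData, IsIso ((Scheme.Modules.pullbackPushforwardAdjunction J'.subschemeι).unit.app F) → J' ≤ J) ∧
            (J.support : Set ↑X) = CohB1.support F := by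
  haveI : F.IsQuasicoherent := hq
  haveI : SheafOfModules.IsFiniteType (R := X.ringCatSheaf) F := hft
  exact ⟨Groth.Agent.H8.annIdealSheaf F, fun U => rfl, Groth.Agent.H8.isIso_unit_annIdealSheaf F,
    fun J' h => Groth.Agent.H8.le_annIdealSheaf_of_isIso_unit F J' h,
    Groth.Agent.H8.support_annIdealSheaf F⟩

end Groth.Agent.S9377
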