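import Groth.Statements.S9378
-- import your own Groth.Agent.* helpers here
import Groth.Agent.S8872
import Groth.Agent.H13.OmegaBC
import Groth.Agent.H9.ComapIdeal
import Groth.Agent.H8.PullbackSections
import Groth.Agent.H8.PullbackFinType

set_option autoImplicit false
universe u
open QCohSub

namespace Groth.Agent.S9378

open AlgebraicGeometry CategoryTheory Opposite TensorProduct Groth.Agent.H8

set_option linter.style.haveILetI false

section Algebra

universe v w

variable {R : Type u} [CommRing R] (S : Submonoid R) (R' : Type w) [CommRing R'] [Algebra R R']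
  [IsLocalization S R'] {M : Type v} [AddCommGroup M] [Module R M] {M' : Type*} [AddCommGroup M']
  [Module R M'] [Module R' M'] [IsScalarTower R R' M'] (f : M →ₗ[R] M') [IsLocalizedModule S f]

include S f in
/-- Annihilators of finite modules commute with localization, for abstract localizations. -/
theorem annihilator_of_isLocalizedModule [Module.Finite R M] :
    Module.annihilator R' M' = (Module.annihilator R M).map (algebraMap R R') := by
  have hbc : IsBaseChange R' f := IsLocalizedModule.isBaseChange S R' f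
  haveI : Module.Flat R R' := IsLocalization.flat R' S
  rw [← H13.OmegaBC.annihilator_baseChange_of_flat (R := R) (S := R') (M := M)]
  exact hbc.equiv.symm.annihilator_eq

end Algebra

section Sheaf

variable {X : Scheme.{u}} (F : X.Modules) [F.IsQuasicoherent]

/-- The annihilators on affine opens, as an ideal sheaf datum (for a quasi-coherent module with
finite modules of sections on affine opens). -/
noncomputable def annData (hfin : ∀ U : X.affineOpens, Module.Finite Γ(X, U.1) Γ(F, U.1)) :
    X.IdealSheafData where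
  ideal U := Module.annihilator Γ(X, U.1) Γ(F, U.1)
  map_ideal_basicOpen U f := by
    haveI := hfin U
    letI := moduleSectionBasicOpen F f
    haveI : IsScalarTower Γ(X, U.1) Γ(X, X.basicOpen f) Γ(F, X.basicOpen f) :=
      IsScalarTower.of_algebraMap_smul fun r m => rfl
    haveI := isLocalizedModule_resBasicOpenₗ U.2 F f
    haveI := U.2.isLocalization_basicOpen f
    exact (annihilator_of_isLocalizedModule (Submonoid.powers f) Γ(X, X.basicOpen f)
      (resBasicOpenₗ F f)).symm

end Sheaf

open AlgebraicGeometry CategoryTheory Opposite in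
/-- Let f : Y → X be flat and F a quasi-coherent O_X-module of finite type, where the ideal sheaf J
(given by annihilators on affine opens) defines the scheme-theoretic support of F. Then the inverse
image ideal sheaf of J along f cuts out the scheme-theoretic support of f^*F. -/
theorem result {Y X : Scheme.{u}} (f : Y ⟶ X) [Flat f] (F : X.Modules)
    (hq : Coh.IsQCoh F) (hft : CohB1.IsFT F) (J : X.IdealSheafData)
    (hJ : ∀ U : X.affineOpens, J.ideal U = Module.annihilator Γ(X, U.1) Γ(F, U.1)) :
    ∀ V : Y.affineOpens, (J.comap f).ideal V =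
      Module.annihilator Γ(Y, V.1) Γ((Scheme.Modules.pullback f).obj F, V.1) := by
  classical
  haveI : F.IsQuasicoherent := hq
  haveI : SheafOfModules.IsFiniteType (R := X.ringCatSheaf) F := hft
  haveI := isQuasicoherent_pullback f F
  haveI : SheafOfModules.IsFiniteType (R := Y.ringCatSheaf) ((Scheme.Modules.pullback f).obj F) :=
    isFiniteType_pullback f F
  obtain ⟨G, hG⟩ : ∃ G : Y.Modules, G = (Scheme.Modules.pullback f).obj F := ⟨_, rfl⟩
  rw [← hG]
  haveI : G.IsQuasicoherent := hG ▸ isQuasicoherent_pullback f F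
  haveI : SheafOfModules.IsFiniteType (R := Y.ringCatSheaf) G := hG ▸ isFiniteType_pullback f F
  have hfin : ∀ W : Y.affineOpens, Module.Finite Γ(Y, W.1) Γ(G, W.1) :=
    fun W => finite_sections_of_isAffineOpen G W.2
  suffices h : J.comap f = annData G hfin by
    intro V
    rw [h]
    rfl
  let ι := {V : Y.affineOpens // ∃ U : X.affineOpens, (V : Y.Opens) ≤ f ⁻¹ᵁ (U : X.Opens)}
  have hcov : ⨆ i : ι, ((i.1 : Y.affineOpens) : Y.Opens) = ⊤ := by
    apply le_antisymm le_top
    intro x' _
    obtain ⟨U, hU, hxU, -⟩ := exists_isAffineOpen_mem_and_subset (x := f x')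
      (U := (⊤ : X.Opens)) trivial
    obtain ⟨U', hU', hxU', hU'le⟩ := exists_isAffineOpen_mem_and_subset (x := x')
      (U := f ⁻¹ᵁ U) hxU
    exact TopologicalSpace.Opens.mem_iSup.mpr ⟨⟨⟨U', hU'⟩, ⟨⟨U, hU⟩, hU'le⟩⟩, hxU'⟩
  refine Scheme.IdealSheafData.ext_of_iSup_eq_top (fun i : ι => i.1) hcov ?_
  rintro ⟨V, U, e⟩
  rw [Groth.Agent.H9.comap_ideal f _ U V e, hJ U]
  change _ = Module.annihilator Γ(Y, V.1) Γ(G, V.1)
  letI := (f.appLE U.1 V.1 e).hom.toAlgebra
  haveI := finite_sections_of_isAffineOpen F U.2
  haveI : Module.Flat Γ(X, U.1) Γ(Y, V.1) := by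
    have := Flat.flat_appLE f U.2 V.2 e
    exact this
  have E : Γ(G, V.1) ≃ₗ[Γ(Y, V.1)] Γ(Y, V.1) ⊗[Γ(X, U.1)] Γ(F, U.1) := by
    subst hG
    exact sectionsPullbackEquiv f F U.2 V.2 e
  have hbc := H13.OmegaBC.annihilator_baseChange_of_flat (R := Γ(X, U.1)) (S := Γ(Y, V.1))
    (M := Γ(F, U.1))
  have hmap : (Module.annihilator Γ(X, U.1) Γ(F, U.1)).map (f.appLE U.1 V.1 e).hom =
      Module.annihilator Γ(Y, V.1) (Γ(Y, V.1) ⊗[Γ(X, U.1)] Γ(F, U.1)) := hbc.symm
  rw [hmap]
  exact E.symm.annihilator_eq

end Groth.Agent.S9378
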