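import Groth.Statements.S9381
import Groth.Agent.H54.FibreTdeg

set_option autoImplicit false
universe u
open FibDim

namespace Groth.Agent.S9381

open AlgebraicGeometry CategoryTheory in
/-- Let f : X → S be locally of finite type and x ⤳ x' a nontrivial specialization of points of X in the
same fibre (f x = f x'). Then trdeg_{κ(f x)} κ(x) > trdeg_{κ(f x')} κ(x'). -/
theorem result {X S : Scheme.{u}} (f : X ⟶ S) [LocallyOfFiniteType f] (x x' : X)
    (hsp : x ⤳ x') (hne : x ≠ x') (hfx : f.base x = f.base x') :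
    @Algebra.trdeg (S.residueField (f.base x')) (X.residueField x') _ _ (f.residueFieldMap x').hom.toAlgebra <
      @Algebra.trdeg (S.residueField (f.base x)) (X.residueField x) _ _ (f.residueFieldMap x).hom.toAlgebra := by

  obtain ⟨s, hs⟩ : ∃ s, f.base x' = s := ⟨_, rfl⟩
  have hx's : x' ∈ Set.range (f.fiberι s) := by rw [f.range_fiberι s]; exact hs
  have hxs : x ∈ Set.range (f.fiberι s) := by rw [f.range_fiberι s]; exact hfx.trans hs
  obtain ⟨z', rfl⟩ := hx's
  obtain ⟨z, rfl⟩ := hxs
  have hsp' : z ⤳ z' := (f.fiberι s).isEmbedding.isInducing.specializes_iff.mp hsp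
  have hne' : z ≠ z' := fun h => hne (congrArg _ h)
  have h1 := Groth.Agent.H54.tdeg_lt_of_specializes (Groth.Agent.H54.fiberQ f s) hsp' hne'
  have e1 := Groth.Agent.H54.trdeg_fiber_eq f s z
  have e2 := Groth.Agent.H54.trdeg_fiber_eq f s z'
  exact e2.trans_lt ((Nat.cast_lt.mpr h1).trans_eq e1.symm)

end Groth.Agent.S9381
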