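import Groth.Statements.S9387
-- import your own Groth.Agent.* helpers here
import Groth.Agent.H39.DerFin

set_option autoImplicit false
universe u
open OmegaSh

namespace Groth.Agent.S9387



open AlgebraicGeometry CategoryTheory in
/-- If f : X → S is locally of finite type then Ω_{X/S} is an O_X-module of finite type (for any
receptacle Ω of a universal S-derivation). -/
theorem result {X S : Scheme.{u}} (f : X ⟶ S) [LocallyOfFiniteType f]
    (Ω : X.Modules) (d : OmegaSh.Der f Ω) (hd : OmegaSh.IsUniversal d) : CohB1.IsFT Ω := by
  exact Groth.Agent.H39.DerFin.isFiniteType_of_isUniversal f hd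

end Groth.Agent.S9387
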