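import Groth.Statements.S9389
import Mathlib.AlgebraicGeometry.Morphisms.UniversallyOpen

set_option autoImplicit false
universe u
open QFin

namespace Groth.Agent.S9389

open AlgebraicGeometry CategoryTheory Limits in
lemma quasiFiniteAt_of_isPullback {X S X' S' : Scheme.{u}} (f : X ⟶ S) (g : S' ⟶ S)
    (g' : X' ⟶ X) (f' : X' ⟶ S') (hsq : IsPullback g' f' f g) (x' : X')
    (hx : f.QuasiFiniteAt (g'.base x')) : f'.QuasiFiniteAt x' := by
  rw [Scheme.Hom.quasiFiniteAt_iff] at hx ⊢
  have hP : IsPullback (pullback.fst (X.fromSpecStalk (g' x')) g')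
      (pullback.snd (X.fromSpecStalk (g' x')) g') (X.fromSpecStalk (g' x')) g' :=
    IsPullback.of_hasPullback _ _
  have hbig := hP.paste_vert hsq
  have h1 : LocallyQuasiFinite (pullback.snd (X.fromSpecStalk (g' x')) g' ≫ f') :=
    MorphismProperty.of_isPullback (P := @LocallyQuasiFinite) hbig hx
  let a : Spec (X'.presheaf.stalk x') ⟶ pullback (X.fromSpecStalk (g' x')) g' :=
    pullback.lift (Spec.map (g'.stalkMap x')) (X'.fromSpecStalk x')
      (Scheme.SpecMap_stalkMap_fromSpecStalk g')
  have ha : a ≫ pullback.snd (X.fromSpecStalk (g' x')) g' = X'.fromSpecStalk x' :=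
    pullback.lift_snd _ _ _
  have h2 : LocallyQuasiFinite (a ≫ pullback.snd (X.fromSpecStalk (g' x')) g') := by
    rw [ha]; infer_instance
  have h3 : LocallyQuasiFinite a :=
    LocallyQuasiFinite.of_comp a (pullback.snd (X.fromSpecStalk (g' x')) g')
  have h4 : X'.fromSpecStalk x' ≫ f' = a ≫ (pullback.snd (X.fromSpecStalk (g' x')) g' ≫ f') := by
    rw [← Category.assoc, ha]
  rw [h4]
  infer_instance

open AlgebraicGeometry CategoryTheory Limits in
lemma quasiFiniteAt_of_isOpen_singleton {X S : Scheme.{u}} (f : X ⟶ S) [LocallyOfFiniteType f]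
    (s : S) (z : f.fiber s) (x : X) (hx : f.fiberι s z = x) (hz : IsOpen ({z} : Set (f.fiber s))) :
    f.QuasiFiniteAt x := by
  have hs : f x = s := by
    have : x ∈ Set.range (f.fiberι s) := ⟨z, hx⟩
    rw [f.range_fiberι] at this
    exact this
  subst hs
  have hz' : z = f.asFiber x := by
    apply (f.fiberι (f x)).isEmbedding.injective
    rw [hx, f.fiberι_asFiber]
  rw [hz'] at hz
  exact Scheme.Hom.quasiFiniteAt_iff_isOpen_singleton_asFiber.mpr hz

open AlgebraicGeometry CategoryTheory Limits in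
lemma key {X S : Scheme.{u}} (f : X ⟶ S) [LocallyOfFiniteType f] {F' K' X' : Scheme.{u}} (s : S)
    (H : F' ⟶ f.fiber s) (a : F' ⟶ K') (c : K' ⟶ Spec (S.residueField s))
    (hpb : IsPullback H a (f.fiberToSpecResidueField s) c)
    (ι' : F' ⟶ X') (g' : X' ⟶ X) (hcomm : H ≫ f.fiberι s = ι' ≫ g')
    (z' : F') (hz' : IsOpen ({z'} : Set F')) : f.QuasiFiniteAt (g' (ι' z')) := by
  have hc : UniversallyOpen c := inferInstance
  have hH : UniversallyOpen H := MorphismProperty.of_isPullback (P := @UniversallyOpen) hpb.flip hc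
  have h2 := H.isOpenMap _ hz'
  have h2' : IsOpen ({H z'} : Set (f.fiber s)) := by
    have e : ({H z'} : Set (f.fiber s)) = H '' {z'} := (Set.image_singleton).symm
    rw [e]
    exact h2
  refine quasiFiniteAt_of_isOpen_singleton f s (H z') _ ?_ h2'
  rw [← Scheme.Hom.comp_apply, hcomm, Scheme.Hom.comp_apply]

open AlgebraicGeometry CategoryTheory Limits in
lemma quasiFiniteAt_of_isPullback' {X S X' S' : Scheme.{u}} (f : X ⟶ S) [LocallyOfFiniteType f]
    (g : S' ⟶ S) (g' : X' ⟶ X) (f' : X' ⟶ S') (hsq : IsPullback g' f' f g) (x' : X')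
    (hx : f'.QuasiFiniteAt x') : f.QuasiFiniteAt (g'.base x') := by
  have : LocallyOfFiniteType f' := MorphismProperty.of_isPullback hsq ‹_›
  have hpb := isPullback_fiberToSpecResidueField_of_isPullback hsq (f' x')
  have hopen := Scheme.Hom.quasiFiniteAt_iff_isOpen_singleton_asFiber.mp hx
  have h := key f (g (f' x')) _ _ _ hpb (f'.fiberι (f' x')) g' (pullback.lift_fst _ _ _)
    (f'.asFiber x') hopen
  have e : (f'.fiberι (f' x')) (f'.asFiber x') = x' := f'.fiberι_asFiber x'
  have e2 : g' ((f'.fiberι (f' x')) (f'.asFiber x')) = g' x' := congrArg _ e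
  exact e2 ▸ h

open AlgebraicGeometry CategoryTheory in
/-- For f : X → S locally of finite type and a cartesian square with base change f' : X' → S', g' : X' →
X, the quasi-finite locus of f' is the inverse image under g' of the quasi-finite locus of f. -/
theorem result {X S X' S' : Scheme.{u}} (f : X ⟶ S) [LocallyOfFiniteType f] (g : S' ⟶ S)
    (g' : X' ⟶ X) (f' : X' ⟶ S') (hsq : IsPullback g' f' f g) :
    {x' : ↑X' | f'.QuasiFiniteAt x'} = g'.base ⁻¹' {x : ↑X | f.QuasiFiniteAt x} := by
  ext x'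
  simp only [Set.mem_ofPred_eq, Set.mem_preimage]
  exact ⟨quasiFiniteAt_of_isPullback' f g g' f' hsq x', quasiFiniteAt_of_isPullback f g g' f' hsq x'⟩

end Groth.Agent.S9389
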