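import Groth.Statements.S9393
import Mathlib
import Groth.Agent.H47.IntegralClosureLoc

set_option autoImplicit false
universe u
open CAlg

namespace Groth.Agent.S9393

/-- Being N-1 can be checked on a finite cover of Spec R by principal opens whose rings are N-1 domains. -/
theorem result (R : Type u) [CommRing R] [IsDomain R]
    {ι : Type u} [Finite ι] (f : ι → R) (hf : Ideal.span (Set.range f) = ⊤)
    (Rf : ι → Type u) [∀ i, CommRing (Rf i)] [∀ i, IsDomain (Rf i)] [∀ i, Algebra R (Rf i)]
    [∀ i, IsLocalization.Away (f i) (Rf i)] (h : ∀ i, CAlg.IsN1 (Rf i)) : CAlg.IsN1 R := by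
  unfold CAlg.IsN1 at h ⊢
  letI alg : ∀ i, Algebra (Rf i) (FractionRing R) :=
    fun i => Groth.Agent.H47.algebraAwayFractionRing (f i) (Rf i)
  haveI tower : ∀ i, IsScalarTower R (Rf i) (FractionRing R) :=
    fun i => Groth.Agent.H47.isScalarTower_algebraAwayFractionRing (f i) (Rf i)
  haveI frac : ∀ i, IsFractionRing (Rf i) (FractionRing R) := fun i =>
    IsFractionRing.isFractionRing_of_isDomain_of_isLocalization (Submonoid.powers (f i)) (Rf i)
      (FractionRing R)
  have h1 : ∀ i, Module.Finite (Rf i) (integralClosure (Rf i) (FractionRing R)) := fun i =>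
    let e : FractionRing (Rf i) ≃ₐ[Rf i] FractionRing R :=
      FractionRing.algEquiv (Rf i) (FractionRing R)
    haveI := h i
    Module.Finite.equiv (AlgEquiv.mapIntegralClosure e).toLinearEquiv
  exact Groth.Agent.H47.finite_integralClosure_of_span_eq_top f hf Rf h1

end Groth.Agent.S9393
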