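import Groth.Statements.S9394
import Mathlib
import Groth.Agent.H47.IntegralClosureLoc

set_option autoImplicit false
universe u
open CAlg

namespace Groth.Agent.S9394

lemma n2_transfer {A : Type u} [CommRing A] [IsDomain A] (hA : CAlg.IsN2 A) (K : Type u) [Field K]
    [Algebra A K] [IsFractionRing A K] (L : Type u) [Field L] [Algebra K L] [Algebra A L]
    [IsScalarTower A K L] [FiniteDimensional K L] : Module.Finite A (integralClosure A L) := by
  let e : FractionRing A ≃ₐ[A] K := FractionRing.algEquiv A K
  letI algFK : Algebra (FractionRing A) K := (e : FractionRing A →+* K).toAlgebra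
  letI algFL : Algebra (FractionRing A) L :=
    ((algebraMap K L).comp (algebraMap (FractionRing A) K)).toAlgebra
  haveI : IsScalarTower (FractionRing A) K L := IsScalarTower.of_algebraMap_eq (fun _ => rfl)
  haveI : IsScalarTower A (FractionRing A) L := IsScalarTower.of_algebraMap_eq (fun r => by
    show algebraMap A L r = algebraMap K L (e (algebraMap A (FractionRing A) r))
    rw [e.commutes, ← IsScalarTower.algebraMap_apply A K L])
  haveI : Module.Finite (FractionRing A) K :=
    RingHom.finite_algebraMap.mp (RingHom.Finite.of_surjective _ e.surjective)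
  haveI : Module.Finite (FractionRing A) L := Module.Finite.trans K L
  exact hA L inferInstance

/-- Being N-2 (Japanese) can be checked on a finite cover of Spec R by principal opens whose rings are
N-2 domains. -/
theorem result (R : Type u) [CommRing R] [IsDomain R]
    {ι : Type u} [Finite ι] (f : ι → R) (hf : Ideal.span (Set.range f) = ⊤)
    (Rf : ι → Type u) [∀ i, CommRing (Rf i)] [∀ i, IsDomain (Rf i)] [∀ i, Algebra R (Rf i)]
    [∀ i, IsLocalization.Away (f i) (Rf i)] (h : ∀ i, CAlg.IsN2 (Rf i)) : CAlg.IsN2 R := by
  intro L _ _ _ _ hfd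
  letI alg : ∀ i, Algebra (Rf i) (FractionRing R) :=
    fun i => Groth.Agent.H47.algebraAwayFractionRing (f i) (Rf i)
  haveI tower : ∀ i, IsScalarTower R (Rf i) (FractionRing R) :=
    fun i => Groth.Agent.H47.isScalarTower_algebraAwayFractionRing (f i) (Rf i)
  haveI frac : ∀ i, IsFractionRing (Rf i) (FractionRing R) := fun i =>
    IsFractionRing.isFractionRing_of_isDomain_of_isLocalization (Submonoid.powers (f i)) (Rf i)
      (FractionRing R)
  letI algL : ∀ i, Algebra (Rf i) L := fun i =>
    ((algebraMap (FractionRing R) L).comp (algebraMap (Rf i) (FractionRing R))).toAlgebra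
  haveI : ∀ i, IsScalarTower (Rf i) (FractionRing R) L :=
    fun i => IsScalarTower.of_algebraMap_eq (fun _ => rfl)
  haveI : ∀ i, IsScalarTower R (Rf i) L := fun i => IsScalarTower.of_algebraMap_eq (fun r => by
    show algebraMap R L r = algebraMap (FractionRing R) L
      (algebraMap (Rf i) (FractionRing R) (algebraMap R (Rf i) r))
    rw [← IsScalarTower.algebraMap_apply R (Rf i) (FractionRing R),
      ← IsScalarTower.algebraMap_apply R (FractionRing R) L])
  haveI : FiniteDimensional (FractionRing R) L := hfd
  have h1 : ∀ i, Module.Finite (Rf i) (integralClosure (Rf i) L) :=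
    fun i => n2_transfer (h i) (FractionRing R) L
  exact Groth.Agent.H47.finite_integralClosure_of_span_eq_top f hf Rf h1

end Groth.Agent.S9394
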