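import Groth.Statements.S9395
import Mathlib

set_option autoImplicit false
set_option linter.style.haveILetI false
universe u
open CAlg

namespace Groth.Agent.S9395

/-- For a Noetherian domain R, if the Laurent polynomial ring R[X, 1/X] (the localization of R[X] away
from X) is N-1, then R is N-1. -/
theorem result (R : Type u) [CommRing R] [IsDomain R] [IsNoetherianRing R]
    (S : Type u) [CommRing S] [IsDomain S] [Algebra (Polynomial R) S]
    [IsLocalization.Away (Polynomial.X : Polynomial R) S] (h : CAlg.IsN1 S) : CAlg.IsN1 R := by
  classical
  unfold CAlg.IsN1 at h ⊢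
  -- algebra structures
  letI : Algebra R S := ((algebraMap (Polynomial R) S).comp Polynomial.C).toAlgebra
  haveI : IsScalarTower R (Polynomial R) S := IsScalarTower.of_algebraMap_eq (fun _ => rfl)
  have hX0 : (Polynomial.X : Polynomial R) ≠ 0 := Polynomial.X_ne_zero
  have hinjPS : Function.Injective (algebraMap (Polynomial R) S) :=
    IsLocalization.injective S (powers_le_nonZeroDivisors_of_noZeroDivisors hX0)
  have hinjSL : Function.Injective (algebraMap S (FractionRing S)) :=
    IsFractionRing.injective S (FractionRing S)
  have hinjRS : Function.Injective (algebraMap R S) := by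
    rw [IsScalarTower.algebraMap_eq R (Polynomial R) S]
    exact hinjPS.comp Polynomial.C_injective
  haveI : FaithfulSMul R (FractionRing S) :=
    (faithfulSMul_iff_algebraMap_injective R (FractionRing S)).mpr (by
      rw [IsScalarTower.algebraMap_eq R S (FractionRing S)]
      exact hinjSL.comp hinjRS)
  letI : Algebra (FractionRing R) (FractionRing S) := FractionRing.liftAlgebra R (FractionRing S)
  haveI : IsScalarTower R (FractionRing R) (FractionRing S) :=
    FractionRing.isScalarTower_liftAlgebra R (FractionRing S)
  haveI : IsNoetherianRing S :=
    IsLocalization.isNoetherianRing (Submonoid.powers (Polynomial.X : Polynomial R)) S inferInstance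
  -- images of integral elements are integral over S
  have hint : ∀ z ∈ integralClosure R (FractionRing R),
      algebraMap (FractionRing R) (FractionRing S) z ∈ integralClosure S (FractionRing S) := by
    intro z hz
    have h1 : IsIntegral R (algebraMap (FractionRing R) (FractionRing S) z) :=
      IsIntegral.map (IsScalarTower.toAlgHom R (FractionRing R) (FractionRing S)) hz
    exact h1.tower_top
  -- the S-span of the image is finitely generated
  have hCfg : (Subalgebra.toSubmodule (integralClosure S (FractionRing S))).FG :=
    (Module.Finite.iff_fg (N := Subalgebra.toSubmodule (integralClosure S (FractionRing S)))).mp h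
  haveI hCnoeth : IsNoetherian S (Subalgebra.toSubmodule (integralClosure S (FractionRing S))) :=
    isNoetherian_of_fg_of_noetherian _ hCfg
  have hNle : Submodule.span S ((algebraMap (FractionRing R) (FractionRing S)) ''
      (integralClosure R (FractionRing R) : Set (FractionRing R))) ≤
      Subalgebra.toSubmodule (integralClosure S (FractionRing S)) := by
    rw [Submodule.span_le]
    rintro _ ⟨z, hz, rfl⟩
    exact hint z hz
  have hNfg := (isNoetherian_submodule.mp hCnoeth) _ hNle
  obtain ⟨F', hF'sub, hF'span⟩ := (Submodule.fg_span_iff_fg_span_finset_subset _).mp hNfg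
  obtain ⟨F, hFsub, rfl⟩ := Finset.subset_set_image_iff.mp hF'sub
  -- notation
  set ι : FractionRing R →+* FractionRing S := algebraMap (FractionRing R) (FractionRing S) with hι
  have hιinj : Function.Injective ι := ι.injective
  -- the R-algebra map R[X] → L
  let g : Polynomial R →ₐ[R] FractionRing S :=
    (IsScalarTower.toAlgHom R S (FractionRing S)).comp (IsScalarTower.toAlgHom R (Polynomial R) S)
  have hginj : Function.Injective g := hinjSL.comp hinjPS
  set xL : FractionRing S := g Polynomial.X with hxL
  have hgaeval : ∀ q : Polynomial R, Polynomial.aeval xL q = g q := by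
    intro q
    rw [hxL, Polynomial.aeval_algHom_apply, Polynomial.aeval_X_left, AlgHom.id_apply]
  have htrR : Transcendental R xL := by
    rw [transcendental_iff_injective]
    intro a b hab
    rw [hgaeval, hgaeval] at hab
    exact hginj hab
  have htrK : Transcendental (FractionRing R) xL := fun hk =>
    htrR ((IsFractionRing.isAlgebraic_iff R (FractionRing R) (FractionRing S)).mpr hk)
  have hΦinj : Function.Injective (Polynomial.aeval (R := FractionRing R) xL) :=
    transcendental_iff_injective.mp htrK
  have hΦmap : ∀ q : Polynomial R,
      Polynomial.aeval xL (q.map (algebraMap R (FractionRing R))) = g q := by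
    intro q
    rw [Polynomial.aeval_map_algebraMap, hgaeval]
  refine (Module.Finite.iff_fg
    (N := Subalgebra.toSubmodule (integralClosure R (FractionRing R)))).mpr ⟨F, ?_⟩
  apply le_antisymm
  · rw [Submodule.span_le]; exact hFsub
  · intro z hz
    have hz1 : ι z ∈ Submodule.span S (↑(F.image ι) : Set (FractionRing S)) := by
      rw [← hF'span]; exact Submodule.subset_span ⟨z, hz, rfl⟩
    obtain ⟨c, -, hc⟩ := Submodule.mem_span_finset.mp hz1
    rw [Finset.sum_image (fun a _ b _ hab => hιinj hab)] at hc
    obtain ⟨⟨_, N, rfl⟩, hb⟩ := IsLocalization.exist_integer_multiples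
      (Submonoid.powers (Polynomial.X : Polynomial R)) F (fun y => c (ι y))
    choose! p hp using hb
    have hp' : ∀ y ∈ F, algebraMap (Polynomial R) S (p y) =
        algebraMap (Polynomial R) S (Polynomial.X ^ N) * c (ι y) := by
      intro y hy
      rw [hp y hy]
      exact Algebra.smul_def (Polynomial.X ^ N : Polynomial R) (c (ι y))
    -- key equation in L
    have hkeyL : xL ^ N * ι z = ∑ y ∈ F, g (p y) * ι y := by
      rw [← hc, Finset.mul_sum]
      apply Finset.sum_congr rfl
      intro y hy
      have h1 : g (p y) = xL ^ N * algebraMap S (FractionRing S) (c (ι y)) := by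
        show algebraMap S (FractionRing S) (algebraMap (Polynomial R) S (p y)) = _
        rw [hp' y hy, map_mul, hxL]
        show _ = (algebraMap S (FractionRing S) (algebraMap (Polynomial R) S Polynomial.X)) ^ N * _
        rw [map_pow, map_pow]
      rw [h1, Algebra.smul_def, mul_assoc]
    -- transfer to K[X]
    have hkeyP : (Polynomial.X : Polynomial (FractionRing R)) ^ N * Polynomial.C z =
        ∑ y ∈ F, (p y).map (algebraMap R (FractionRing R)) * Polynomial.C y := by
      apply hΦinj
      rw [map_mul, map_pow, Polynomial.aeval_X, Polynomial.aeval_C, map_sum]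
      rw [show algebraMap (FractionRing R) (FractionRing S) z = ι z from rfl, hkeyL]
      apply Finset.sum_congr rfl
      intro y hy
      rw [map_mul, hΦmap, Polynomial.aeval_C]
    have hcoeff := congrArg (fun q => Polynomial.coeff q N) hkeyP
    simp only [Polynomial.finsetSum_coeff, Polynomial.coeff_mul_C, Polynomial.coeff_map,
      Polynomial.coeff_X_pow_self, one_mul] at hcoeff
    rw [hcoeff]
    apply Submodule.sum_mem
    intro y hy
    rw [← Algebra.smul_def]
    exact Submodule.smul_mem _ _ (Submodule.subset_span hy)

end Groth.Agent.S9395
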