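import Groth.Statements.S9397
import Mathlib

set_option autoImplicit false
universe u
open CAlg

namespace Groth.Agent.S9397

theorem isFractionRing_adjoin (S : Type u) [CommRing S] [IsDomain S] (L : Type u) [Field L]
    [Algebra S L] [Algebra (FractionRing S) L] [IsScalarTower S (FractionRing S) L]
    {ι : Type u} [Finite ι] (b : Module.Basis ι (FractionRing S) L) :
    IsFractionRing (Algebra.adjoin S (Set.range b)) L where
  map_units := by
    rintro ⟨y, hy⟩
    have hy0 : y ≠ 0 := nonZeroDivisors.ne_zero hy
    refine IsUnit.mk0 _ ?_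
    intro h0
    apply hy0
    exact Subtype.ext h0
  surj := by
    intro z
    have hinj : Function.Injective (algebraMap S L) := by
      rw [IsScalarTower.algebraMap_eq S (FractionRing S) L]
      exact (algebraMap (FractionRing S) L).injective.comp
        (IsFractionRing.injective S (FractionRing S))
    haveI := Fintype.ofFinite ι
    obtain ⟨d, hd⟩ := IsLocalization.exist_integer_multiples_of_finite (nonZeroDivisors S)
      (fun i : ι => b.repr z i)
    have hmem : (d : S) • z ∈ Algebra.adjoin S (Set.range b) := by
      have hz : z = ∑ i, b.repr z i • b i := (b.sum_repr z).symm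
      rw [hz, Finset.smul_sum]
      refine Subalgebra.sum_mem _ (fun i _ => ?_)
      obtain ⟨a, ha⟩ := hd i
      have : (d : S) • (b.repr z i • b i) = a • (b i) := by
        rw [← smul_assoc, ← ha, algebraMap_smul]
      rw [this]
      exact Subalgebra.smul_mem _ (Algebra.subset_adjoin (Set.mem_range_self i)) a
    have hd0 : algebraMap S L d ≠ 0 :=
      (map_ne_zero_iff _ hinj).mpr (nonZeroDivisors.ne_zero d.2)
    refine ⟨⟨⟨(d : S) • z, hmem⟩, ⟨⟨algebraMap S L d, Subalgebra.algebraMap_mem _ _⟩, ?_⟩⟩, ?_⟩
    · refine mem_nonZeroDivisors_of_ne_zero ?_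
      intro h0
      exact hd0 (congrArg Subtype.val h0)
    · show z * algebraMap S L d = (d : S) • z
      rw [Algebra.smul_def, mul_comm]
  exists_of_eq := by
    intro x y h
    exact ⟨1, by rw [Subtype.ext h]⟩

theorem finite_integralClosure_of_isN1 (D : Type u) [CommRing D] [IsDomain D] (hD : CAlg.IsN1 D)
    (F : Type u) [Field F] [Algebra D F] [IsFractionRing D F] :
    Module.Finite D (integralClosure D F) := by
  haveI : Module.Finite D (integralClosure D (FractionRing D)) := hD
  exact Module.Finite.equiv
    (AlgEquiv.mapIntegralClosure (FractionRing.algEquiv D F)).toLinearEquiv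

/-- A ring R is universally Japanese provided that each R-algebra of finite type which is a domain is
N-1. -/
theorem result (R : Type u) [CommRing R]
    (h : ∀ (S : Type u) [CommRing S] [IsDomain S] [Algebra R S], Algebra.FiniteType R S → CAlg.IsN1 S) :
    CAlg.IsUniversallyJapanese R := by
  intro S _ _ _ hS L _ _ _ _ hfd
  haveI := hfd
  obtain ⟨s, b, hb⟩ := FiniteDimensional.exists_is_basis_integral S (FractionRing S) L
  haveI hfrac : IsFractionRing (Algebra.adjoin S (Set.range b)) L := isFractionRing_adjoin S L b
  haveI hint : Algebra.IsIntegral S (Algebra.adjoin S (Set.range b)) :=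
    Algebra.IsIntegral.adjoin (by rintro _ ⟨i, rfl⟩; exact hb i)
  have hft' : Algebra.FiniteType S (Algebra.adjoin S (Set.range b)) :=
    ⟨(Subalgebra.fg_top _).mpr (Subalgebra.fg_def.mpr ⟨_, Set.finite_range b, rfl⟩)⟩
  haveI := hft'
  haveI hfin : Module.Finite S (Algebra.adjoin S (Set.range b)) := Algebra.IsIntegral.finite
  letI : Algebra R (Algebra.adjoin S (Set.range b)) :=
    ((algebraMap S (Algebra.adjoin S (Set.range b))).comp (algebraMap R S)).toAlgebra
  haveI : IsScalarTower R S (Algebra.adjoin S (Set.range b)) :=
    IsScalarTower.of_algebraMap_eq (fun _ => rfl)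
  have hN1 : CAlg.IsN1 (Algebra.adjoin S (Set.range b)) :=
    h (Algebra.adjoin S (Set.range b)) (Algebra.FiniteType.trans hS hft')
  haveI h1 : Module.Finite (Algebra.adjoin S (Set.range b))
      (integralClosure (Algebra.adjoin S (Set.range b)) L) :=
    finite_integralClosure_of_isN1 (Algebra.adjoin S (Set.range b)) hN1 L
  haveI h2 : Module.Finite S (integralClosure (Algebra.adjoin S (Set.range b)) L) :=
    Module.Finite.trans (Algebra.adjoin S (Set.range b)) _
  let φ : integralClosure (Algebra.adjoin S (Set.range b)) L →ₗ[S] integralClosure S L :=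
    { toFun := fun x => ⟨x.1, isIntegral_trans x.1 x.2⟩
      map_add' := fun x y => rfl
      map_smul' := fun c x => rfl }
  refine Module.Finite.of_surjective φ ?_
  rintro ⟨x, hx⟩
  exact ⟨⟨x, IsIntegral.tower_top hx⟩, rfl⟩

end Groth.Agent.S9397
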