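import Groth.Statements.S9398
import Mathlib
import Groth.Agent.S9392

set_option autoImplicit false
universe u
open CAlg

namespace Groth.Agent.S9398

/-- An algebra essentially of finite type over a universally Japanese ring is universally Japanese. -/
theorem result (R : Type u) [CommRing R]
    (hR : CAlg.IsUniversallyJapanese R) (T : Type u) [CommRing T] [Algebra R T]
    [Algebra.EssFiniteType R T] : CAlg.IsUniversallyJapanese T := by
  intro S _ _ _ hS
  letI : Algebra R S := ((algebraMap T S).comp (algebraMap R T)).toAlgebra
  haveI : IsScalarTower R T S := IsScalarTower.of_algebraMap_eq (fun _ => rfl)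
  haveI := hS
  haveI : Algebra.EssFiniteType T S := inferInstance
  haveI : Algebra.EssFiniteType R S := Algebra.EssFiniteType.comp R T S
  have h0 : CAlg.IsN2 (Algebra.EssFiniteType.subalgebra R S) :=
    hR (Algebra.EssFiniteType.subalgebra R S) inferInstance
  exact Groth.Agent.S9392.result (Algebra.EssFiniteType.subalgebra R S)
    (Algebra.EssFiniteType.submonoid R S) S h0

end Groth.Agent.S9398
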