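import Groth.Statements.S9399
import Mathlib
import Groth.Agent.S9394

set_option autoImplicit false
universe u
open CAlg

namespace Groth.Agent.S9399

/-- Being universally Japanese can be checked on a finite cover of Spec R by principal opens. -/
theorem result (R : Type u) [CommRing R]
    {ι : Type u} [Finite ι] (f : ι → R) (hf : Ideal.span (Set.range f) = ⊤)
    (h : ∀ i, CAlg.IsUniversallyJapanese (Localization.Away (f i))) :
    CAlg.IsUniversallyJapanese R := by
  intro S _ _ _ hS
  let ι' : Type u := {i : ι // algebraMap R S (f i) ≠ 0}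
  let f' : ι' → S := fun i => algebraMap R S (f i.1)
  have hf' : Ideal.span (Set.range f') = ⊤ := by
    have h1 : Ideal.map (algebraMap R S) (Ideal.span (Set.range f)) = ⊤ := by
      rw [hf, Ideal.map_top]
    rw [Ideal.map_span] at h1
    rw [eq_top_iff, ← h1]
    refine Ideal.span_le.mpr ?_
    rintro _ ⟨_, ⟨i, rfl⟩, rfl⟩
    by_cases hi : algebraMap R S (f i) = 0
    · rw [hi]; exact Ideal.zero_mem _
    · exact Ideal.subset_span ⟨⟨i, hi⟩, rfl⟩
  let Sf : ι' → Type u := fun i => Localization.Away (algebraMap R S (f i.1))
  haveI hdom : ∀ i, IsDomain (Sf i) := fun i =>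
    IsLocalization.isDomain_localization (powers_le_nonZeroDivisors_of_noZeroDivisors i.2)
  haveI hloc : ∀ i, IsLocalization.Away (f' i) (Sf i) := fun i =>
    (inferInstance : IsLocalization.Away (algebraMap R S (f i.1))
      (Localization.Away (algebraMap R S (f i.1))))
  have h' : ∀ i, CAlg.IsN2 (Sf i) := fun i => by
    letI : Algebra (Localization.Away (f i.1)) (Sf i) :=
      (IsLocalization.Away.map (Localization.Away (f i.1))
        (Localization.Away (algebraMap R S (f i.1))) (algebraMap R S) (f i.1)).toAlgebra
    have hft : Algebra.FiniteType (Localization.Away (f i.1)) (Sf i) :=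
      RingHom.localization_away_map_finiteType R S (Localization.Away (f i.1))
        (Localization.Away (algebraMap R S (f i.1))) (algebraMap R S) (f i.1)
        (RingHom.finiteType_algebraMap.mpr hS)
    exact h i.1 (Sf i) hft
  exact Groth.Agent.S9394.result S (ι := ι') f' hf' Sf h'

end Groth.Agent.S9399
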