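import Groth.Statements.S9400
import Mathlib
import Groth.Agent.S9394

set_option autoImplicit false
universe u
open CAlg

namespace Groth.Agent.S9400

/-- Being a Nagata ring can be checked on a finite cover of Spec R by principal opens. -/
theorem result (R : Type u) [CommRing R]
    {ι : Type u} [Finite ι] (f : ι → R) (hf : Ideal.span (Set.range f) = ⊤)
    (h : ∀ i, CAlg.IsNagata (Localization.Away (f i))) : CAlg.IsNagata R := by
  refine ⟨?_, ?_⟩
  · rw [isNoetherianRing_iff_ideal_fg]
    intro I
    refine Ideal.fg_of_localizationSpan (Set.range f) hf (fun g => ?_)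
    obtain ⟨g, i, rfl⟩ := g
    haveI := (h i).1
    exact (isNoetherianRing_iff_ideal_fg _).mp inferInstance _
  · intro p hp
    let ι' : Type u := {i : ι // f i ∉ p}
    let f' : ι' → R ⧸ p := fun i => algebraMap R (R ⧸ p) (f i.1)
    have hf' : Ideal.span (Set.range f') = ⊤ := by
      have h1 : Ideal.map (algebraMap R (R ⧸ p)) (Ideal.span (Set.range f)) = ⊤ := by
        rw [hf, Ideal.map_top]
      rw [Ideal.map_span] at h1
      rw [eq_top_iff, ← h1]
      refine Ideal.span_le.mpr ?_
      rintro _ ⟨_, ⟨i, rfl⟩, rfl⟩
      by_cases hi : f i ∈ p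
      · have : algebraMap R (R ⧸ p) (f i) = 0 := Ideal.Quotient.eq_zero_iff_mem.mpr hi
        rw [this]
        exact Ideal.zero_mem _
      · exact Ideal.subset_span ⟨⟨i, hi⟩, rfl⟩
    have hprime : ∀ i : ι', (p.map (algebraMap R (Localization.Away (f i.1)))).IsPrime := by
      intro i
      refine IsLocalization.isPrime_of_isPrime_disjoint (Submonoid.powers (f i.1)) _ p hp ?_
      rw [Set.disjoint_left]
      rintro x ⟨n, rfl⟩ hx
      exact i.2 (hp.mem_of_pow_mem n hx)
    let Rf : ι' → Type u := fun i =>
      Localization.Away (f i.1) ⧸ p.map (algebraMap R (Localization.Away (f i.1)))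
    haveI hdom : ∀ i, IsDomain (Rf i) := fun i => by
      haveI := hprime i
      exact Ideal.Quotient.isDomain _
    haveI hloc : ∀ i, IsLocalization.Away (f' i) (Rf i) := fun i => by
      have : IsLocalization (Algebra.algebraMapSubmonoid (R ⧸ p) (Submonoid.powers (f i.1)))
          (Localization.Away (f i.1) ⧸ p.map (algebraMap R (Localization.Away (f i.1)))) :=
        inferInstance
      rw [Algebra.algebraMapSubmonoid, Submonoid.map_powers] at this
      exact this
    have h' : ∀ i, CAlg.IsN2 (Rf i) := fun i => by
      haveI := hprime i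
      exact (h i.1).2 (p.map (algebraMap R (Localization.Away (f i.1))))
    exact Groth.Agent.S9394.result (R ⧸ p) (ι := ι') f' hf' Rf h'

end Groth.Agent.S9400
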