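import Groth.Statements.S9401
import Groth.Agent.H11.FFNagata
import Groth.Agent.S9407

set_option autoImplicit false
universe u
open CAlg

namespace Groth.Agent.S9401

/-- The Nagata property descends along smooth ring maps that are surjective on spectra. -/
theorem result (R : Type u) [CommRing R] (S : Type u)
    [CommRing S] [Algebra R S] [Algebra.Smooth R S]
    (hs : Function.Surjective (PrimeSpectrum.comap (algebraMap R S))) (hS : CAlg.IsNagata S) :
    CAlg.IsNagata R := by
  haveI : Module.FaithfullyFlat R S := Module.FaithfullyFlat.of_comap_surjective hs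
  refine Groth.Agent.H11.FFNagata.isNagata_of_faithfullyFlat R S hS ?_
  intro p _ L _ _ _ _ _
  haveI : IsReduced (TensorProduct (R ⧸ p) L (TensorProduct R (R ⧸ p) S)) :=
    Groth.Agent.S9407.result L (TensorProduct (R ⧸ p) L (TensorProduct R (R ⧸ p) S))
  exact isReduced_of_injective
    (Algebra.TensorProduct.comm (R ⧸ p) (TensorProduct R (R ⧸ p) S) L).toAlgHom.toRingHom
    (Algebra.TensorProduct.comm (R ⧸ p) (TensorProduct R (R ⧸ p) S) L).injective

end Groth.Agent.S9401
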