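import Groth.Statements.S9403
import Mathlib.RingTheory.Filtration
import Mathlib.Tactic.LinearCombination
import Mathlib.Tactic.Ring
import Mathlib.RingTheory.LocalRing.MaximalIdeal.Basic

set_option autoImplicit false
universe u
open CAlg

namespace Groth.Agent.S9403

/-- Let R → S be a ring map with S a Noetherian local ring which is an algebra over the rationals, and f
∈ S such that some S-linear form on the module of differentials of S over R sends df to 1 (df spans
a free direct summand of rank one). Then f is a nonzerodivisor of S. (The published statement asks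
only that S·df be a direct summand of the module of differentials, which also holds for the
rationals with a square-zero element adjoined, where f is a zero divisor; this row asks for an
S-linear form on the differentials sending df to 1, as the published proof uses.) -/
theorem result (R : Type u) [CommRing R]
    (S : Type u) [CommRing S] [IsLocalRing S] [IsNoetherianRing S] [Algebra R S] [Algebra ℚ S]
    (f : S) (θ : Ω[S⁄R] →ₗ[S] S) (hθ : θ (KaehlerDifferential.D R S f) = 1) : f ∈ nonZeroDivisors S := by
  by_cases hu : IsUnit f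
  · exact hu.mem_nonZeroDivisors
  have hfm : f ∈ IsLocalRing.maximalIdeal S := (IsLocalRing.mem_maximalIdeal f).mpr hu
  -- key step
  have key : ∀ (n : ℕ) (h : S), f ^ (n + 1) * h = 0 → f ^ n * h ∈ Ideal.span {f ^ (n + 1)} := by
    intro n h hh
    have e := congrArg θ (congrArg (KaehlerDifferential.D R S) hh)
    rw [Derivation.leibniz, Derivation.leibniz_pow, map_zero, map_zero, map_add, map_smul,
      map_smul, map_nsmul, map_smul, hθ] at e
    simp only [Nat.add_sub_cancel, smul_eq_mul, mul_one, nsmul_eq_mul] at e
    have hunit : IsUnit ((n + 1 : ℕ) : S) := by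
      have h4 : ((n + 1 : ℕ) : S) = algebraMap ℚ S ((n + 1 : ℕ) : ℚ) := by simp
      rw [h4]
      exact (IsUnit.mk0 _ (by exact_mod_cast Nat.succ_ne_zero n)).map _
    obtain ⟨u, hu'⟩ := hunit
    rw [Ideal.mem_span_singleton]
    refine ⟨-(↑u⁻¹ : S) * θ (KaehlerDifferential.D R S h), ?_⟩
    have e2 : (u : S) * (f ^ n * h) = -(f ^ (n + 1) * θ (KaehlerDifferential.D R S h)) := by
      rw [hu']
      linear_combination e
    calc f ^ n * h = (↑u⁻¹ : S) * ((u : S) * (f ^ n * h)) := by
          rw [← mul_assoc, Units.inv_mul, one_mul]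
      _ = f ^ (n + 1) * (-(↑u⁻¹ : S) * θ (KaehlerDifferential.D R S h)) := by
          rw [e2]; ring
  rw [mem_nonZeroDivisors_iff_right]
  intro g hg
  have hg' : f * g = 0 := by rw [mul_comm]; exact hg
  have hmem : ∀ n : ℕ, ∃ gn : S, g = f ^ n * gn := by
    intro n
    induction n with
    | zero => exact ⟨g, by simp⟩
    | succ n ih =>
      obtain ⟨gn, hgn⟩ := ih
      have h1 : f ^ (n + 1) * gn = 0 := by
        rw [pow_succ', mul_assoc, ← hgn, hg']
      have h2 := key n gn h1
      rw [Ideal.mem_span_singleton] at h2
      obtain ⟨c, hc⟩ := h2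
      exact ⟨c, by rw [hgn, hc]⟩
  have hbot : g ∈ (⨅ i : ℕ, (IsLocalRing.maximalIdeal S) ^ i) := by
    rw [Ideal.mem_iInf]
    intro n
    obtain ⟨gn, hgn⟩ := hmem n
    rw [hgn]
    exact Ideal.mul_mem_right _ _ (Ideal.pow_mem_pow hfm n)
  rw [Ideal.iInf_pow_eq_bot_of_isLocalRing _ (IsLocalRing.maximalIdeal.isMaximal S).ne_top] at hbot
  exact hbot

end Groth.Agent.S9403
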