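import Groth.Statements.S9414
-- import your own Groth.Agent.* helpers here
import Mathlib

set_option autoImplicit false
universe u
open CAlg

namespace Groth.Agent.S9414

open TensorProduct in
/-- If `k → S/m` is bijective then `m/m² ≃ (S/m) ⊗ Ω[S/k]` (as `S`-modules). -/
theorem aux (k : Type u) [Field k] (S : Type u) [CommRing S] [Algebra k S]
    (m : Ideal S) (hB : Function.Bijective (algebraMap k (S ⧸ m))) :
    ∃ F : m.Cotangent →ₗ[S] ((S ⧸ m) ⊗[S] Ω[S⁄k]), Function.Bijective F := by
  classical
  let e : k ≃+* (S ⧸ m) := RingEquiv.ofBijective (algebraMap k _) hB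
  let c : S →+* k := (e.symm : (S ⧸ m) →+* k).comp (Ideal.Quotient.mk m)
  have hc1 : ∀ b : S, algebraMap k (S ⧸ m) (c b) = Ideal.Quotient.mk m b := by
    intro b
    exact e.apply_symm_apply _
  have hres : ∀ x : k, Ideal.Quotient.mk m (algebraMap k S x) = algebraMap k (S ⧸ m) x := by
    intro x
    rfl
  have hc2 : ∀ b : S, b - algebraMap k S (c b) ∈ m := by
    intro b
    rw [← Ideal.Quotient.eq_zero_iff_mem, map_sub, hres, hc1, sub_self]
  have hc0 : ∀ b ∈ m, c b = 0 := by
    intro b hb
    have h0 : Ideal.Quotient.mk m b = 0 := Ideal.Quotient.eq_zero_iff_mem.2 hb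
    simp [c, h0]
  have hc3 : ∀ x : k, c (algebraMap k S x) = x := by
    intro x
    apply hB.injective
    rw [hc1, hres]
  have hVk : ∀ (b : S) (v : m.Cotangent), b • v = c b • v := by
    intro b v
    have h1 : (b - algebraMap k S (c b)) • v = 0 := Ideal.Cotangent.smul_eq_zero_of_mem (hc2 b) v
    rw [sub_smul, sub_eq_zero, algebraMap_smul] at h1
    exact h1
  let δ : S → m.Cotangent := fun b => m.toCotangent ⟨b - algebraMap k S (c b), hc2 b⟩
  have hδadd : ∀ b b', δ (b + b') = δ b + δ b' := by
    intro b b'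
    simp only [δ]
    rw [← map_add]
    congr 1
    ext
    simp only [map_add, Submodule.coe_add]
    ring
  have hδmul : ∀ b b', δ (b * b') = b • δ b' + b' • δ b := by
    intro b b'
    simp only [δ]
    rw [← map_smul, ← map_smul, ← map_add, Ideal.toCotangent_eq]
    have h3 : ((b * b' - algebraMap k S (c (b * b'))) - (b * (b' - algebraMap k S (c b')) +
        b' * (b - algebraMap k S (c b)))) =
        -((b - algebraMap k S (c b)) * (b' - algebraMap k S (c b'))) := by
      rw [map_mul, map_mul]; ring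
    simp only [Submodule.coe_add, Submodule.coe_smul, smul_eq_mul]
    rw [h3, pow_two]
    exact neg_mem (Ideal.mul_mem_mul (hc2 b) (hc2 b'))
  have hδm : ∀ (x : S) (hx : x ∈ m), δ x = m.toCotangent ⟨x, hx⟩ := by
    intro x hx
    simp only [δ]
    congr 1
    ext
    simp [hc0 x hx]
  have hδk : ∀ x : k, δ (algebraMap k S x) = 0 := by
    intro x
    simp only [δ]
    rw [Ideal.toCotangent_eq_zero]
    simp [hc3]
  have halg : algebraMap S (S ⧸ m) = Ideal.Quotient.mk m := rfl
  have hsurjB : Function.Surjective (algebraMap S (S ⧸ m)) := Ideal.Quotient.mk_surjective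
  have hsurjA : Function.Surjective (algebraMap k (S ⧸ m)) := hB.surjective
  have hker : RingHom.ker (algebraMap S (S ⧸ m)) = m := by
    rw [halg]; exact Ideal.mk_ker
  obtain ⟨F, hFsurj, hF⟩ : ∃ F : m.Cotangent →ₗ[S] ((S ⧸ m) ⊗[S] Ω[S⁄k]),
      Function.Surjective F ∧ ∀ x : m,
        F (m.toCotangent x) = (1 : S ⧸ m) ⊗ₜ[S] KaehlerDifferential.D k S (x : S) := by
    have key : ∀ (I : Ideal S) (hI : RingHom.ker (algebraMap S (S ⧸ m)) = I),
        ∃ F : I.Cotangent →ₗ[S] ((S ⧸ m) ⊗[S] Ω[S⁄k]),
        Function.Surjective F ∧ ∀ x : I, F (I.toCotangent x) =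
          (1 : S ⧸ m) ⊗ₜ[S] KaehlerDifferential.D k S (x : S) := by
      intro I hI
      subst hI
      refine ⟨KaehlerDifferential.kerCotangentToTensor k S (S ⧸ m), ?_, fun x => rfl⟩
      have hex := KaehlerDifferential.exact_kerCotangentToTensor_mapBaseChange k S (S ⧸ m) hsurjB
      have : Subsingleton (Ω[(S ⧸ m)⁄k]) :=
        KaehlerDifferential.subsingleton_of_surjective k _ hsurjA
      intro y
      exact (hex y).1 (Subsingleton.elim _ _)
    exact key _ hker
  refine ⟨F, ?_, hFsurj⟩
  rw [injective_iff_map_eq_zero]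
  intro v hv
  rw [← Module.forall_dual_apply_eq_zero_iff k]
  intro ℓ
  let L' : m.Cotangent →ₗ[S] (S ⧸ m) :=
    { toFun := fun v => algebraMap k (S ⧸ m) (ℓ v)
      map_add' := by intro v w; rw [map_add, map_add]
      map_smul' := by
        intro b v
        simp only [RingHom.id_apply]
        rw [hVk, map_smul, smul_eq_mul, map_mul, hc1, Algebra.smul_def, halg] }
  let lin : S →ₗ[k] (S ⧸ m) :=
    { toFun := fun b => L' (δ b)
      map_add' := by intro b b'; rw [hδadd, map_add]
      map_smul' := by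
        intro a b
        simp only [RingHom.id_apply]
        rw [Algebra.smul_def, hδmul, map_add, map_smul, map_smul, algebraMap_smul, hδk, map_zero,
          smul_zero, add_zero] }
  let Dℓ : Derivation k S (S ⧸ m) := Derivation.mk' lin (by
    intro b b'
    show L' (δ (b * b')) = b • L' (δ b') + b' • L' (δ b)
    rw [hδmul, map_add, map_smul, map_smul])
  let G : (S ⧸ m) ⊗[S] Ω[S⁄k] →ₗ[S ⧸ m] (S ⧸ m) := Dℓ.liftKaehlerDifferential.liftBaseChange _
  obtain ⟨x, rfl⟩ := Ideal.toCotangent_surjective _ v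
  have h5 := congrArg G hv
  rw [hF, LinearMap.liftBaseChange_tmul, one_smul, Derivation.liftKaehlerDifferential_comp_D,
    map_zero] at h5
  have h6 : algebraMap k (S ⧸ m) (ℓ (δ (x : S))) = 0 := h5
  rw [hδm _ x.2] at h6
  exact (map_eq_zero_iff _ hB.injective).1 h6

open TensorProduct in
/-- For an algebraically closed field k, a finite type k-algebra S and a maximal ideal m of S with
residue field κ = S/m, the κ-vector spaces κ ⊗_S Ω_{S/k} and m/m² have the same dimension. -/
theorem result (k : Type u) [Field k]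
    [IsAlgClosed k] (S : Type u) [CommRing S] [Algebra k S] [Algebra.FiniteType k S]
    (m : Ideal S) [m.IsMaximal] :
    Module.finrank (S ⧸ m) ((S ⧸ m) ⊗[S] Ω[S⁄k]) = Module.finrank (S ⧸ m) m.Cotangent := by
  have hB : Function.Bijective (algebraMap k (S ⧸ m)) := by
    let _ : Field (S ⧸ m) := Ideal.Quotient.field m
    have : Algebra.FiniteType k (S ⧸ m) :=
      Algebra.FiniteType.of_surjective (Ideal.Quotient.mkₐ k m) (Ideal.Quotient.mkₐ_surjective k m)
    have : Module.Finite k (S ⧸ m) := finite_of_finite_type_of_isJacobsonRing k (S ⧸ m)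
    exact IsAlgClosed.algebraMap_bijective_of_isIntegral
  obtain ⟨F, hF⟩ := aux k S m hB
  let e := LinearEquiv.ofBijective F hF
  exact ((e.extendScalarsOfSurjective (S := S ⧸ m) Ideal.Quotient.mk_surjective).finrank_eq).symm

end Groth.Agent.S9414
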