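import Groth.Statements.S9431
import Mathlib

set_option autoImplicit false
universe u
open CAlg

namespace Groth.Agent.S9431

open TensorProduct

/-- MacLane's criterion, one direction: over a geometrically reduced field extension in
characteristic `p`, the `p`-th powers of linearly independent elements stay independent. -/
theorem linearIndepOn_pow {k : Type u} [Field k] {K : Type u} [Field K] [Algebra k K]
    [Algebra.IsGeometricallyReduced k K] (p : ℕ) [hp : Fact p.Prime] [CharP k p] (s : Finset K)
    (hs : LinearIndepOn k _root_.id (s : Set K)) : LinearIndepOn k (· ^ p) (s : Set K) := by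
  classical
  rw [linearIndepOn_finset_iff]
  intro c hc x hx
  have hd : ∀ x : K, ∃ d : AlgebraicClosure k,
      d ^ p = algebraMap k (AlgebraicClosure k) (c x) :=
    fun x => IsAlgClosed.exists_pow_nat_eq _ hp.out.pos
  choose d hd using hd
  haveI : Nontrivial (AlgebraicClosure k ⊗[k] K) :=
    Algebra.TensorProduct.nontrivial_of_algebraMap_injective_of_flat_left k (AlgebraicClosure k) K
      (algebraMap k K).injective
  haveI : CharP (AlgebraicClosure k ⊗[k] K) p :=
    charP_of_injective_algebraMap (algebraMap k (AlgebraicClosure k ⊗[k] K)).injective p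
  haveI : ExpChar (AlgebraicClosure k ⊗[k] K) p := ExpChar.prime hp.out
  have hξ : (∑ x ∈ s, d x ⊗ₜ[k] x) ^ p = 0 := by
    rw [sum_pow_char]
    have : ∀ x : K, (d x ⊗ₜ[k] x) ^ p = (1 : AlgebraicClosure k) ⊗ₜ[k] (c x • x ^ p) :=
      fun x => by
        rw [Algebra.TensorProduct.tmul_pow, hd, Algebra.algebraMap_eq_smul_one,
          TensorProduct.smul_tmul]
    simp only [this, ← TensorProduct.tmul_sum]
    rw [show ∑ x ∈ s, c x • x ^ p = 0 from hc, TensorProduct.tmul_zero]
  have hξ0 : ∑ x ∈ s, d x ⊗ₜ[k] x = 0 := IsNilpotent.eq_zero ⟨p, hξ⟩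
  have h1 : LinearIndepOn (AlgebraicClosure k)
      (fun x : K => (1 : AlgebraicClosure k) ⊗ₜ[k] x) (s : Set K) :=
    Module.Flat.linearIndependent_one_tmul (S := AlgebraicClosure k) hs
  have hdx : d x = 0 := by
    refine linearIndepOn_finset_iff.mp h1 d ?_ x hx
    rw [← hξ0]
    refine Finset.sum_congr rfl fun i _ => ?_
    rw [TensorProduct.smul_tmul', smul_eq_mul, mul_one]
  have := hd x
  rw [hdx, zero_pow hp.out.ne_zero] at this
  exact (map_eq_zero_iff _ (algebraMap k (AlgebraicClosure k)).injective).mp this.symm

/-- A finitely generated geometrically reduced field extension is formally smooth. -/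
theorem formallySmooth_of_isGeometricallyReduced (k : Type u) [Field k] (L : Type u) [Field L]
    [Algebra k L] [Algebra.EssFiniteType k L] [Algebra.IsGeometricallyReduced k L] :
    Algebra.FormallySmooth k L := by
  obtain _ | ⟨p, hp, hpk⟩ := CharP.exists' k
  · infer_instance
  · haveI : ExpChar k p := .prime hp.out
    obtain ⟨s, hs, hsep⟩ :=
      exists_isTranscendenceBasis_and_isSeparable_of_linearIndepOn_pow_of_essFiniteType
        (k := k) (K := L) p hp.out (fun s hs => linearIndepOn_pow p s hs)
    have : Algebra.IsSeparable (↥(IntermediateField.adjoin k (Set.range ((↑) : s → L)))) L := by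
      convert! hsep <;> simp
    exact .of_algebraicIndependent_of_isSeparable hs.1

/-- For a separable (geometrically reduced) field extension K/k, every finite subset of K lies in a
k-subalgebra of K which is smooth over k; in particular K is a filtered colimit of smooth
k-algebras. -/
theorem result (k : Type u) [Field k]
    (K : Type u) [Field K] [Algebra k K] [Algebra.IsGeometricallyReduced k K] (E : Finset K) :
    ∃ A : Subalgebra k K, (↑E : Set K) ⊆ (A : Set K) ∧ Algebra.Smooth k A := by
  classical
  open scoped IntermediateField.algebraAdjoinAdjoin in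
  have main : ∃ A : Subalgebra k K, (↑E : Set K) ⊆ (A : Set K) ∧ Algebra.Smooth k A := by
    have hft : Algebra.FiniteType k (Algebra.adjoin k (E : Set K)) :=
      .adjoin_of_finite E.finite_toSet
    haveI : Algebra.FinitePresentation k (Algebra.adjoin k (E : Set K)) :=
      Algebra.FinitePresentation.of_finiteType.mp hft
    haveI : Algebra.EssFiniteType (Algebra.adjoin k (E : Set K))
        (IntermediateField.adjoin k (E : Set K)) :=
      .of_isLocalization _ (nonZeroDivisors _)
    haveI : Algebra.EssFiniteType k (IntermediateField.adjoin k (E : Set K)) :=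
      .comp _ (Algebra.adjoin k (E : Set K)) _
    haveI : Algebra.IsGeometricallyReduced k (IntermediateField.adjoin k (E : Set K)) :=
      .of_injective (IntermediateField.adjoin k (E : Set K)).val Subtype.val_injective
    haveI hfs : Algebra.FormallySmooth k (IntermediateField.adjoin k (E : Set K)) :=
      formallySmooth_of_isGeometricallyReduced k _
    haveI h1 : IsLocalization (nonZeroDivisors (Algebra.adjoin k (E : Set K)))
        (Localization.AtPrime (⊥ : Ideal (Algebra.adjoin k (E : Set K)))) := by
      simpa [Ideal.primeCompl_bot] using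
        Localization.isLocalization (M := (⊥ : Ideal (Algebra.adjoin k (E : Set K))).primeCompl)
    let e : (IntermediateField.adjoin k (E : Set K)) ≃ₐ[Algebra.adjoin k (E : Set K)]
        Localization.AtPrime (⊥ : Ideal (Algebra.adjoin k (E : Set K))) :=
      IsLocalization.algEquiv (nonZeroDivisors (Algebra.adjoin k (E : Set K))) _ _
    haveI : Algebra.IsSmoothAt k (⊥ : Ideal (Algebra.adjoin k (E : Set K))) :=
      Algebra.FormallySmooth.of_equiv (e.restrictScalars k)
    obtain ⟨f, hf, hsm⟩ := Algebra.IsSmoothAt.exists_notMem_smooth k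
      (⊥ : Ideal (Algebra.adjoin k (E : Set K)))
    have hf0 : f ≠ 0 := fun h => hf (by rw [h]; exact Ideal.zero_mem _)
    have hunit : ∀ y : Submonoid.powers f, IsUnit ((Algebra.adjoin k (E : Set K)).val y) := by
      rintro ⟨_, n, rfl⟩
      refine IsUnit.mk0 _ ?_
      simp only [Subalgebra.coe_val, SubmonoidClass.coe_pow]
      exact pow_ne_zero _ (fun h => hf0 (Subtype.ext h))
    let ψ : Localization.Away f →ₐ[k] K := IsLocalization.liftAlgHom hunit
    have hψ : Function.Injective ψ := by
      rw [IsLocalization.coe_liftAlgHom, IsLocalization.lift_injective_iff]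
      intro x y
      have hinj : Function.Injective (algebraMap (Algebra.adjoin k (E : Set K))
          (Localization.Away f)) :=
        IsLocalization.injective _ (powers_le_nonZeroDivisors_of_noZeroDivisors hf0)
      rw [hinj.eq_iff]
      exact (Subtype.val_injective.eq_iff (a := x) (b := y)).symm
    refine ⟨ψ.range, ?_, ?_⟩
    · intro x hx
      refine ⟨algebraMap (Algebra.adjoin k (E : Set K)) (Localization.Away f)
        ⟨x, Algebra.subset_adjoin hx⟩, ?_⟩
      show ψ _ = x
      rw [IsLocalization.liftAlgHom_apply, IsLocalization.lift_eq]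
      rfl
    · exact Algebra.Smooth.of_equiv (AlgEquiv.ofInjective ψ hψ)
  exact main

end Groth.Agent.S9431
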