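import Groth.Statements.S9415
import Mathlib
import Groth.Agent.S9431

set_option autoImplicit false
universe u
open CAlg

namespace Groth.Agent.S9415

/-- Let R be a Noetherian local algebra over a field k whose residue field κ is a finitely generated,
separable (that is, geometrically reduced) field extension of k. Then the map from m/m² (m the
maximal ideal, realised as the kernel of R → κ) to κ ⊗_R Ω_{R/k} sending the class of x to 1 ⊗ dx is
injective. -/
theorem result (k : Type u) [Field k] (R : Type u)
    [CommRing R] [IsLocalRing R] [IsNoetherianRing R] [Algebra k R]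
    [Algebra.EssFiniteType k (IsLocalRing.ResidueField R)]
    [Algebra.IsGeometricallyReduced k (IsLocalRing.ResidueField R)] :
    Function.Injective
      (KaehlerDifferential.kerCotangentToTensor k R (IsLocalRing.ResidueField R)) := by
  haveI : Algebra.FormallySmooth k (IsLocalRing.ResidueField R) :=
    Groth.Agent.S9431.formallySmooth_of_isGeometricallyReduced k _
  have hf : Function.Surjective (algebraMap R (IsLocalRing.ResidueField R)) :=
    IsLocalRing.residue_surjective
  have hsurj : Function.Surjective
      (IsScalarTower.toAlgHom k R (IsLocalRing.ResidueField R)).kerSquareLift := by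
    intro x
    obtain ⟨y, rfl⟩ := hf x
    exact ⟨Ideal.Quotient.mk _ y, rfl⟩
  have hnil : IsNilpotent (RingHom.ker
      ((IsScalarTower.toAlgHom k R (IsLocalRing.ResidueField R)).kerSquareLift :
        (R ⧸ RingHom.ker (IsScalarTower.toAlgHom k R (IsLocalRing.ResidueField R)).toRingHom ^ 2)
          →+* IsLocalRing.ResidueField R)) := by
    refine ⟨2, ?_⟩
    have := AlgHom.ker_kerSquareLift (IsScalarTower.toAlgHom k R (IsLocalRing.ResidueField R))
    exact (congrArg (· ^ 2) this).trans (Ideal.cotangentIdeal_square _)
  let g := Algebra.FormallySmooth.liftOfSurjective (AlgHom.id k (IsLocalRing.ResidueField R))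
    (IsScalarTower.toAlgHom k R (IsLocalRing.ResidueField R)).kerSquareLift hsurj hnil
  have hg : (IsScalarTower.toAlgHom k R (IsLocalRing.ResidueField R)).kerSquareLift.comp g =
      AlgHom.id k _ := Algebra.FormallySmooth.comp_liftOfSurjective _ _ hsurj hnil
  let l := (retractionKerCotangentToTensorEquivSection (R := k) hf).symm
    ⟨g, hg⟩
  have hl := l.2
  intro x y hxy
  have hx := LinearMap.congr_fun hl x
  have hy := LinearMap.congr_fun hl y
  simp only [LinearMap.coe_comp, Function.comp_apply, LinearMap.id_coe, id_eq] at hx hy
  rw [← hx, ← hy, hxy]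

end Groth.Agent.S9415
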