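import Groth.Statements.S9423
import Groth.Agent.H66.SyntLim5

set_option autoImplicit false
universe u
open Synt

namespace Groth.Agent.S9423




open TensorProduct in
/-- Let (A_i) be a directed system of A₀-algebras with colimit A (given by compatible maps A_i → A which
are jointly surjective and whose kernels die in the system), and B₀ → C₀ a homomorphism of
A₀-algebras with C₀ of finite presentation over B₀. If the base change of B₀ → C₀ along B₀ → B₀
⊗_{A₀} A is syntomic (flat, of finite presentation, with local complete intersection fibres), then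
already its base change along B₀ → B₀ ⊗_{A₀} A_i is syntomic for some index i. (The published
statement also treats relative global complete intersections; this row states the syntomic case.) -/
theorem result {ι : Type u} [Preorder ι] [IsDirected ι (· ≤ ·)] [Nonempty ι]
    (A₀ : Type u) [CommRing A₀] (G : ι → Type u) [∀ i, CommRing (G i)] [∀ i, Algebra A₀ (G i)]
    (f : ∀ i j, i ≤ j → (G i →ₐ[A₀] G j)) (A : Type u) [CommRing A] [Algebra A₀ A]
    (g : ∀ i, G i →ₐ[A₀] A) (hg : ∀ i j (h : i ≤ j), (g j).comp (f i j h) = g i)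
    (hsurj : ∀ a : A, ∃ i, ∃ x : G i, g i x = a)
    (hker : ∀ i (x : G i), g i x = 0 → ∃ j, ∃ h : i ≤ j, f i j h x = 0)
    (B₀ : Type u) [CommRing B₀] [Algebra A₀ B₀] (C₀ : Type u) [CommRing C₀] [Algebra A₀ C₀]
    [Algebra B₀ C₀] [IsScalarTower A₀ B₀ C₀] [Algebra.FinitePresentation B₀ C₀]
    (h : Synt.IsSyntomic (B₀ ⊗[A₀] A) ((B₀ ⊗[A₀] A) ⊗[B₀] C₀)) :
    ∃ i, Synt.IsSyntomic (B₀ ⊗[A₀] G i) ((B₀ ⊗[A₀] G i) ⊗[B₀] C₀) := by
  have H : Groth.Agent.Lead.ColimDescent.Sys A₀ G A g :=
    Groth.Agent.Lead.ColimDescent.Sys.of_directed f hg hsurj hker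
  have HB : Groth.Agent.Lead.ColimDescent.Sys B₀ (fun i => B₀ ⊗[A₀] G i) (B₀ ⊗[A₀] A)
      (fun i => Groth.Agent.Lead.ColimDescent.Bm B₀ (g i)) := by
    refine ⟨H.ne, ?_, ?_, ?_⟩
    · intro b
      obtain ⟨i, b', hb⟩ := H.t1B B₀ b
      exact ⟨i, b', hb⟩
    · intro i i'
      obtain ⟨j, φ, φ', c, c'⟩ := H.dir i i'
      refine ⟨j, Groth.Agent.Lead.ColimDescent.Bm B₀ φ,
        Groth.Agent.Lead.ColimDescent.Bm B₀ φ', ?_, ?_⟩
      · apply AlgHom.ext
        intro z
        rw [AlgHom.comp_apply, Groth.Agent.Lead.ColimDescent.Bm_compat B₀ φ c]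
      · apply AlgHom.ext
        intro z
        rw [AlgHom.comp_apply, Groth.Agent.Lead.ColimDescent.Bm_compat B₀ φ' c']
    · intro i x hx
      obtain ⟨j, φ, c, hk⟩ := H.t2B B₀ i x hx
      refine ⟨j, Groth.Agent.Lead.ColimDescent.Bm B₀ φ, ?_, hk⟩
      apply AlgHom.ext
      intro z
      rw [AlgHom.comp_apply, Groth.Agent.Lead.ColimDescent.Bm_compat B₀ φ c]
  exact Groth.Agent.H66.SyntLim.exists_syntomic HB C₀ h

end Groth.Agent.S9423
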