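import Groth.Statements.S9425
import Groth.Agent.H47.DirectedColimit

set_option autoImplicit false
universe u
open CAlg

namespace Groth.Agent.S9425

/-- A directed colimit of formally étale R-algebras is formally étale over R. The colimit is encoded by
compatible R-algebra maps S_i → S which are jointly surjective and whose kernels die further along
the system. -/
theorem result {ι : Type u} [Preorder ι] [IsDirected ι (· ≤ ·)] [Nonempty ι]
    (R : Type u) [CommRing R] (G : ι → Type u) [∀ i, CommRing (G i)] [∀ i, Algebra R (G i)]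
    (f : ∀ i j, i ≤ j → (G i →ₐ[R] G j)) (S : Type u) [CommRing S] [Algebra R S]
    (g : ∀ i, G i →ₐ[R] S) (hg : ∀ i j (h : i ≤ j), (g j).comp (f i j h) = g i)
    (hsurj : ∀ s : S, ∃ i, ∃ x : G i, g i x = s)
    (hker : ∀ i (x : G i), g i x = 0 → ∃ j, ∃ h : i ≤ j, f i j h x = 0)
    (h : ∀ i, Algebra.FormallyEtale R (G i)) : Algebra.FormallyEtale R S := by
  rw [Algebra.FormallyEtale.iff_comp_bijective]
  intro B _ _ I hI
  constructor
  · intro f₁ f₂ e
    apply Groth.Agent.H47.colim_algHom_ext g hsurj
    intro i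
    haveI := h i
    apply Algebra.FormallyUnramified.comp_injective I hI
    rw [← AlgHom.comp_assoc, ← AlgHom.comp_assoc, e]
  · intro φ
    have hbij : ∀ i, Function.Bijective
        ((Ideal.Quotient.mkₐ R I).comp : (G i →ₐ[R] B) → G i →ₐ[R] B ⧸ I) := fun i =>
      haveI := h i
      Algebra.FormallyEtale.comp_bijective R (G i) I hI
    choose ψ hψ using fun i => (hbij i).2 (φ.comp (g i))
    have hcompat : ∀ i j (hij : i ≤ j), (ψ j).comp (f i j hij) = ψ i := by
      intro i j hij
      apply (hbij i).1
      change (Ideal.Quotient.mkₐ R I).comp ((ψ j).comp (f i j hij)) = (Ideal.Quotient.mkₐ R I).comp (ψ i)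
      rw [← AlgHom.comp_assoc, hψ j, hψ i, AlgHom.comp_assoc, hg]
    refine ⟨Groth.Agent.H47.colimLift f g hg hsurj hker ψ hcompat, ?_⟩
    apply Groth.Agent.H47.colim_algHom_ext g hsurj
    intro i
    rw [AlgHom.comp_assoc, Groth.Agent.H47.colimLift_comp, hψ i]

end Groth.Agent.S9425
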