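import Groth.Statements.S9427
import Mathlib.RingTheory.Kaehler.Basic
import Mathlib.RingTheory.Unramified.Basic
import Mathlib.Algebra.TrivSqZeroExt.Ideal
-- import your own Groth.Agent.* helpers here

set_option autoImplicit false
universe u
open OmegaSh

namespace Groth.Agent.S9427

open TensorProduct

theorem unique_of_univ {A B B' : Type u} [CommRing A] [CommRing B] [CommRing B']
    [Algebra A B] [Algebra A B']
    (π : B' →ₐ[A] B) (h : OmegaSh.IsUnivThickeningRing A B B' π)
    (T : Type u) [CommRing T] [Algebra A T] (I : Ideal T) (hI : I ^ 2 = ⊥)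
    (f1 f2 : B' →ₐ[A] T)
    (hN : ∀ n ∈ RingHom.ker π.toRingHom, f1 n ∈ I) (h12 : ∀ x, f1 x - f2 x ∈ I) :
    f1 = f2 := by
  unfold OmegaSh.IsUnivThickeningRing at h
  obtain ⟨hsurj, -, huniv⟩ := h
  have hker : RingHom.ker π.toRingHom ≤
      RingHom.ker ((Ideal.Quotient.mkₐ A I).comp f1).toRingHom := by
    intro n hn
    rw [RingHom.mem_ker]
    show Ideal.Quotient.mk I (f1 n) = 0
    exact Ideal.Quotient.eq_zero_iff_mem.mpr (hN n hn)
  let a : B →ₐ[A] T ⧸ I :=
    AlgHom.liftOfSurjective π hsurj ((Ideal.Quotient.mkₐ A I).comp f1) hker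
  have ha : a.comp π = (Ideal.Quotient.mkₐ A I).comp f1 :=
    AlgHom.liftOfSurjective_comp _ _ _ _
  obtain ⟨a', -, huniq⟩ := huniv T I hI a
  have e1 : f1 = a' := huniq f1 ha.symm
  have e2 : f2 = a' := huniq f2 (by
    rw [ha]
    apply AlgHom.ext
    intro x
    show Ideal.Quotient.mk I (f2 x) = Ideal.Quotient.mk I (f1 x)
    exact (Ideal.Quotient.eq.mpr (h12 x)).symm)
  rw [e1, e2]

theorem sup_sq_le {T : Type*} [CommRing T] (X Y Z : Ideal T) (h1 : X * X ≤ Z)
    (h2 : X * Y ≤ Z) (h3 : Y * Y ≤ Z) : (X ⊔ Y) ^ 2 ≤ Z := by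
  rw [pow_two, Ideal.sup_mul, Ideal.mul_sup, Ideal.mul_sup]
  refine sup_le (sup_le h1 h2) (sup_le ?_ h3)
  rw [mul_comm]; exact h2

theorem part1 {A B B' : Type u} [CommRing A] [CommRing B] [CommRing B'] [Algebra A B]
    [Algebra A B'] (π : B' →ₐ[A] B) (h : OmegaSh.IsUnivThickeningRing A B B' π) :
    Algebra.FormallyUnramified A B' := by
  rw [Algebra.FormallyUnramified.iff_comp_injective]
  intro T _ _ I hI f1 f2 hf
  have h12 : ∀ x, f1 x - f2 x ∈ I := by
    intro x
    have h0 := DFunLike.congr_fun hf x
    exact Ideal.Quotient.eq.mp h0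
  have hN2 : RingHom.ker π.toRingHom ^ 2 = ⊥ := by
    have h' := h
    unfold OmegaSh.IsUnivThickeningRing at h'
    exact h'.2.1
  have hFF : Ideal.map f1.toRingHom (RingHom.ker π.toRingHom) *
      Ideal.map f1.toRingHom (RingHom.ker π.toRingHom) = ⊥ := by
    rw [← Ideal.map_mul, ← pow_two, hN2, Ideal.map_bot]
  have hfF : ∀ n ∈ RingHom.ker π.toRingHom,
      f1 n ∈ Ideal.map f1.toRingHom (RingHom.ker π.toRingHom) :=
    fun n hn => Ideal.mem_map_of_mem f1.toRingHom hn
  have hII : I * I = ⊥ := by rw [← pow_two]; exact hI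
  have hK : ∀ x, f1 x - f2 x ∈ I * Ideal.map f1.toRingHom (RingHom.ker π.toRingHom) := by
    have hI1 : (Ideal.map (Ideal.Quotient.mk
        (I * Ideal.map f1.toRingHom (RingHom.ker π.toRingHom)))
        (I ⊔ Ideal.map f1.toRingHom (RingHom.ker π.toRingHom))) ^ 2 = ⊥ := by
      rw [← Ideal.map_pow, eq_bot_iff]
      calc Ideal.map (Ideal.Quotient.mk
              (I * Ideal.map f1.toRingHom (RingHom.ker π.toRingHom)))
              ((I ⊔ Ideal.map f1.toRingHom (RingHom.ker π.toRingHom)) ^ 2)
          ≤ Ideal.map (Ideal.Quotient.mk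
              (I * Ideal.map f1.toRingHom (RingHom.ker π.toRingHom)))
              (I * Ideal.map f1.toRingHom (RingHom.ker π.toRingHom)) :=
            Ideal.map_mono (sup_sq_le _ _ _ (hII.le.trans bot_le) le_rfl
              (hFF.le.trans bot_le))
        _ = ⊥ := Ideal.map_quotient_self _
    have e := unique_of_univ π h
      (T ⧸ (I * Ideal.map f1.toRingHom (RingHom.ker π.toRingHom))) _ hI1
      ((Ideal.Quotient.mkₐ A _).comp f1) ((Ideal.Quotient.mkₐ A _).comp f2)
      (fun n hn => Ideal.mem_map_of_mem _ (Ideal.mem_sup_right (hfF n hn)))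
      (fun x => by
        show Ideal.Quotient.mk _ (f1 x) - Ideal.Quotient.mk _ (f2 x) ∈ _
        rw [← map_sub]
        exact Ideal.mem_map_of_mem _ (Ideal.mem_sup_left (h12 x)))
    intro x
    exact Ideal.Quotient.eq.mp (DFunLike.congr_fun e x)
  have hKI : I * Ideal.map f1.toRingHom (RingHom.ker π.toRingHom) ≤ I := Ideal.mul_le_left
  have hI3 : (I * Ideal.map f1.toRingHom (RingHom.ker π.toRingHom) ⊔
      Ideal.map f1.toRingHom (RingHom.ker π.toRingHom)) ^ 2 = ⊥ := by
    rw [eq_bot_iff]
    refine sup_sq_le _ _ _ ((Ideal.mul_mono hKI hKI).trans hII.le) ?_ hFF.le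
    rw [mul_assoc, hFF, Ideal.mul_bot]
  exact unique_of_univ π h T _ hI3 f1 f2
    (fun n hn => Ideal.mem_sup_right (hfF n hn)) (fun x => Ideal.mem_sup_left (hK x))

abbrev MM (R A B : Type u) [CommRing R] [CommRing A] [Algebra R A] [CommRing B]
    [Algebra A B] : Type u :=
  TensorProduct A B (KaehlerDifferential R A)

noncomputable def twist (R A B : Type u) [CommRing R] [CommRing A] [Algebra R A] [CommRing B]
    [Algebra A B] : A →+* TrivSqZeroExt B (MM R A B) where
  toFun a := TrivSqZeroExt.inl (algebraMap A B a) +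
    TrivSqZeroExt.inr ((1 : B) ⊗ₜ[A] KaehlerDifferential.D R A a)
  map_one' := by
    apply TrivSqZeroExt.ext
    · simp
    · simp
  map_mul' a b := by
    apply TrivSqZeroExt.ext
    · simp
    · simp only [TrivSqZeroExt.snd_add, TrivSqZeroExt.snd_inl, TrivSqZeroExt.snd_inr, zero_add,
        TrivSqZeroExt.snd_mul, TrivSqZeroExt.fst_add, TrivSqZeroExt.fst_inl,
        TrivSqZeroExt.fst_inr, add_zero, Derivation.leibniz, TensorProduct.tmul_add,
        TensorProduct.tmul_smul, op_smul_eq_smul, algebraMap_smul]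
  map_zero' := by
    apply TrivSqZeroExt.ext
    · simp
    · simp
  map_add' a b := by
    apply TrivSqZeroExt.ext
    · simp
    · simp [TensorProduct.tmul_add]

theorem twist_apply (R A B : Type u) [CommRing R] [CommRing A] [Algebra R A] [CommRing B]
    [Algebra A B] (a : A) : twist R A B a = TrivSqZeroExt.inl (algebraMap A B a) +
    TrivSqZeroExt.inr ((1 : B) ⊗ₜ[A] KaehlerDifferential.D R A a) := rfl

theorem part2 (R A B B' : Type u) [CommRing R] [CommRing A] [Algebra R A] [CommRing B]
    [Algebra A B] [CommRing B'] [Algebra A B'] [Algebra R B'] [IsScalarTower R A B']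
    [Algebra B' B] [IsScalarTower A B' B] (hfu : Algebra.FormallyUnramified A B')
    (h : OmegaSh.IsUnivThickeningRing A B B' (IsScalarTower.toAlgHom A B' B)) :
    Function.Bijective ((KaehlerDifferential.mapBaseChange R A B').baseChange B) := by
  haveI := hfu
  letI : Algebra R B := ((algebraMap A B).comp (algebraMap R A)).toAlgebra
  haveI : IsScalarTower R A B := IsScalarTower.of_algebraMap_eq (fun _ => rfl)
  haveI : IsScalarTower R B' B := IsScalarTower.of_algebraMap_eq (fun r => by
    show algebraMap A B (algebraMap R A r) = algebraMap B' B (algebraMap R B' r)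
    rw [IsScalarTower.algebraMap_apply R A B', ← IsScalarTower.algebraMap_apply A B' B])
  unfold OmegaSh.IsUnivThickeningRing at h
  obtain ⟨hsurj, hN2, huniv⟩ := h
  letI algT : Algebra A (TrivSqZeroExt B (MM R A B)) := (twist R A B).toAlgebra
  have halgT : ∀ r : A, algebraMap A (TrivSqZeroExt B (MM R A B)) r = twist R A B r :=
    fun _ => rfl
  have hI : TrivSqZeroExt.kerIdeal B (MM R A B) ^ 2 = ⊥ := TrivSqZeroExt.kerIdeal_sq B (MM R A B)
  have hmemI : ∀ z : TrivSqZeroExt B (MM R A B),
      z ∈ TrivSqZeroExt.kerIdeal B (MM R A B) ↔ z.fst = 0 := by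
    intro z
    rw [TrivSqZeroExt.kerIdeal, RingHom.mem_ker]
    rfl
  let a : B →ₐ[A] (TrivSqZeroExt B (MM R A B)) ⧸ TrivSqZeroExt.kerIdeal B (MM R A B) :=
    { toRingHom := (Ideal.Quotient.mk (TrivSqZeroExt.kerIdeal B (MM R A B))).comp
        (TrivSqZeroExt.inlHom B (MM R A B))
      commutes' := fun r => by
        show Ideal.Quotient.mk (TrivSqZeroExt.kerIdeal B (MM R A B))
            (TrivSqZeroExt.inl (algebraMap A B r)) =
          Ideal.Quotient.mk (TrivSqZeroExt.kerIdeal B (MM R A B)) (twist R A B r)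
        rw [Ideal.Quotient.eq, hmemI, twist_apply]
        simp }
  obtain ⟨a', ha', -⟩ := huniv (TrivSqZeroExt B (MM R A B))
    (TrivSqZeroExt.kerIdeal B (MM R A B)) hI a
  have hfst : ∀ x : B', (a' x).fst = algebraMap B' B x := by
    intro x
    have h1 := DFunLike.congr_fun ha' x
    have h2 : Ideal.Quotient.mk (TrivSqZeroExt.kerIdeal B (MM R A B)) (a' x) =
        Ideal.Quotient.mk (TrivSqZeroExt.kerIdeal B (MM R A B))
          (TrivSqZeroExt.inl (algebraMap B' B x)) := h1
    rw [Ideal.Quotient.eq, hmemI, TrivSqZeroExt.fst_sub, TrivSqZeroExt.fst_inl,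
      sub_eq_zero] at h2
    exact h2
  have ha'alg : ∀ r : A, a' (algebraMap A B' r) = twist R A B r := fun r => a'.commutes r
  have hsndlin : ∀ (r : R) (x : B'), (a' (r • x)).snd = r • (a' x).snd := by
    intro r x
    have e1 : r • x = algebraMap A B' (algebraMap R A r) * x := by
      rw [← Algebra.smul_def, algebraMap_smul]
    rw [e1, map_mul, ha'alg, twist_apply, Derivation.map_algebraMap,
      TensorProduct.tmul_zero, TrivSqZeroExt.inr_zero, add_zero, TrivSqZeroExt.snd_mul,
      TrivSqZeroExt.fst_inl, TrivSqZeroExt.snd_inl, smul_zero, add_zero,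
      algebraMap_smul, algebraMap_smul]
  let δ : Derivation R B' (MM R A B) := Derivation.mk'
    { toFun := fun x => (a' x).snd
      map_add' := fun x y => by rw [map_add, TrivSqZeroExt.snd_add]
      map_smul' := fun r x => hsndlin r x }
    (fun x y => by
      show (a' (x * y)).snd = x • (a' y).snd + y • (a' x).snd
      rw [map_mul, TrivSqZeroExt.snd_mul, hfst, hfst, op_smul_eq_smul, algebraMap_smul,
        algebraMap_smul])
  have hδ : ∀ x, δ x = (a' x).snd := fun _ => rfl
  have hδalg : ∀ r : A, δ (algebraMap A B' r) = (1 : B) ⊗ₜ[A] KaehlerDifferential.D R A r := by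
    intro r
    rw [hδ, ha'alg, twist_apply, TrivSqZeroExt.snd_add, TrivSqZeroExt.snd_inl,
      TrivSqZeroExt.snd_inr, zero_add]
  have hω : ∀ ω : KaehlerDifferential R A,
      δ.liftKaehlerDifferential (KaehlerDifferential.map R R A B' ω) = (1 : B) ⊗ₜ[A] ω := by
    intro ω
    have hmem : ω ∈ Submodule.span A (Set.range (KaehlerDifferential.D R A)) := by
      rw [KaehlerDifferential.span_range_derivation]; exact Submodule.mem_top
    induction hmem using Submodule.span_induction with
    | mem x hx =>
      obtain ⟨r, rfl⟩ := hx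
      rw [KaehlerDifferential.map_D, Derivation.liftKaehlerDifferential_comp_D]
      exact hδalg r
    | zero => rw [map_zero, map_zero, TensorProduct.tmul_zero]
    | add x y _ _ hx hy => rw [map_add, map_add, hx, hy, TensorProduct.tmul_add]
    | smul c x _ hx =>
      have e : c • KaehlerDifferential.map R R A B' x =
          algebraMap A B' c • KaehlerDifferential.map R R A B' x :=
        (algebraMap_smul B' c _).symm
      rw [map_smul, e, map_smul, hx, algebraMap_smul, TensorProduct.tmul_smul]
  have key : ∀ z : B ⊗[B'] (B' ⊗[A] KaehlerDifferential R A),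
      LinearMap.liftBaseChange B δ.liftKaehlerDifferential
        ((KaehlerDifferential.mapBaseChange R A B').baseChange B z) =
      TensorProduct.AlgebraTensorModule.cancelBaseChange A B' B B (KaehlerDifferential R A) z := by
    intro z
    induction z using TensorProduct.induction_on with
    | zero => simp only [map_zero]
    | add x y hx hy => simp only [map_add, hx, hy]
    | tmul b w =>
      induction w using TensorProduct.induction_on with
      | zero => simp only [TensorProduct.tmul_zero, map_zero]
      | add x y hx hy => simp only [TensorProduct.tmul_add, map_add, hx, hy]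
      | tmul b' ω =>
        rw [LinearMap.baseChange_tmul, KaehlerDifferential.mapBaseChange_tmul,
          LinearMap.liftBaseChange_tmul, map_smul, hω,
          TensorProduct.AlgebraTensorModule.cancelBaseChange_tmul,
          TensorProduct.smul_tmul', TensorProduct.smul_tmul', smul_eq_mul, mul_smul_comm,
          mul_one]
  refine ⟨?_, ?_⟩
  · intro z1 z2 hz
    apply (TensorProduct.AlgebraTensorModule.cancelBaseChange A B' B B
      (KaehlerDifferential R A)).injective
    rw [← key, ← key, hz]
  · have hfsurj : Function.Surjective (KaehlerDifferential.mapBaseChange R A B') := by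
      intro x
      exact (KaehlerDifferential.exact_mapBaseChange_map R A B' x).mp (Subsingleton.elim _ _)
    intro z
    induction z using TensorProduct.induction_on with
    | zero => exact ⟨0, map_zero _⟩
    | tmul b v =>
      obtain ⟨w, rfl⟩ := hfsurj v
      exact ⟨b ⊗ₜ w, LinearMap.baseChange_tmul _ _ _⟩
    | add x y hx hy =>
      obtain ⟨x', rfl⟩ := hx
      obtain ⟨y', rfl⟩ := hy
      exact ⟨x' + y', map_add _ _ _⟩


/-- Let R → A → B be ring maps with A → B formally unramified, and let B' → B be a universal first order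
thickening of B relative to A (B a B'-algebra through it). Then A → B' is formally unramified, and
base changing to B the natural B'-linear map B' ⊗_A Ω_{A/R} → Ω_{B'/R} gives a bijection B ⊗_{B'}
(B' ⊗_A Ω_{A/R}) → B ⊗_{B'} Ω_{B'/R}. -/
theorem result
    (R : Type u) [CommRing R] (A : Type u) [CommRing A] [Algebra R A] (B : Type u) [CommRing B]
    [Algebra A B] [Algebra.FormallyUnramified A B] (B' : Type u) [CommRing B'] [Algebra A B']
    [Algebra R B'] [IsScalarTower R A B'] [Algebra B' B] [IsScalarTower A B' B]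
    (h : OmegaSh.IsUnivThickeningRing A B B' (IsScalarTower.toAlgHom A B' B)) :
    Algebra.FormallyUnramified A B' ∧
      Function.Bijective ((KaehlerDifferential.mapBaseChange R A B').baseChange B) := by
  have h1 : Algebra.FormallyUnramified A B' := part1 _ h
  exact ⟨h1, part2 R A B B' h1 h⟩

end Groth.Agent.S9427
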