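import Groth.Statements.S9428
import Mathlib.RingTheory.Etale.Basic

set_option autoImplicit false
universe u
open CAlg

namespace Groth.Agent.S9428

/-- If R → S is formally étale and J ⊆ S is an ideal with R → S/J surjective, I ⊆ R its kernel (the
preimage of J), then R/I^n → S/J^n is bijective for all n. (The published statement adds that the
associated graded rings are then isomorphic, which follows from these bijections.) -/
theorem result (R : Type u) [CommRing R] (S : Type u)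
    [CommRing S] [Algebra R S] [Algebra.FormallyEtale R S] (J : Ideal S)
    (hJ : Function.Surjective (algebraMap R (S ⧸ J))) (n : ℕ) :
    Function.Bijective (Ideal.quotientMap (J ^ n) (algebraMap R S)
      (le_of_le_of_eq (Ideal.le_comap_pow (algebraMap R S) n) rfl :
        (J.comap (algebraMap R S)) ^ n ≤ (J ^ n).comap (algebraMap R S))) := by
  classical
  rcases Nat.eq_zero_or_pos n with rfl | hn
  · -- both quotients are trivial
    haveI h1 : Subsingleton (R ⧸ (J.comap (algebraMap R S)) ^ 0) :=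
      Ideal.Quotient.subsingleton_iff.mpr (by rw [pow_zero, Ideal.one_eq_top])
    haveI h2 : Subsingleton (S ⧸ J ^ 0) :=
      Ideal.Quotient.subsingleton_iff.mpr (by rw [pow_zero, Ideal.one_eq_top])
    exact ⟨fun a b _ => Subsingleton.elim a b, fun y => ⟨0, Subsingleton.elim _ _⟩⟩
  have hn0 : n ≠ 0 := Nat.pos_iff_ne_zero.mp hn
  set I : Ideal R := J.comap (algebraMap R S) with hI
  -- the iso R/I ≃ S/J
  let e₀ : (R ⧸ I) →ₐ[R] (S ⧸ J) :=
    { toRingHom := Ideal.quotientMap J (algebraMap R S) le_rfl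
      commutes' := fun r => rfl }
  have he₀inj : Function.Injective e₀ := Ideal.quotientMap_injective
  have he₀surj : Function.Surjective e₀ := fun y => by
    obtain ⟨r, hr⟩ := hJ y
    exact ⟨Ideal.Quotient.mk I r, hr⟩
  let E : (R ⧸ I) ≃ₐ[R] (S ⧸ J) := AlgEquiv.ofBijective e₀ ⟨he₀inj, he₀surj⟩
  have hE : ∀ x, E x = e₀ x := fun x => rfl
  -- projections with nilpotent kernels
  let π : (R ⧸ I ^ n) →ₐ[R] (R ⧸ I) :=
    Ideal.Quotient.liftₐ (I ^ n) (Ideal.Quotient.mkₐ R I) (fun r hr =>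
      Ideal.Quotient.eq_zero_iff_mem.mpr (Ideal.pow_le_self hn0 hr))
  have hπmk : ∀ r : R, π (Ideal.Quotient.mk _ r) = Ideal.Quotient.mk I r := fun r => rfl
  have hπsurj : Function.Surjective π := fun y => by
    obtain ⟨r, rfl⟩ := Ideal.Quotient.mk_surjective y
    exact ⟨Ideal.Quotient.mk _ r, rfl⟩
  have hkerπ : RingHom.ker (π : (R ⧸ I ^ n) →+* (R ⧸ I)) ^ n = ⊥ := by
    have h1 : RingHom.ker (π : (R ⧸ I ^ n) →+* (R ⧸ I)) = I.map (Ideal.Quotient.mk (I ^ n)) := by
      ext x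
      obtain ⟨r, rfl⟩ := Ideal.Quotient.mk_surjective x
      rw [RingHom.mem_ker]
      show π (Ideal.Quotient.mk _ r) = 0 ↔ _
      rw [hπmk, Ideal.Quotient.eq_zero_iff_mem]
      constructor
      · intro h
        exact Ideal.mem_map_of_mem _ h
      · intro h
        rw [Ideal.mem_map_iff_of_surjective _ Ideal.Quotient.mk_surjective] at h
        obtain ⟨r', hr', hrr'⟩ := h
        have h2 : r' - r ∈ I ^ n := by
          rw [← Ideal.Quotient.eq_zero_iff_mem, map_sub, hrr', sub_self]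
        have h3 : r' - r ∈ I := Ideal.pow_le_self hn0 h2
        have h4 : r = r' - (r' - r) := by ring
        rw [h4]
        exact I.sub_mem hr' h3
    rw [h1, ← Ideal.map_pow, Ideal.map_quotient_self]
  let f : (S ⧸ J ^ n) →+* (S ⧸ J) :=
    Ideal.Quotient.lift (J ^ n) (Ideal.Quotient.mk J) (fun s hs =>
      Ideal.Quotient.eq_zero_iff_mem.mpr (Ideal.pow_le_self hn0 hs))
  have hfmk : ∀ s : S, f (Ideal.Quotient.mk _ s) = Ideal.Quotient.mk J s := fun s => rfl
  have hkerf : RingHom.ker f ^ n = ⊥ := by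
    rw [Ideal.ker_quotient_lift, Ideal.mk_ker, ← Ideal.map_pow, Ideal.map_quotient_self]
  -- the lift
  let g : S →ₐ[R] (R ⧸ I) := (E.symm : (S ⧸ J) →ₐ[R] (R ⧸ I)).comp (Ideal.Quotient.mkₐ R J)
  have hg : ∀ s : S, e₀ (g s) = Ideal.Quotient.mk J s := fun s => by
    show e₀ (E.symm (Ideal.Quotient.mk J s)) = _
    rw [← hE, AlgEquiv.apply_symm_apply]
  let τ : S →ₐ[R] (R ⧸ I ^ n) :=
    Algebra.FormallySmooth.liftOfSurjective g π hπsurj ⟨n, hkerπ⟩
  have hτ : ∀ s : S, π (τ s) = g s := fun s =>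
    Algebra.FormallySmooth.liftOfSurjective_apply g π hπsurj ⟨n, hkerπ⟩ s
  have hτJ : J ^ n ≤ RingHom.ker (τ : S →+* (R ⧸ I ^ n)) := by
    have h1 : J ≤ (RingHom.ker (π : (R ⧸ I ^ n) →+* (R ⧸ I))).comap (τ : S →+* (R ⧸ I ^ n)) := by
      intro s hs
      rw [Ideal.mem_comap, RingHom.mem_ker]
      show π (τ s) = 0
      rw [hτ]
      apply he₀inj
      rw [hg, map_zero]
      exact Ideal.Quotient.eq_zero_iff_mem.mpr hs
    calc J ^ n ≤ ((RingHom.ker (π : (R ⧸ I ^ n) →+* (R ⧸ I))).comap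
            (τ : S →+* (R ⧸ I ^ n))) ^ n := Ideal.pow_right_mono h1 _
      _ ≤ ((RingHom.ker (π : (R ⧸ I ^ n) →+* (R ⧸ I))) ^ n).comap (τ : S →+* (R ⧸ I ^ n)) :=
          Ideal.le_comap_pow _ _
      _ = RingHom.ker (τ : S →+* (R ⧸ I ^ n)) := by rw [hkerπ, ← RingHom.ker_eq_comap_bot]
  let τb : (S ⧸ J ^ n) →ₐ[R] (R ⧸ I ^ n) := Ideal.Quotient.liftₐ (J ^ n) τ (fun s hs => hτJ hs)
  have hτb : ∀ s : S, τb (Ideal.Quotient.mk _ s) = τ s := fun s => rfl
  let ψa : (R ⧸ I ^ n) →ₐ[R] (S ⧸ J ^ n) :=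
    { toRingHom := Ideal.quotientMap (J ^ n) (algebraMap R S)
        (le_of_le_of_eq (Ideal.le_comap_pow (algebraMap R S) n) rfl :
          (J.comap (algebraMap R S)) ^ n ≤ (J ^ n).comap (algebraMap R S))
      commutes' := fun r => rfl }
  have hfψ : ∀ x : R ⧸ I ^ n, f (ψa x) = e₀ (π x) := fun x => by
    obtain ⟨r, rfl⟩ := Ideal.Quotient.mk_surjective x
    rfl
  have huniq : ψa.comp τ = Ideal.Quotient.mkₐ R (J ^ n) := by
    refine Algebra.FormallyUnramified.lift_unique_of_ringHom f ⟨n, hkerf⟩ _ _ ?_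
    ext s
    show f (ψa (τ s)) = f (Ideal.Quotient.mk _ s)
    rw [hfψ, hτ, hg, hfmk]
  show Function.Bijective ψa
  rw [Function.bijective_iff_has_inverse]
  refine ⟨τb, ?_, ?_⟩
  · intro x
    obtain ⟨r, rfl⟩ := Ideal.Quotient.mk_surjective x
    show τb (ψa (algebraMap R (R ⧸ I ^ n) r)) = algebraMap R (R ⧸ I ^ n) r
    rw [AlgHom.commutes, AlgHom.commutes]
  · intro y
    obtain ⟨s, rfl⟩ := Ideal.Quotient.mk_surjective y
    rw [hτb]
    exact AlgHom.congr_fun huniq s

end Groth.Agent.S9428
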