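import Groth.Statements.S9430
import Mathlib
import Groth.Agent.H54.AffineTrdeg

set_option autoImplicit false
universe u
open Synt

namespace Groth.Agent.S9430

/-- `S` has a presentation over `k` with `n` generators, `c ≤ n` relations, and `trdeg = n - c`. -/
def GoodPres (k : Type u) [Field k] (S : Type u) [CommRing S] [Algebra k S] : Prop :=
  ∃ n c : ℕ, c ≤ n ∧ Nonempty (Algebra.Presentation k S (Fin n) (Fin c)) ∧
    Algebra.trdeg k S = ((n - c : ℕ) : Cardinal.{u})

theorem tower4 (k S S' K : Type*) [CommSemiring k] [CommSemiring S] [CommSemiring S']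
    [CommSemiring K] [Algebra k S] [Algebra k S'] [Algebra k K] [Algebra S S'] [Algebra S K]
    [Algebra S' K] [IsScalarTower k S S'] [IsScalarTower k S K] [IsScalarTower S S' K] :
    IsScalarTower k S' K :=
  IsScalarTower.of_algebraMap_eq fun r => by
    rw [IsScalarTower.algebraMap_apply k S K, IsScalarTower.algebraMap_apply S S' K,
      ← IsScalarTower.algebraMap_apply k S S']

theorem inj_of_tower (S S' K : Type*) [CommSemiring S] [CommSemiring S'] [CommSemiring K]
    [Algebra S S'] [Algebra S K] [Algebra S' K] [IsScalarTower S S' K]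
    (h : Function.Injective (algebraMap S K)) : Function.Injective (algebraMap S S') := by
  intro x y hxy
  apply h
  rw [IsScalarTower.algebraMap_apply S S' K, IsScalarTower.algebraMap_apply S S' K, hxy]

theorem GoodPres.extend {k : Type u} [Field k] {S S' : Type u} [CommRing S] [Algebra k S]
    [CommRing S'] [IsDomain S'] [Algebra k S'] [Algebra S S'] [IsScalarTower k S S']
    (h : GoodPres k S) (hinj : Function.Injective (algebraMap S S'))
    {ι' σ' : Type} [Fintype ι'] [Fintype σ'] (Q : Algebra.Presentation S S' ι' σ')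
    (hcard : Fintype.card σ' ≤ Fintype.card ι')
    (htr : Algebra.trdeg S S' = ((Fintype.card ι' - Fintype.card σ' : ℕ) : Cardinal.{u})) :
    GoodPres k S' := by
  obtain ⟨n, c, hc, ⟨P⟩, hP⟩ := h
  haveI : Nontrivial S := (algebraMap S S').domain_nontrivial
  haveI : FaithfulSMul k S :=
    (faithfulSMul_iff_algebraMap_injective k S).mpr (algebraMap k S).injective
  haveI : FaithfulSMul S S' := (faithfulSMul_iff_algebraMap_injective S S').mpr hinj
  have h1 := trdeg_add_eq k S (A := S')
  refine ⟨Fintype.card ι' + n, Fintype.card σ' + c, by omega, ⟨(Q.comp P).reindex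
    ((finSumFinEquiv (m := Fintype.card ι') (n := n)).symm.trans
      (Equiv.sumCongr (Fintype.equivFin ι').symm (Equiv.refl (Fin n))))
    ((finSumFinEquiv (m := Fintype.card σ') (n := c)).symm.trans
      (Equiv.sumCongr (Fintype.equivFin σ').symm (Equiv.refl (Fin c))))⟩, ?_⟩
  rw [← h1, hP, htr, ← Nat.cast_add]
  have h2 : n - c + (Fintype.card ι' - Fintype.card σ') =
      Fintype.card ι' + n - (Fintype.card σ' + c) := by omega
  rw [h2]

theorem good_base {k : Type u} [Field k] : GoodPres k k := by
  refine ⟨0, 0, le_rfl, ⟨((Algebra.Presentation.id k :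
    Algebra.Presentation k k PEmpty.{1} PEmpty.{1})).reindex
      (Equiv.equivOfIsEmpty _ _) (Equiv.equivOfIsEmpty _ _)⟩, ?_⟩
  rw [trdeg_eq_zero]
  simp

/-- `A` is the image in `K` of a good presented `k`-algebra embedded in `K`. -/
def StageOK (k K : Type u) [Field k] [Field K] [Algebra k K] (A : Subalgebra k K) : Prop :=
  ∃ (S : Type u) (_ : CommRing S) (_ : Algebra k S) (_ : Algebra S K) (_ : IsScalarTower k S K),
    Function.Injective (algebraMap S K) ∧ GoodPres k S ∧
      (IsScalarTower.toAlgHom k S K).range = A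

theorem stage_of {k : Type u} [Field k] {K : Type u} [Field K] [Algebra k K] (S : Type u)
    [CommRing S] [Algebra k S] [Algebra S K] [IsScalarTower k S K]
    (hinj : Function.Injective (algebraMap S K)) (hgood : GoodPres k S) :
    StageOK k K (IsScalarTower.toAlgHom k S K).range :=
  ⟨S, inferInstance, inferInstance, inferInstance, inferInstance, hinj, hgood, rfl⟩

theorem range_le {k : Type u} [Field k] {K : Type u} [Field K] [Algebra k K] (S S' : Type u)
    [CommRing S] [CommRing S'] [Algebra k S] [Algebra k S'] [Algebra S S'] [Algebra S K]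
    [Algebra S' K] [IsScalarTower k S K] [IsScalarTower k S' K] [IsScalarTower S S' K] :
    (IsScalarTower.toAlgHom k S K).range ≤ (IsScalarTower.toAlgHom k S' K).range := by
  intro x hx
  obtain ⟨s, rfl⟩ := (AlgHom.mem_range _).mp hx
  refine (AlgHom.mem_range _).mpr ⟨algebraMap S S' s, ?_⟩
  rw [IsScalarTower.toAlgHom_apply, IsScalarTower.toAlgHom_apply,
    ← IsScalarTower.algebraMap_apply]

theorem isGlobalCI_of_stage {k : Type u} [Field k] {K : Type u} [Field K] [Algebra k K]
    {A : Subalgebra k K} (hA : StageOK k K A) : Synt.IsGlobalCI k A := by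
  obtain ⟨S, _, _, _, _, hinj, ⟨n, c, hc, ⟨P⟩, htr⟩, rfl⟩ := hA
  have hφ : Function.Injective (IsScalarTower.toAlgHom k S K) := by
    intro x y hxy
    exact hinj hxy
  let e : S ≃ₐ[k] (IsScalarTower.toAlgHom k S K).range := AlgEquiv.ofInjective _ hφ
  let P' := P.ofAlgEquiv e
  haveI : Algebra.FiniteType k (IsScalarTower.toAlgHom k S K).range :=
    P'.toGenerators.finiteType
  obtain ⟨m, hm1, hm2⟩ :=
    Groth.Agent.H54.exists_ringKrullDim_eq_trdeg k (IsScalarTower.toAlgHom k S K).range
  have htr' : Algebra.trdeg k (IsScalarTower.toAlgHom k S K).range =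
      ((n - c : ℕ) : Cardinal.{u}) := by
    rw [← htr]
    exact (AlgEquiv.trdeg_eq e).symm
  have hmn : m = n - c := by
    rw [hm1] at htr'
    exact_mod_cast htr'
  right
  refine ⟨n, c, hc, MvPolynomial.aeval P'.val, P'.relation, P'.aeval_val_surjective, ?_, ?_⟩
  · rw [P'.span_range_relation_eq_ker, P'.ker_eq_ker_aeval_val]
    ext x
    rw [RingHom.mem_ker, RingHom.mem_ker]
    exact Iff.rfl
  · rw [hm2, hmn]

theorem stepT {k : Type u} [Field k] {K : Type u} [Field K] [Algebra k K] {S : Type u}
    [CommRing S] [Algebra k S] [Algebra S K] [IsScalarTower k S K]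
    (hinj : Function.Injective (algebraMap S K)) (hgood : GoodPres k S) (y : K)
    (hy : Transcendental S y) :
    ∃ A' : Subalgebra k K, (IsScalarTower.toAlgHom k S K).range ≤ A' ∧ y ∈ A' ∧
      StageOK k K A' := by
  haveI : IsDomain S := hinj.isDomain (algebraMap S K)
  letI : Algebra (MvPolynomial Unit S) K :=
    (MvPolynomial.aeval (fun _ : Unit => y) : MvPolynomial Unit S →ₐ[S] K).toRingHom.toAlgebra
  haveI : IsScalarTower S (MvPolynomial Unit S) K := IsScalarTower.of_algebraMap_eq fun r =>
    ((MvPolynomial.aeval (fun _ : Unit => y) : MvPolynomial Unit S →ₐ[S] K).commutes r).symm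
  haveI : IsScalarTower k (MvPolynomial Unit S) K := tower4 k S (MvPolynomial Unit S) K
  have hinj' : Function.Injective (algebraMap (MvPolynomial Unit S) K) := by
    have hai : AlgebraicIndependent S (fun _ : Unit => y) :=
      algebraicIndependent_unique_type_iff.mpr hy
    intro p q hpq
    exact hai hpq
  have hgood' : GoodPres k (MvPolynomial Unit S) := by
    refine hgood.extend (by rw [MvPolynomial.algebraMap_eq]; exact MvPolynomial.C_injective Unit S)
      (ι' := Unit) (σ' := PEmpty.{1})
      ⟨Algebra.Generators.mvPolynomial S Unit, PEmpty.elim, ?_⟩ (by simp) (by simp)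
    rw [Algebra.Generators.ker_mvPolynomial]
    simp
  refine ⟨_, range_le S (MvPolynomial Unit S),
    (AlgHom.mem_range _).mpr ⟨MvPolynomial.X (), ?_⟩, stage_of (MvPolynomial Unit S) hinj' hgood'⟩
  rw [IsScalarTower.toAlgHom_apply]
  exact MvPolynomial.aeval_X _ _

theorem stepL {k : Type u} [Field k] {K : Type u} [Field K] [Algebra k K] {S : Type u}
    [CommRing S] [Algebra k S] [Algebra S K] [IsScalarTower k S K]
    (hinj : Function.Injective (algebraMap S K)) (hgood : GoodPres k S) (a : S) (ha : a ≠ 0) :
    ∃ (_ : Algebra (Localization.Away a) K) (_ : IsScalarTower S (Localization.Away a) K)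
      (_ : IsScalarTower k (Localization.Away a) K),
      Function.Injective (algebraMap (Localization.Away a) K) ∧
        GoodPres k (Localization.Away a) := by
  haveI : IsDomain S := hinj.isDomain (algebraMap S K)
  have haK : algebraMap S K a ≠ 0 := fun h => ha (hinj (by rw [h, map_zero]))
  letI iA : Algebra (Localization.Away a) K :=
    (IsLocalization.Away.lift (S := Localization.Away a) a haK.isUnit).toAlgebra
  haveI iT : IsScalarTower S (Localization.Away a) K := IsScalarTower.of_algebraMap_eq fun r =>
    (IsLocalization.Away.lift_eq a haK.isUnit r).symm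
  haveI iT' : IsScalarTower k (Localization.Away a) K := tower4 k S (Localization.Away a) K
  have hinj₁ : Function.Injective (algebraMap (Localization.Away a) K) := by
    rw [injective_iff_map_eq_zero]
    intro x hx
    obtain ⟨sm, hsm⟩ := IsLocalization.surj (Submonoid.powers a) x
    have h1 : algebraMap S K sm.1 = 0 := by
      rw [IsScalarTower.algebraMap_apply S (Localization.Away a) K, ← hsm, map_mul, hx, zero_mul]
    have h2 : sm.1 = 0 := hinj (by rw [h1, map_zero])
    have h3 : IsUnit (algebraMap S (Localization.Away a) (sm.2 : S)) :=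
      IsLocalization.map_units _ sm.2
    rw [h2, map_zero] at hsm
    exact h3.mul_left_eq_zero.mp hsm
  haveI : IsDomain (Localization.Away a) := hinj₁.isDomain (algebraMap (Localization.Away a) K)
  refine ⟨iA, iT, iT', hinj₁, ?_⟩
  refine hgood.extend (inj_of_tower S (Localization.Away a) K hinj) (ι' := Unit) (σ' := Unit)
    (Algebra.Presentation.localizationAway (Localization.Away a) a) (by simp) ?_
  haveI : Algebra.IsAlgebraic S (Localization.Away a) :=
    IsLocalization.isAlgebraic (Localization.Away a) (Submonoid.powers a)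
  rw [trdeg_eq_zero]
  simp

/-- `R[X]/(P)` written as a quotient of `MvPolynomial Unit R`. -/
abbrev Quo (R : Type u) [CommRing R] (P : Polynomial R) : Type u :=
  MvPolynomial Unit R ⧸ Ideal.span
    (Set.range (fun _ : Unit => (MvPolynomial.uniqueAlgEquiv R Unit).symm P))

theorem stepM {k : Type u} [Field k] {K : Type u} [Field K] [Algebra k K] {R : Type u}
    [CommRing R] [Algebra k R] [Algebra R K] [IsScalarTower k R K]
    (hinj : Function.Injective (algebraMap R K)) (hgood : GoodPres k R) (y : K)
    (P : Polynomial R) (hPm : P.Monic) (hPy : Polynomial.aeval y P = 0)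
    (hdvd : ∀ q : Polynomial R, Polynomial.aeval y q = 0 → P ∣ q) :
    ∃ A' : Subalgebra k K, (IsScalarTower.toAlgHom k R K).range ≤ A' ∧ y ∈ A' ∧
      StageOK k K A' := by
  haveI : IsDomain R := hinj.isDomain (algebraMap R K)
  have hg : ∀ p : MvPolynomial Unit R, MvPolynomial.aeval (fun _ : Unit => y) p =
      Polynomial.aeval y (MvPolynomial.uniqueAlgEquiv R Unit p) := by
    intro p
    rw [MvPolynomial.aeval_def, Polynomial.aeval_def]
    exact (MvPolynomial.eval₂_uniqueAlgEquiv (a := fun _ : Unit => y)).symm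
  have hgI : ∀ p : MvPolynomial Unit R, p ∈ Ideal.span
      (Set.range (fun _ : Unit => (MvPolynomial.uniqueAlgEquiv R Unit).symm P)) →
      (MvPolynomial.aeval (fun _ : Unit => y) : MvPolynomial Unit R →ₐ[R] K) p = 0 := by
    intro p hp
    have hle : Ideal.span
        (Set.range (fun _ : Unit => (MvPolynomial.uniqueAlgEquiv R Unit).symm P)) ≤
        RingHom.ker (MvPolynomial.aeval (fun _ : Unit => y) : MvPolynomial Unit R →ₐ[R] K) := by
      rw [Ideal.span_le]
      rintro _ ⟨_, rfl⟩
      rw [SetLike.mem_coe, RingHom.mem_ker, hg, AlgEquiv.apply_symm_apply, hPy]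
    exact (RingHom.mem_ker).mp (hle hp)
  let G : Quo R P →ₐ[R] K :=
    Ideal.Quotient.liftₐ _ (MvPolynomial.aeval (fun _ : Unit => y)) hgI
  have hG : ∀ p : MvPolynomial Unit R, G (Ideal.Quotient.mk _ p) =
      Polynomial.aeval y (MvPolynomial.uniqueAlgEquiv R Unit p) := by
    intro p
    rw [← hg]
    rfl
  letI : Algebra (Quo R P) K := G.toRingHom.toAlgebra
  haveI : IsScalarTower R (Quo R P) K :=
    IsScalarTower.of_algebraMap_eq fun r => (G.commutes r).symm
  haveI : IsScalarTower k (Quo R P) K := tower4 k R (Quo R P) K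
  have hinj₂ : Function.Injective (algebraMap (Quo R P) K) := by
    rw [injective_iff_map_eq_zero]
    intro x hx
    obtain ⟨p, rfl⟩ := Ideal.Quotient.mk_surjective x
    have h1 : Polynomial.aeval y (MvPolynomial.uniqueAlgEquiv R Unit p) = 0 := by
      rw [← hG]
      exact hx
    obtain ⟨w, hw⟩ := hdvd _ h1
    rw [Ideal.Quotient.eq_zero_iff_mem]
    have hp : p = (MvPolynomial.uniqueAlgEquiv R Unit).symm P *
        (MvPolynomial.uniqueAlgEquiv R Unit).symm w := by
      have h2 := congrArg (MvPolynomial.uniqueAlgEquiv R Unit).symm hw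
      rw [AlgEquiv.symm_apply_apply, map_mul] at h2
      exact h2
    rw [hp]
    exact Ideal.mul_mem_right _ _ (Ideal.subset_span ⟨(), rfl⟩)
  haveI : IsDomain (Quo R P) := hinj₂.isDomain (algebraMap (Quo R P) K)
  have hyint : IsIntegral R y := ⟨P, hPm, by rw [← Polynomial.aeval_def]; exact hPy⟩
  have hall : ∀ q : Polynomial R, IsIntegral R (Polynomial.aeval y q) := by
    intro q
    have h1 : Algebra.adjoin R {y} ≤ integralClosure R K :=
      Algebra.adjoin_le (by
        intro z hz
        rw [Set.mem_singleton_iff] at hz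
        rw [hz]
        exact hyint)
    exact h1 (Polynomial.aeval_mem_adjoin_singleton R y)
  haveI : Algebra.IsAlgebraic R (Quo R P) := ⟨fun x => by
    obtain ⟨p, rfl⟩ := Ideal.Quotient.mk_surjective x
    rw [← isAlgebraic_algebraMap_iff hinj₂]
    have h2 : algebraMap (Quo R P) K (Ideal.Quotient.mk _ p) =
        Polynomial.aeval y (MvPolynomial.uniqueAlgEquiv R Unit p) := hG p
    rw [h2]
    exact (hall _).isAlgebraic⟩
  have hgood₂ : GoodPres k (Quo R P) := by
    refine hgood.extend (inj_of_tower R (Quo R P) K hinj) (ι' := Unit) (σ' := Unit)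
      (Algebra.Presentation.naive
        (v := fun _ : Unit => (MvPolynomial.uniqueAlgEquiv R Unit).symm P)) (by simp) ?_
    rw [trdeg_eq_zero]
    simp
  refine ⟨_, range_le R (Quo R P),
    (AlgHom.mem_range _).mpr ⟨Ideal.Quotient.mk _ (MvPolynomial.X ()), ?_⟩,
    stage_of (Quo R P) hinj₂ hgood₂⟩
  rw [IsScalarTower.toAlgHom_apply]
  have h3 : algebraMap (Quo R P) K (Ideal.Quotient.mk _ (MvPolynomial.X ())) =
      Polynomial.aeval y (MvPolynomial.uniqueAlgEquiv R Unit (MvPolynomial.X ())) := hG _
  rw [h3, ← hg, MvPolynomial.aeval_X]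

theorem stepAlg {k : Type u} [Field k] {K : Type u} [Field K] [Algebra k K] {S : Type u}
    [CommRing S] [Algebra k S] [Algebra S K] [IsScalarTower k S K]
    (hinj : Function.Injective (algebraMap S K)) (hgood : GoodPres k S) (y : K)
    (hy : IsAlgebraic S y) :
    ∃ A' : Subalgebra k K, (IsScalarTower.toAlgHom k S K).range ≤ A' ∧ y ∈ A' ∧
      StageOK k K A' := by
  classical
  haveI : IsDomain S := hinj.isDomain (algebraMap S K)
  have hex : ∃ d : ℕ, ∃ q : Polynomial S, q ≠ 0 ∧ Polynomial.aeval y q = 0 ∧
      q.natDegree = d := by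
    obtain ⟨q, hq0, hq⟩ := hy
    exact ⟨_, q, hq0, hq, rfl⟩
  obtain ⟨q₀, hq0, hq0y, hd⟩ := Nat.find_spec hex
  have hmin : ∀ q : Polynomial S, q ≠ 0 → Polynomial.aeval y q = 0 →
      q₀.natDegree ≤ q.natDegree := by
    intro q h1 h2
    rw [hd]
    exact Nat.find_min' hex ⟨q, h1, h2, rfl⟩
  obtain ⟨a, ha_def⟩ : ∃ a : S, a = q₀.leadingCoeff := ⟨_, rfl⟩
  have ha : a ≠ 0 := by
    rw [ha_def]
    exact Polynomial.leadingCoeff_ne_zero.mpr hq0
  obtain ⟨iA, iT, iT', hinj₁, hgood₁⟩ := stepL hinj hgood a ha
  haveI : IsDomain (Localization.Away a) := hinj₁.isDomain (algebraMap (Localization.Away a) K)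
  have hinjSS₁ : Function.Injective (algebraMap S (Localization.Away a)) :=
    inj_of_tower S (Localization.Away a) K hinj
  have hunit : IsUnit (algebraMap S (Localization.Away a) a) :=
    IsLocalization.map_units (Localization.Away a)
      (⟨a, Submonoid.mem_powers a⟩ : Submonoid.powers a)
  obtain ⟨u, hu⟩ := hunit.exists_right_inv
  have hu0 : u ≠ 0 := by
    rintro rfl
    rw [mul_zero] at hu
    exact zero_ne_one hu
  obtain ⟨P, hPdef⟩ : ∃ P : Polynomial (Localization.Away a),
      P = Polynomial.C u * q₀.map (algebraMap S (Localization.Away a)) := ⟨_, rfl⟩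
  have hPdeg : P.natDegree = q₀.natDegree := by
    rw [hPdef, Polynomial.natDegree_C_mul hu0, Polynomial.natDegree_map_eq_of_injective hinjSS₁]
  have hPm : P.Monic := by
    show P.leadingCoeff = 1
    rw [hPdef, Polynomial.leadingCoeff_mul, Polynomial.leadingCoeff_C,
      Polynomial.leadingCoeff_map_of_injective hinjSS₁, ← ha_def, mul_comm]
    exact hu
  have hPy : Polynomial.aeval y P = 0 := by
    rw [hPdef, map_mul, Polynomial.aeval_map_algebraMap, hq0y, mul_zero]
  have hdvd : ∀ q : Polynomial (Localization.Away a), Polynomial.aeval y q = 0 → P ∣ q := by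
    intro q hq
    rw [← Polynomial.modByMonic_eq_zero_iff_dvd hPm]
    by_contra hr
    have hry : Polynomial.aeval y (q %ₘ P) = 0 := by
      have h1 := congrArg (Polynomial.aeval y) (Polynomial.modByMonic_add_div q P)
      rw [map_add, map_mul, hPy, zero_mul, add_zero, hq] at h1
      exact h1
    have hrdeg : (q %ₘ P).natDegree < P.natDegree :=
      Polynomial.natDegree_lt_natDegree hr (Polynomial.degree_modByMonic_lt q hPm)
    obtain ⟨b, hbM, hb⟩ :=
      IsLocalization.integerNormalization_spec (Submonoid.powers a) (q %ₘ P)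
    obtain ⟨m, hm⟩ := (Submonoid.mem_powers_iff _ _).mp hbM
    have hb0 : b ≠ 0 := by
      rw [← hm]
      exact pow_ne_zero m ha
    have hfb0 : algebraMap S (Localization.Away a) b ≠ 0 :=
      fun h => hb0 (hinjSS₁ (by rw [h, map_zero]))
    have hsmul : b • (q %ₘ P) =
        Polynomial.C (algebraMap S (Localization.Away a) b) * (q %ₘ P) := by
      first
        | rw [Algebra.smul_def, Polynomial.algebraMap_apply]
        | (ext i; simp [Polynomial.coeff_smul, Polynomial.coeff_C_mul, Algebra.smul_def])
    rw [hsmul] at hb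
    obtain ⟨r', hr'⟩ : ∃ r' : Polynomial S,
        r' = IsLocalization.integerNormalization (Submonoid.powers a) (q %ₘ P) := ⟨_, rfl⟩
    rw [← hr'] at hb
    have h1 : r' ≠ 0 := by
      intro h0
      rw [h0, Polynomial.map_zero] at hb
      rcases mul_eq_zero.mp hb.symm with h | h
      · exact hfb0 (Polynomial.C_eq_zero.mp h)
      · exact hr h
    have h2 : Polynomial.aeval y r' = 0 := by
      rw [← Polynomial.aeval_map_algebraMap (Localization.Away a), hb, map_mul, hry, mul_zero]
    have h3 : r'.natDegree = (q %ₘ P).natDegree := by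
      rw [← Polynomial.natDegree_map_eq_of_injective hinjSS₁ r', hb,
        Polynomial.natDegree_C_mul hfb0]
    have h4 := hmin r' h1 h2
    omega
  obtain ⟨A', hA', hyA', hSt⟩ := stepM hinj₁ hgood₁ y P hPm hPy hdvd
  exact ⟨A', (range_le S (Localization.Away a)).trans hA', hyA', hSt⟩

theorem step {k : Type u} [Field k] {K : Type u} [Field K] [Algebra k K]
    {A : Subalgebra k K} (hA : StageOK k K A) (y : K) :
    ∃ A' : Subalgebra k K, A ≤ A' ∧ y ∈ A' ∧ StageOK k K A' := by
  classical
  obtain ⟨S, _, _, _, _, hinj, hgood, rfl⟩ := hA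
  by_cases hy : IsAlgebraic S y
  · exact stepAlg hinj hgood y hy
  · exact stepT hinj hgood y hy


/-- For a field extension K/k, every finite subset of K lies in a k-subalgebra of K which is a global
complete intersection over k; so K is the directed union of its k-subalgebras that are global
complete intersections over k. -/
theorem result (k : Type u) [Field k] (K : Type u)
    [Field K] [Algebra k K] (E : Finset K) :
    ∃ A : Subalgebra k K, (↑E : Set K) ⊆ (A : Set K) ∧ Synt.IsGlobalCI k A := by
  classical
  have main : ∀ E : Finset K, ∃ A : Subalgebra k K, (↑E : Set K) ⊆ (A : Set K) ∧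
      StageOK k K A := by
    intro E
    refine Finset.induction_on E ?_ ?_
    · exact ⟨_, by simp, stage_of k (algebraMap k K).injective good_base⟩
    · intro y E' _ ih
      obtain ⟨A, hEA, hA⟩ := ih
      obtain ⟨A', hAA', hyA', hA'⟩ := step hA y
      refine ⟨A', ?_, hA'⟩
      intro x hx
      rw [Finset.coe_insert, Set.mem_insert_iff] at hx
      rcases hx with rfl | hx
      · exact hyA'
      · exact hAA' (hEA hx)
  obtain ⟨A, hEA, hA⟩ := main E
  exact ⟨A, hEA, isGlobalCI_of_stage hA⟩

end Groth.Agent.S9430
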