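import Groth.Statements.S9433
import Mathlib.RingTheory.Unramified.LocalStructure
import Mathlib.RingTheory.Etale.StandardEtale
import Mathlib.RingTheory.Etale.Locus
import Mathlib.RingTheory.Smooth.Flat
import Mathlib.RingTheory.Flat.Localization
import Mathlib.RingTheory.Flat.FaithfullyFlat.Algebra
import Mathlib.Algebra.Polynomial.Identities

set_option autoImplicit false
universe u
open CAlg

namespace Groth.Agent.S9433

/-- Let R → S be a local homomorphism of local rings with S the localization of an étale R-algebra at a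
prime, inducing an isomorphism of residue fields. Then for some t in the maximal ideal of R the maps
R/t^nR → S/t^nS are bijective for all n ≥ 1. -/
theorem result (R : Type u) [CommRing R] [IsLocalRing R] (T : Type u) [CommRing T] [Algebra R T]
    [Algebra.Etale R T] (q : Ideal T) [q.IsPrime] (S : Type u) [CommRing S] [IsLocalRing S]
    [Algebra T S] [IsLocalization.AtPrime S q] [Algebra R S] [IsScalarTower R T S]
    [IsLocalHom (algebraMap R S)]
    (hres : Function.Bijective (IsLocalRing.ResidueField.map (algebraMap R S))) :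
    ∃ t ∈ IsLocalRing.maximalIdeal R, ∀ n : ℕ, 1 ≤ n →
      Function.Bijective (Ideal.quotientMap ((Ideal.span {t ^ n}).map (algebraMap R S))
        (algebraMap R S) Ideal.le_comap_map) := by
  classical
  -- flatness
  haveI : Module.Flat R T := Algebra.Smooth.flat R T
  haveI : Module.Flat T S := IsLocalization.flat S q.primeCompl
  haveI : Module.Flat R S := Module.Flat.trans R T S
  haveI : Module.FaithfullyFlat R S := Module.FaithfullyFlat.of_flat_of_isLocalHom
  -- étale at q
  haveI : Algebra.FormallyEtale T (Localization.AtPrime q) :=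
    Algebra.FormallyEtale.of_isLocalization q.primeCompl
  haveI : Algebra.IsEtaleAt R q := Algebra.FormallyEtale.comp R T (Localization.AtPrime q)
  obtain ⟨f, hfq, hstd⟩ := Algebra.IsEtaleAt.exists_isStandardEtale (R := R) q
  obtain ⟨P⟩ := hstd.nonempty_standardEtalePresentation
  have hfu : IsUnit ((IsScalarTower.toAlgHom R T S) f) :=
    IsLocalization.map_units S (⟨f, hfq⟩ : q.primeCompl)
  let φ : Localization.Away f →ₐ[R] S := IsLocalization.Away.liftAlgHom f hfu
  have hφ : ∀ τ : T, φ (algebraMap T (Localization.Away f) τ) = algebraMap T S τ := by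
    intro τ
    simp [φ]
  set x : S := φ P.x with hx_def
  have hx : P.HasMap x := P.hasMap.map φ
  have hFx : Polynomial.aeval x P.f = 0 := hx.1
  have hD : IsUnit (Polynomial.aeval x (Polynomial.derivative P.f)) := hx.isUnit_derivative_f
  have hγ : IsUnit (Polynomial.aeval x P.g) := hx.2
  -- choose a lifting the residue class of x
  obtain ⟨abar, habar⟩ := hres.2 (IsLocalRing.residue S x)
  obtain ⟨a, rfl⟩ := IsLocalRing.residue_surjective abar
  rw [IsLocalRing.ResidueField.map_residue] at habar
  set b : S := algebraMap R S a with hb_def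
  set δ : S := b - x with hδ_def
  have hδ : δ ∈ IsLocalRing.maximalIdeal S := by
    rw [← IsLocalRing.residue_eq_zero_iff, hδ_def, map_sub, habar, sub_self]
  -- Taylor expansion
  obtain ⟨k, hk⟩ := Polynomial.binomExpansion (P.f.map (algebraMap R S)) x δ
  have hxδ : x + δ = b := by rw [hδ_def]; ring
  rw [hxδ, Polynomial.eval_map_algebraMap, Polynomial.eval_map_algebraMap, Polynomial.derivative_map,
    Polynomial.eval_map_algebraMap, hFx, zero_add, hb_def,
    Polynomial.aeval_algebraMap_apply_eq_algebraMap_eval] at hk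
  set t : R := Polynomial.eval a P.f with ht_def
  set D : S := Polynomial.aeval x (Polynomial.derivative P.f) with hD_def
  set u : S := D + k * δ with hu_def
  have htu : algebraMap R S t = δ * u := by rw [hk, hu_def]; ring
  have hu : IsUnit u := by
    rw [← IsLocalRing.notMem_maximalIdeal]
    intro hmem
    have h1 : D ∈ IsLocalRing.maximalIdeal S := by
      have h2 : D = u - k * δ := by rw [hu_def]; ring
      rw [h2]
      exact Ideal.sub_mem _ hmem (Ideal.mul_mem_left _ _ hδ)
    exact (IsLocalRing.notMem_maximalIdeal.2 hD) h1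
  have htS : algebraMap R S t ∈ IsLocalRing.maximalIdeal S := by
    rw [htu]; exact Ideal.mul_mem_right _ _ hδ
  have htR : t ∈ IsLocalRing.maximalIdeal R := by
    by_contra hnot
    have h1 : IsUnit t := IsLocalRing.notMem_maximalIdeal.1 hnot
    exact (IsLocalRing.notMem_maximalIdeal.2 (h1.map (algebraMap R S))) htS
  set I : Ideal S := Ideal.span {algebraMap R S t} with hI_def
  have hIm : I ≤ IsLocalRing.maximalIdeal S := by
    rw [hI_def, Ideal.span_le, Set.singleton_subset_iff]; exact htS
  have hδI : δ ∈ I := by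
    obtain ⟨w, hw⟩ := hu.exists_right_inv
    have : δ = algebraMap R S t * w := by rw [htu, mul_assoc, hw, mul_one]
    rw [this]
    exact Ideal.mul_mem_right _ _ (Ideal.subset_span rfl)
  -- the subalgebra of elements congruent to an element of R modulo I
  let Z : Subalgebra R S := (⊥ : Subalgebra R (S ⧸ I)).comap (Ideal.Quotient.mkₐ R I)
  have hZmem : ∀ z : S, z ∈ Z ↔ ∃ r : R, algebraMap R (S ⧸ I) r = Ideal.Quotient.mk I z := by
    intro z
    rw [Subalgebra.mem_comap, Algebra.mem_bot]
    rfl
  have hxZ : x ∈ Z := by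
    rw [hZmem]
    refine ⟨a, ?_⟩
    rw [IsScalarTower.algebraMap_apply R S (S ⧸ I), Ideal.Quotient.algebraMap_eq,
      Ideal.Quotient.eq]
    exact hδI
  have hpolyZ : ∀ p : Polynomial R, Polynomial.aeval x p ∈ Z := by
    intro p
    have h1 : Algebra.adjoin R {x} ≤ Z := Algebra.adjoin_le (Set.singleton_subset_iff.2 hxZ)
    exact h1 (Polynomial.aeval_mem_adjoin_singleton R x)
  have hinvZ : ∀ z w : S, z ∈ Z → z * w = 1 → w ∈ Z := by
    intro z w hz hzw
    obtain ⟨r, hr⟩ := (hZmem z).1 hz
    have hrz : algebraMap R S r - z ∈ I := by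
      rw [← Ideal.Quotient.eq, ← hr, IsScalarTower.algebraMap_apply R S (S ⧸ I),
        Ideal.Quotient.algebraMap_eq]
    have hzu : IsUnit z := IsUnit.of_mul_eq_one w hzw
    have hru : IsUnit (algebraMap R S r) := by
      rw [← IsLocalRing.notMem_maximalIdeal]
      intro hmem
      have h2 : z = algebraMap R S r - (algebraMap R S r - z) := by ring
      have h3 : z ∈ IsLocalRing.maximalIdeal S := by
        rw [h2]; exact Ideal.sub_mem _ hmem (hIm hrz)
      exact (IsLocalRing.notMem_maximalIdeal.2 hzu) h3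
    have hru' : IsUnit r := isUnit_of_map_unit (algebraMap R S) r hru
    obtain ⟨r', hr'⟩ := hru'.exists_right_inv
    rw [hZmem]
    refine ⟨r', ?_⟩
    have h1 : Ideal.Quotient.mk I z * Ideal.Quotient.mk I w = 1 := by
      rw [← map_mul, hzw, map_one]
    have h2 : algebraMap R (S ⧸ I) r * algebraMap R (S ⧸ I) r' = 1 := by
      rw [← map_mul, hr', map_one]
    linear_combination (-(algebraMap R (S ⧸ I) r' * Ideal.Quotient.mk I w)) * hr
      - algebraMap R (S ⧸ I) r' * h1 + Ideal.Quotient.mk I w * h2
  have hTZ : ∀ τ : T, algebraMap T S τ ∈ Z := by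
    intro τ
    obtain ⟨p, n, hp⟩ := P.exists_mul_aeval_x_g_pow_eq_aeval_x (algebraMap T (Localization.Away f) τ)
    have hp' := congrArg φ hp
    rw [map_mul, map_pow, hφ, ← Polynomial.aeval_algHom_apply, ← Polynomial.aeval_algHom_apply] at hp'
    obtain ⟨w, hw⟩ := (hγ.pow n).exists_right_inv
    have hwZ : w ∈ Z := hinvZ _ w (Subalgebra.pow_mem _ (hpolyZ P.g) n) hw
    have h1 : algebraMap T S τ = Polynomial.aeval x p * w := by
      rw [← hp', mul_assoc, hw, mul_one]
    rw [h1]
    exact Subalgebra.mul_mem _ (hpolyZ p) hwZ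
  have hallZ : ∀ s : S, s ∈ Z := by
    intro s
    obtain ⟨⟨τ, σ⟩, rfl⟩ := IsLocalization.mk'_surjective q.primeCompl s
    have hspec : IsLocalization.mk' S τ σ * algebraMap T S σ = algebraMap T S τ :=
      IsLocalization.mk'_spec S τ σ
    obtain ⟨w, hw⟩ := (IsLocalization.map_units S σ).exists_right_inv
    have hwZ : w ∈ Z := hinvZ _ w (hTZ σ) hw
    have h1 : IsLocalization.mk' S τ σ = algebraMap T S τ * w := by
      rw [← hspec, mul_assoc, hw, mul_one]
    change IsLocalization.mk' S τ σ ∈ Z
    rw [h1]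
    exact Subalgebra.mul_mem _ (hTZ τ) hwZ
  have hbase : ∀ s : S, ∃ r : R, algebraMap R S r - s ∈ I := by
    intro s
    obtain ⟨r, hr⟩ := (hZmem s).1 (hallZ s)
    refine ⟨r, ?_⟩
    rw [← Ideal.Quotient.eq, ← hr, IsScalarTower.algebraMap_apply R S (S ⧸ I),
      Ideal.Quotient.algebraMap_eq]
  have hstep : ∀ m : ℕ, ∀ s : S, ∃ r : R,
      algebraMap R S r - s ∈ Ideal.span {(algebraMap R S t) ^ (m + 1)} := by
    intro m
    induction m with
    | zero =>
      intro s
      obtain ⟨r, hr⟩ := hbase s
      exact ⟨r, by simpa using hr⟩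
    | succ m ih =>
      intro s
      obtain ⟨r, hr⟩ := ih s
      obtain ⟨c, hc⟩ := Ideal.mem_span_singleton'.1 hr
      obtain ⟨r', hr'⟩ := hbase c
      obtain ⟨c', hc'⟩ := Ideal.mem_span_singleton'.1 hr'
      refine ⟨r - r' * t ^ (m + 1), Ideal.mem_span_singleton'.2 ⟨-c', ?_⟩⟩
      simp only [map_sub, map_mul, map_pow]
      linear_combination (-(algebraMap R S t) ^ (m + 1)) * hc' + hc
  refine ⟨t, htR, ?_⟩
  intro n hn
  obtain ⟨m, rfl⟩ : ∃ m, n = m + 1 := ⟨n - 1, by omega⟩
  have hIeq : (Ideal.span {t ^ (m + 1)}).map (algebraMap R S)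
      = Ideal.span {(algebraMap R S t) ^ (m + 1)} := by
    rw [Ideal.map_span, Set.image_singleton, map_pow]
  constructor
  · apply Ideal.quotientMap_injective'
    rw [Ideal.comap_map_eq_self_of_faithfullyFlat]
  · intro y
    obtain ⟨s, rfl⟩ := Ideal.Quotient.mk_surjective y
    obtain ⟨r, hr⟩ := hstep m s
    refine ⟨Ideal.Quotient.mk _ r, ?_⟩
    rw [Ideal.quotientMap_mk, Ideal.Quotient.eq, hIeq]
    exact hr

end Groth.Agent.S9433
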