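import Groth.Statements.S9435
import Mathlib.RingTheory.Etale.StandardEtale
import Mathlib.RingTheory.Polynomial.ScaleRoots
import Mathlib.RingTheory.Polynomial.Tower
import Mathlib.RingTheory.Localization.Integer
import Mathlib.Algebra.Polynomial.Lifts
import Mathlib.FieldTheory.PrimitiveElement
import Mathlib.FieldTheory.Separable
import Mathlib.RingTheory.LocalRing.ResidueField.Ideal

set_option autoImplicit false
universe u

namespace Groth.Agent.S9435

open Polynomial IntermediateField

/-- Given a prime p of a ring R and a finite separable extension L of κ(p), there is an étale R-algebra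
R' with a prime p' over p whose residue field is κ(p)-isomorphic to L. Stated through an R-algebra
map ψ : R' → L whose image generates the field L: its kernel is such a prime p' and the induced
κ(p') → L is then an isomorphism over κ(p). -/
theorem result (R : Type u) [CommRing R]
    (p : Ideal R) [p.IsPrime] (L : Type u) [Field L] [Algebra p.ResidueField L] [Algebra R L]
    [IsScalarTower R p.ResidueField L] [Module.Finite p.ResidueField L]
    [Algebra.IsSeparable p.ResidueField L] :
    ∃ (R' : Type u) (_ : CommRing R') (_ : Algebra R R') (_ : Algebra.Etale R R') (ψ : R' →ₐ[R] L),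
      Subfield.closure (Set.range ψ) = ⊤ := by
  classical
  obtain ⟨α, hα⟩ := Field.exists_primitive_element p.ResidueField L
  have hαint : IsIntegral p.ResidueField α := Algebra.IsIntegral.isIntegral α
  have hmmonic : (minpoly p.ResidueField α).Monic := minpoly.monic hαint
  obtain ⟨b, hb⟩ := IsLocalization.exist_integer_multiples (nonZeroDivisors (R ⧸ p))
    (Finset.range ((minpoly p.ResidueField α).natDegree + 1)) (minpoly p.ResidueField α).coeff
  obtain ⟨s, hs⟩ : ∃ s : p.ResidueField, s = algebraMap (R ⧸ p) p.ResidueField b := ⟨_, rfl⟩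
  obtain ⟨β, hβ⟩ : ∃ β : L, β = algebraMap p.ResidueField L s * α := ⟨_, rfl⟩
  have hs0 : s ≠ 0 := by
    rw [hs]
    exact map_ne_zero_of_mem_nonZeroDivisors _
      (IsFractionRing.injective (R ⧸ p) p.ResidueField) b.2
  have hRK : ∀ r : R, algebraMap R p.ResidueField r =
      algebraMap (R ⧸ p) p.ResidueField (Ideal.Quotient.mk p r) := fun r =>
    IsScalarTower.algebraMap_apply R (R ⧸ p) p.ResidueField r
  have hFβ : aeval β (scaleRoots (minpoly p.ResidueField α) s) = 0 := by
    rw [hβ]
    exact scaleRoots_aeval_eq_zero (minpoly.aeval p.ResidueField α)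
  have hFmonic : (scaleRoots (minpoly p.ResidueField α) s).Monic :=
    (monic_scaleRoots_iff _).mpr hmmonic
  -- `β` is again a primitive element
  have hs0L : algebraMap p.ResidueField L s ≠ 0 :=
    (map_ne_zero_iff _ (algebraMap p.ResidueField L).injective).mpr hs0
  have hβtop : p.ResidueField⟮β⟯ = ⊤ := by
    rw [eq_top_iff, ← hα, adjoin_simple_le_iff]
    have h1 : (algebraMap p.ResidueField L s)⁻¹ * β = α := by
      rw [hβ, ← mul_assoc, inv_mul_cancel₀ hs0L, one_mul]
    have h2 : (algebraMap p.ResidueField L s)⁻¹ * β ∈ p.ResidueField⟮β⟯ :=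
      mul_mem (inv_mem (IntermediateField.algebraMap_mem _ _)) (mem_adjoin_simple_self _ _)
    rwa [h1] at h2
  have hβint : IsIntegral p.ResidueField β := Algebra.IsIntegral.isIntegral _
  have hdeg : (scaleRoots (minpoly p.ResidueField α) s).natDegree ≤
      (minpoly p.ResidueField β).natDegree := by
    rw [natDegree_scaleRoots, ← adjoin.finrank hαint, ← adjoin.finrank hβint, hα, hβtop]
  have hFeq : scaleRoots (minpoly p.ResidueField α) s = minpoly p.ResidueField β :=
    eq_of_monic_of_dvd_of_natDegree_le (minpoly.monic hβint) hFmonic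
      (minpoly.dvd _ _ hFβ) hdeg
  have hFsep : (scaleRoots (minpoly p.ResidueField α) s).Separable := by
    rw [hFeq]
    exact Algebra.IsSeparable.isSeparable p.ResidueField _
  have hder := hFsep.aeval_derivative_ne_zero hFβ
  -- the coefficients lift to `R`
  have hlifts : scaleRoots (minpoly p.ResidueField α) s ∈
      lifts (algebraMap R p.ResidueField) := by
    rw [lifts_iff_coeff_lifts]
    intro i
    rw [coeff_scaleRoots]
    rcases lt_trichotomy i (minpoly p.ResidueField α).natDegree with hi | hi | hi
    · obtain ⟨a, ha⟩ := hb i (Finset.mem_range.mpr (by omega))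
      obtain ⟨r, rfl⟩ := Ideal.Quotient.mk_surjective a
      obtain ⟨r', hr'⟩ := Ideal.Quotient.mk_surjective (b : R ⧸ p)
      refine ⟨r * r' ^ ((minpoly p.ResidueField α).natDegree - i - 1), ?_⟩
      have hexp : s ^ ((minpoly p.ResidueField α).natDegree - i) =
          s ^ ((minpoly p.ResidueField α).natDegree - i - 1) * s := by
        rw [← pow_succ]
        congr 1
        omega
      rw [hexp, map_mul, map_pow, hRK, hRK, hr', ha, Algebra.smul_def, ← hs]
      ring
    · refine ⟨1, ?_⟩
      rw [hi, hmmonic.coeff_natDegree, Nat.sub_self, pow_zero, mul_one, map_one]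
    · refine ⟨0, ?_⟩
      rw [coeff_eq_zero_of_natDegree_lt hi, zero_mul, map_zero]
  obtain ⟨f, hfmap, -, hfmonic⟩ := lifts_and_degree_eq_and_monic hlifts hFmonic
  let P : StandardEtalePair R := ⟨f, hfmonic, derivative f, ⟨1, 0, 1, by ring⟩⟩
  have hmap : P.HasMap β := by
    constructor
    · change aeval _ f = 0
      rw [← aeval_map_algebraMap p.ResidueField, hfmap]
      exact hFβ
    · change IsUnit (aeval _ (derivative f))
      rw [← aeval_map_algebraMap p.ResidueField, ← derivative_map, hfmap]
      exact isUnit_iff_ne_zero.mpr hder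
  refine ⟨P.Ring, inferInstance, inferInstance, inferInstance, P.lift β hmap, ?_⟩
  have hR : ∀ r : R, algebraMap R L r ∈ Subfield.closure (Set.range (P.lift β hmap)) := fun r =>
    Subfield.subset_closure ⟨algebraMap R P.Ring r, (P.lift β hmap).commutes r⟩
  have hK : ∀ k : p.ResidueField,
      algebraMap p.ResidueField L k ∈ Subfield.closure (Set.range (P.lift β hmap)) := by
    intro k
    obtain ⟨a, c, -, rfl⟩ := IsFractionRing.div_surjective (A := R ⧸ p) k
    obtain ⟨r₁, rfl⟩ := Ideal.Quotient.mk_surjective a
    obtain ⟨r₂, rfl⟩ := Ideal.Quotient.mk_surjective c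
    rw [map_div₀, ← hRK, ← hRK, ← IsScalarTower.algebraMap_apply,
      ← IsScalarTower.algebraMap_apply]
    exact div_mem (hR r₁) (hR r₂)
  have hβmem : β ∈ (Subfield.closure (Set.range (P.lift β hmap))).toIntermediateField hK :=
    Subfield.subset_closure ⟨P.X, P.lift_X β hmap⟩
  have hle : p.ResidueField⟮β⟯ ≤
      (Subfield.closure (Set.range (P.lift β hmap))).toIntermediateField hK :=
    adjoin_simple_le_iff.mpr hβmem
  rw [hβtop] at hle
  rw [eq_top_iff]
  intro z _
  exact hle (IntermediateField.mem_top (x := z))

end Groth.Agent.S9435
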