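import Groth.Statements.S9445
import Mathlib.RingTheory.Etale.Basic
import Mathlib.RingTheory.Kaehler.Basic
import Mathlib.RingTheory.TensorProduct.Maps

set_option autoImplicit false
universe u
open CAlg

namespace Groth.Agent.S9445

section aux

open TensorProduct

variable (R : Type u) [CommRing R] (S : Type u) [CommRing S] [Algebra R S] (S' : Type u)
  [CommRing S'] [Algebra R S'] [Algebra S S'] [IsScalarTower R S S'] (k : ℕ)

/-- the base change map `S' ⊗ S → S' ⊗ S'` -/
noncomputable abbrev phi : S' ⊗[R] S →ₐ[S'] S' ⊗[R] S' :=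
  Algebra.TensorProduct.map (AlgHom.id S' S') (IsScalarTower.toAlgHom R S S')

/-- the ideal `J'` -/
noncomputable abbrev JJ : Ideal (S' ⊗[R] S') := KaehlerDifferential.ideal R S'

/-- the ideal `I` -/
noncomputable abbrev II : Ideal (S' ⊗[R] S) := (JJ R S').comap (phi R S S').toRingHom

/-- source -/
abbrev PP := (S' ⊗[R] S) ⧸ (II R S S') ^ (k + 1)

/-- target -/
abbrev QQ := (S' ⊗[R] S') ⧸ (JJ R S') ^ (k + 1)

/-- the map of the statement -/
noncomputable abbrev psi : PP R S S' k →+* QQ R S' k :=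
  Ideal.quotientMap ((JJ R S') ^ (k + 1)) (phi R S S').toRingHom
    (Ideal.le_comap_pow (phi R S S').toRingHom (K := JJ R S') (k + 1))

/-- multiplication `S' ⊗ S → S'` as a ring hom -/
noncomputable def mT : S' ⊗[R] S →+* S' :=
  (Algebra.TensorProduct.lmul' R : S' ⊗[R] S' →ₐ[R] S').toRingHom.comp (phi R S S').toRingHom

theorem mT_tmul (a : S') (s : S) : mT R S S' (a ⊗ₜ s) = a * algebraMap S S' s := by
  simp [mT]

theorem ker_mT : RingHom.ker (mT R S S') = II R S S' := by
  rw [mT, ← RingHom.comap_ker]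
  rfl

/-- `P → S'` -/
noncomputable def gP : PP R S S' k →+* S' :=
  Ideal.Quotient.lift _ (mT R S S') (fun t ht => by
    have h1 : t ∈ II R S S' := Ideal.pow_le_self (Nat.succ_ne_zero k) ht
    rw [← ker_mT] at h1
    exact h1)

theorem gP_mk (t : S' ⊗[R] S) : gP R S S' k (Ideal.Quotient.mk _ t) = mT R S S' t := rfl

theorem ker_gP_pow : RingHom.ker (gP R S S' k) ^ (k + 1) = ⊥ := by
  rw [gP, Ideal.ker_quotient_lift, ker_mT, ← Ideal.map_pow, Ideal.map_quotient_self]

/-- `Q → S'` -/
noncomputable def gQ : QQ R S' k →+* S' :=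
  Ideal.Quotient.lift _ (Algebra.TensorProduct.lmul' R : S' ⊗[R] S' →ₐ[R] S').toRingHom (fun t ht => by
    have h1 : t ∈ JJ R S' := Ideal.pow_le_self (Nat.succ_ne_zero k) ht
    exact h1)

theorem gQ_mk (t : S' ⊗[R] S') :
    gQ R S' k (Ideal.Quotient.mk _ t) = (Algebra.TensorProduct.lmul' R : S' ⊗[R] S' →ₐ[R] S') t := rfl

theorem ker_gQ_pow : RingHom.ker (gQ R S' k) ^ (k + 1) = ⊥ := by
  have h : RingHom.ker (Algebra.TensorProduct.lmul' R : S' ⊗[R] S' →ₐ[R] S').toRingHom = JJ R S' := rfl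
  rw [gQ, Ideal.ker_quotient_lift, h, ← Ideal.map_pow, Ideal.map_quotient_self]

theorem gQ_psi (x : PP R S S' k) : gQ R S' k (psi R S S' k x) = gP R S S' k x := by
  obtain ⟨t, rfl⟩ := Ideal.Quotient.mk_surjective x
  rfl

/-- right structure map `S → P` -/
noncomputable def rhoP : S →+* PP R S S' k :=
  (Ideal.Quotient.mk _).comp (Algebra.TensorProduct.includeRight : S →ₐ[R] S' ⊗[R] S).toRingHom

/-- right structure map `S → Q` -/
noncomputable def rhoQ : S →+* QQ R S' k :=
  (Ideal.Quotient.mk _).comp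
    ((Algebra.TensorProduct.includeRight : S' →ₐ[R] S' ⊗[R] S').toRingHom.comp (algebraMap S S'))

end aux

open TensorProduct in
theorem main (R : Type u) [CommRing R]
    (S : Type u) [CommRing S] [Algebra R S] (S' : Type u) [CommRing S'] [Algebra R S']
    [Algebra S S'] [IsScalarTower R S S'] [Algebra.FormallyEtale S S'] (k : ℕ) :
    Function.Bijective (psi R S S' k) := by
  letI algP : Algebra S (PP R S S' k) := (rhoP R S S' k).toAlgebra
  letI algQ : Algebra S (QQ R S' k) := (rhoQ R S S' k).toAlgebra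
  have halgP : ∀ s : S, algebraMap S (PP R S S' k) s = Ideal.Quotient.mk _ ((1 : S') ⊗ₜ[R] s) :=
    fun s => rfl
  have halgQ : ∀ s : S, algebraMap S (QQ R S' k) s =
      Ideal.Quotient.mk _ ((1 : S') ⊗ₜ[R] algebraMap S S' s) := fun s => rfl
  -- `gP` as an `S`-algebra map
  let gPa : PP R S S' k →ₐ[S] S' :=
    { toRingHom := gP R S S' k
      commutes' := fun s => by
        show gP R S S' k (algebraMap S (PP R S S' k) s) = algebraMap S S' s
        rw [halgP, gP_mk, mT_tmul, one_mul] }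
  have hsurjP : Function.Surjective gPa := fun a =>
    ⟨Ideal.Quotient.mk _ (a ⊗ₜ[R] (1 : S)), by
      show gP R S S' k (Ideal.Quotient.mk _ (a ⊗ₜ[R] (1 : S))) = a
      rw [gP_mk, mT_tmul, map_one, mul_one]⟩
  have hnilP : IsNilpotent (RingHom.ker (gPa : PP R S S' k →+* S')) :=
    ⟨k + 1, ker_gP_pow R S S' k⟩
  let σ : S' →ₐ[S] PP R S S' k :=
    Algebra.FormallySmooth.liftOfSurjective (AlgHom.id S S') gPa hsurjP hnilP
  have hσ : ∀ b : S', gP R S S' k (σ b) = b := fun b =>
    Algebra.FormallySmooth.liftOfSurjective_apply (AlgHom.id S S') gPa hsurjP hnilP b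
  -- left inclusion and `σ` as `R`-algebra maps
  let lP : S' →ₐ[R] PP R S S' k :=
    (Ideal.Quotient.mkₐ R _).comp (Algebra.TensorProduct.includeLeft : S' →ₐ[R] S' ⊗[R] S)
  have hlP : ∀ a : S', lP a = Ideal.Quotient.mk _ (a ⊗ₜ[R] (1 : S)) := fun a => rfl
  let σR : S' →ₐ[R] PP R S S' k :=
    { toRingHom := σ.toRingHom
      commutes' := fun r => by
        show σ (algebraMap R S' r) = algebraMap R (PP R S S' k) r
        rw [IsScalarTower.algebraMap_apply R S S', σ.commutes, halgP]
        show Ideal.Quotient.mk _ ((Algebra.TensorProduct.includeRight : S →ₐ[R] S' ⊗[R] S)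
          (algebraMap R S r)) = Ideal.Quotient.mk _ (algebraMap R (S' ⊗[R] S) r)
        rw [AlgHom.commutes] }
  have hσR : ∀ b : S', σR b = σ b := fun b => rfl
  let θ : S' ⊗[R] S' →ₐ[R] PP R S S' k :=
    Algebra.TensorProduct.lift lP σR (fun _ _ => Commute.all _ _)
  have hθ : ∀ a b : S', θ (a ⊗ₜ[R] b) = lP a * σ b := fun a b => by
    rw [← hσR]
    exact Algebra.TensorProduct.lift_tmul _ _ _ a b
  have hgθ : ∀ t : S' ⊗[R] S', gP R S S' k (θ t) =
      (Algebra.TensorProduct.lmul' R : S' ⊗[R] S' →ₐ[R] S') t := by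
    intro t
    induction t using TensorProduct.induction_on with
    | zero => simp
    | tmul a b =>
      rw [hθ, map_mul, hσ, hlP, gP_mk, mT_tmul, map_one, mul_one, Algebra.TensorProduct.lmul'_apply_tmul]
    | add x y hx hy => rw [map_add, map_add, map_add, hx, hy]
  have hker : (JJ R S') ^ (k + 1) ≤ RingHom.ker θ.toRingHom := by
    have h1 : JJ R S' ≤ (RingHom.ker (gP R S S' k)).comap θ.toRingHom := by
      intro t ht
      rw [Ideal.mem_comap, RingHom.mem_ker]
      show gP R S S' k (θ t) = 0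
      rw [hgθ]
      exact ht
    calc (JJ R S') ^ (k + 1) ≤ ((RingHom.ker (gP R S S' k)).comap θ.toRingHom) ^ (k + 1) :=
          Ideal.pow_right_mono h1 _
      _ ≤ ((RingHom.ker (gP R S S' k)) ^ (k + 1)).comap θ.toRingHom := Ideal.le_comap_pow _ _
      _ = RingHom.ker θ.toRingHom := by rw [ker_gP_pow, ← RingHom.ker_eq_comap_bot]
  let θb : QQ R S' k →+* PP R S S' k := Ideal.Quotient.lift _ θ.toRingHom (fun t ht => hker ht)
  have hθb : ∀ t : S' ⊗[R] S', θb (Ideal.Quotient.mk _ t) = θ t := fun t => rfl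
  -- uniqueness
  let ψa : PP R S S' k →ₐ[S] QQ R S' k :=
    { toRingHom := psi R S S' k
      commutes' := fun s => by
        show psi R S S' k (algebraMap S (PP R S S' k) s) = algebraMap S (QQ R S' k) s
        rw [halgP, halgQ]
        show Ideal.Quotient.mk _ ((phi R S S') ((1 : S') ⊗ₜ[R] s)) = _
        simp }
  let rQ : S' →ₐ[S] QQ R S' k :=
    { toRingHom := (Ideal.Quotient.mk _).comp
        (Algebra.TensorProduct.includeRight : S' →ₐ[R] S' ⊗[R] S').toRingHom
      commutes' := fun s => rfl }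
  have hrQ : ∀ b : S', rQ b = Ideal.Quotient.mk _ ((1 : S') ⊗ₜ[R] b) := fun b => rfl
  have huniq : ψa.comp σ = rQ := by
    refine Algebra.FormallyUnramified.lift_unique_of_ringHom (gQ R S' k)
      ⟨k + 1, ker_gQ_pow R S' k⟩ _ _ ?_
    ext b
    show gQ R S' k (psi R S S' k (σ b)) = gQ R S' k (rQ b)
    rw [gQ_psi, hσ, hrQ, gQ_mk, Algebra.TensorProduct.lmul'_apply_tmul, one_mul]
  have hψσ : ∀ b : S', psi R S S' k (σ b) = Ideal.Quotient.mk _ ((1 : S') ⊗ₜ[R] b) := fun b => by
    rw [← hrQ, ← huniq]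
    rfl
  rw [Function.bijective_iff_has_inverse]
  refine ⟨θb, ?_, ?_⟩
  · intro x
    obtain ⟨t, rfl⟩ := Ideal.Quotient.mk_surjective x
    induction t using TensorProduct.induction_on with
    | zero => simp
    | tmul a s =>
      have h1 : psi R S S' k (Ideal.Quotient.mk _ (a ⊗ₜ[R] s)) =
          Ideal.Quotient.mk _ (a ⊗ₜ[R] algebraMap S S' s) := by
        show Ideal.Quotient.mk _ ((phi R S S') (a ⊗ₜ[R] s)) = _
        simp
      rw [h1, hθb, hθ, σ.commutes, halgP, hlP, ← map_mul, Algebra.TensorProduct.tmul_mul_tmul,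
        mul_one, one_mul]
    | add x y hx hy => rw [map_add, map_add, map_add, hx, hy]
  · intro y
    obtain ⟨t, rfl⟩ := Ideal.Quotient.mk_surjective y
    induction t using TensorProduct.induction_on with
    | zero => simp
    | tmul a b =>
      have h2 : psi R S S' k (lP a) = Ideal.Quotient.mk _ (a ⊗ₜ[R] (1 : S')) := by
        rw [hlP]
        show Ideal.Quotient.mk _ ((phi R S S') (a ⊗ₜ[R] (1 : S))) = _
        simp
      rw [hθb, hθ, map_mul, hψσ, h2, ← map_mul, Algebra.TensorProduct.tmul_mul_tmul,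
        mul_one, one_mul]
    | add x y hx hy => rw [map_add, map_add, map_add, hx, hy]


open TensorProduct in
/-- For ring maps R → S → S' with S → S' formally étale and k ≥ 0, let J' ⊆ S' ⊗_R S' be the kernel of
multiplication and I ⊆ S' ⊗_R S its preimage under the map induced by S → S' (I is the kernel of S'
⊗_R S → S', and (S' ⊗_R S)/I^{k+1} is S' ⊗_S P^k_{S/R}); then (S' ⊗_R S)/I^{k+1} → (S' ⊗_R
S')/J'^{k+1} is bijective. (The consequence S' ⊗_S Ω_{S/R} ≅ Ω_{S'/R} is Mathlib's
KaehlerDifferential.isBaseChange_of_formallyEtale.) -/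
theorem result (R : Type u) [CommRing R]
    (S : Type u) [CommRing S] [Algebra R S] (S' : Type u) [CommRing S'] [Algebra R S']
    [Algebra S S'] [IsScalarTower R S S'] [Algebra.FormallyEtale S S'] (k : ℕ) :
    Function.Bijective (Ideal.quotientMap (KaehlerDifferential.ideal R S' ^ (k + 1))
      (Algebra.TensorProduct.map (AlgHom.id S' S') (IsScalarTower.toAlgHom R S S')).toRingHom
      (Ideal.le_comap_pow
        (Algebra.TensorProduct.map (AlgHom.id S' S') (IsScalarTower.toAlgHom R S S')).toRingHom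
        (K := KaehlerDifferential.ideal R S') (k + 1))) := by
  exact main R S S' k

end Groth.Agent.S9445
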