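import Groth.Statements.S9446
import Mathlib
import Groth.Agent.H47.TensorApprox

set_option autoImplicit false
universe u
open CAlg

namespace Groth.Agent.S9446

open TensorProduct

theorem toIC_val {R : Type u} [CommRing R] (C : Type u) [CommRing C] [Algebra R C] (B : Type u)
    [CommRing B] [Algebra R B] (w : C ⊗[R] integralClosure R B) :
    ((TensorProduct.toIntegralClosure R C B w : integralClosure C (C ⊗[R] B)) : C ⊗[R] B) =
      (integralClosure R B).val.toLinearMap.lTensor C w := rfl

theorem toIC_natural {R : Type u} [CommRing R] {C S : Type u} [CommRing C] [CommRing S]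
    [Algebra R C] [Algebra R S] (B : Type u) [CommRing B] [Algebra R B] (h : C →ₐ[R] S)
    (w : C ⊗[R] integralClosure R B) :
    (integralClosure R B).val.toLinearMap.lTensor S (h.toLinearMap.rTensor _ w) =
      h.toLinearMap.rTensor B ((integralClosure R B).val.toLinearMap.lTensor C w) := by
  rw [← LinearMap.comp_apply, ← LinearMap.comp_apply, LinearMap.lTensor_comp_rTensor,
    LinearMap.rTensor_comp_lTensor]

theorem rTensor_eval₂ {R : Type u} [CommRing R] {A₀ C : Type u} [CommRing A₀] [CommRing C]
    [Algebra R A₀] [Algebra R C] (B : Type u) [CommRing B] [Algebra R B] (ψ : A₀ →ₐ[R] C)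
    (x₀ : A₀ ⊗[R] B) (p₀ : Polynomial A₀) :
    ψ.toLinearMap.rTensor B (Polynomial.eval₂ (algebraMap A₀ (A₀ ⊗[R] B)) x₀ p₀) =
      Polynomial.eval₂ (algebraMap C (C ⊗[R] B)) (ψ.toLinearMap.rTensor B x₀)
        (p₀.map ψ.toRingHom) := by
  have e1 : ∀ z, ψ.toLinearMap.rTensor B z =
      (Algebra.TensorProduct.map ψ (AlgHom.id R B)).toRingHom z := fun z => rfl
  rw [e1, e1, Polynomial.eval₂_map, Polynomial.hom_eval₂]
  congr 1

/-- If S is ind-smooth over R (every R-algebra map into S from a finitely presented R-algebra factors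
through a smooth R-algebra) then for every R-algebra B the canonical map S ⊗_R A → A', from the base
change of the integral closure A of R in B to the integral closure A' of S in S ⊗_R B, is bijective. -/
theorem result (R : Type u) [CommRing R] (S : Type u)
    [CommRing S] [Algebra R S] (hS : Smoothing.IndSmooth R S) (B : Type u) [CommRing B]
    [Algebra R B] : Function.Bijective (TensorProduct.toIntegralClosure R S B) := by
  classical
  constructor
  · rw [injective_iff_map_eq_zero]
    intro w hw
    have hw' : (integralClosure R B).val.toLinearMap.lTensor S w = 0 := by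
      rw [← toIC_val, hw]; rfl
    obtain ⟨σ, hσ, g₀, w₀, hw₀, -⟩ := H47.exists_mvPolynomial_lift w ∅
    have := hσ
    have hz : g₀.toLinearMap.rTensor B
        ((integralClosure R B).val.toLinearMap.lTensor (MvPolynomial σ R) w₀) = 0 := by
      rw [← toIC_natural, hw₀, hw']
    obtain ⟨A₁, _, _, φ, g, hg, hfp, hφ⟩ := H47.exists_fp_approx g₀ _ hz
    obtain ⟨C, _, _, hC, g₁, h, hh⟩ := hS A₁ (hfp inferInstance) g
    have := hC
    have hψ : h.comp (g₁.comp φ) = g₀ := by rw [← hg, ← hh]; rfl
    have h1 : (integralClosure R B).val.toLinearMap.lTensor C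
        ((g₁.comp φ).toLinearMap.rTensor _ w₀) = 0 := by
      rw [toIC_natural, AlgHom.comp_toLinearMap, LinearMap.rTensor_comp_apply, hφ, map_zero]
    have h2 : (g₁.comp φ).toLinearMap.rTensor _ w₀ = 0 := by
      have hinj := Module.Flat.lTensor_preserves_injective_linearMap (M := C)
        (integralClosure R B).val.toLinearMap Subtype.val_injective
      exact hinj (h1.trans (map_zero _).symm)
    rw [← hw₀, ← hψ, AlgHom.comp_toLinearMap, LinearMap.rTensor_comp_apply, h2, map_zero]
  · rintro ⟨x, hx⟩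
    obtain ⟨p, hp, hpx⟩ := hx
    obtain ⟨σ, hσ, g₀, x₀, hx₀, hU⟩ := H47.exists_mvPolynomial_lift x p.coeffs
    have := hσ
    have hlift : p ∈ Polynomial.lifts g₀.toRingHom := by
      rw [Polynomial.lifts_iff_coeffs_subset_range]
      intro u hu
      exact hU u hu
    obtain ⟨p₀, hp₀, -, hp₀m⟩ := Polynomial.lifts_and_natDegree_eq_and_monic hlift hp
    have hz : g₀.toLinearMap.rTensor B (Polynomial.eval₂
        (algebraMap (MvPolynomial σ R) (MvPolynomial σ R ⊗[R] B)) x₀ p₀) = 0 := by
      rw [rTensor_eval₂, hx₀, hp₀]; exact hpx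
    obtain ⟨A₁, _, _, φ, g, hg, hfp, hφ⟩ := H47.exists_fp_approx g₀ _ hz
    obtain ⟨C, _, _, hC, g₁, h, hh⟩ := hS A₁ (hfp inferInstance) g
    have := hC
    have hψ : h.comp (g₁.comp φ) = g₀ := by rw [← hg, ← hh]; rfl
    have hxCint : IsIntegral C ((g₁.comp φ).toLinearMap.rTensor B x₀) := by
      refine ⟨p₀.map (g₁.comp φ).toRingHom, hp₀m.map _, ?_⟩
      rw [← rTensor_eval₂, AlgHom.comp_toLinearMap, LinearMap.rTensor_comp_apply, hφ, map_zero]
    obtain ⟨wC, hwC⟩ := (TensorProduct.toIntegralClosure_bijective_of_smooth (R := R) (S := C)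
      (B := B)).2 ⟨_, hxCint⟩
    refine ⟨h.toLinearMap.rTensor _ wC, Subtype.ext ?_⟩
    rw [toIC_val, toIC_natural, ← toIC_val, hwC]
    show h.toLinearMap.rTensor B ((g₁.comp φ).toLinearMap.rTensor B x₀) = x
    rw [← LinearMap.rTensor_comp_apply, ← AlgHom.comp_toLinearMap, hψ, hx₀]

end Groth.Agent.S9446
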