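import Groth.Statements.S9452
import Mathlib

set_option autoImplicit false
universe u
open Unram

namespace Groth.Agent.S9452

open TensorProduct AlgebraicGeometry CategoryTheory

/-- If `ψ : T → A'` is a ring hom such that `Spec ψ` is both an open and a closed immersion,
then the kernel of `ψ` is generated by an idempotent. -/
theorem exists_idem_of_isOpenImmersion {T A' : Type u} [CommRing T] [CommRing A'] (ψ : T →+* A')
    (hψ : Function.Surjective ψ) [IsOpenImmersion (Spec.map (CommRingCat.ofHom ψ))] :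
    ∃ e : T, IsIdempotentElem e ∧ RingHom.ker ψ = Ideal.span {1 - e} := by
  set Γ := Spec.map (CommRingCat.ofHom ψ) with hΓ
  have hci : IsClosedImmersion Γ := IsClosedImmersion.spec_of_surjective _ hψ
  have hclopen : IsClopen (Set.range Γ.base) :=
    ⟨Γ.isClosedEmbedding.isClosed_range, Γ.isOpenEmbedding.isOpen_range⟩
  obtain ⟨e, he, hrange⟩ := PrimeSpectrum.isClopen_iff.mp hclopen
  refine ⟨e, he, ?_⟩
  let A := T ⧸ Ideal.span {1 - e}
  have hloc : IsLocalization.Away e A := IsLocalization.Away.quotient_of_isIdempotentElem he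
  let π : T →+* A := algebraMap T A
  have hoi : IsOpenImmersion (Spec.map (CommRingCat.ofHom π)) :=
    IsOpenImmersion.of_isLocalization e
  have hr2 : Set.range (Spec.map (CommRingCat.ofHom π)).base =
      ((PrimeSpectrum.basicOpen e : TopologicalSpace.Opens (PrimeSpectrum T)) : Set (PrimeSpectrum T)) :=
    PrimeSpectrum.localization_away_comap_range A e
  have hrr : Set.range Γ = Set.range (Spec.map (CommRingCat.ofHom π)) := by
    change Set.range Γ.base = Set.range (Spec.map (CommRingCat.ofHom π)).base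
    rw [hrange, hr2]
  let iso := IsOpenImmersion.isoOfRangeEq Γ (Spec.map (CommRingCat.ofHom π)) hrr
  have hfac : iso.hom ≫ Spec.map (CommRingCat.ofHom π) = Γ :=
    IsOpenImmersion.isoOfRangeEq_hom_fac _ _ hrr
  let θ : CommRingCat.of A ⟶ CommRingCat.of A' := Spec.preimage iso.hom
  let θ' : CommRingCat.of A' ⟶ CommRingCat.of A := Spec.preimage iso.inv
  have h1 : θ ≫ θ' = 𝟙 _ := by
    apply Spec.map_injective
    rw [Spec.map_comp, Spec.map_preimage, Spec.map_preimage, Iso.inv_hom_id, Spec.map_id]
  have h2 : CommRingCat.ofHom π ≫ θ = CommRingCat.ofHom ψ := by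
    apply Spec.map_injective
    rw [Spec.map_comp, Spec.map_preimage, hfac]
  have hinj : Function.Injective θ.hom := by
    intro a b hab
    have := congrArg θ'.hom hab
    have h3 : ∀ x, θ'.hom (θ.hom x) = x := fun x => by
      have := congrArg (fun f => f.hom x) h1
      simpa using this
    rwa [h3, h3] at this
  have h4 : ∀ t, ψ t = θ.hom (π t) := fun t => by
    have := congrArg (fun f => f.hom t) h2
    simpa using this.symm
  ext t
  rw [RingHom.mem_ker, h4, map_eq_zero_iff _ hinj]
  change Ideal.Quotient.mk _ t = 0 ↔ _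
  rw [Ideal.Quotient.eq_zero_iff_mem]

theorem main_aux (R : Type u) [CommRing R]
    (S : Type u) [CommRing S] [Algebra R S] [Algebra.FiniteType R S] (q : Ideal S) [q.IsPrime]
    [Algebra.IsUnramifiedAt R q] :
    ∃ (R' : Type u) (_ : CommRing R') (_ : Algebra R R') (_ : Algebra.Etale R R') (p' : Ideal R')
      (_ : p'.IsPrime) (_ : p'.LiesOver (q.under R)) (A : Type u) (_ : CommRing A) (_ : Algebra R' A)
      (B : Type u) (_ : CommRing B) (_ : Algebra R' B) (e : (R' ⊗[R] S) ≃ₐ[R'] (A × B)),
      Function.Surjective (algebraMap R' A) ∧ (p'.map (algebraMap R' A)).IsPrime ∧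
        (p'.map (algebraMap R' A)).comap (algebraMap R' A) = p' ∧
        (p'.map (algebraMap R' A)).comap (((RingHom.fst A B).comp e.toRingHom).comp
          (Algebra.TensorProduct.includeRight : S →ₐ[R] R' ⊗[R] S).toRingHom) = q := by
  obtain ⟨f, hfq, P, φ, hφ⟩ := Algebra.IsUnramifiedAt.exists_hasStandardEtaleSurjectionOn (R := R) q
  let R' := P.Ring
  let Sg := Localization.Away f
  letI algR'Sg : Algebra R' Sg := φ.toRingHom.toAlgebra
  haveI tower : IsScalarTower R R' Sg := IsScalarTower.of_algebraMap_eq' φ.comp_algebraMap.symm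
  have hdisj : Disjoint (Submonoid.powers f : Set S) (q : Set S) := by
    rw [Ideal.disjoint_powers_iff_notMem_of_isPrime]; exact hfq
  let qg : Ideal Sg := q.map (algebraMap S Sg)
  haveI hqg : qg.IsPrime := IsLocalization.isPrime_of_isPrime_disjoint (.powers f) _ _ ‹_› hdisj
  have hqgq : qg.comap (algebraMap S Sg) = q :=
    IsLocalization.under_map_of_isPrime_disjoint (.powers f) Sg ‹_› hdisj
  let p' : Ideal R' := qg.comap (algebraMap R' Sg)
  haveI hp' : p'.IsPrime := Ideal.comap_isPrime _ _
  have hp'lies : p'.LiesOver (q.under R) := by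
    constructor
    change Ideal.comap (algebraMap R S) q = Ideal.comap (algebraMap R R') (Ideal.comap (algebraMap R' Sg) qg)
    rw [Ideal.comap_comap, ← IsScalarTower.algebraMap_eq, IsScalarTower.algebraMap_eq R S Sg,
      ← Ideal.comap_comap, hqgq]
  let T := R' ⊗[R] S
  let ψ : T →ₐ[R'] Sg := Algebra.TensorProduct.lift (Algebra.ofId R' Sg)
    (IsScalarTower.toAlgHom R S Sg) (fun _ _ => Commute.all _ _)
  have hψl : ∀ r : R', ψ (r ⊗ₜ 1) = algebraMap R' Sg r := fun r => by
    change (Algebra.TensorProduct.lift _ _ _) (r ⊗ₜ[R] (1 : S)) = _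
    rw [Algebra.TensorProduct.lift_tmul, map_one, mul_one]
    rfl
  have hψr : ∀ s : S, ψ (1 ⊗ₜ s) = algebraMap S Sg s := fun s => by
    change (Algebra.TensorProduct.lift _ _ _) ((1 : R') ⊗ₜ[R] s) = _
    rw [Algebra.TensorProduct.lift_tmul, map_one, one_mul]
    rfl
  have hψsurj : Function.Surjective ψ := by
    intro y
    obtain ⟨r, rfl⟩ := hφ y
    exact ⟨r ⊗ₜ 1, hψl r⟩
  -- `Spec ψ` is an open immersion
  have hopen : IsOpenImmersion (Spec.map (CommRingCat.ofHom ψ.toRingHom)) := by
    set Γ := Spec.map (CommRingCat.ofHom ψ.toRingHom) with hΓ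
    let pr₂ : Spec (.of T) ⟶ Spec (.of S) := Spec.map (CommRingCat.ofHom
      (Algebra.TensorProduct.includeRight : S →ₐ[R] R' ⊗[R] S).toRingHom)
    haveI het : Etale (Spec.map (CommRingCat.ofHom (algebraMap R R'))) := by
      rw [HasRingHomProperty.Spec_iff (P := @Etale)]
      exact RingHom.etale_algebraMap.mpr inferInstance
    haveI : Etale pr₂ := by
      have : pr₂ = (pullbackSpecIso R R' S).inv ≫ Limits.pullback.snd _ _ :=
        (pullbackSpecIso_inv_snd R R' S).symm
      rw [this]
      infer_instance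
    have hcomp : Γ ≫ pr₂ = Spec.map (CommRingCat.ofHom (algebraMap S Sg)) := by
      rw [hΓ, ← Spec.map_comp]
      congr 1
      ext s
      exact hψr s
    haveI : IsOpenImmersion (Spec.map (CommRingCat.ofHom (algebraMap S Sg))) :=
      IsOpenImmersion.of_isLocalization f
    haveI : Etale (Γ ≫ pr₂) := by rw [hcomp]; infer_instance
    haveI : Etale Γ := Etale.of_comp (f := Γ) pr₂
    haveI : IsClosedImmersion Γ := IsClosedImmersion.spec_of_surjective _ hψsurj
    exact IsOpenImmersion.of_flat_of_mono Γ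
  obtain ⟨e, he, hker⟩ := exists_idem_of_isOpenImmersion ψ.toRingHom hψsurj
  let A := T ⧸ Ideal.span {1 - e}
  let B := T ⧸ Ideal.span {e}
  let eiso : T ≃ₐ[R'] A × B :=
    AlgEquiv.prodQuotientOfIsIdempotentElem R' he.one_sub he (by ring) (by
      rw [sub_mul, one_mul, he.eq, sub_self])
  let θ : A →+* Sg := Ideal.Quotient.lift (Ideal.span {1 - e}) ψ.toRingHom (fun a ha => by
    rw [← hker] at ha; exact ha)
  have hθmk : ∀ t : T, θ (Ideal.Quotient.mk _ t) = ψ t := fun t => rfl
  have hθinj : Function.Injective θ := by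
    rw [injective_iff_map_eq_zero]
    intro a ha
    obtain ⟨t, rfl⟩ := Ideal.Quotient.mk_surjective a
    rw [hθmk] at ha
    rw [Ideal.Quotient.eq_zero_iff_mem, ← hker]
    exact ha
  have hθalg : ∀ r : R', θ (algebraMap R' A r) = algebraMap R' Sg r := fun r => by
    have : algebraMap R' A r = Ideal.Quotient.mk _ (algebraMap R' T r) := rfl
    rw [this, hθmk, Algebra.TensorProduct.algebraMap_apply]
    simpa using hψl r
  have hsurjA : Function.Surjective (algebraMap R' A) := by
    intro a
    obtain ⟨r, hr⟩ := hφ (θ a)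
    refine ⟨r, hθinj ?_⟩
    rw [hθalg]
    exact hr
  let Q : Ideal A := qg.comap θ
  haveI hQ : Q.IsPrime := Ideal.comap_isPrime _ _
  have hQp' : Q.comap (algebraMap R' A) = p' := by
    ext r
    change θ (algebraMap R' A r) ∈ qg ↔ algebraMap R' Sg r ∈ qg
    rw [hθalg]
  have hmap : p'.map (algebraMap R' A) = Q := by
    rw [← hQp', Ideal.map_comap_of_surjective _ hsurjA]
  refine ⟨R', inferInstance, inferInstance, inferInstance, p', hp', hp'lies, A, inferInstance,
    inferInstance, B, inferInstance, inferInstance, eiso, hsurjA, ?_, ?_, ?_⟩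
  · rw [hmap]; exact hQ
  · rw [hmap]; exact hQp'
  · rw [hmap]
    ext s
    change θ ((eiso (1 ⊗ₜ s)).1) ∈ qg ↔ s ∈ q
    have : (eiso (1 ⊗ₜ s)).1 = Ideal.Quotient.mk _ (1 ⊗ₜ s) := rfl
    rw [this, hθmk, hψr, ← hqgq]
    rfl


open TensorProduct in
/-- Let R → S be of finite type and unramified at a prime q lying over p. Then there are an étale
R-algebra R', a prime p' of R' over p and an R'-algebra isomorphism e : R' ⊗_R S ≅ A × B with R' → A
surjective and p'A a prime ideal of A lying over p' whose pull-back along S → R' ⊗_R S ≅ A × B → A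
is q. -/
theorem result (R : Type u) [CommRing R]
    (S : Type u) [CommRing S] [Algebra R S] [Algebra.FiniteType R S] (q : Ideal S) [q.IsPrime]
    [Algebra.IsUnramifiedAt R q] :
    ∃ (R' : Type u) (_ : CommRing R') (_ : Algebra R R') (_ : Algebra.Etale R R') (p' : Ideal R')
      (_ : p'.IsPrime) (_ : p'.LiesOver (q.under R)) (A : Type u) (_ : CommRing A) (_ : Algebra R' A)
      (B : Type u) (_ : CommRing B) (_ : Algebra R' B) (e : (R' ⊗[R] S) ≃ₐ[R'] (A × B)),
      Function.Surjective (algebraMap R' A) ∧ (p'.map (algebraMap R' A)).IsPrime ∧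
        (p'.map (algebraMap R' A)).comap (algebraMap R' A) = p' ∧
        (p'.map (algebraMap R' A)).comap (((RingHom.fst A B).comp e.toRingHom).comp
          (Algebra.TensorProduct.includeRight : S →ₐ[R] R' ⊗[R] S).toRingHom) = q := by
  exact main_aux R S q

end Groth.Agent.S9452
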