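import Groth.Statements.S9449
import Mathlib
import Groth.Agent.S9452

set_option autoImplicit false
universe u
open Unram

namespace Groth.Agent.S9449

open TensorProduct

/-- The inductive claim. -/
def C (R : Type u) [CommRing R] (S : Type u) [CommRing S] [Algebra R S] (p : Ideal R) : Prop :=
  ∃ (R' : Type u) (_ : CommRing R') (_ : Algebra R R') (_ : Algebra.Etale R R') (p' : Ideal R')
    (_ : p'.IsPrime) (_ : p'.LiesOver p) (n : ℕ) (J : Fin n → Ideal R') (B : Type u) (_ : CommRing B)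
    (_ : Algebra R' B),
    Nonempty ((R' ⊗[R] S) ≃ₐ[R'] ((∀ i, R' ⧸ J i) × B)) ∧ (∀ i, J i ≤ p') ∧
      ∀ (q : Ideal B) [q.IsPrime], q.comap (algebraMap R' B) ≠ p'

theorem fiber_finrank_baseChange (R : Type u) [CommRing R] (S : Type u) [CommRing S] [Algebra R S]
    (R' : Type u) [CommRing R'] [Algebra R R'] (p : Ideal R) [p.IsPrime] (P : Ideal R') [P.IsPrime]
    [P.LiesOver p] :
    Module.finrank P.ResidueField (P.Fiber (R' ⊗[R] S)) =
      Module.finrank p.ResidueField (p.Fiber S) := by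
  let := Localization.AtPrime.algebraOfLiesOver p P
  let e : P.Fiber (R' ⊗[R] S) ≃ₐ[P.ResidueField] P.ResidueField ⊗[p.ResidueField] (p.Fiber S) :=
    (Algebra.TensorProduct.cancelBaseChange _ _ _ _ _).trans
      (Algebra.TensorProduct.cancelBaseChange _ _ _ _ _).symm
  rw [e.toLinearEquiv.finrank_eq, Module.finrank_baseChange]

theorem fiber_finrank_lt (R' : Type u) [CommRing R'] (P : Ideal R') [P.IsPrime]
    (T A B : Type u) [CommRing T] [CommRing A] [CommRing B] [Algebra R' T] [Algebra R' A]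
    [Algebra R' B]
    (e : T ≃ₐ[R'] A × B) [Module.Finite P.ResidueField (P.Fiber A)]
    [Module.Finite P.ResidueField (P.Fiber B)] [Nontrivial (P.Fiber A)] :
    Module.finrank P.ResidueField (P.Fiber B) < Module.finrank P.ResidueField (P.Fiber T) := by
  let e₁ : P.Fiber T ≃ₗ[P.ResidueField] (P.Fiber A) × (P.Fiber B) :=
    (TensorProduct.AlgebraTensorModule.congr (LinearEquiv.refl P.ResidueField P.ResidueField)
      e.toLinearEquiv).trans (TensorProduct.prodRight R' P.ResidueField P.ResidueField A B)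
  rw [e₁.finrank_eq, Module.finrank_prod]
  have : 0 < Module.finrank P.ResidueField (P.Fiber A) := Module.finrank_pos
  omega

/-- associativity of products as an algebra equivalence -/
def prodAssocAlg (R X Y Z : Type*) [CommSemiring R] [Semiring X] [Semiring Y] [Semiring Z]
    [Algebra R X] [Algebra R Y] [Algebra R Z] : (X × (Y × Z)) ≃ₐ[R] ((X × Y) × Z) :=
  { (Equiv.prodAssoc X Y Z).symm with
    map_mul' := fun _ _ => rfl
    map_add' := fun _ _ => rfl
    commutes' := fun _ => rfl }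

/-- adding a factor in front of a product of quotients -/
noncomputable def consAlgEquiv (R₂ : Type u) [CommRing R₂] {n : ℕ} (J₀ : Ideal R₂)
    (J : Fin n → Ideal R₂) :
    ((R₂ ⧸ J₀) × (∀ i, R₂ ⧸ J i)) ≃ₐ[R₂]
      (∀ i : Fin (n + 1), R₂ ⧸ (Fin.cons J₀ J : Fin (n + 1) → Ideal R₂) i) :=
  let α : Fin (n + 1) → Type u := fun i => R₂ ⧸ (Fin.cons J₀ J : Fin (n + 1) → Ideal R₂) i
  let s : (∀ i, α i) ≃ₐ[R₂] α 0 × (∀ i : Fin n, α i.succ) :=
    { (Fin.consEquiv α).symm with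
      map_mul' := fun _ _ => rfl
      map_add' := fun _ _ => rfl
      commutes' := fun _ => rfl }
  let t : (∀ i : Fin n, α i.succ) ≃ₐ[R₂] (∀ i, R₂ ⧸ J i) :=
    AlgEquiv.piCongrRight (fun i => Ideal.quotientEquivAlgOfEq R₂
      (Fin.cons_succ (α := fun _ => Ideal R₂) J₀ J i : (Fin.cons J₀ J : Fin (n + 1) → Ideal R₂) i.succ = J i))
  let t₀ : α 0 ≃ₐ[R₂] R₂ ⧸ J₀ := Ideal.quotientEquivAlgOfEq R₂ (rfl : (Fin.cons J₀ J : Fin (n + 1) → Ideal R₂) 0 = J₀)
  (s.trans (AlgEquiv.prodCongr t₀ t)).symm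

theorem main (d : ℕ) : ∀ (R : Type u) [CommRing R] (S : Type u) [CommRing S] [Algebra R S]
    [Algebra.Unramified R S] (p : Ideal R) [p.IsPrime],
    Module.finrank p.ResidueField (p.Fiber S) = d → C R S p := by
  induction d using Nat.strong_induction_on with
  | _ d ih =>
  intro R _ S _ _ _ p _ hd
  by_cases h : ∃ q : Ideal S, q.IsPrime ∧ q.LiesOver p
  · obtain ⟨q, hq, hqp⟩ := h
    haveI : Algebra.IsUnramifiedAt R q := inferInstance
    obtain ⟨R₁, _, _, _, p₁, _, hp₁, A₁, _, _, B₁, _, _, e₁, hsurj, hprime, hcomap, -⟩ :=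
      Groth.Agent.S9452.result R S q
    haveI hp₁' : p₁.LiesOver p := by rw [q.over_def p]; exact hp₁
    let π₂ : (R₁ ⊗[R] S) →ₐ[R₁] B₁ := (AlgHom.snd R₁ A₁ B₁).comp e₁.toAlgHom
    have hπ₂ : Function.Surjective π₂ := fun b => ⟨e₁.symm (0, b), by simp [π₂]⟩
    haveI : Algebra.FormallyUnramified R₁ B₁ := Algebra.FormallyUnramified.of_surjective π₂ hπ₂
    haveI : Algebra.FiniteType R₁ B₁ := Algebra.FiniteType.of_surjective π₂ hπ₂
    haveI : Algebra.Unramified R₁ B₁ := {}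
    haveI : Module.Finite R₁ A₁ := Module.Finite.of_surjective (Algebra.linearMap R₁ A₁) hsurj
    haveI : Nontrivial (p₁.Fiber A₁) := by
      let Q : p₁.primesOver A₁ := ⟨p₁.map (algebraMap R₁ A₁), hprime, ⟨hcomap.symm⟩⟩
      exact PrimeSpectrum.nonempty_iff_nontrivial.mp
        ⟨PrimeSpectrum.primesOverOrderIsoFiber R₁ A₁ p₁ Q⟩
    have hlt : Module.finrank p₁.ResidueField (p₁.Fiber B₁) < d := by
      rw [← hd, ← fiber_finrank_baseChange R S R₁ p p₁]
      exact fiber_finrank_lt R₁ p₁ (R₁ ⊗[R] S) A₁ B₁ e₁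
    obtain ⟨R₂, _, _, _, p₂, _, _, n, J, B, _, _, ⟨iso₂⟩, hJ, hB⟩ := ih _ hlt R₁ B₁ p₁ rfl
    letI : Algebra R R₂ := ((algebraMap R₁ R₂).comp (algebraMap R R₁)).toAlgebra
    haveI : IsScalarTower R R₁ R₂ := IsScalarTower.of_algebraMap_eq' rfl
    haveI : Algebra.Etale R R₂ := Algebra.Etale.comp R R₁ R₂
    haveI : p₂.LiesOver p := Ideal.LiesOver.trans p₂ p₁ p
    let J₀ : Ideal R₂ := (RingHom.ker (Algebra.ofId R₁ A₁)).map (algebraMap R₁ R₂)
    let i1 : R₂ ⊗[R] S ≃ₐ[R₂] R₂ ⊗[R₁] (R₁ ⊗[R] S) :=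
      (Algebra.TensorProduct.cancelBaseChange R R₁ R₂ R₂ S).symm
    let i2 : R₂ ⊗[R₁] (R₁ ⊗[R] S) ≃ₐ[R₂] R₂ ⊗[R₁] (A₁ × B₁) :=
      Algebra.TensorProduct.congr AlgEquiv.refl e₁
    let i3 : (R₂ ⊗[R₁] (A₁ × B₁)) ≃ₐ[R₂] ((R₂ ⊗[R₁] A₁) × (R₂ ⊗[R₁] B₁)) :=
      Algebra.TensorProduct.prodRight R₁ R₂ R₂ A₁ B₁
    let a1 : A₁ ≃ₐ[R₁] R₁ ⧸ RingHom.ker (Algebra.ofId R₁ A₁) :=
      (Ideal.quotientKerAlgEquivOfSurjective (f := Algebra.ofId R₁ A₁) hsurj).symm
    let i4 : R₂ ⊗[R₁] A₁ ≃ₐ[R₂] R₂ ⧸ J₀ :=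
      (Algebra.TensorProduct.congr AlgEquiv.refl a1).trans
        (Algebra.TensorProduct.quotIdealMapEquivTensorQuot R₂ _).symm
    let i5 : ((R₂ ⊗[R₁] A₁) × (R₂ ⊗[R₁] B₁)) ≃ₐ[R₂] ((R₂ ⧸ J₀) × ((∀ i, R₂ ⧸ J i) × B)) :=
      AlgEquiv.prodCongr i4 iso₂
    let i6 : ((R₂ ⧸ J₀) × ((∀ i, R₂ ⧸ J i) × B)) ≃ₐ[R₂] (((R₂ ⧸ J₀) × (∀ i, R₂ ⧸ J i)) × B) :=
      prodAssocAlg R₂ _ _ _
    let i7 := consAlgEquiv R₂ J₀ J
    refine ⟨R₂, inferInstance, inferInstance, inferInstance, p₂, inferInstance, inferInstance,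
      n + 1, Fin.cons J₀ J, B, inferInstance, inferInstance,
      ⟨i1.trans (i2.trans (i3.trans (i5.trans (i6.trans (AlgEquiv.prodCongr i7 AlgEquiv.refl)))))⟩,
      ?_, hB⟩
    intro i
    refine Fin.cases ?_ (fun i => ?_) i
    · change J₀ ≤ p₂
      rw [Ideal.map_le_iff_le_comap]
      intro x hx
      have hx0 : algebraMap R₁ A₁ x = 0 := hx
      have : x ∈ (p₁.map (algebraMap R₁ A₁)).comap (algebraMap R₁ A₁) := by
        rw [Ideal.mem_comap, hx0]; exact Ideal.zero_mem _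
      rw [hcomap] at this
      rw [p₂.over_def p₁] at this
      exact this
    · rw [Fin.cons_succ]
      exact hJ i
  · let J : Fin 0 → Ideal R := fun i => i.elim0
    let iso : S ≃ₐ[R] (∀ i : Fin 0, R ⧸ J i) × S :=
      { toFun := fun s => (fun i => i.elim0, s)
        invFun := fun x => x.2
        left_inv := fun _ => rfl
        right_inv := fun x => Prod.ext (Subsingleton.elim _ _) rfl
        map_mul' := fun _ _ => Prod.ext (Subsingleton.elim _ _) rfl
        map_add' := fun _ _ => Prod.ext (Subsingleton.elim _ _) rfl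
        commutes' := fun _ => Prod.ext (Subsingleton.elim _ _) rfl }
    refine ⟨R, inferInstance, inferInstance, inferInstance, p, inferInstance,
      ⟨by ext x; simp [Ideal.under]⟩, 0, J, S, inferInstance, inferInstance,
      ⟨(Algebra.TensorProduct.lid R S).trans iso⟩, fun i => i.elim0, ?_⟩
    intro q hq hc
    exact h ⟨q, hq, ⟨hc.symm⟩⟩


open TensorProduct in
/-- For an unramified ring map R → S and a prime p of R there exist an étale R-algebra R', a prime p' of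
R' lying over p and a decomposition R' ⊗_R S ≅ A_1 × ⋯ × A_n × B of R'-algebras with every R' → A_i
surjective, p'A_i a prime ideal of A_i whose preimage in R' is p', and no prime of B lying over p'. -/
theorem result (R : Type u) [CommRing R]
    (S : Type u) [CommRing S] [Algebra R S] [Algebra.Unramified R S] (p : Ideal R) [p.IsPrime] :
    ∃ (R' : Type u) (_ : CommRing R') (_ : Algebra R R') (_ : Algebra.Etale R R') (p' : Ideal R')
      (_ : p'.IsPrime) (_ : p'.LiesOver p) (n : ℕ) (A : Fin n → Type u) (_ : ∀ i, CommRing (A i))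
      (_ : ∀ i, Algebra R' (A i)) (B : Type u) (_ : CommRing B) (_ : Algebra R' B),
      Nonempty ((R' ⊗[R] S) ≃ₐ[R'] ((∀ i, A i) × B)) ∧
        (∀ i, Function.Surjective (algebraMap R' (A i)) ∧
          (p'.map (algebraMap R' (A i))).IsPrime ∧
          (p'.map (algebraMap R' (A i))).comap (algebraMap R' (A i)) = p') ∧
        ∀ (q : Ideal B) [q.IsPrime], q.comap (algebraMap R' B) ≠ p' := by
  obtain ⟨R', i1, i2, i3, p', i4, i5, n, J, B, i6, i7, hiso, hJ, hB⟩ := main _ R S p rfl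
  refine ⟨R', i1, i2, i3, p', i4, i5, n, fun i => R' ⧸ J i, fun i => inferInstance,
    fun i => inferInstance, B, i6, i7, hiso, fun i => ⟨Ideal.Quotient.mk_surjective, ?_, ?_⟩, hB⟩
  · exact Ideal.map_isPrime_of_surjective (f := algebraMap R' (R' ⧸ J i))
      Ideal.Quotient.mk_surjective
      (by rw [show RingHom.ker (algebraMap R' (R' ⧸ J i)) = J i from Ideal.mk_ker]; exact hJ i)
  · change Ideal.comap (Ideal.Quotient.mk (J i)) (Ideal.map (Ideal.Quotient.mk (J i)) p') = p'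
    rw [Ideal.comap_map_of_surjective _ Ideal.Quotient.mk_surjective, ← RingHom.ker_eq_comap_bot,
      Ideal.mk_ker]
    exact sup_eq_left.mpr (hJ i)

end Groth.Agent.S9449
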