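import Groth.Statements.S9450
import Mathlib

set_option autoImplicit false
universe u
open CAlg

namespace Groth.Agent.S9450

open TensorProduct in
lemma exists_desc {R M N P : Type*} [Ring R] [AddCommGroup M] [AddCommGroup N] [AddCommGroup P]
    [Module R M] [Module R N] [Module R P]
    (f : M →ₗ[R] N) (hf : Function.Surjective f) (φ : M →ₗ[R] P)
    (h : ∀ m, f m = 0 → φ m = 0) : ∃ r : N →ₗ[R] P, ∀ m, r (f m) = φ m := by
  refine ⟨(LinearMap.ker f).liftQ φ
      (fun m hm => LinearMap.mem_ker.mpr (h m (LinearMap.mem_ker.mp hm))) ∘ₗ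
    (f.quotKerEquivOfSurjective hf).symm.toLinearMap, fun m => ?_⟩
  simp

open TensorProduct in
lemma mem_smul_top_of_one_tmul_eq_zero {B C M : Type*} [CommRing B] [CommRing C] [Algebra B C]
    [AddCommGroup M] [Module B M]
    (hBC : Function.Surjective (algebraMap B C)) (m : M) (h : (1 : C) ⊗ₜ[B] m = 0) :
    m ∈ (RingHom.ker (algebraMap B C)) • (⊤ : Submodule B M) := by
  have hex : Function.Exact ((RingHom.ker (algebraMap B C)).subtype) (Algebra.linearMap B C) := by
    intro b
    constructor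
    · intro hb
      exact ⟨⟨b, by simpa [RingHom.mem_ker] using hb⟩, rfl⟩
    · rintro ⟨x, rfl⟩
      simpa [RingHom.mem_ker] using x.2
  have hsurj : Function.Surjective (Algebra.linearMap B C) := fun c => by
    obtain ⟨b, rfl⟩ := hBC c
    exact ⟨b, Algebra.linearMap_apply _ _ _⟩
  have hex2 := rTensor_exact M hex hsurj
  have h1 : (LinearMap.rTensor M (Algebra.linearMap B C)) ((1 : B) ⊗ₜ[B] m) = 0 := by
    rw [LinearMap.rTensor_tmul, Algebra.linearMap_apply, map_one, h]
  obtain ⟨y, hy⟩ := (hex2 _).mp h1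
  rw [← Ideal.subtype_rTensor_range M (RingHom.ker (algebraMap B C))]
  refine LinearMap.mem_range.mpr ⟨y, ?_⟩
  rw [LinearMap.comp_apply, hy]
  simp

open TensorProduct in
theorem main (A : Type u) [CommRing A]
    (B : Type u) [CommRing B] [Algebra A B] [Algebra.FormallySmooth A B] (C : Type u) [CommRing C]
    [Algebra B C] [Algebra A C] [IsScalarTower A B C] (hC : Function.Surjective (algebraMap A C))
    (h : RingHom.ker (algebraMap A C) ≤ (RingHom.ker (algebraMap B C)).comap (Algebra.ofId A B)) :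
    Function.Injective (Ideal.mapCotangent (RingHom.ker (algebraMap A C))
        (RingHom.ker (algebraMap B C)) (Algebra.ofId A B) h) ∧
      (∃ r : (RingHom.ker (algebraMap B C)).Cotangent →ₗ[A] (RingHom.ker (algebraMap A C)).Cotangent,
        r ∘ₗ (Ideal.mapCotangent (RingHom.ker (algebraMap A C)) (RingHom.ker (algebraMap B C))
          (Algebra.ofId A B) h) = LinearMap.id) ∧
      LinearMap.range (Ideal.mapCotangent (RingHom.ker (algebraMap A C))
          (RingHom.ker (algebraMap B C)) (Algebra.ofId A B) h) =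
        LinearMap.ker ((KaehlerDifferential.kerCotangentToTensor A B C).restrictScalars A) ∧
      Function.Surjective (KaehlerDifferential.kerCotangentToTensor A B C) := by
  classical
  set I : Ideal A := RingHom.ker (algebraMap A C) with hIdef
  set J : Ideal B := RingHom.ker (algebraMap B C) with hJdef
  have hBC : Function.Surjective (algebraMap B C) := by
    intro c
    obtain ⟨a, rfl⟩ := hC c
    exact ⟨algebraMap A B a, (IsScalarTower.algebraMap_apply A B C a).symm⟩
  have hIJ : ∀ a : A, a ∈ I → algebraMap A B a ∈ J := fun a ha => h ha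
  -- π : A ⧸ I^2 →ₐ[A] C
  have hπ0 : ∀ a : A, a ∈ I ^ 2 → (Algebra.ofId A C) a = 0 := fun a ha =>
    RingHom.mem_ker.mp (Ideal.pow_le_self two_ne_zero ha)
  let π : A ⧸ I ^ 2 →ₐ[A] C := Ideal.Quotient.liftₐ (I ^ 2) (Algebra.ofId A C) hπ0
  have hπmk : ∀ a : A, π (Ideal.Quotient.mk (I ^ 2) a) = algebraMap A C a := fun a => by
    simp [π]
  have hπsurj : Function.Surjective π := fun c => by
    obtain ⟨a, rfl⟩ := hC c
    exact ⟨_, hπmk a⟩
  have hkerπ : RingHom.ker (π : A ⧸ I ^ 2 →+* C) ≤ I.cotangentIdeal := by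
    intro x hx
    obtain ⟨a, rfl⟩ := Ideal.Quotient.mk_surjective x
    rw [Ideal.mk_mem_cotangentIdeal]
    have h0 : π (Ideal.Quotient.mk (I ^ 2) a) = 0 := RingHom.mem_ker.mp hx
    rw [hπmk] at h0
    exact RingHom.mem_ker.mpr h0
  have hnil : IsNilpotent (RingHom.ker (π : A ⧸ I ^ 2 →+* C)) := by
    refine ⟨2, ?_⟩
    rw [Ideal.zero_eq_bot, ← le_bot_iff, ← I.cotangentIdeal_square]
    exact Ideal.pow_right_mono hkerπ 2
  let σ : B →ₐ[A] A ⧸ I ^ 2 :=
    Algebra.FormallySmooth.liftOfSurjective (IsScalarTower.toAlgHom A B C) π hπsurj hnil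
  have hσ : ∀ b : B, π (σ b) = algebraMap B C b := fun b => by
    have := Algebra.FormallySmooth.liftOfSurjective_apply (IsScalarTower.toAlgHom A B C) π
      hπsurj hnil b
    exact this
  have hmem : ∀ j : J, σ (j : B) ∈ I.cotangentIdeal := fun j => hkerπ (by
    rw [RingHom.mem_ker]
    show π (σ j) = 0
    rw [hσ]
    exact RingHom.mem_ker.mp j.2)
  -- the linear map φ : J → I/I²
  let φ : J →ₗ[A] I.Cotangent :=
    { toFun := fun j => I.cotangentEquivIdeal.symm ⟨σ (j : B), hmem j⟩
      map_add' := fun x y => by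
        rw [← map_add]
        congr 1
        exact Subtype.ext (by simp)
      map_smul' := fun a x => by
        rw [RingHom.id_apply, ← map_smul]
        congr 1
        exact Subtype.ext (by simp) }
  have hJmap : J.map (σ : B →+* A ⧸ I ^ 2) ≤ I.cotangentIdeal :=
    Ideal.map_le_iff_le_comap.mpr (fun b hb => hmem ⟨b, hb⟩)
  have hJsq : ∀ j : J, ((j : B) ∈ J ^ 2) → φ j = 0 := fun j hj => by
    have h1 : (σ : B →+* A ⧸ I ^ 2) (j : B) ∈ (J ^ 2).map (σ : B →+* A ⧸ I ^ 2) :=
      Ideal.mem_map_of_mem _ hj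
    rw [Ideal.map_pow] at h1
    have h2 := Ideal.pow_right_mono hJmap 2 h1
    rw [I.cotangentIdeal_square, Ideal.mem_bot] at h2
    show I.cotangentEquivIdeal.symm ⟨σ (j : B), hmem j⟩ = 0
    rw [LinearEquiv.map_eq_zero_iff]
    exact Subtype.ext h2
  obtain ⟨r, hr⟩ := exists_desc (J.toCotangent.restrictScalars A)
    (fun x => J.toCotangent_surjective x) φ
    (fun j hj => hJsq j ((J.toCotangent_eq_zero j).mp hj))
  have hrid : r ∘ₗ (Ideal.mapCotangent I J (Algebra.ofId A B) h) = LinearMap.id := by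
    apply LinearMap.ext
    intro y
    obtain ⟨⟨a, ha⟩, rfl⟩ := I.toCotangent_surjective y
    rw [LinearMap.comp_apply, Ideal.mapCotangent_toCotangent, LinearMap.id_apply]
    have h1 : r (J.toCotangent ⟨Algebra.ofId A B a, h ha⟩) = φ ⟨Algebra.ofId A B a, h ha⟩ := hr _
    refine h1.trans ?_
    show I.cotangentEquivIdeal.symm ⟨σ (Algebra.ofId A B a), _⟩ = _
    rw [← I.cotangentEquivIdeal_symm_apply a ha]
    congr 1
    refine Subtype.ext ?_
    show σ ((Algebra.ofId A B) a) = (Submodule.mkQ (I ^ 2)) a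
    rw [Algebra.ofId_apply, AlgHom.commutes]
    rfl
  have h4 : Function.Surjective (KaehlerDifferential.kerCotangentToTensor A B C) := by
    have := KaehlerDifferential.subsingleton_of_surjective A C hC
    rw [← LinearMap.range_eq_top, KaehlerDifferential.range_kerCotangentToTensor A B C hBC]
    ext x
    simp only [Submodule.restrictScalars_mem, LinearMap.mem_ker, Submodule.mem_top, iff_true]
    exact Subsingleton.elim _ _
  refine ⟨Function.LeftInverse.injective (g := r) (fun y => LinearMap.congr_fun hrid y),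
    ⟨r, hrid⟩, ?_, h4⟩
  apply le_antisymm
  · rintro _ ⟨y, rfl⟩
    obtain ⟨⟨a, ha⟩, rfl⟩ := I.toCotangent_surjective y
    rw [LinearMap.mem_ker, LinearMap.restrictScalars_apply, Ideal.mapCotangent_toCotangent,
      KaehlerDifferential.kerCotangentToTensor_toCotangent]
    simp [Algebra.ofId_apply]
  · intro x hx
    obtain ⟨⟨j, hj⟩, rfl⟩ := J.toCotangent_surjective x
    rw [LinearMap.mem_ker, LinearMap.restrictScalars_apply,
      KaehlerDifferential.kerCotangentToTensor_toCotangent] at hx
    have hmemJ := mem_smul_top_of_one_tmul_eq_zero hBC _ hx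
    have hι0 : ∀ a : A, a ∈ I ^ 2 → (Algebra.ofId A (B ⧸ J ^ 2)) a = 0 := fun a ha => by
      rw [Algebra.ofId_apply, IsScalarTower.algebraMap_apply A B (B ⧸ J ^ 2),
        Ideal.Quotient.algebraMap_eq, Ideal.Quotient.eq_zero_iff_mem]
      have h1 : algebraMap A B a ∈ (I ^ 2).map (algebraMap A B) := Ideal.mem_map_of_mem _ ha
      rw [Ideal.map_pow] at h1
      exact Ideal.pow_right_mono ((Ideal.map_le_iff_le_comap (f := algebraMap A B) (K := J)).mpr
        (fun x hx => Ideal.mem_comap.mpr (hIJ x hx))) 2 h1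
    let ι : A ⧸ I ^ 2 →ₐ[A] B ⧸ J ^ 2 :=
      Ideal.Quotient.liftₐ (I ^ 2) (Algebra.ofId A (B ⧸ J ^ 2)) hι0
    have hιmk : ∀ a : A, ι (Ideal.Quotient.mk (I ^ 2) a) =
        Ideal.Quotient.mk (J ^ 2) (algebraMap A B a) := fun a => by
      have h1 : ι (Ideal.Quotient.mk (I ^ 2) a) = (Algebra.ofId A (B ⧸ J ^ 2)) a := by simp [ι]
      rw [h1, Algebra.ofId_apply, IsScalarTower.algebraMap_apply A B (B ⧸ J ^ 2),
        Ideal.Quotient.algebraMap_eq]
    let τ : B →ₐ[A] B ⧸ J ^ 2 := ι.comp σ
    have hτ : ∀ b : B, τ b - Ideal.Quotient.mk (J ^ 2) b ∈ J.cotangentIdeal := fun b => by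
      obtain ⟨a, ha⟩ := Ideal.Quotient.mk_surjective (σ b)
      have h1 : τ b = Ideal.Quotient.mk (J ^ 2) (algebraMap A B a) := by
        show ι (σ b) = _
        rw [← ha, hιmk]
      rw [h1, ← map_sub, Ideal.mk_mem_cotangentIdeal, RingHom.mem_ker, map_sub, sub_eq_zero,
        ← IsScalarTower.algebraMap_apply, ← hπmk, ha, hσ]
    have he : (Ideal.Quotient.mkₐ A J.cotangentIdeal).comp τ =
        IsScalarTower.toAlgHom A B ((B ⧸ J ^ 2) ⧸ J.cotangentIdeal) := by
      apply AlgHom.ext
      intro b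
      rw [AlgHom.comp_apply, Ideal.Quotient.mkₐ_eq_mk, IsScalarTower.coe_toAlgHom',
        IsScalarTower.algebraMap_apply B (B ⧸ J ^ 2) ((B ⧸ J ^ 2) ⧸ J.cotangentIdeal),
        Ideal.Quotient.algebraMap_eq, Ideal.Quotient.algebraMap_eq, Ideal.Quotient.eq]
      exact hτ b
    let Dv : Derivation A B J.cotangentIdeal :=
      derivationToSquareZeroOfLift J.cotangentIdeal J.cotangentIdeal_square τ he
    have hDv : ∀ b : B, ((Dv b : J.cotangentIdeal) : B ⧸ J ^ 2) =
        τ b - algebraMap B (B ⧸ J ^ 2) b :=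
      fun b => derivationToSquareZeroOfLift_apply _ _ _ _ b
    have hzero : ∀ b ∈ J, ∀ x : J.cotangentIdeal, b • x = 0 := fun b hb x => by
      apply Subtype.ext
      have h1 : ((b • x : J.cotangentIdeal) : B ⧸ J ^ 2) =
          Ideal.Quotient.mk (J ^ 2) b * (x : B ⧸ J ^ 2) := by
        rw [Submodule.coe_smul_of_tower, Algebra.smul_def, Ideal.Quotient.algebraMap_eq]
      rw [h1]
      have h2 : Ideal.Quotient.mk (J ^ 2) b * (x : B ⧸ J ^ 2) ∈ J.cotangentIdeal ^ 2 := by
        rw [pow_two J.cotangentIdeal]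
        exact Ideal.mul_mem_mul (Ideal.mk_mem_cotangentIdeal.mpr hb) x.2
      rw [J.cotangentIdeal_square, Ideal.mem_bot] at h2
      rw [h2]
      rfl
    have hker : J • (⊤ : Submodule B Ω[B⁄A]) ≤ LinearMap.ker Dv.liftKaehlerDifferential := by
      rw [Submodule.smul_le]
      intro b hb n _
      rw [LinearMap.mem_ker, map_smul]
      exact hzero b hb _
    have hD0 : Dv j = 0 := by
      have h1 := hker hmemJ
      rwa [LinearMap.mem_ker, Derivation.liftKaehlerDifferential_comp_D] at h1
    have hτj : τ j = Ideal.Quotient.mk (J ^ 2) j := by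
      have h1 := hDv j
      rw [hD0, Submodule.coe_zero, Ideal.Quotient.algebraMap_eq] at h1
      exact sub_eq_zero.mp h1.symm
    obtain ⟨a, ha⟩ := Ideal.Quotient.mk_surjective (σ j)
    have haI : a ∈ I := by
      have h1 : σ j ∈ I.cotangentIdeal := hmem ⟨j, hj⟩
      rw [← ha] at h1
      exact Ideal.mk_mem_cotangentIdeal.mp h1
    have hdiff : algebraMap A B a - j ∈ J ^ 2 := by
      rw [← Ideal.Quotient.eq, ← hτj]
      show _ = ι (σ j)
      rw [← ha, hιmk]
    refine ⟨I.toCotangent ⟨a, haI⟩, ?_⟩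
    rw [Ideal.mapCotangent_toCotangent, Ideal.toCotangent_eq]
    exact hdiff

/-- For ring maps A → B → C with A → C surjective and A → B formally smooth, writing I = ker(A → C) and
J = ker(B → C), the sequence 0 → I/I² → J/J² → C ⊗_B Ω_{B/A} → 0 is split exact: the first map is
injective and admits an A-linear retraction, its range is the kernel of the second map (class of x ↦
1 ⊗ dx), and the second map is surjective. -/
theorem result (A : Type u) [CommRing A]
    (B : Type u) [CommRing B] [Algebra A B] [Algebra.FormallySmooth A B] (C : Type u) [CommRing C]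
    [Algebra B C] [Algebra A C] [IsScalarTower A B C] (hC : Function.Surjective (algebraMap A C)) :
    Function.Injective (Ideal.mapCotangent (RingHom.ker (algebraMap A C))
        (RingHom.ker (algebraMap B C)) (Algebra.ofId A B)
        (le_of_eq (congrArg RingHom.ker (IsScalarTower.algebraMap_eq A B C)))) ∧
      (∃ r : (RingHom.ker (algebraMap B C)).Cotangent →ₗ[A] (RingHom.ker (algebraMap A C)).Cotangent,
        r ∘ₗ (Ideal.mapCotangent (RingHom.ker (algebraMap A C)) (RingHom.ker (algebraMap B C))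
          (Algebra.ofId A B)
          (le_of_eq (congrArg RingHom.ker (IsScalarTower.algebraMap_eq A B C)))) = LinearMap.id) ∧
      LinearMap.range (Ideal.mapCotangent (RingHom.ker (algebraMap A C))
          (RingHom.ker (algebraMap B C)) (Algebra.ofId A B)
          (le_of_eq (congrArg RingHom.ker (IsScalarTower.algebraMap_eq A B C)))) =
        LinearMap.ker ((KaehlerDifferential.kerCotangentToTensor A B C).restrictScalars A) ∧
      Function.Surjective (KaehlerDifferential.kerCotangentToTensor A B C) := by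
  exact main A B C hC _

end Groth.Agent.S9450
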