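import Groth.Statements.S9451
import Mathlib.RingTheory.Smooth.NoetherianDescent
import Mathlib.Algebra.Category.Ring.FinitePresentation
import Mathlib.Algebra.Category.Ring.Constructions
import Mathlib.Algebra.Category.Ring.FilteredColimits

set_option autoImplicit false
universe u
open CategoryTheory CategoryTheory.Limits TensorProduct
open CAlg

namespace Groth.Agent.S9451

/-- Let (A_i) be a filtered system of rings with colimit A and B a smooth A-algebra. Then some stage A_i
carries a smooth A_i-algebra B_i with B isomorphic to A ⊗_{A_i} B_i as A-algebras (the base change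
along the colimit map A_i → A; existence of an isomorphism). -/
theorem result {I : Type u} [SmallCategory I] [IsFiltered I]
    (D : I ⥤ CommRingCat.{u}) (c : Cocone D) (hc : IsColimit c) (B : Type u) [CommRing B]
    [Algebra c.pt B] [Algebra.Smooth c.pt B] :
    ∃ (i : I) (Bi : Type u) (_ : CommRing Bi) (_ : Algebra (D.obj i) Bi),
      Algebra.Smooth (D.obj i) Bi ∧
      (letI : Algebra (D.obj i) c.pt := (c.ι.app i).hom.toAlgebra
       Nonempty (B ≃ₐ[c.pt] (c.pt ⊗[D.obj i] Bi))) := by
  classical
  obtain ⟨A₀, B₀, _, _, hfg, hsm, ⟨e⟩⟩ := Algebra.Smooth.exists_subalgebra_fg ℤ c.pt B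
  -- the base ring `ℤ`, lifted to the universe `u`
  let Z : CommRingCat.{u} := CommRingCat.of (ULift.{u} ℤ)
  have hZ : IsInitial Z := CommRingCat.isInitial
  let α : (Functor.const I).obj Z ⟶ D :=
    { app := fun i => hZ.to (D.obj i)
      naturality := fun _ _ _ => hZ.hom_ext _ _ }
  let f : Z ⟶ CommRingCat.of A₀ := hZ.to _
  let g : CommRingCat.of A₀ ⟶ c.pt := CommRingCat.ofHom A₀.val.toRingHom
  have hfp : f.hom.FinitePresentation := by
    haveI : IsNoetherianRing (ULift.{u} ℤ) :=
      isNoetherianRing_of_ringEquiv ℤ ULift.ringEquiv.symm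
    rw [← RingHom.FinitePresentation.of_finiteType]
    have h1 : (algebraMap ℤ A₀).FiniteType :=
      RingHom.finiteType_algebraMap.mpr ((Subalgebra.fg_iff_finiteType A₀).mp hfg)
    have h2 : f.hom.comp (ULift.ringEquiv.symm : ℤ ≃+* ULift.{u} ℤ).toRingHom =
        algebraMap ℤ A₀ := RingHom.ext_int _ _
    exact RingHom.FiniteType.of_comp_finiteType (h2 ▸ h1)
  obtain ⟨i, g', -, hg⟩ := RingHom.EssFiniteType.exists_eq_comp_ι_app_of_isColimit Z D α f c hc
    hfp g (fun _ => hZ.hom_ext _ _)
  letI : Algebra A₀ (D.obj i) := g'.hom.toAlgebra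
  letI : Algebra (D.obj i) c.pt := (c.ι.app i).hom.toAlgebra
  haveI : IsScalarTower A₀ (D.obj i) c.pt := IsScalarTower.of_algebraMap_eq' (by
    have := congrArg CommRingCat.Hom.hom hg
    exact this)
  refine ⟨i, (D.obj i) ⊗[A₀] B₀, inferInstance, inferInstance, inferInstance, ?_⟩
  exact ⟨e.trans (Algebra.TensorProduct.cancelBaseChange A₀ (D.obj i) c.pt c.pt B₀).symm⟩

end Groth.Agent.S9451
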