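import Groth.Statements.S9462
import Groth.Agent.S9436

set_option autoImplicit false
universe u
open CAlg

namespace Groth.Agent.S9462

open TensorProduct in
theorem bijective_of_lift {A' : Type u} [CommRing A'] (I : Ideal A') (hI : I ^ 2 = ⊥)
    {S B' B : Type u} [CommRing S] [CommRing B'] [CommRing B] [Algebra A' S] [Algebra A' B']
    [Algebra A' B] [Algebra B' B] [IsScalarTower A' B' B]
    (π : S →ₐ[A'] B) (hπ : Function.Surjective π)
    (hπI : ∀ s, π s = 0 → s ∈ I.map (algebraMap A' S))
    (θ : S →ₐ[A'] B') (hθ : ∀ s, algebraMap B' B (θ s) = π s)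
    (hJ : RingHom.ker (algebraMap B' B) ^ 2 = ⊥)
    (hJI : RingHom.ker (algebraMap B' B) = I.map (algebraMap A' B'))
    (hinj : Function.Injective (I.subtype.baseChange B')) :
    Function.Bijective θ := by
  have hJ2 : ∀ x ∈ RingHom.ker (algebraMap B' B), ∀ y ∈ RingHom.ker (algebraMap B' B),
      x * y = 0 := by
    intro x hx y hy
    have := Ideal.mul_mem_mul hx hy
    rwa [← pow_two, hJ, Ideal.mem_bot] at this
  have h0 : ∀ b' : B', ∃ s, b' - θ s ∈ RingHom.ker (algebraMap B' B) := by
    intro b'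
    obtain ⟨s, hs⟩ := hπ (algebraMap B' B b')
    exact ⟨s, by rw [RingHom.mem_ker, map_sub, hθ, hs, sub_self]⟩
  have hJr : ∀ x ∈ I.map (algebraMap A' B'), ∃ t, θ t = x := by
    intro x hx
    induction hx using Submodule.span_induction with
    | mem x h =>
      obtain ⟨i, hi, rfl⟩ := h
      exact ⟨algebraMap A' S i, θ.commutes i⟩
    | zero => exact ⟨0, map_zero _⟩
    | add x y _ _ hx hy =>
      obtain ⟨t, rfl⟩ := hx
      obtain ⟨t', rfl⟩ := hy
      exact ⟨t + t', map_add _ _ _⟩
    | smul b x hxJ hx =>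
      obtain ⟨s, hs⟩ := h0 b
      obtain ⟨t, rfl⟩ := hx
      have hxJ' : θ t ∈ RingHom.ker (algebraMap B' B) := by rw [hJI]; exact hxJ
      have : b • θ t = θ (s * t) + (b - θ s) * θ t := by rw [smul_eq_mul, map_mul]; ring
      rw [this, hJ2 _ hs _ hxJ', add_zero]
      exact ⟨s * t, rfl⟩
  have hsurj : Function.Surjective θ := by
    intro b'
    obtain ⟨s, hs⟩ := h0 b'
    obtain ⟨t, ht⟩ := hJr _ (by rw [← hJI]; exact hs)
    exact ⟨s + t, by rw [map_add, ht]; ring⟩
  refine ⟨?_, hsurj⟩
  rw [injective_iff_map_eq_zero]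
  intro x hx
  have hxI : x ∈ I.map (algebraMap A' S) := hπI x (by rw [← hθ, hx, map_zero])
  have hC : ∀ y ∈ I.map (algebraMap A' S), ∀ i : I, y ⊗ₜ[A'] i = (0 : S ⊗[A'] I) := by
    intro y hy i
    induction hy using Submodule.span_induction with
    | mem y h =>
      obtain ⟨a, ha, rfl⟩ := h
      rw [Algebra.algebraMap_eq_smul_one, TensorProduct.smul_tmul]
      have : a • i = 0 := by
        apply Subtype.ext
        have := Ideal.mul_mem_mul ha i.2
        rw [← pow_two, hI, Ideal.mem_bot] at this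
        simpa using this
      rw [this, TensorProduct.tmul_zero]
    | zero => exact TensorProduct.zero_tmul _ _
    | add y z _ _ hy hz => rw [TensorProduct.add_tmul, hy, hz, add_zero]
    | smul s y _ hy => rw [← TensorProduct.smul_tmul', hy, smul_zero]
  have hrange : ∀ y ∈ I.map (algebraMap A' S), ∃ ξ : S ⊗[A'] I,
      (Algebra.TensorProduct.rid A' S S) (I.subtype.baseChange S ξ) = y := by
    intro y hy
    induction hy using Submodule.span_induction with
    | mem y h =>
      obtain ⟨a, ha, rfl⟩ := h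
      exact ⟨1 ⊗ₜ ⟨a, ha⟩, by simp [Algebra.smul_def]⟩
    | zero => exact ⟨0, by simp⟩
    | add y z _ _ hy hz =>
      obtain ⟨ξ, rfl⟩ := hy
      obtain ⟨ζ, rfl⟩ := hz
      exact ⟨ξ + ζ, by simp⟩
    | smul s y _ hy =>
      obtain ⟨ξ, rfl⟩ := hy
      exact ⟨s • ξ, by simp⟩
  obtain ⟨ξ, hξ⟩ := hrange x hxI
  have hcompat : ∀ ξ : S ⊗[A'] I, (Algebra.TensorProduct.rid A' B' B')
      (I.subtype.baseChange B' (LinearMap.rTensor I θ.toLinearMap ξ)) =
      θ ((Algebra.TensorProduct.rid A' S S) (I.subtype.baseChange S ξ)) := by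
    intro ξ
    induction ξ using TensorProduct.induction_on with
    | zero => simp
    | tmul s i => simp
    | add a b ha hb => simp only [map_add, ha, hb]
  have h1 : LinearMap.rTensor I θ.toLinearMap ξ = 0 := by
    refine hinj ((Algebra.TensorProduct.rid A' B' B').injective ?_)
    rw [hcompat, hξ, hx]
    simp
  have hex := rTensor_exact I (LinearMap.exact_subtype_ker_map θ.toLinearMap) hsurj
  obtain ⟨ζ, hζ⟩ := (hex ξ).mp h1
  have hzero : ∀ ζ : (LinearMap.ker θ.toLinearMap) ⊗[A'] I,
      LinearMap.rTensor I (LinearMap.ker θ.toLinearMap).subtype ζ = 0 := by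
    intro ζ
    induction ζ using TensorProduct.induction_on with
    | zero => simp
    | tmul κ i =>
      rw [LinearMap.rTensor_tmul]
      refine hC _ (hπI _ ?_) i
      have h2 : θ κ.1 = 0 := LinearMap.mem_ker.mp κ.2
      rw [Submodule.subtype_apply, ← hθ, h2, map_zero]
    | add a b ha hb => rw [map_add, ha, hb, add_zero]
  rw [← hξ, ← hζ, hzero ζ]
  simp

open TensorProduct in
/-- Consider surjections A' → A and B' → B with square-zero kernels I and J and a commutative square A'
→ B', A → B. If A → B is étale and J = I ⊗_A B — that is, J = IB' and the multiplication map B'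
⊗_{A'} I → B' is injective — then A' → B' is étale. -/
theorem result (A' : Type u) [CommRing A'] (A : Type u) [CommRing A]
    [Algebra A' A] (hA : Function.Surjective (algebraMap A' A))
    (hI : RingHom.ker (algebraMap A' A) ^ 2 = ⊥)
    (B' : Type u) [CommRing B'] [Algebra A' B'] (B : Type u) [CommRing B] [Algebra B' B]
    [Algebra A B] [Algebra A' B] [IsScalarTower A' A B] [IsScalarTower A' B' B]
    (hB : Function.Surjective (algebraMap B' B)) (hJ : RingHom.ker (algebraMap B' B) ^ 2 = ⊥)
    [Algebra.Etale A B]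
    (hJI : RingHom.ker (algebraMap B' B) = (RingHom.ker (algebraMap A' A)).map (algebraMap A' B'))
    (hinj : Function.Injective ((RingHom.ker (algebraMap A' A)).subtype.baseChange B')) :
    Algebra.Etale A' B' := by
  letI algQA : Algebra (A' ⧸ RingHom.ker (algebraMap A' A)) A :=
    (RingHom.kerLift (algebraMap A' A)).toAlgebra
  letI algQB : Algebra (A' ⧸ RingHom.ker (algebraMap A' A)) B :=
    ((algebraMap A B).comp (algebraMap (A' ⧸ RingHom.ker (algebraMap A' A)) A)).toAlgebra
  haveI t1 : IsScalarTower (A' ⧸ RingHom.ker (algebraMap A' A)) A B :=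
    IsScalarTower.of_algebraMap_eq (fun _ => rfl)
  haveI t2 : IsScalarTower A' (A' ⧸ RingHom.ker (algebraMap A' A)) A :=
    IsScalarTower.of_algebraMap_eq (fun _ => rfl)
  haveI t3 : IsScalarTower A' (A' ⧸ RingHom.ker (algebraMap A' A)) B :=
    IsScalarTower.of_algebraMap_eq (fun a => by
      rw [IsScalarTower.algebraMap_apply A' A B]; rfl)
  have hbij : Function.Bijective (algebraMap (A' ⧸ RingHom.ker (algebraMap A' A)) A) := by
    constructor
    · exact RingHom.kerLift_injective (algebraMap A' A)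
    · intro a
      obtain ⟨a', rfl⟩ := hA a
      exact ⟨Ideal.Quotient.mk _ a', rfl⟩
  haveI e1 : Algebra.Etale (A' ⧸ RingHom.ker (algebraMap A' A)) A :=
    Algebra.Etale.of_equiv (AlgEquiv.ofBijective
      (Algebra.ofId (A' ⧸ RingHom.ker (algebraMap A' A)) A) hbij)
  haveI e2 : Algebra.Etale (A' ⧸ RingHom.ker (algebraMap A' A)) B :=
    Algebra.Etale.comp (A' ⧸ RingHom.ker (algebraMap A' A)) A B
  obtain ⟨S, i1, i2, hSet, ⟨e⟩⟩ :=
    Groth.Agent.S9436.result A' (RingHom.ker (algebraMap A' A)) B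
  let π : S →ₐ[A'] B := (e.toAlgHom.restrictScalars A').comp
    (Algebra.TensorProduct.includeRight)
  have hπ : Function.Surjective π := by
    intro b
    obtain ⟨z, rfl⟩ := e.surjective b
    obtain ⟨s, rfl⟩ := Algebra.TensorProduct.includeRight_surjective (R := A')
      (S := A' ⧸ RingHom.ker (algebraMap A' A)) S
      (fun y => by obtain ⟨x, rfl⟩ := Ideal.Quotient.mk_surjective y; exact ⟨x, rfl⟩) z
    exact ⟨s, rfl⟩
  have hπI : ∀ s, π s = 0 → s ∈ (RingHom.ker (algebraMap A' A)).map (algebraMap A' S) := by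
    intro s hs
    have h1 : (1 : A' ⧸ RingHom.ker (algebraMap A' A)) ⊗ₜ[A'] s = 0 := by
      have : e ((1 : A' ⧸ RingHom.ker (algebraMap A' A)) ⊗ₜ[A'] s) = 0 := hs
      exact (EmbeddingLike.map_eq_zero_iff).mp this
    have h3 : Algebra.TensorProduct.quotIdealMapEquivQuotTensor S (RingHom.ker (algebraMap A' A))
        (Ideal.Quotient.mk _ s) = 0 := by
      rw [Algebra.TensorProduct.quotIdealMapEquivQuotTensor_mk]; exact h1
    exact Ideal.Quotient.eq_zero_iff_mem.mp (EmbeddingLike.map_eq_zero_iff.mp h3)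
  let θ : S →ₐ[A'] B' := Algebra.FormallySmooth.liftOfSurjective π
    (IsScalarTower.toAlgHom A' B' B) hB ⟨2, by simpa using hJ⟩
  have hθ : ∀ s, algebraMap B' B (θ s) = π s := fun s =>
    Algebra.FormallySmooth.liftOfSurjective_apply π (IsScalarTower.toAlgHom A' B' B) hB _ s
  have hθbij := bijective_of_lift (RingHom.ker (algebraMap A' A)) hI π hπ hπI θ hθ hJ hJI hinj
  exact Algebra.Etale.of_equiv (AlgEquiv.ofBijective θ hθbij)

end Groth.Agent.S9462
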