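import Groth.Statements.S9463
import Groth.Agent.H76.ThickLoc
-- import your own Groth.Agent.* helpers here

set_option autoImplicit false
universe u
open OmegaSh

namespace Groth.Agent.S9463

/-- Let A → B be formally unramified, π : B' → B a universal first order thickening of B relative to A,
and S ⊆ A a multiplicative subset. Localizing everything at S (A_S, B_S and B'_S with compatible
algebra structures, π_S : B'_S → B_S the A_S-algebra map induced by π), the map π_S is a universal
first order thickening of B_S relative to A_S. (The published statement adds the consequence that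
the conormal module localizes accordingly.) -/
theorem result (A B B' : Type u) [CommRing A] [CommRing B]
    [CommRing B'] [Algebra A B] [Algebra.FormallyUnramified A B] [Algebra A B'] (π : B' →ₐ[A] B)
    (hπ : OmegaSh.IsUnivThickeningRing A B B' π) (S : Submonoid A)
    (AS BS B'S : Type u) [CommRing AS] [CommRing BS] [CommRing B'S]
    [Algebra A AS] [IsLocalization S AS]
    [Algebra B BS] [IsLocalization (Algebra.algebraMapSubmonoid B S) BS]
    [Algebra B' B'S] [IsLocalization (Algebra.algebraMapSubmonoid B' S) B'S]
    [Algebra AS BS] [Algebra A BS] [IsScalarTower A AS BS] [IsScalarTower A B BS]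
    [Algebra AS B'S] [Algebra A B'S] [IsScalarTower A AS B'S] [IsScalarTower A B' B'S]
    (πS : B'S →ₐ[AS] BS) (hπS : ∀ x : B', πS (algebraMap B' B'S x) = algebraMap B BS (π x)) :
    OmegaSh.IsUnivThickeningRing AS BS B'S πS := by
  have hπ' := hπ
  unfold OmegaSh.IsUnivThickeningRing at hπ'
  obtain ⟨hsurj, hN, -⟩ := hπ'
  have h1 : ∀ m' : Algebra.algebraMapSubmonoid B' S,
      π (m' : B') ∈ Algebra.algebraMapSubmonoid B S := by
    rintro ⟨_, s, hs, rfl⟩
    exact ⟨s, hs, (π.commutes s).symm⟩
  have h2 : ∀ m : Algebra.algebraMapSubmonoid B S,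
      ∃ m' : Algebra.algebraMapSubmonoid B' S, π (m' : B') = (m : B) := by
    rintro ⟨_, s, hs, rfl⟩
    exact ⟨⟨algebraMap A B' s, s, hs, rfl⟩, π.commutes s⟩
  obtain ⟨hs1, hs2⟩ := Groth.Agent.H76.loc_surj_sqzero π.toRingHom hsurj hN
    (Algebra.algebraMapSubmonoid B' S) (Algebra.algebraMapSubmonoid B S) h2 πS.toRingHom hπS
  unfold OmegaSh.IsUnivThickeningRing
  refine ⟨hs1, hs2, ?_⟩
  intro T _ _ I hI a
  letI : Algebra A T := ((algebraMap AS T).comp (algebraMap A AS)).toAlgebra
  haveI : IsScalarTower A AS T := IsScalarTower.of_algebraMap_eq (fun _ => rfl)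
  haveI : IsScalarTower A AS (T ⧸ I) := IsScalarTower.of_algebraMap_eq (fun _ => rfl)
  obtain ⟨a', ha', huniq⟩ := Groth.Agent.H76.loc_univ π hπ
    (Algebra.algebraMapSubmonoid B' S) (Algebra.algebraMapSubmonoid B S) h1
    (πS.restrictScalars A) hπS T I hI (a.restrictScalars A)
  have hcomm : ∀ c : AS, a' (algebraMap AS B'S c) = algebraMap AS T c := by
    have h : (a'.toRingHom.comp (algebraMap AS B'S)) = algebraMap AS T := by
      apply IsLocalization.ringHom_ext S
      ext x
      show a' (algebraMap AS B'S (algebraMap A AS x)) = algebraMap AS T (algebraMap A AS x)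
      rw [← IsScalarTower.algebraMap_apply A AS B'S, AlgHom.commutes]
      rfl
    intro c
    exact RingHom.congr_fun h c
  let a'S : B'S →ₐ[AS] T := { toRingHom := a'.toRingHom, commutes' := hcomm }
  refine ⟨a'S, ?_, ?_⟩
  · apply AlgHom.ext
    intro z
    exact DFunLike.congr_fun ha' z
  · intro a'' ha''
    have h : a''.restrictScalars A = a' := huniq _ (by
      apply AlgHom.ext
      intro z
      exact DFunLike.congr_fun ha'' z)
    apply AlgHom.ext
    intro z
    exact DFunLike.congr_fun h z

end Groth.Agent.S9463
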