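import Groth.Statements.S9470
import Groth.Agent.H47.Hens6
import Groth.Agent.S9468
import Groth.Agent.S9469
import Groth.Agent.S2782

set_option autoImplicit false
universe u
open Hensel

namespace Groth.Agent.S9470

open Groth.Agent.H47.Hens Groth.Agent.H47.Hens.EtPt Groth.Agent.S9468 Groth.Agent.S9469

section
variable (R : Type u) [CommRing R] (p : Ideal R) [p.IsPrime] (Rh : Type u) [CommRing Rh]
  [IsLocalRing Rh] [Algebra R Rh]

theorem mem_max_iff (e : H R p ≃ₐ[R] Rh) (x : Rh) :
    x ∈ IsLocalRing.maximalIdeal Rh ↔ ε R p (e.symm x) = 0 := by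
  rw [← mem_maximalIdeal_iff, IsLocalRing.mem_maximalIdeal, IsLocalRing.mem_maximalIdeal,
    mem_nonunits_iff, mem_nonunits_iff]
  constructor
  · intro h hu
    apply h
    have := hu.map e
    rwa [AlgEquiv.apply_symm_apply] at this
  · intro h hu
    exact h (hu.map e.symm)

/-- The point of `H R p` as an algebra map. -/
noncomputable def εₐ : H R p →ₐ[R] p.ResidueField :=
  { ε R p with commutes' := ε_algebraMap R p }

/-- The point of `Rh`. -/
noncomputable def εh (e : H R p ≃ₐ[R] Rh) : Rh →ₐ[R] p.ResidueField :=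
  (εₐ R p).comp e.symm.toAlgHom

theorem comap_eq_ker (e : H R p ≃ₐ[R] Rh) {S : Type u} [CommRing S] [Algebra R S]
    (f : S →ₐ[R] Rh) :
    (IsLocalRing.maximalIdeal Rh).comap f.toRingHom =
      RingHom.ker ((εh R p Rh e).comp f).toRingHom := by
  ext s
  rw [Ideal.mem_comap, RingHom.mem_ker]
  exact mem_max_iff R p Rh e (f s)

/-- The map to `Rh` attached to an object. -/
noncomputable def mkHom (e : H R p ≃ₐ[R] Rh) {S : Type u} [CommRing S] [Algebra R S]
    (X : EtPt R p) (eS : S ≃ₐ[R] X.A) : S →ₐ[R] Rh :=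
  e.toAlgHom.comp ((ιₐ R p X).comp eS.toAlgHom)

theorem mkHom_apply (e : H R p ≃ₐ[R] Rh) {S : Type u} [CommRing S] [Algebra R S]
    (X : EtPt R p) (eS : S ≃ₐ[R] X.A) (s : S) :
    mkHom R p Rh e X eS s = e (ι R p X (eS s)) := rfl

theorem comap_mkHom (e : H R p ≃ₐ[R] Rh) {S : Type u} [CommRing S] [Algebra R S]
    (X : EtPt R p) (eS : S ≃ₐ[R] X.A) :
    (IsLocalRing.maximalIdeal Rh).comap (mkHom R p Rh e X eS).toRingHom =
      RingHom.ker (X.χ.comp eS.toAlgHom).toRingHom := by
  ext s
  rw [Ideal.mem_comap, RingHom.mem_ker]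
  show mkHom R p Rh e X eS s ∈ _ ↔ X.χ (eS s) = 0
  rw [mem_max_iff R p Rh e, mkHom_apply, AlgEquiv.symm_apply_apply, ε_ι]

theorem ker_toResidue (S : Type u) [CommRing S] [Algebra R S] (q : Ideal S) [q.IsPrime]
    (hq : p = q.comap (algebraMap R S))
    (hκ : Function.Bijective (Ideal.ResidueField.map p q (algebraMap R S) hq)) :
    RingHom.ker (toResidue p S q hq hκ).toRingHom = q := by
  ext s
  rw [RingHom.mem_ker]
  exact toResidue_eq_zero_iff p S q hq hκ s

theorem unique_hom (e : H R p ≃ₐ[R] Rh) (S : Type u) [CommRing S] [Algebra R S]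
    [Algebra.Etale R S] (q : Ideal S) [q.IsPrime]
    (hq : p = q.comap (algebraMap R S))
    (hκ : Function.Bijective (Ideal.ResidueField.map p q (algebraMap R S) hq))
    (f f' : S →ₐ[R] Rh) (hf : (IsLocalRing.maximalIdeal Rh).comap f.toRingHom = q)
    (hf' : (IsLocalRing.maximalIdeal Rh).comap f'.toRingHom = q) : f = f' := by
  have h1 : (εh R p Rh e).comp f = toResidue p S q hq hκ :=
    eq_toResidue p S q hq hκ _ (by rw [← comap_eq_ker, hf])
  have h2 : (εh R p Rh e).comp f' = toResidue p S q hq hκ :=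
    eq_toResidue p S q hq hκ _ (by rw [← comap_eq_ker, hf'])
  apply Groth.Agent.S2782.algHom_eq_of_residue_eq
  intro x
  have h3 : f x - f' x ∈ IsLocalRing.maximalIdeal Rh := by
    rw [mem_max_iff R p Rh e, map_sub, map_sub, sub_eq_zero]
    exact AlgHom.congr_fun (h1.trans h2.symm) x
  refine sub_eq_zero.mp ?_
  rw [← map_sub]
  exact (IsLocalRing.residue_eq_zero_iff _).mpr h3

end

/-- Let R be a ring, p a prime of R and R^h a henselization of the local ring R_p, regarded as an
R-algebra through R_p. For pairs (S, q) with S an étale R-algebra and q a prime of S over p such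
that κ(p) → κ(q) is bijective: (a) there is exactly one R-algebra map f : S → R^h under which the
maximal ideal pulls back to q; (b) every element of R^h is f(s) for some such pair, map f and s ∈ S;
(c) if such an f sends s to 0, then some R-algebra map S → S' to another such pair (S', q'), pulling
q' back to q, already sends s to 0. Together with filteredness of the category of pairs this
expresses that R^h is canonically the colimit of S over all pairs (S, q). (The published statement
also records the equal colimit of the local rings S_q.) -/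
theorem result (R : Type u) [CommRing R]
    (p : Ideal R) [p.IsPrime] (Rh : Type u) [CommRing Rh] [IsLocalRing Rh]
    [Algebra (Localization.AtPrime p) Rh] [IsLocalHom (algebraMap (Localization.AtPrime p) Rh)]
    [Hensel.IsHenselization (Localization.AtPrime p) Rh] [Algebra R Rh]
    [IsScalarTower R (Localization.AtPrime p) Rh] :
    (∀ (S : Type u) [CommRing S] [Algebra R S] [Algebra.Etale R S] (q : Ideal S) [q.IsPrime]
        (hq : p = q.comap (algebraMap R S)),
        Function.Bijective (Ideal.ResidueField.map p q (algebraMap R S) hq) →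
          ∃! f : S →ₐ[R] Rh, (IsLocalRing.maximalIdeal Rh).comap f.toRingHom = q) ∧
    (∀ x : Rh, ∃ (S : Type u) (_ : CommRing S) (_ : Algebra R S) (_ : Algebra.Etale R S) (q : Ideal S)
        (_ : q.IsPrime) (hq : p = q.comap (algebraMap R S)),
        Function.Bijective (Ideal.ResidueField.map p q (algebraMap R S) hq) ∧
          ∃ (f : S →ₐ[R] Rh) (s : S), (IsLocalRing.maximalIdeal Rh).comap f.toRingHom = q ∧ f s = x) ∧
    (∀ (S : Type u) [CommRing S] [Algebra R S] [Algebra.Etale R S] (q : Ideal S) [q.IsPrime]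
        (hq : p = q.comap (algebraMap R S)),
        Function.Bijective (Ideal.ResidueField.map p q (algebraMap R S) hq) →
          ∀ (f : S →ₐ[R] Rh), (IsLocalRing.maximalIdeal Rh).comap f.toRingHom = q → ∀ s : S, f s = 0 →
            ∃ (S' : Type u) (_ : CommRing S') (_ : Algebra R S') (_ : Algebra.Etale R S') (q' : Ideal S')
              (_ : q'.IsPrime) (hq' : p = q'.comap (algebraMap R S')),
              Function.Bijective (Ideal.ResidueField.map p q' (algebraMap R S') hq') ∧
                ∃ φ : S →ₐ[R] S', q'.comap φ.toRingHom = q ∧ φ s = 0) := by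
  obtain ⟨e₀, he₀⟩ := exists_ringEquiv_of_isHenselization R p Rh
  let e : H R p ≃ₐ[R] Rh := AlgEquiv.ofRingEquiv (f := e₀) he₀
  refine ⟨?_, ?_, ?_⟩
  · intro S _ _ _ q _ hq hκ
    obtain ⟨X, eS, hX⟩ := exists_obj (p := p) S (toResidue p S q hq hκ)
    have hcomap : (IsLocalRing.maximalIdeal Rh).comap (mkHom R p Rh e X eS).toRingHom = q := by
      rw [comap_mkHom, hX, ker_toResidue]
    exact ⟨mkHom R p Rh e X eS, hcomap,
      fun f' hf' => unique_hom R p Rh e S q hq hκ f' _ hf' hcomap⟩
  · intro x
    obtain ⟨X, a, ha⟩ := exists_rep R p (e.symm x)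
    obtain ⟨hprime, hq, hbij⟩ := ker_pair p X.A X.χ
    refine ⟨X.A, inferInstance, inferInstance, inferInstance, RingHom.ker X.χ.toRingHom, hprime,
      hq, hbij, mkHom R p Rh e X AlgEquiv.refl, a, ?_, ?_⟩
    · rw [comap_mkHom]
      ext s
      exact Iff.rfl
    · rw [mkHom_apply]
      show e (ι R p X a) = x
      rw [ha, AlgEquiv.apply_symm_apply]
  · intro S _ _ _ q _ hq hκ f hf s hs
    obtain ⟨X, eS, hX⟩ := exists_obj (p := p) S (toResidue p S q hq hκ)
    have hcomap : (IsLocalRing.maximalIdeal Rh).comap (mkHom R p Rh e X eS).toRingHom = q := by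
      rw [comap_mkHom, hX, ker_toResidue]
    have hff : f = mkHom R p Rh e X eS := unique_hom R p Rh e S q hq hκ _ _ hf hcomap
    have h0 : ι R p X (eS s) = ι R p X 0 := by
      rw [map_zero]
      apply e.injective
      rw [map_zero, ← mkHom_apply, ← hff]
      exact hs
    obtain ⟨Z, u, v, huv⟩ := (ι_eq_iff R p (eS s) (0 : X.A)).mp h0
    rw [map_zero] at huv
    obtain ⟨hprime, hq', hbij⟩ := ker_pair p Z.A Z.χ
    refine ⟨Z.A, inferInstance, inferInstance, inferInstance, RingHom.ker Z.χ.toRingHom, hprime,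
      hq', hbij, u.f.comp eS.toAlgHom, ?_, huv⟩
    ext x
    rw [Ideal.mem_comap, RingHom.mem_ker, ← toResidue_eq_zero_iff p S q hq hκ x, ← hX, ← u.w]
    exact Iff.rfl

end Groth.Agent.S9470
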