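import Groth.Statements.S9472
import Groth.Agent.H14.DiffOpEtale

set_option autoImplicit false
universe u
open Diff16

namespace Groth.Agent.S9472

open TensorProduct in
/-- Let R → S → S' be ring maps with S → S' formally étale, M an S-module and (P, D_u) a module of
principal parts of order k of M relative to R → S, i.e. D_u : M → P is a differential operator of
order at most k through which every differential operator of order at most k from M to an S-module
factors by a unique S-linear map. If D_u' : S' ⊗_S M → S' ⊗_S P is a differential operator of order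
at most k relative to R → S' with D_u'(1 ⊗ m) = 1 ⊗ D_u(m), then (S' ⊗_S P, D_u') is a module of
principal parts of order k of S' ⊗_S M relative to R → S'. (The published statement writes this as
an identification of S' ⊗_S P^k_{S/R}(M) with P^k_{S'/R}(M') and forms M' by base change over R
rather than over S; with base change over R the identification fails already for k = 0, R the
rationals, S = S' a polynomial ring in one variable and M = S, and the published proof computes with
the base change over S, used here. Target modules are taken in one universe.) -/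
theorem result (R S S' : Type u) [CommRing R]
    [CommRing S] [CommRing S'] [Algebra R S] [Algebra R S'] [Algebra S S'] [IsScalarTower R S S']
    [Algebra.FormallyEtale S S'] (M : Type u) [AddCommGroup M] [Module S M] [Module R M]
    [IsScalarTower R S M] (k : ℕ) (P : Type u) [AddCommGroup P] [Module S P] [Module R P]
    [IsScalarTower R S P] (Du : M →ₗ[R] P) (hDu : Diff16.IsDiffOpLE R S M P k Du)
    (huniv : ∀ (N : Type u) [AddCommGroup N] [Module S N] [Module R N] [IsScalarTower R S N]
      (D : M →ₗ[R] N), Diff16.IsDiffOpLE R S M N k D → ∃! α : P →ₗ[S] N, α.restrictScalars R ∘ₗ Du = D)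
    (Du' : S' ⊗[S] M →ₗ[R] S' ⊗[S] P) (hDu' : Diff16.IsDiffOpLE R S' (S' ⊗[S] M) (S' ⊗[S] P) k Du')
    (hext : Du' ∘ₗ (TensorProduct.mk S S' M 1).restrictScalars R =
      (TensorProduct.mk S S' P 1).restrictScalars R ∘ₗ Du) :
    ∀ (N' : Type u) [AddCommGroup N'] [Module S' N'] [Module R N'] [IsScalarTower R S' N']
      (D' : S' ⊗[S] M →ₗ[R] N'), Diff16.IsDiffOpLE R S' (S' ⊗[S] M) N' k D' →
        ∃! α : S' ⊗[S] P →ₗ[S'] N', α.restrictScalars R ∘ₗ Du' = D' := by
  intro N' _ _ _ _ D' hD'
  letI : Module S N' := Module.compHom N' (algebraMap S S')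
  haveI : IsScalarTower S S' N' := ⟨fun s t n => by
    change (s • t) • n = algebraMap S S' s • (t • n)
    rw [Algebra.smul_def, mul_smul]⟩
  haveI : IsScalarTower R S N' := ⟨fun r s n => by
    change algebraMap S S' (r • s) • n = r • (algebraMap S S' s • n)
    rw [Algebra.smul_def, map_mul, ← IsScalarTower.algebraMap_apply, mul_smul, algebraMap_smul]⟩
  have hD₀ : IsDiffOpLE R S M N' k (D' ∘ₗ (TensorProduct.mk S S' M 1).restrictScalars R) := by
    have h1 : IsDiffOpLE R S M (S' ⊗[S] M) 0 ((TensorProduct.mk S S' M 1).restrictScalars R) := by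
      rw [H14.isDiffOpLE_zero_iff]
      intro b m
      simp
    have := H14.isDiffOpLE_comp 0 k _ D' h1 (H14.isDiffOpLE_of_tower k D' hD')
    rwa [zero_add] at this
  obtain ⟨α₀, hα₀, huniq⟩ := huniv N' _ hD₀
  refine ⟨α₀.liftBaseChange S', ?_, ?_⟩
  · have h2 : IsDiffOpLE R S' (S' ⊗[S] M) N' k
        ((α₀.liftBaseChange S').restrictScalars R ∘ₗ Du' - D') := by
      apply H14.isDiffOpLE_sub _ _ _ _ hD'
      have h3 : IsDiffOpLE R S' (S' ⊗[S] P) N' 0 ((α₀.liftBaseChange S').restrictScalars R) := by
        rw [H14.isDiffOpLE_zero_iff]
        intro b m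
        simp
      have := H14.isDiffOpLE_comp k 0 Du' _ hDu' h3
      rwa [add_zero] at this
    have := H14.eq_zero_of_forall_one_tmul (S := S) k _ h2 (by
      intro m
      have e1 := LinearMap.congr_fun hext m
      have e2 := LinearMap.congr_fun hα₀ m
      simp only [LinearMap.comp_apply, LinearMap.restrictScalars_apply, TensorProduct.mk_apply,
        LinearMap.sub_apply] at e1 e2 ⊢
      rw [e1, LinearMap.liftBaseChange_tmul, one_smul, e2, sub_self])
    exact sub_eq_zero.mp this
  · intro β hβ
    have h4 : (β.restrictScalars S ∘ₗ TensorProduct.mk S S' P 1) = α₀ := by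
      apply huniq
      apply LinearMap.ext
      intro m
      have e1 := LinearMap.congr_fun hext m
      have e3 := LinearMap.congr_fun hβ (1 ⊗ₜ m)
      simp only [LinearMap.comp_apply, LinearMap.restrictScalars_apply, TensorProduct.mk_apply]
        at e1 e3 ⊢
      rw [← e1, e3]
    apply LinearMap.ext
    intro x
    induction x using TensorProduct.induction_on with
    | zero => simp
    | tmul s' p =>
      rw [LinearMap.liftBaseChange_tmul, ← h4]
      have : s' ⊗ₜ[S] p = s' • ((1 : S') ⊗ₜ[S] p) := by
        rw [TensorProduct.smul_tmul', smul_eq_mul, mul_one]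
      rw [this, map_smul]
      rfl
    | add x y hx hy => rw [map_add, map_add, hx, hy]

end Groth.Agent.S9472
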