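import Groth.Statements.S9485
import Mathlib
import Groth.Agent.H68.FEtFF

set_option autoImplicit false
universe u
open Pi1

namespace Groth.Agent.S9485

open AlgebraicGeometry CategoryTheory CategoryTheory.Limits Groth.Agent.H68.FEtFF

/-- faithfulness only needs the injectivity half of the clopen criterion -/
theorem faithful_of_inj {X' X : Scheme.{u}} (j : X' ⟶ X)
    (hinj : ∀ (W : FEt.Cat X) (T : Set W.left), IsClopen T →
      (pullback.fst W.hom j) ⁻¹' T = Set.univ → T = Set.univ) :
    (FEt.restrict j).Faithful := by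
  refine ⟨fun {Y Z} g h hgh => ?_⟩
  have h1 : pullback.fst Y.hom j ≫ g.left = pullback.fst Y.hom j ≫ h.left := by
    have := congr($(hgh).left ≫ pullback.fst Z.hom j)
    rwa [restrict_map_left_fst, restrict_map_left_fst] at this
  haveI : IsFinite Z.hom := Z.prop.1
  haveI : Etale Z.hom := Z.prop.2
  have hg : g.left ≫ Z.hom = Y.hom := MorphismProperty.Over.w g
  have hh : h.left ≫ Z.hom = Y.hom := MorphismProperty.Over.w h
  let V' : Over X := Over.mk Y.hom
  let Z' : Over X := Over.mk Z.hom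
  let a' : V' ⟶ Z' := Over.homMk g.left hg
  let b' : V' ⟶ Z' := Over.homMk h.left hh
  haveI : FormallyUnramified Z'.hom := (inferInstance : FormallyUnramified Z.hom)
  haveI : LocallyOfFiniteType Z'.hom := (inferInstance : LocallyOfFiniteType Z.hom)
  haveI : IsSeparated Z'.hom := (inferInstance : IsSeparated Z.hom)
  haveI := isOpenImmersion_equalizer_ι_left a' b'
  haveI : IsClosedImmersion (equalizer.ι a' b').left := inferInstance
  have hcl : IsClopen (Set.range (equalizer.ι a' b').left) :=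
    ⟨(equalizer.ι a' b').left.isClosedEmbedding.isClosed_range,
      (equalizer.ι a' b').left.isOpenEmbedding.isOpen_range⟩
  have hpre : (pullback.fst Y.hom j) ⁻¹' (Set.range (equalizer.ι a' b').left) = Set.univ := by
    rw [Set.eq_univ_iff_forall]
    intro y'
    let P' : Over X := Over.mk (pullback.fst Y.hom j ≫ Y.hom)
    let ι' : P' ⟶ V' := Over.homMk (pullback.fst Y.hom j)
    have hι' : ι' ≫ a' = ι' ≫ b' := by ext1; exact h1
    refine ⟨(equalizer.lift ι' hι').left y', ?_⟩
    rw [← Scheme.Hom.comp_apply, ← Over.comp_left, equalizer.lift_ι]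
    rfl
  have huniv := hinj Y _ hcl hpre
  haveI : Surjective (equalizer.ι a' b').left := ⟨Set.range_eq_univ.mp huniv⟩
  haveI : IsIso (equalizer.ι a' b').left :=
    (isIso_iff_isOpenImmersion_and_surjective _).mpr ⟨inferInstance, inferInstance⟩
  apply MorphismProperty.Over.Hom.ext
  rw [← cancel_epi (equalizer.ι a' b').left]
  exact congr($(equalizer.condition a' b').left)

/-- Krull's principal ideal theorem: a non-maximal prime over `p + (f)` -/
theorem exists_prime_of_dim {A : Type u} [CommRing A] [IsNoetherianRing A] [IsLocalRing A]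
    (p : Ideal A) [hp : p.IsPrime] (hdim : (2 : WithBot ℕ∞) ≤ ringKrullDim (A ⧸ p)) (f : A)
    (hf : f ∈ IsLocalRing.maximalIdeal A) :
    ∃ q : Ideal A, q.IsPrime ∧ p ≤ q ∧ f ∈ q ∧ q ≠ IsLocalRing.maximalIdeal A := by
  haveI : IsLocalRing (A ⧸ p) :=
    IsLocalRing.of_surjective' (Ideal.Quotient.mk p) Ideal.Quotient.mk_surjective
  have hple : p ≤ IsLocalRing.maximalIdeal A := IsLocalRing.le_maximalIdeal hp.ne_top
  -- nonunits of `A` map into the maximal ideal of the quotient
  have hmem : ∀ x : A, x ∈ IsLocalRing.maximalIdeal A →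
      Ideal.Quotient.mk p x ∈ IsLocalRing.maximalIdeal (A ⧸ p) := by
    intro x hx
    rw [IsLocalRing.mem_maximalIdeal, mem_nonunits_iff]
    intro hu
    obtain ⟨y, hy⟩ := hu.exists_right_inv
    obtain ⟨g, rfl⟩ := Ideal.Quotient.mk_surjective y
    rw [← map_mul, ← map_one (Ideal.Quotient.mk p), Ideal.Quotient.eq] at hy
    have h1 : x * g ∈ IsLocalRing.maximalIdeal A := Ideal.mul_mem_right _ _ hx
    have h2 : (1 : A) ∈ IsLocalRing.maximalIdeal A := by
      have h3 := Ideal.sub_mem _ h1 (hple hy)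
      have h4 : x * g - (x * g - 1) = 1 := by ring
      rw [h4] at h3
      exact h3
    exact (Ideal.ne_top_iff_one _).mp (IsLocalRing.maximalIdeal.isMaximal A).ne_top h2
  have hle : Ideal.span {Ideal.Quotient.mk p f} ≤ IsLocalRing.maximalIdeal (A ⧸ p) := by
    rw [Ideal.span_singleton_le_iff_mem]
    exact hmem f hf
  obtain ⟨q', hq'min, hq'le⟩ := Ideal.exists_minimalPrimes_le hle
  haveI hq'prime : q'.IsPrime := hq'min.1.1
  have hq'f : Ideal.Quotient.mk p f ∈ q' := hq'min.1.2 (Ideal.subset_span rfl)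
  have hht : q'.height ≤ 1 :=
    Ideal.height_le_one_of_isPrincipal_of_mem_minimalPrimes _ q' hq'min
  have hne : q' ≠ IsLocalRing.maximalIdeal (A ⧸ p) := by
    intro heq
    rw [heq] at hht
    have h1 : ((IsLocalRing.maximalIdeal (A ⧸ p)).height : WithBot ℕ∞) ≤ ((1 : ℕ∞) : WithBot ℕ∞) :=
      WithBot.coe_le_coe.mpr hht
    rw [IsLocalRing.maximalIdeal_height_eq_ringKrullDim] at h1
    have h2 : ((2 : ℕ∞) : WithBot ℕ∞) ≤ ((1 : ℕ∞) : WithBot ℕ∞) := hdim.trans h1
    rw [WithBot.coe_le_coe] at h2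
    exact absurd h2 (by decide)
  refine ⟨q'.comap (Ideal.Quotient.mk p), inferInstance, ?_, hq'f, ?_⟩
  · intro x hx
    rw [Ideal.mem_comap, Ideal.Quotient.eq_zero_iff_mem.mpr hx]
    exact zero_mem _
  · intro heq
    apply hne
    apply le_antisymm hq'le
    intro y hy
    obtain ⟨x, rfl⟩ := Ideal.Quotient.mk_surjective y
    have hx : x ∈ IsLocalRing.maximalIdeal A := by
      by_contra hx
      rw [IsLocalRing.mem_maximalIdeal, mem_nonunits_iff, not_not] at hx
      have : IsUnit (Ideal.Quotient.mk p x) := hx.map _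
      exact (IsLocalRing.mem_maximalIdeal _).mp hy this
    rw [← heq] at hx
    exact hx

theorem core {A : Type u} [CommRing A] [IsNoetherianRing A] [IsLocalRing A] (f : A)
    (hf : f ∈ IsLocalRing.maximalIdeal A)
    (U' : (Spec (CommRingCat.of A)).Opens) (hU' : U' ≤ FEt.puncturedSpec A)
    (u' : pullback (FEt.puncturedSpec A).ι
      (Spec.map (CommRingCat.ofHom (Ideal.Quotient.mk (Ideal.span {f})))) ⟶ (U' : Scheme.{u}))
    (hu' : u' ≫ U'.ι = (pullback.fst (FEt.puncturedSpec A).ι
      (Spec.map (CommRingCat.ofHom (Ideal.Quotient.mk (Ideal.span {f})))) ≫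
        (FEt.puncturedSpec A).ι))
    (hdim : ∀ p : PrimeSpectrum A, p.asIdeal ∈ minimalPrimes A → p ∈ U' → f ∉ p.asIdeal →
      (2 : WithBot ℕ∞) ≤ ringKrullDim (A ⧸ p.asIdeal))
    {W₀ : Scheme.{u}} (ω : W₀ ⟶ (U' : Scheme.{u})) [IsFinite ω] [Etale ω] (T : Set W₀)
    (hT : IsClopen T) (h : (pullback.fst ω u') ⁻¹' T = Set.univ) : T = Set.univ := by
  by_contra hne
  obtain ⟨w, hw⟩ : ∃ w, w ∉ T := by
    by_contra hcon
    push Not at hcon
    exact hne (Set.eq_univ_iff_forall.mpr hcon)
  have hind : Topology.IsInducing U'.ι := U'.ι.isOpenEmbedding.isInducing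
  -- the point below `w` and a minimal prime under it
  let x' : PrimeSpectrum A := U'.ι (ω w)
  have hx'U : x' ∈ U' := by
    have : U'.ι (ω w) ∈ Set.range U'.ι := ⟨_, rfl⟩
    rwa [Scheme.Opens.range_ι] at this
  obtain ⟨p₀, hp₀min, hp₀le⟩ := Ideal.exists_minimalPrimes_le (I := (⊥ : Ideal A))
    (J := x'.asIdeal) bot_le
  haveI hp₀prime : p₀.IsPrime := hp₀min.1.1
  let p : PrimeSpectrum A := ⟨p₀, hp₀prime⟩
  have hpx' : p ⤳ x' := (PrimeSpectrum.le_iff_specializes p x').mp hp₀le
  have hpU : p ∈ U' := U'.isOpen.stableUnderGeneralization hpx' hx'U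
  obtain ⟨pU, hpU'⟩ : ∃ pU : ↥(U' : Scheme.{u}), U'.ι pU = p := by
    have : p ∈ Set.range U'.ι := by rw [Scheme.Opens.range_ι]; exact hpU
    exact this
  have hspec1 : pU ⤳ ω w := by
    rw [← hind.specializes_iff, hpU']
    exact hpx'
  haveI : Flat ω := inferInstance
  obtain ⟨w₁, hw₁w, hw₁⟩ := Flat.generalizingMap ω hspec1
  have hw₁T : w₁ ∉ T := fun hmem => hw (hw₁w.mem_closed hT.isClosed hmem)
  -- a non-maximal prime `q ⊇ p + (f)`
  have hpm : p₀ ≠ IsLocalRing.maximalIdeal A := by
    intro heq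
    have h1 : p ∈ FEt.puncturedSpec A := hU' hpU
    apply h1
    show p = IsLocalRing.closedPoint A
    exact PrimeSpectrum.ext heq
  obtain ⟨q₀, hq₀prime, hpq, hfq, hqm⟩ : ∃ q : Ideal A, q.IsPrime ∧ p₀ ≤ q ∧ f ∈ q ∧
      q ≠ IsLocalRing.maximalIdeal A := by
    by_cases hfp : f ∈ p₀
    · exact ⟨p₀, hp₀prime, le_rfl, hfp, hpm⟩
    · exact exists_prime_of_dim p₀ (hdim p hp₀min hpU hfp) f hf
  let q : PrimeSpectrum A := ⟨q₀, hq₀prime⟩
  have hqP : q ∈ FEt.puncturedSpec A := by
    intro heq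
    apply hqm
    have : q = IsLocalRing.closedPoint A := heq
    exact congrArg PrimeSpectrum.asIdeal this
  obtain ⟨qP, hqP'⟩ : ∃ qP : ↥((FEt.puncturedSpec A : (Spec (CommRingCat.of A)).Opens) :
      Scheme.{u}), (FEt.puncturedSpec A).ι qP = q := by
    have : q ∈ Set.range (FEt.puncturedSpec A).ι := by rw [Scheme.Opens.range_ι]; exact hqP
    exact this
  have hqrange : qP ∈ Set.range (pullback.fst (FEt.puncturedSpec A).ι
      (Spec.map (CommRingCat.ofHom (Ideal.Quotient.mk (Ideal.span {f}))))) := by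
    rw [Scheme.Pullback.range_fst]
    show (FEt.puncturedSpec A).ι qP ∈ Set.range
      (Spec.map (CommRingCat.ofHom (Ideal.Quotient.mk (Ideal.span {f}))))
    rw [hqP']
    have hr : Set.range (PrimeSpectrum.comap (Ideal.Quotient.mk (Ideal.span {f}))) =
        PrimeSpectrum.zeroLocus (RingHom.ker (Ideal.Quotient.mk (Ideal.span {f}))) :=
      range_comap_of_surjective _ _ Ideal.Quotient.mk_surjective
    have hq0 : q ∈ PrimeSpectrum.zeroLocus
        (RingHom.ker (Ideal.Quotient.mk (Ideal.span {f})) : Set A) := by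
      rw [Ideal.mk_ker, PrimeSpectrum.zeroLocus_span]
      intro y hy
      rw [Set.mem_singleton_iff] at hy
      subst hy
      exact hfq
    rw [← hr] at hq0
    exact hq0
  obtain ⟨z₀, hz₀⟩ := hqrange
  have hqU : U'.ι (u' z₀) = q := by
    have h1 : (u' ≫ U'.ι) z₀ = q := by
      rw [hu']
      show (FEt.puncturedSpec A).ι ((pullback.fst (FEt.puncturedSpec A).ι
        (Spec.map (CommRingCat.ofHom (Ideal.Quotient.mk (Ideal.span {f}))))) z₀) = q
      rw [hz₀, hqP']
    exact h1
  have hspec2 : ω w₁ ⤳ u' z₀ := by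
    rw [hw₁, ← hind.specializes_iff, hpU', hqU]
    exact (PrimeSpectrum.le_iff_specializes p q).mp hpq
  obtain ⟨w₂, hw₁w₂, hw₂⟩ := ω.isClosedMap.specializingMap hspec2
  have hw₂T : w₂ ∉ T := by
    intro hmem
    apply hw₁T
    exact (hw₁w₂ : w₁ ⤳ w₂).mem_open hT.isOpen hmem
  obtain ⟨z, hz1, -⟩ := Scheme.Pullback.exists_preimage_pullback (f := ω) (g := u') w₂ z₀ hw₂
  have : z ∈ (pullback.fst ω u') ⁻¹' T := h ▸ Set.mem_univ z
  exact hw₂T (hz1 ▸ this)


open AlgebraicGeometry CategoryTheory CategoryTheory.Limits in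
/-- Let A be a Noetherian local ring with maximal ideal m and f ∈ m, U the punctured spectrum of A and
U₀ that of A/fA (realised as U ×_{Spec A} Spec(A/fA)). Let U' ⊆ U be an open through which U₀ ⟶ Spec
A factors (as u'). If dim(A/p) ≥ 2 for every minimal prime p of A which lies in U' and does not
contain f, then restriction of finite etale covers along u' is faithful. (Such U' exist, e.g. the
complement in U of the one-dimensional irreducible components not meeting U₀, and the condition
passes to smaller such opens, so restriction from the system of these opens is faithful.) -/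
theorem result (A : Type u) [CommRing A] [IsNoetherianRing A] [IsLocalRing A] (f : A) (hf : f ∈ IsLocalRing.maximalIdeal A)
    (U' : (Spec (CommRingCat.of A)).Opens) (hU' : U' ≤ FEt.puncturedSpec A)
    (u' : pullback (FEt.puncturedSpec A).ι (Spec.map (CommRingCat.ofHom (Ideal.Quotient.mk (Ideal.span {f})))) ⟶ (U' : Scheme.{u})) (hu' : u' ≫ U'.ι = (pullback.fst (FEt.puncturedSpec A).ι (Spec.map (CommRingCat.ofHom (Ideal.Quotient.mk (Ideal.span {f})))) ≫ (FEt.puncturedSpec A).ι))
    (hdim : ∀ p : PrimeSpectrum A, p.asIdeal ∈ minimalPrimes A → p ∈ U' → f ∉ p.asIdeal →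
      (2 : WithBot ℕ∞) ≤ ringKrullDim (A ⧸ p.asIdeal)) :
    (FEt.restrict u').Faithful := by
  refine faithful_of_inj u' ?_
  intro W T hT h
  haveI : IsFinite W.hom := W.prop.1
  haveI : Etale W.hom := W.prop.2
  exact core f hf U' hU' u' hu' hdim (W₀ := W.left) W.hom T hT h

end Groth.Agent.S9485
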