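import Groth.Statements.S9495
-- import your own Groth.Agent.* helpers here

set_option autoImplicit false
universe u
open SchMor

namespace Groth.Agent.S9495

open AlgebraicGeometry CategoryTheory in
lemma aux_affine {X : Scheme.{u}} {R : CommRingCat.{u}} (f : X ⟶ Spec R) [QuasiCompact f]
    (H : StableUnderSpecialization (Set.range f)) : IsClosed (Set.range f) := by
  obtain ⟨R', g, hg⟩ := compactSpace_iff_exists.mp (QuasiCompact.compactSpace_of_compactSpace f)
  have hr : Set.range (g ≫ f) = Set.range f := by
    rw [Scheme.Hom.comp_base, TopCat.coe_comp, hg.range_comp]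
  obtain ⟨φ, hφ⟩ := Spec.map_surjective (g ≫ f)
  rw [← hr, ← hφ] at H ⊢
  exact PrimeSpectrum.isClosed_range_of_stableUnderSpecialization φ.hom H

open AlgebraicGeometry CategoryTheory in
lemma aux_isAffine {X Y : Scheme.{u}} [IsAffine Y] (f : X ⟶ Y) [QuasiCompact f]
    (H : StableUnderSpecialization (Set.range f)) : IsClosed (Set.range f) := by
  have hinv : ∀ y : Y, Y.isoSpec.inv (Y.isoSpec.hom y) = y := fun y => by
    simp [← Scheme.Hom.comp_apply]
  have h1 : IsClosed (Set.range (f ≫ Y.isoSpec.hom)) := by
    apply aux_affine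
    rw [Scheme.Hom.comp_base, TopCat.coe_comp, Set.range_comp]
    rintro a b hab ⟨a', ha', rfl⟩
    have h2 : a' ⤳ Y.isoSpec.inv b := by
      have := hab.map Y.isoSpec.inv.continuous
      rwa [hinv] at this
    refine ⟨Y.isoSpec.inv b, H h2 ha', ?_⟩
    simp [← Scheme.Hom.comp_apply]
  rw [Scheme.Hom.comp_base, TopCat.coe_comp, Set.range_comp] at h1
  have h3 := h1.preimage Y.isoSpec.hom.continuous
  rwa [Set.preimage_image_eq _ (fun a b hab => by rw [← hinv a, ← hinv b, hab])] at h3

open AlgebraicGeometry in
open CategoryTheory in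
/-- For a quasi-compact morphism of schemes f : X → S, the image f(X) is closed in S if and only if it
is stable under specialization. -/
theorem result
    {X S : Scheme.{u}} (f : X ⟶ S) [QuasiCompact f] :
    IsClosed (Set.range f) ↔ StableUnderSpecialization (Set.range f) := by
  refine ⟨fun h => h.stableUnderSpecialization, fun H => ?_⟩
  rw [TopologicalSpace.IsOpenCover.isClosed_iff_coe_preimage (iSup_affineOpens_eq_top S)]
  intro U
  have hr : (Subtype.val ⁻¹' Set.range f : Set ↥(U.1 : S.Opens)) = Set.range (f ∣_ U.1) := by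
    ext ⟨y, hy⟩
    simp only [Set.mem_preimage, Set.mem_range]
    constructor
    · rintro ⟨x, hx⟩
      refine ⟨⟨x, ?_⟩, Subtype.ext ?_⟩
      · change f x ∈ U.1
        rw [hx]; exact hy
      · rw [morphismRestrict_base_coe]; exact hx
    · rintro ⟨x, hx⟩
      exact ⟨x.1, by rw [← morphismRestrict_base_coe, hx]⟩
  rw [hr]
  haveI : IsAffine (U.1 : Scheme.{u}) := U.2
  apply aux_isAffine
  rw [← hr]
  rintro a b hab ha
  exact H (hab.map continuous_subtype_val) ha

end Groth.Agent.S9495
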