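import Groth.Statements.S9496
-- import your own Groth.Agent.* helpers here
import Groth.Agent.H39.OmegaB

set_option autoImplicit false
universe u
open AffSch

namespace Groth.Agent.S9496

section Aux
open AlgebraicGeometry CategoryTheory Limits

theorem aux {R : CommRingCat.{u}} {M N : (Spec R).Modules}
    [M.IsQuasicoherent] [N.IsQuasicoherent] (φ : M ⟶ N) :
    (kernel φ).IsQuasicoherent ∧ (cokernel φ).IsQuasicoherent := by
  have hM : IsIso M.fromTildeΓ := inferInstance
  have hN : IsIso N.fromTildeΓ := inferInstance
  constructor
  · apply (isQuasicoherent_iff_isIso_fromTildeΓ _).2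
    rw [isIso_fromTildeΓ_iff_isLocalizing]
    exact H39.OmegaB.isLocalizing_kernel φ ((isIso_fromTildeΓ_iff_isLocalizing M).1 hM)
      ((isIso_fromTildeΓ_iff_isLocalizing N).1 hN)
  · let eM := asIso M.fromTildeΓ
    let eN := asIso N.fromTildeΓ
    let u := (moduleSpecΓFunctor (R := R)).map φ
    have hnat : (tilde.functor R).map u ≫ eN.hom = eM.hom ≫ φ :=
      (Scheme.Modules.fromTildeΓNatTrans (R := R)).naturality φ
    let e : cokernel ((tilde.functor R).map u) ≅ cokernel φ :=
      cokernel.mapIso _ _ eM eN hnat
    have h1 : SheafOfModules.isQuasicoherent (Spec R).ringCatSheaf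
        (cokernel ((tilde.functor R).map u)) :=
      (SheafOfModules.isQuasicoherent (Spec R).ringCatSheaf).prop_of_iso
        (PreservesCokernel.iso (tilde.functor R) u)
        (show ((tilde.functor R).obj _).IsQuasicoherent from inferInstance)
    exact (SheafOfModules.isQuasicoherent (Spec R).ringCatSheaf).prop_of_iso e h1

end Aux

open AlgebraicGeometry in
open CategoryTheory Limits in
/-- Let X = Spec A be an affine scheme and φ : M → N a morphism of quasi-coherent O_X-modules. Then the
kernel and the cokernel of φ, computed in the category of all O_X-modules, are quasi-coherent. -/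
theorem result
    (A : Type u) [CommRing A] {M N : (Spec (CommRingCat.of A)).Modules}
    [Coh.IsQCoh M] [Coh.IsQCoh N] (φ : M ⟶ N) :
    Coh.IsQCoh (kernel φ) ∧ Coh.IsQCoh (cokernel φ) := by
  exact aux (R := CommRingCat.of A) φ

end Groth.Agent.S9496
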