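import Groth.Statements.S9497
-- import your own Groth.Agent.* helpers here

set_option autoImplicit false
universe u
open AffSch

namespace Groth.Agent.S9497

section Aux
open AlgebraicGeometry CategoryTheory Limits

theorem aux {R : CommRingCat.{u}} {J : Type u} [SmallCategory J]
    (F : J ⥤ (Spec R).Modules) (hF : ∀ j, (F.obj j).IsQuasicoherent) :
    (colimit F).IsQuasicoherent := by
  have hiso : ∀ j, IsIso (F.obj j).fromTildeΓ := fun j => (isQuasicoherent_iff_isIso_fromTildeΓ _).1 (hF j)
  let G : J ⥤ ModuleCat.{u} R := F ⋙ moduleSpecΓFunctor (R := R)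
  let α : G ⋙ tilde.functor R ≅ F :=
    NatIso.ofComponents (fun j => @asIso _ _ _ _ (F.obj j).fromTildeΓ (hiso j))
      (fun f => (Scheme.Modules.fromTildeΓNatTrans (R := R)).naturality (F.map f))
  have e : (tilde.functor R).obj (colimit G) ≅ colimit F :=
    preservesColimitIso (tilde.functor R) G ≪≫ HasColimit.isoOfNatIso α
  exact (SheafOfModules.isQuasicoherent (Spec R).ringCatSheaf).prop_of_iso e
    (show ((tilde.functor R).obj _).IsQuasicoherent from inferInstance)

end Aux

open AlgebraicGeometry in
open CategoryTheory Limits in
/-- Let X = Spec A be an affine scheme and F : J → Mod(O_X) a small diagram of quasi-coherent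
O_X-modules. Then the colimit of F, computed in the category of all O_X-modules, is quasi-coherent
(this contains the case of arbitrary direct sums). -/
theorem result
    (A : Type u) [CommRing A] {J : Type u} [SmallCategory J]
    (F : J ⥤ (Spec (CommRingCat.of A)).Modules) (hF : ∀ j, Coh.IsQCoh (F.obj j)) :
    Coh.IsQCoh (colimit F) := by
  exact aux (R := CommRingCat.of A) F hF

end Groth.Agent.S9497
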