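import Groth.Statements.S9502
import Mathlib

set_option autoImplicit false
universe u
open SchMor

namespace Groth.Agent.S9502

open AlgebraicGeometry in
open CategoryTheory in
/-- Let f : X → Y be a morphism of schemes such that (1) the underlying continuous map of f is a
homeomorphism onto a closed subset of Y and (2) the map of sheaves of rings O_Y → f_*O_X is
surjective (locally surjective on sections). Then f is a closed immersion in the sense of locally
ringed spaces: (1) and (2) hold and (3) the kernel of O_Y → f_*O_X is locally generated by sections,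
i.e. around every point of Y there are sections of O_Y killed in f_*O_X whose germs generate the
kernel of the stalk map O_{Y,y} → (f_*O_X)_y at every nearby point y. (For a morphism of schemes (1)
and (2) alone already give surjective stalk maps; the content of this row is condition (3).) -/
theorem result
    {X Y : Scheme.{u}} (f : X ⟶ Y) (h1 : Topology.IsClosedEmbedding f)
    (h2 : TopCat.Presheaf.IsLocallySurjective f.c) :
    LRSImm.IsClosedImmersion f.toLRSHom := by
  refine ⟨h1, h2, ?_⟩
  have hci : IsClosedImmersion f := by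
    rw [isClosedImmersion_iff]
    refine ⟨⟨fun x => ?_⟩, h1⟩
    have hs := (TopCat.Presheaf.locally_surjective_iff_surjective_on_stalks _).1 h2 (f x)
    have hiso : IsIso (X.presheaf.stalkPushforward CommRingCat f.base x) :=
      TopCat.Presheaf.stalkPushforward.stalkPushforward_iso_of_isInducing (C := CommRingCat) (f := f.base) h1.isInducing _ _
    have hbij : Function.Bijective (X.presheaf.stalkPushforward CommRingCat f.base x) :=
      ConcreteCategory.bijective_of_isIso _
    exact hbij.surjective.comp hs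
  intro y
  obtain ⟨_, ⟨U, hU, rfl⟩, hyU, -⟩ :=
    Y.isBasis_affineOpens.exists_subset_of_mem_open (Set.mem_univ y) isOpen_univ
  have hU' : IsAffineOpen (f ⁻¹ᵁ U) := hU.preimage f
  refine ⟨U, hyU, RingHom.ker (f.app U).hom, fun s => (s : Γ(Y, U)), fun j => j.2, fun y' hy' => ?_⟩
  apply le_antisymm
  · refine Ideal.span_le.2 ?_
    rintro _ ⟨j, rfl⟩
    show ((TopCat.Presheaf.stalkFunctor CommRingCat y').map f.c).hom
      (Y.presheaf.germ U y' hy' (j : Γ(Y, U))) = 0
    have := TopCat.Presheaf.stalkFunctor_map_germ_apply U y' hy' f.c (j : Γ(Y,U))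
    erw [this]
    have hj : f.c.app (Opposite.op U) (j : Γ(Y, U)) = 0 := j.2
    rw [hj, map_zero]
    rfl
  · intro z hz
    have hz' : ((TopCat.Presheaf.stalkFunctor CommRingCat y').map f.c).hom z = 0 := hz
    obtain ⟨V, hy'V, a, rfl⟩ := Y.presheaf.exists_germ_eq z
    have h3 := TopCat.Presheaf.stalkFunctor_map_germ_apply V y' hy'V f.c a
    erw [h3] at hz'
    have h0 : ((TopCat.Presheaf.pushforward CommRingCat f.base).obj X.presheaf).germ V y' hy'V
        (f.c.app (Opposite.op V) a) =
        ((TopCat.Presheaf.pushforward CommRingCat f.base).obj X.presheaf).germ V y' hy'V 0 := by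
      exact hz'.trans (map_zero _).symm
    obtain ⟨W, hy'W, iV, iV', hW⟩ := TopCat.Presheaf.germ_eq _ y' hy'V hy'V _ _ h0
    rw [map_zero] at hW
    obtain ⟨r, hrW, hy'r⟩ := hU.exists_basicOpen_le ⟨y', hy'W⟩ hy'
    -- the restricted section
    have hrV : Y.basicOpen r ≤ V := hrW.trans iV.le
    set a₁ : Γ(Y, Y.basicOpen r) := Y.presheaf.map (homOfLE hrV).op a with ha₁
    have hz1 : Y.presheaf.germ V y' hy'V a = Y.presheaf.germ (Y.basicOpen r) y' hy'r a₁ :=
      (TopCat.Presheaf.germ_res_apply Y.presheaf (homOfLE hrV) y' hy'r a).symm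
    have hfa₁ : f.app (Y.basicOpen r) a₁ = 0 := by
      show (f.c.app (Opposite.op (Y.basicOpen r))) (Y.presheaf.map (homOfLE hrV).op a) = 0
      have nat := NatTrans.naturality_apply f.c (homOfLE hrV).op a
      rw [nat]
      have e : (homOfLE hrV).op = iV.op ≫ (homOfLE hrW).op := Subsingleton.elim _ _
      rw [e, Functor.map_comp, CommRingCat.comp_apply, hW, map_zero]
    haveI := hU.isLocalization_basicOpen r
    obtain ⟨n, α, hα⟩ := IsLocalization.Away.surj r a₁
    have hα0 : f.app (Y.basicOpen r) (algebraMap Γ(Y, U) Γ(Y, Y.basicOpen r) α) = 0 := by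
      rw [← hα, map_mul, hfa₁, zero_mul]
    have hres : (f.app U α) |_ (X.basicOpen (f.app U r)) = 0 := by
      have h₂ : X.basicOpen (f.app U r) ≤ f ⁻¹ᵁ (Y.basicOpen r) := (Scheme.preimage_basicOpen f r).ge
      have nat := NatTrans.naturality_apply f.c (homOfLE (Y.basicOpen_le r)).op α
      have hα1 : (f.c.app (Opposite.op (Y.basicOpen r))) (Y.presheaf.map (homOfLE (Y.basicOpen_le r)).op α) = 0 := hα0
      rw [nat] at hα1
      show X.presheaf.map (homOfLE _).op (f.app U α) = 0
      have e : (homOfLE (h₂.trans (f.preimage_mono (Y.basicOpen_le r)))).op =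
          ((TopologicalSpace.Opens.map f.base).map (homOfLE (Y.basicOpen_le r))).op ≫ (homOfLE h₂).op := Subsingleton.elim _ _
      rw [e, Functor.map_comp, CommRingCat.comp_apply]
      erw [hα1, map_zero]
    obtain ⟨m, hm⟩ := exists_pow_mul_eq_zero_of_res_basicOpen_eq_zero_of_isAffineOpen X hU'
      (f.app U α) (f.app U r) hres
    have hmem : r ^ m * α ∈ RingHom.ker (f.app U).hom := by
      rw [RingHom.mem_ker, map_mul, map_pow]; exact hm
    have hu : IsUnit (Y.presheaf.germ U y' hy' r) := (Y.mem_basicOpen r y' hy').1 hy'r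
    show Y.presheaf.germ V y' hy'V a ∈ Ideal.span (Set.range fun j : RingHom.ker (f.app U).hom =>
      Y.presheaf.germ U y' hy' (j : Γ(Y, U)))
    rw [hz1]
    have hgr : Y.presheaf.germ (Y.basicOpen r) y' hy'r (algebraMap Γ(Y, U) Γ(Y, Y.basicOpen r) r) =
        Y.presheaf.germ U y' hy' r :=
      TopCat.Presheaf.germ_res_apply Y.presheaf (homOfLE (Y.basicOpen_le r)) y' hy'r r
    have hgα : Y.presheaf.germ (Y.basicOpen r) y' hy'r (algebraMap Γ(Y, U) Γ(Y, Y.basicOpen r) α) =
        Y.presheaf.germ U y' hy' α :=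
      TopCat.Presheaf.germ_res_apply Y.presheaf (homOfLE (Y.basicOpen_le r)) y' hy'r α
    have h4 : Y.presheaf.germ (Y.basicOpen r) y' hy'r a₁ * (Y.presheaf.germ U y' hy' r) ^ n =
        Y.presheaf.germ U y' hy' α := by
      rw [← hgr, ← hgα, ← hα, map_mul, map_pow]
    rw [← Ideal.mul_unit_mem_iff_mem _ (hu.pow n), h4, ← Ideal.unit_mul_mem_iff_mem _ (hu.pow m)]
    have h5 : (Y.presheaf.germ U y' hy' r) ^ m * Y.presheaf.germ U y' hy' α =
        Y.presheaf.germ U y' hy' (r ^ m * α) := by
      rw [map_mul, map_pow]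
    rw [h5]
    exact Ideal.subset_span ⟨⟨r ^ m * α, hmem⟩, rfl⟩

end Groth.Agent.S9502
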