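import Groth.Statements.S9507
import Mathlib.Topology.Sheaves.CommRingCat
import Mathlib.Algebra.Category.Ring.Constructions

set_option autoImplicit false
universe u
open LRSImm

namespace Groth.Agent.S9507

open AlgebraicGeometry CategoryTheory Opposite TopologicalSpace

section helpers

/-- restriction of restriction -/
theorem res_res (A : LocallyRingedSpace.{u}) {U₁ U₂ U₃ : Opens A.toTopCat} (h₁₂ : U₂ ≤ U₁)
    (h₂₃ : U₃ ≤ U₂) (r : A.presheaf.obj (op U₁)) :
    A.presheaf.map (homOfLE h₂₃).op (A.presheaf.map (homOfLE h₁₂).op r) =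
      A.presheaf.map (homOfLE (h₂₃.trans h₁₂)).op r := by
  rw [← ConcreteCategory.comp_apply, ← A.presheaf.map_comp]
  rfl

theorem res_self (A : LocallyRingedSpace.{u}) {U : Opens A.toTopCat} (h : U ≤ U)
    (r : A.presheaf.obj (op U)) : A.presheaf.map (homOfLE h).op r = r := by
  have : (homOfLE h) = 𝟙 U := rfl
  rw [this, op_id, A.presheaf.map_id]
  rfl

/-- naturality of `c` on sections -/
theorem c_res {A B : LocallyRingedSpace.{u}} (φ : A ⟶ B) {W W' : Opens B.toTopCat} (h : W' ≤ W)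
    (s : B.presheaf.obj (op W)) :
    φ.c.app (op W') (B.presheaf.map (homOfLE h).op s) =
      A.presheaf.map (homOfLE ((Opens.map φ.base).monotone h)).op (φ.c.app (op W) s) := by
  have := φ.c.naturality (homOfLE h).op
  exact congrArg (fun k => k.hom s) this

end helpers

variable {Z X Y : LocallyRingedSpace.{u}} (i : Z ⟶ X) (f : Y ⟶ X)

theorem le_pre (gb : Y.toTopCat ⟶ Z.toTopCat) (hgb : ∀ y, i.base (gb y) = f.base y)
    {V : Opens Z.toTopCat} {W : Opens X.toTopCat} (hWV : (Opens.map i.base).obj W ≤ V) :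
    (Opens.map f.base).obj W ≤ (Opens.map gb).obj V := by
  intro y hy
  apply hWV
  change i.base (gb y) ∈ W
  rw [hgb]
  exact hy

/-- local datum: on `W`, `t` is the image of `s` and `r` is the image of `s` under `f`. -/
def Loc (gb : Y.toTopCat ⟶ Z.toTopCat) (hgb : ∀ y, i.base (gb y) = f.base y)
    (V : Opens Z.toTopCat) (t : Z.presheaf.obj (op V))
    (r : Y.presheaf.obj (op ((Opens.map gb).obj V)))
    (W : Opens X.toTopCat) (s : X.presheaf.obj (op W)) : Prop :=
  ∃ (hWV : (Opens.map i.base).obj W ≤ V),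
    i.c.app (op W) s = Z.presheaf.map (homOfLE hWV).op t ∧
    Y.presheaf.map (homOfLE (le_pre i f gb hgb hWV)).op r = f.c.app (op W) s

def Rel (gb : Y.toTopCat ⟶ Z.toTopCat) (hgb : ∀ y, i.base (gb y) = f.base y)
    (V : Opens Z.toTopCat) (t : Z.presheaf.obj (op V))
    (r : Y.presheaf.obj (op ((Opens.map gb).obj V))) : Prop :=
  ∀ y : Y.toTopCat, gb y ∈ V → ∃ (W : Opens X.toTopCat) (s : X.presheaf.obj (op W)),
    f.base y ∈ W ∧ Loc i f gb hgb V t r W s

variable {i f}

theorem Loc.shrink {gb : Y.toTopCat ⟶ Z.toTopCat} {hgb : ∀ y, i.base (gb y) = f.base y}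
    {V : Opens Z.toTopCat} {t : Z.presheaf.obj (op V)}
    {r : Y.presheaf.obj (op ((Opens.map gb).obj V))}
    {W : Opens X.toTopCat} {s : X.presheaf.obj (op W)} (h : Loc i f gb hgb V t r W s)
    {W' : Opens X.toTopCat} (hW : W' ≤ W) :
    Loc i f gb hgb V t r W' (X.presheaf.map (homOfLE hW).op s) := by
  obtain ⟨hWV, h1, h2⟩ := h
  refine ⟨((Opens.map i.base).monotone hW).trans hWV, ?_, ?_⟩
  · rw [c_res, h1, res_res]
  · rw [c_res, ← h2, res_res]

/-- the hypothesis on the kernel, in difference form -/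
theorem eq_of_c_eq (hker : ∀ (U : Opens X.toTopCat) (s : X.presheaf.obj (op U)),
      i.c.app (op U) s = 0 → f.c.app (op U) s = 0)
    {W : Opens X.toTopCat} (s s' : X.presheaf.obj (op W))
    (h : i.c.app (op W) s = i.c.app (op W) s') : f.c.app (op W) s = f.c.app (op W) s' := by
  have h0 : i.c.app (op W) (s - s') = 0 := by
    rw [map_sub, h, sub_self]
  have h1 := hker W (s - s') h0
  rw [map_sub] at h1
  exact sub_eq_zero.mp h1

theorem Rel.unique (hker : ∀ (U : Opens X.toTopCat) (s : X.presheaf.obj (op U)),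
      i.c.app (op U) s = 0 → f.c.app (op U) s = 0)
    {gb : Y.toTopCat ⟶ Z.toTopCat} {hgb : ∀ y, i.base (gb y) = f.base y}
    {V : Opens Z.toTopCat} {t : Z.presheaf.obj (op V)}
    {r r' : Y.presheaf.obj (op ((Opens.map gb).obj V))}
    (h : Rel i f gb hgb V t r) (h' : Rel i f gb hgb V t r') : r = r' := by
  choose W s hW hL using h
  choose W' s' hW' hL' using h'
  let ι := {y : Y.toTopCat // gb y ∈ V}
  let U : ι → Opens Y.toTopCat := fun y => (Opens.map f.base).obj (W y.1 y.2 ⊓ W' y.1 y.2)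
  have hUV : ∀ y : ι, U y ≤ (Opens.map gb).obj V := fun y =>
    le_pre i f gb hgb (((Opens.map i.base).monotone inf_le_left).trans (hL y.1 y.2).1)
  refine Y.sheaf.eq_of_locally_eq' U ((Opens.map gb).obj V) (fun y => homOfLE (hUV y)) ?_ r r' ?_
  · intro y hy
    exact Opens.mem_iSup.mpr ⟨⟨y, hy⟩, hW y hy, hW' y hy⟩
  · intro y
    have h1 := (hL y.1 y.2).shrink (inf_le_left : W y.1 y.2 ⊓ W' y.1 y.2 ≤ W y.1 y.2)
    have h2 := (hL' y.1 y.2).shrink (inf_le_right : W y.1 y.2 ⊓ W' y.1 y.2 ≤ W' y.1 y.2)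
    obtain ⟨a1, b1, c1⟩ := h1
    obtain ⟨a2, b2, c2⟩ := h2
    have := eq_of_c_eq hker _ _ (b1.trans b2.symm)
    exact c1.trans (this.trans c2.symm)


/-- every open of `Z` is the preimage of an open of `X` -/
theorem exists_eq_map (hi : Topology.IsClosedEmbedding i.base) (V : Opens Z.toTopCat) :
    ∃ U₀ : Opens X.toTopCat, V = (Opens.map i.base).obj U₀ := by
  obtain ⟨T, hT, hTV⟩ := hi.isInducing.isOpen_iff.mp V.isOpen
  exact ⟨⟨T, hT⟩, Opens.ext hTV.symm⟩

/-- local lifts exist -/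
theorem exists_local_lift (hi : Topology.IsClosedEmbedding i.base)
    (hs : TopCat.Presheaf.IsLocallySurjective i.c)
    (V : Opens Z.toTopCat) (t : Z.presheaf.obj (op V)) (z : Z.toTopCat) (hz : z ∈ V) :
    ∃ (W : Opens X.toTopCat) (s : X.presheaf.obj (op W)) (hWV : (Opens.map i.base).obj W ≤ V),
      i.base z ∈ W ∧ i.c.app (op W) s = Z.presheaf.map (homOfLE hWV).op t := by
  obtain ⟨U₀, rfl⟩ := exists_eq_map hi V
  obtain ⟨W, ι, ⟨s, h_eq⟩, hxW⟩ := hs.imageSieve_mem (U := U₀) t (i.base z) hz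
  exact ⟨W, s, (Opens.map i.base).monotone ι.le, hxW, h_eq⟩

theorem Rel.exists (hi : Topology.IsClosedEmbedding i.base)
    (hs : TopCat.Presheaf.IsLocallySurjective i.c)
    (hker : ∀ (U : Opens X.toTopCat) (s : X.presheaf.obj (op U)),
      i.c.app (op U) s = 0 → f.c.app (op U) s = 0)
    (gb : Y.toTopCat ⟶ Z.toTopCat) (hgb : ∀ y, i.base (gb y) = f.base y)
    (V : Opens Z.toTopCat) (t : Z.presheaf.obj (op V)) :
    ∃ r : Y.presheaf.obj (op ((Opens.map gb).obj V)), Rel i f gb hgb V t r := by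
  have hl := fun (y : Y.toTopCat) (hy : gb y ∈ V) => exists_local_lift hi hs V t (gb y) hy
  choose W s hWV hW hst using hl
  let ι := {y : Y.toTopCat // gb y ∈ V}
  let U : ι → Opens Y.toTopCat := fun y => (Opens.map f.base).obj (W y.1 y.2)
  have hUV : ∀ y : ι, U y ≤ (Opens.map gb).obj V := fun y =>
    le_pre i f gb hgb (hWV y.1 y.2)
  let sf : ∀ y : ι, Y.presheaf.obj (op (U y)) := fun y => f.c.app (op (W y.1 y.2)) (s y.1 y.2)
  have hcompat : TopCat.Presheaf.IsCompatible Y.sheaf.1 U sf := by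
    intro y y'
    have e1 : Y.presheaf.map (homOfLE ((Opens.map f.base).monotone
        (inf_le_left : W y.1 y.2 ⊓ W y'.1 y'.2 ≤ W y.1 y.2))).op (sf y) =
        f.c.app (op (W y.1 y.2 ⊓ W y'.1 y'.2)) (X.presheaf.map (homOfLE inf_le_left).op
          (s y.1 y.2)) := (c_res f _ _).symm
    have e2 : Y.presheaf.map (homOfLE ((Opens.map f.base).monotone
        (inf_le_right : W y.1 y.2 ⊓ W y'.1 y'.2 ≤ W y'.1 y'.2))).op (sf y') =
        f.c.app (op (W y.1 y.2 ⊓ W y'.1 y'.2)) (X.presheaf.map (homOfLE inf_le_right).op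
          (s y'.1 y'.2)) := (c_res f _ _).symm
    have e3 : f.c.app (op (W y.1 y.2 ⊓ W y'.1 y'.2)) (X.presheaf.map (homOfLE inf_le_left).op
          (s y.1 y.2)) = f.c.app (op (W y.1 y.2 ⊓ W y'.1 y'.2))
          (X.presheaf.map (homOfLE inf_le_right).op (s y'.1 y'.2)) := by
      apply eq_of_c_eq hker
      rw [c_res, c_res, hst, hst, res_res, res_res]
    exact e1.trans (e3.trans e2.symm)
  obtain ⟨r, hr, -⟩ := Y.sheaf.existsUnique_gluing' U ((Opens.map gb).obj V)
    (fun y => homOfLE (hUV y)) (fun y hy => Opens.mem_iSup.mpr ⟨⟨y, hy⟩, by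
      change f.base y ∈ W y hy
      rw [← hgb]
      exact hW y hy⟩) sf hcompat
  refine ⟨r, fun y hy => ⟨W y hy, s y hy, ?_, hWV y hy, hst y hy, hr ⟨y, hy⟩⟩⟩
  rw [← hgb]
  exact hW y hy


section calculus

variable {gb : Y.toTopCat ⟶ Z.toTopCat} {hgb : ∀ y, i.base (gb y) = f.base y}
  {V : Opens Z.toTopCat}

theorem Loc.mk_top (hgb : ∀ y, i.base (gb y) = f.base y)
    (hi : Topology.IsClosedEmbedding i.base) (y : Y.toTopCat) (hy : gb y ∈ V) :
    ∃ W : Opens X.toTopCat, f.base y ∈ W ∧ (Opens.map i.base).obj W ≤ V := by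
  obtain ⟨U₀, rfl⟩ := exists_eq_map hi V
  refine ⟨U₀, ?_, le_rfl⟩
  rw [← hgb]
  exact hy

theorem Rel.one (hi : Topology.IsClosedEmbedding i.base) : Rel i f gb hgb V 1 1 := by
  intro y hy
  obtain ⟨W, hyW, hWV⟩ := Loc.mk_top hgb hi y hy
  exact ⟨W, 1, hyW, hWV, by rw [map_one, map_one], by rw [map_one, map_one]⟩

theorem Rel.zero (hi : Topology.IsClosedEmbedding i.base) : Rel i f gb hgb V 0 0 := by
  intro y hy
  obtain ⟨W, hyW, hWV⟩ := Loc.mk_top hgb hi y hy
  exact ⟨W, 0, hyW, hWV, by rw [map_zero, map_zero], by rw [map_zero, map_zero]⟩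

theorem Rel.add {t t' : Z.presheaf.obj (op V)}
    {r r' : Y.presheaf.obj (op ((Opens.map gb).obj V))}
    (h : Rel i f gb hgb V t r) (h' : Rel i f gb hgb V t' r') :
    Rel i f gb hgb V (t + t') (r + r') := by
  intro y hy
  obtain ⟨W, s, hyW, hL⟩ := h y hy
  obtain ⟨W', s', hyW', hL'⟩ := h' y hy
  obtain ⟨a1, b1, c1⟩ := hL.shrink (inf_le_left : W ⊓ W' ≤ W)
  obtain ⟨a2, b2, c2⟩ := hL'.shrink (inf_le_right : W ⊓ W' ≤ W')
  exact ⟨W ⊓ W', X.presheaf.map (homOfLE inf_le_left).op s +
    X.presheaf.map (homOfLE inf_le_right).op s', ⟨hyW, hyW'⟩, a1,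
    by rw [map_add, map_add, b1, b2], by rw [map_add, map_add, c1, c2]⟩

theorem Rel.mul {t t' : Z.presheaf.obj (op V)}
    {r r' : Y.presheaf.obj (op ((Opens.map gb).obj V))}
    (h : Rel i f gb hgb V t r) (h' : Rel i f gb hgb V t' r') :
    Rel i f gb hgb V (t * t') (r * r') := by
  intro y hy
  obtain ⟨W, s, hyW, hL⟩ := h y hy
  obtain ⟨W', s', hyW', hL'⟩ := h' y hy
  obtain ⟨a1, b1, c1⟩ := hL.shrink (inf_le_left : W ⊓ W' ≤ W)
  obtain ⟨a2, b2, c2⟩ := hL'.shrink (inf_le_right : W ⊓ W' ≤ W')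
  exact ⟨W ⊓ W', X.presheaf.map (homOfLE inf_le_left).op s *
    X.presheaf.map (homOfLE inf_le_right).op s', ⟨hyW, hyW'⟩, a1,
    by rw [map_mul, map_mul, b1, b2], by rw [map_mul, map_mul, c1, c2]⟩

theorem Rel.res (hi : Topology.IsClosedEmbedding i.base) {t : Z.presheaf.obj (op V)}
    {r : Y.presheaf.obj (op ((Opens.map gb).obj V))}
    (h : Rel i f gb hgb V t r) {V' : Opens Z.toTopCat} (hV : V' ≤ V) :
    Rel i f gb hgb V' (Z.presheaf.map (homOfLE hV).op t)
      (Y.presheaf.map (homOfLE ((Opens.map gb).monotone hV)).op r) := by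
  intro y hy
  obtain ⟨W, s, hyW, hL⟩ := h y (hV hy)
  obtain ⟨W', hyW', hWV'⟩ := Loc.mk_top hgb hi y hy
  obtain ⟨a1, b1, c1⟩ := hL.shrink (inf_le_left : W ⊓ W' ≤ W)
  have a2 : (Opens.map i.base).obj (W ⊓ W') ≤ V' :=
    ((Opens.map i.base).monotone inf_le_right).trans hWV'
  refine ⟨W ⊓ W', X.presheaf.map (homOfLE inf_le_left).op s, ⟨hyW, hyW'⟩, a2, ?_, ?_⟩
  · rw [b1, res_res]
  · rw [← c1, res_res]

end calculus


section construction

variable (hi : LRSImm.IsClosedImmersion i)
  (hker : ∀ (U : Opens X.toTopCat) (s : X.presheaf.obj (op U)),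
      i.c.app (op U) s = 0 → f.c.app (op U) s = 0)

include hi hker in
theorem mem_range (y : Y.toTopCat) : f.base y ∈ Set.range i.base := by
  by_contra hy
  let U : Opens X.toTopCat := ⟨(Set.range i.base)ᶜ, hi.1.isClosed_range.isOpen_compl⟩
  have hbot : (Opens.map i.base).obj U = ⊥ := by
    ext z
    simp only [Opens.coe_bot, Set.mem_empty_iff_false, iff_false]
    intro hz
    exact hz ⟨z, rfl⟩
  have hsub : Subsingleton (Z.presheaf.obj (op ((Opens.map i.base).obj U))) := by
    rw [hbot]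
    exact CommRingCat.subsingleton_of_isTerminal (Z.sheaf.isTerminalOfEmpty)
  have h0 : i.c.app (op U) 1 = 0 :=
    @Subsingleton.elim (Z.presheaf.obj (op ((Opens.map i.base).obj U))) hsub _ _
  have h1 := hker U 1 h0
  rw [map_one] at h1
  have hyU : y ∈ (Opens.map f.base).obj U := hy
  have h2 := congrArg (Y.presheaf.germ _ y hyU) h1
  rw [map_one, map_zero] at h2
  exact one_ne_zero h2

/-- the map on points -/
noncomputable def gbFun (y : Y.toTopCat) : Z.toTopCat := (mem_range hi hker y).choose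

theorem gbFun_spec (y : Y.toTopCat) : i.base (gbFun hi hker y) = f.base y :=
  (mem_range hi hker y).choose_spec

theorem continuous_gbFun : Continuous (gbFun hi hker) := by
  rw [hi.1.isInducing.continuous_iff]
  have : (i.base : Z.toTopCat → X.toTopCat) ∘ gbFun hi hker = f.base := by
    funext y
    exact gbFun_spec hi hker y
  rw [this]
  exact f.base.hom.continuous

/-- the continuous map `Y → Z` -/
noncomputable def gb : Y.toTopCat ⟶ Z.toTopCat :=
  TopCat.ofHom ⟨gbFun hi hker, continuous_gbFun hi hker⟩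

theorem gb_spec (y : Y.toTopCat) : i.base (gb hi hker y) = f.base y := gbFun_spec hi hker y

/-- the map on sections -/
noncomputable def cFun (V : Opens Z.toTopCat) (t : Z.presheaf.obj (op V)) :
    Y.presheaf.obj (op ((Opens.map (gb hi hker)).obj V)) :=
  (Rel.exists hi.1 hi.2.1 hker (gb hi hker) (gb_spec hi hker) V t).choose

theorem cFun_spec (V : Opens Z.toTopCat) (t : Z.presheaf.obj (op V)) :
    Rel i f (gb hi hker) (gb_spec hi hker) V t (cFun hi hker V t) :=
  (Rel.exists hi.1 hi.2.1 hker (gb hi hker) (gb_spec hi hker) V t).choose_spec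

/-- the ring homomorphism on sections -/
noncomputable def cHom (V : Opens Z.toTopCat) :
    Z.presheaf.obj (op V) →+* Y.presheaf.obj (op ((Opens.map (gb hi hker)).obj V)) where
  toFun := cFun hi hker V
  map_one' := Rel.unique hker (cFun_spec hi hker V 1) (Rel.one hi.1)
  map_zero' := Rel.unique hker (cFun_spec hi hker V 0) (Rel.zero hi.1)
  map_add' t t' := Rel.unique hker (cFun_spec hi hker V (t + t'))
    ((cFun_spec hi hker V t).add (cFun_spec hi hker V t'))
  map_mul' t t' := Rel.unique hker (cFun_spec hi hker V (t * t'))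
    ((cFun_spec hi hker V t).mul (cFun_spec hi hker V t'))

theorem cHom_res {V V' : Opens Z.toTopCat} (hV : V' ≤ V) (t : Z.presheaf.obj (op V)) :
    cHom hi hker V' (Z.presheaf.map (homOfLE hV).op t) =
      Y.presheaf.map (homOfLE ((Opens.map (gb hi hker)).monotone hV)).op (cHom hi hker V t) :=
  Rel.unique hker (cFun_spec hi hker V' _) ((cFun_spec hi hker V t).res hi.1 hV)

/-- the morphism of sheaves -/
noncomputable def cNat : Z.presheaf ⟶ (gb hi hker) _* Y.presheaf where
  app V := CommRingCat.ofHom (cHom hi hker V.unop)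
  naturality V V' φ := by
    ext t
    have hφ : φ = (homOfLE φ.unop.le).op := rfl
    rw [hφ]
    exact cHom_res hi hker φ.unop.le t

theorem cNat_app (V : Opens Z.toTopCat) (t : Z.presheaf.obj (op V)) :
    (cNat hi hker).app (op V) t = cHom hi hker V t := rfl

/-- the morphism of presheafed spaces -/
noncomputable def gP : Y.toPresheafedSpace.Hom Z.toPresheafedSpace where
  base := gb hi hker
  c := cNat hi hker

theorem isLocalHom_gP (y : Y.toTopCat) :
    IsLocalHom ((gP hi hker).stalkMap y).hom := by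
  constructor
  intro a ha
  obtain ⟨V, hyV, t, rfl⟩ := Z.presheaf.exists_germ_eq a
  have h1 : ((gP hi hker).stalkMap y).hom (Z.presheaf.germ V _ hyV t) =
      Y.presheaf.germ ((Opens.map (gb hi hker)).obj V) y hyV (cHom hi hker V t) :=
    PresheafedSpace.stalkMap_germ_apply (gP hi hker) V y hyV t
  rw [h1] at ha
  obtain ⟨W, s, hyW, hWV, hst, hr⟩ := cFun_spec hi hker V t y hyV
  have h2 : Y.presheaf.germ ((Opens.map (gb hi hker)).obj V) y hyV (cHom hi hker V t) =
      Y.presheaf.germ ((Opens.map f.base).obj W) y hyW (f.c.app (op W) s) := by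
    rw [← hr]
    exact (Y.presheaf.germ_res_apply (homOfLE _) y hyW _).symm
  rw [h2, ← LocallyRingedSpace.stalkMap_germ_apply f W y hyW s] at ha
  have h3 : IsUnit (X.presheaf.germ W (f.base y) hyW s) :=
    (isUnit_map_iff (f.stalkMap y).hom _).mp ha
  obtain ⟨W', ι, hyW', hu⟩ := X.toRingedSpace.isUnit_res_of_isUnit_germ W s (f.base y) hyW h3
  have hu2 : IsUnit (i.c.app (op W') (X.presheaf.map ι.op s)) := hu.map _
  have hι : ι = homOfLE ι.le := rfl
  rw [hι, c_res, hst, res_res] at hu2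
  have hz : gb hi hker y ∈ (Opens.map i.base).obj W' := by
    change i.base (gb hi hker y) ∈ W'
    rw [gb_spec]
    exact hyW'
  have h4 := hu2.map (Z.presheaf.germ _ (gb hi hker y) hz).hom
  have h5 : (Z.presheaf.germ _ (gb hi hker y) hz).hom (Z.presheaf.map (homOfLE
      (((Opens.map i.base).monotone ι.le).trans hWV)).op t) = Z.presheaf.germ V _ hyV t :=
    Z.presheaf.germ_res_apply (homOfLE _) _ hz t
  rw [h5] at h4
  exact h4

/-- the factorisation -/
noncomputable def gL : Y ⟶ Z := ⟨gP hi hker, isLocalHom_gP hi hker⟩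

end construction


section final

theorem hom_ext_sections {A B : LocallyRingedSpace.{u}} (f₁ f₂ : A ⟶ B)
    (hb : ∀ y, f₁.base y = f₂.base y)
    (hc : ∀ (U : Opens B.toTopCat) (s : B.presheaf.obj (op U))
      (hle : (Opens.map f₂.base).obj U ≤ (Opens.map f₁.base).obj U),
      A.presheaf.map (homOfLE hle).op (f₁.c.app (op U) s) = f₂.c.app (op U) s) : f₁ = f₂ := by
  obtain ⟨⟨b₁, c₁⟩, p₁⟩ := f₁
  obtain ⟨⟨b₂, c₂⟩, p₂⟩ := f₂
  have hbb : b₁ = b₂ := by
    ext y
    exact hb y
  subst hbb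
  have hcc : c₁ = c₂ := by
    ext U s
    have := hc U s le_rfl
    rw [res_self] at this
    exact this
  subst hcc
  rfl

/-- for a factorisation `g`, the sections of `g` are locally given by `f` -/
theorem hom_loc (g : Y ⟶ Z) (h : g ≫ i = f) (V : Opens Z.toTopCat) (t : Z.presheaf.obj (op V))
    (W : Opens X.toTopCat) (s : X.presheaf.obj (op W))
    (hWV : (Opens.map i.base).obj W ≤ V)
    (hst : i.c.app (op W) s = Z.presheaf.map (homOfLE hWV).op t)
    (hle : (Opens.map f.base).obj W ≤ (Opens.map g.base).obj V) :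
    Y.presheaf.map (homOfLE hle).op (g.c.app (op V) t) = f.c.app (op W) s := by
  subst h
  have h1 : (g ≫ i).c.app (op W) s = g.c.app (op ((Opens.map i.base).obj W))
      (i.c.app (op W) s) := rfl
  rw [h1, hst, c_res]
  rfl

theorem base_of_comp (g : Y ⟶ Z) (h : g ≫ i = f) (y : Y.toTopCat) :
    i.base (g.base y) = f.base y := by
  subst h
  rfl

theorem comp_gL (hi : LRSImm.IsClosedImmersion i)
    (hker : ∀ (U : Opens X.toTopCat) (s : X.presheaf.obj (op U)),
      i.c.app (op U) s = 0 → f.c.app (op U) s = 0) : gL hi hker ≫ i = f := by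
  apply hom_ext_sections
  · intro y
    exact gb_spec hi hker y
  · intro U s hle
    have hle' : (Opens.map (gb hi hker)).obj ((Opens.map i.base).obj U) ≤
        (Opens.map f.base).obj U := by
      intro y hy
      have : i.base (gb hi hker y) ∈ U := hy
      rw [gb_spec] at this
      exact this
    have hR : Rel i f (gb hi hker) (gb_spec hi hker) ((Opens.map i.base).obj U)
        (i.c.app (op U) s) (Y.presheaf.map (homOfLE hle').op (f.c.app (op U) s)) := by
      intro y hy
      refine ⟨U, s, ?_, le_rfl, ?_, ?_⟩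
      · rw [← gb_spec hi hker]
        exact hy
      · exact (res_self Z _ _).symm
      · rw [res_res, res_self]
    have h1 := Rel.unique hker (cFun_spec hi hker _ (i.c.app (op U) s)) hR
    have h2 : (gL hi hker ≫ i).c.app (op U) s =
        cFun hi hker ((Opens.map i.base).obj U) (i.c.app (op U) s) := rfl
    rw [h2, h1]
    exact (res_res Y _ _ _).trans (res_self Y _ _)

theorem unique_fac (hi : LRSImm.IsClosedImmersion i) (g g' : Y ⟶ Z) (h : g ≫ i = f)
    (h' : g' ≫ i = f) : g = g' := by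
  apply hom_ext_sections
  · intro y
    apply hi.1.injective
    rw [base_of_comp g h, base_of_comp g' h']
  · intro V t hle
    have hl := fun (y : Y.toTopCat) (hy : g'.base y ∈ V) =>
      exists_local_lift hi.1 hi.2.1 V t (g'.base y) hy
    choose W s hWV hW hst using hl
    let ι := {y : Y.toTopCat // g'.base y ∈ V}
    let U : ι → Opens Y.toTopCat := fun y => (Opens.map f.base).obj (W y.1 y.2)
    have hUV' : ∀ y : ι, U y ≤ (Opens.map g'.base).obj V := fun y =>
      le_pre i f g'.base (base_of_comp g' h') (hWV y.1 y.2)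
    have hUV : ∀ y : ι, U y ≤ (Opens.map g.base).obj V := fun y =>
      le_pre i f g.base (base_of_comp g h) (hWV y.1 y.2)
    refine Y.sheaf.eq_of_locally_eq' U ((Opens.map g'.base).obj V) (fun y => homOfLE (hUV' y))
      ?_ _ _ ?_
    · intro y hy
      refine Opens.mem_iSup.mpr ⟨⟨y, hy⟩, ?_⟩
      change f.base y ∈ W y hy
      rw [← base_of_comp g' h']
      exact hW y hy
    · intro y
      have e1 := hom_loc g h V t (W y.1 y.2) (s y.1 y.2) (hWV y.1 y.2) (hst y.1 y.2) (hUV y)
      have e2 := hom_loc g' h' V t (W y.1 y.2) (s y.1 y.2) (hWV y.1 y.2) (hst y.1 y.2) (hUV' y)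
      refine ((res_res Y _ _ _).trans e1).trans e2.symm

end final

open AlgebraicGeometry in
open CategoryTheory Opposite TopologicalSpace in
theorem result
    {Z X Y : LocallyRingedSpace.{u}} (i : Z ⟶ X) (hi : LRSImm.IsClosedImmersion i) (f : Y ⟶ X) :
    ((∃ g : Y ⟶ Z, g ≫ i = f) ↔
      ∀ (U : Opens X.toTopCat) (s : X.presheaf.obj (op U)),
        i.c.app (op U) s = 0 → f.c.app (op U) s = 0) ∧
    ∀ g g' : Y ⟶ Z, g ≫ i = f → g' ≫ i = f → g = g' := by
  refine ⟨⟨?_, fun hker => ⟨gL hi hker, comp_gL hi hker⟩⟩, fun g g' h h' => unique_fac hi g g' h h'⟩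
  rintro ⟨g, rfl⟩ U s hs
  have h1 : (g ≫ i).c.app (op U) s = g.c.app (op ((Opens.map i.base).obj U))
      (i.c.app (op U) s) := rfl
  rw [h1, hs]
  exact map_zero _

end Groth.Agent.S9507
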