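import Groth.Statements.S9508
-- import your own Groth.Agent.* helpers here

set_option autoImplicit false
universe u
open SchMor

namespace Groth.Agent.S9508

open AlgebraicGeometry CategoryTheory in
lemma aux {X : Scheme.{u}} (Z : X.Opens) :
    QuasiSeparatedSpace ↥Z ↔ ∀ U V : X.affineOpens, (U : X.Opens) ≤ Z → (V : X.Opens) ≤ Z →
      IsCompact ((U : Set X) ∩ (V : Set X)) := by
  refine (isQuasiSeparated_iff_quasiSeparatedSpace (Z : Set X) Z.2).symm.trans ?_
  constructor
  · intro H U V hU hV
    exact H _ _ hU U.1.2 U.2.isCompact hV V.1.2 V.2.isCompact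
  · intro H A B hA hAo hAc hB hBo hBc
    obtain ⟨s, hs, e1⟩ := (isCompact_and_isOpen_iff_finite_and_eq_biUnion_affineOpens (U := A)).mp
      ⟨hAc, hAo⟩
    obtain ⟨t, ht, e2⟩ := (isCompact_and_isOpen_iff_finite_and_eq_biUnion_affineOpens (U := B)).mp
      ⟨hBc, hBo⟩
    have e3 : A ∩ B = ⋃ i ∈ s, ⋃ j ∈ t, ((i : Set X) ∩ (j : Set X)) := by
      rw [e1, e2]
      simp only [Set.iUnion_inter, Set.inter_iUnion]
      ext x
      simp only [Set.mem_iUnion]
      constructor
      · rintro ⟨j, hj, i, hi, hx⟩
        exact ⟨i, hi, j, hj, hx⟩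
      · rintro ⟨i, hi, j, hj, hx⟩
        exact ⟨j, hj, i, hi, hx⟩
    rw [e3]
    refine hs.isCompact_biUnion fun i hi => ht.isCompact_biUnion fun j hj => ?_
    apply H
    · intro x hx
      apply hA
      rw [e1]
      exact Set.mem_biUnion hi hx
    · intro x hx
      apply hB
      rw [e2]
      exact Set.mem_biUnion hj hx

open AlgebraicGeometry in
open CategoryTheory in
/-- (1) ⇔ (2): A morphism of schemes f : X → S is quasi-separated if and only if, whenever two affine
opens U and V of X both lie in the preimage f⁻¹(W) of one affine open W of S, their intersection U ∩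
V is quasi-compact (equivalently, is covered by finitely many affine opens). -/
theorem result
    {X S : Scheme.{u}} (f : X ⟶ S) :
    QuasiSeparated f ↔
      ∀ (U V : X.affineOpens) (W : S.affineOpens),
        (U : X.Opens) ≤ f ⁻¹ᵁ (W : S.Opens) → (V : X.Opens) ≤ f ⁻¹ᵁ (W : S.Opens) →
          IsCompact ((U : Set X) ∩ (V : Set X)) := by
  rw [HasAffineProperty.eq_targetAffineLocally (P := @QuasiSeparated)]
  simp only [targetAffineLocally]
  constructor
  · intro H U V W hU hV
    exact (aux (f ⁻¹ᵁ W.1)).mp (H W) U V hU hV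
  · intro H W
    exact (aux (f ⁻¹ᵁ W.1)).mpr fun U V hU hV => H U V W hU hV

end Groth.Agent.S9508
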