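import Groth.Statements.S9509
-- import your own Groth.Agent.* helpers here

set_option autoImplicit false
universe u
open SchMor

namespace Groth.Agent.S9509

open AlgebraicGeometry in
open CategoryTheory in
/-- (3) ⇒ (1): Let f : X → S be a morphism of schemes. Suppose S is covered by affine opens W_i, each
preimage f⁻¹(W_i) is covered by affine opens V_{i,j}, and any two V_{i,j}, V_{i,j'} with the same
index i meet in a quasi-compact open (one covered by finitely many affine opens). Then f is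
quasi-separated. -/
theorem result
    {X S : Scheme.{u}} (f : X ⟶ S) {ι : Type u} (W : ι → S.affineOpens)
    (hW : ⨆ i, (W i : S.Opens) = ⊤) {κ : ι → Type u} (V : ∀ i, κ i → X.affineOpens)
    (hV : ∀ i, ⨆ j, (V i j : X.Opens) = f ⁻¹ᵁ (W i : S.Opens))
    (hVV : ∀ i (j j' : κ i), IsCompact ((V i j : Set X) ∩ (V i j' : Set X))) :
    QuasiSeparated f := by
  refine HasAffineProperty.of_iSup_eq_top (P := @QuasiSeparated) W hW fun i => ?_
  change QuasiSeparatedSpace ↥(f ⁻¹ᵁ (W i : S.Opens))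
  have hle : ∀ j, (V i j : X.Opens) ≤ f ⁻¹ᵁ (W i : S.Opens) := fun j => by
    rw [← hV i]; exact le_iSup (fun j => (V i j : X.Opens)) j
  refine Scheme.quasiSeparatedSpace_of_isOpenCover
    (X := (f ⁻¹ᵁ (W i : S.Opens)).toScheme)
    (fun j => (f ⁻¹ᵁ (W i : S.Opens)).ι ⁻¹ᵁ (V i j : X.Opens)) ?_ ?_ ?_
  · change ⨆ j, (f ⁻¹ᵁ (W i : S.Opens)).ι ⁻¹ᵁ (V i j : X.Opens) = ⊤
    rw [← Scheme.Hom.preimage_iSup, hV i]
    simp
  · intro j
    exact (V i j).2.preimage_of_isOpenImmersion _ (by simpa using hle j)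
  · intro j j'
    have h1 : (((f ⁻¹ᵁ (W i : S.Opens)).ι ⁻¹ᵁ (V i j : X.Opens) : (f ⁻¹ᵁ (W i : S.Opens)).toScheme.Opens) : Set _) ∩
        (((f ⁻¹ᵁ (W i : S.Opens)).ι ⁻¹ᵁ (V i j' : X.Opens) : (f ⁻¹ᵁ (W i : S.Opens)).toScheme.Opens) : Set _) =
        (f ⁻¹ᵁ (W i : S.Opens)).ι ⁻¹' ((V i j : Set X) ∩ (V i j' : Set X)) := rfl
    rw [h1]
    refine ((f ⁻¹ᵁ (W i : S.Opens)).ι.isOpenEmbedding.isInducing.isCompact_preimage_iff ?_).mpr
      (hVV i j j')
    intro x hx
    simp only [Scheme.Opens.range_ι]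
    exact hle j hx.1

end Groth.Agent.S9509
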