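import Groth.Statements.S9513
import Groth.Agent.H47.BasisSheaf

set_option autoImplicit false
universe u
open SchMor

namespace Groth.Agent.S9513

open AlgebraicGeometry in
open CategoryTheory TopologicalSpace Opposite in
/-- (1) ⇔ (3): Let X be a scheme and B the set of affine opens of X, ordered by inclusion; let F be a
presheaf of sets on B (a functor on Bᵒᵖ) and E ∈ B the empty open. Then F is isomorphic to the
restriction to B of a sheaf of sets on X if and only if (a) F(∅) is a singleton and (b) for all U ∈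
B and sections f, g of O_X over U with U = D(f) ∪ D(g), writing V = D(f), W = D(g) and V ∩ W = D(fg)
(all in B), the map F(U) → F(V) × F(W) is injective with image exactly the pairs (s, t) whose
restrictions to D(fg) agree. (The order relations V, W ≤ U and D(fg) ≤ V, W are supplied as
hypotheses; they follow from the equations.) -/
theorem result (X : Scheme.{u})
    (F : (X.affineOpens)ᵒᵖ ⥤ Type u) (E : X.affineOpens) (hE : (E : X.Opens) = ⊥) :
    (∃ G : TopCat.Sheaf (Type u) X.carrier,
        Nonempty ((Monotone.functor (f := fun U : X.affineOpens => (U : X.Opens)) (fun _ _ h => h)).op ⋙ G.1 ≅ F)) ↔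
    ((Nonempty (F.obj (op E)) ∧ Subsingleton (F.obj (op E))) ∧
      ∀ (U V W VW : X.affineOpens) (f g : Γ(X, (U : X.Opens))),
        (V : X.Opens) = X.basicOpen f → (W : X.Opens) = X.basicOpen g →
        (VW : X.Opens) = X.basicOpen (f * g) → (U : X.Opens) = (V : X.Opens) ⊔ (W : X.Opens) →
        ∀ (hV : V ≤ U) (hW : W ≤ U) (h1 : VW ≤ V) (h2 : VW ≤ W),
        Function.Injective (fun s : F.obj (op U) => (F.map (homOfLE hV).op s, F.map (homOfLE hW).op s)) ∧
        Set.range (fun s : F.obj (op U) => (F.map (homOfLE hV).op s, F.map (homOfLE hW).op s)) =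
          {p | F.map (homOfLE h1).op p.1 = F.map (homOfLE h2).op p.2}) := by
  classical
  have hbot : ∀ Z : X.affineOpens, (Z : X.Opens) = ⊥ → Z = E := fun Z hZ =>
    Subtype.ext (hZ.trans hE.symm)
  constructor
  · rintro ⟨G, ⟨e⟩⟩
    have hG : Presieve.IsSheaf (H47.BasisSheaf.J X) ((H47.BasisSheaf.incl X).op ⋙ G.1) :=
      Functor.op_comp_isSheaf_of_types (H47.BasisSheaf.incl X) (H47.BasisSheaf.J X)
        (Opens.grothendieckTopology X) G
    have hF : Presieve.IsSheaf (H47.BasisSheaf.J X) F := Presieve.isSheaf_iso _ e hG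
    refine ⟨?_, ?_⟩
    · have hmem : (⊥ : Sieve E) ∈ H47.BasisSheaf.J X E := by
        rw [H47.BasisSheaf.mem_J_iff]
        intro x hx
        rw [hE] at hx
        exact absurd hx (by simp)
      have hS := hF _ hmem
      let x : Presieve.FamilyOfElements F (⊥ : Sieve E).arrows := fun _ _ h => h.elim
      have hx : x.Compatible := fun _ _ _ _ _ _ _ h => h.elim
      obtain ⟨t, -, ht⟩ := hS x hx
      refine ⟨⟨t⟩, ⟨fun a b => ?_⟩⟩
      rw [ht a (fun _ _ h => h.elim), ht b (fun _ _ h => h.elim)]
    · intro U V W VW f g hVf hWg hVWfg hUVW hV hW h1 h2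
      have hVW : (VW : X.Opens) = (V : X.Opens) ⊓ (W : X.Opens) := by
        rw [hVWfg, X.basicOpen_mul, hVf, hWg]
      rw [← H47.BasisSheaf.isSheafFor_pairSieve_iff F hV hW h1 h2 hVW]
      apply hF
      rw [H47.BasisSheaf.mem_J_iff]
      intro x hx
      rw [hUVW] at hx
      rcases hx with hx | hx
      · exact ⟨V, homOfLE hV, Or.inl le_rfl, hx⟩
      · exact ⟨W, homOfLE hW, Or.inr le_rfl, hx⟩
  · rintro ⟨ha, hb⟩
    have ha' : H47.BasisSheaf.BotCond F := by
      intro Z hZ
      rw [hbot Z hZ]
      exact ha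
    have hF : Presieve.IsSheaf (H47.BasisSheaf.J X) F :=
      H47.BasisSheaf.isSheaf_of_conds ha' hb
    let Fs : Sheaf (H47.BasisSheaf.J X) (Type u) :=
      ⟨F, (isSheaf_iff_isSheaf_of_type _ _).mpr hF⟩
    let Φ := (H47.BasisSheaf.incl X).sheafPushforwardContinuous (Type u)
      (H47.BasisSheaf.J X) (Opens.grothendieckTopology X)
    haveI : Φ.IsEquivalence := inferInstance
    refine ⟨Φ.objPreimage Fs, ⟨?_⟩⟩
    exact (sheafToPresheaf _ _).mapIso (Φ.objObjPreimageIso Fs)

end Groth.Agent.S9513
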