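import Groth.Statements.S9516
import Groth.Agent.H36.IdealMulAffine
-- import your own Groth.Agent.* helpers here

set_option autoImplicit false
universe u
open CategoryTheory CategoryTheory.Limits AlgebraicGeometry
attribute [local instance] HasDerivedCategory.standard
open Coherent

namespace Groth.Agent.S9516

set_option linter.style.haveILetI false

open Groth.Agent.H36.IdealMul in
/-- Core of the argument over one affine open `W` of the cover: a section of `I^N G` over `W`
(with `N ≥ m + n`) is sent to `0` by `ψ` after the inclusion into `I^n G`. -/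
theorem key {X : Scheme.{u}} (F G : X.Modules) [F.IsQuasicoherent] [G.IsQuasicoherent]
    (I : X.IdealSheafData) (n m : ℕ) (ψ : (Dual3.idealMul (I ^ n)).obj G ⟶ F) (W : X.affineOpens)
    (hm : ∀ a ∈ (I.ideal W) ^ m, ∀ t : Γ((Dual3.idealMul (I ^ n)).obj G, W.1),
      a • Scheme.Modules.Hom.app ψ W.1 t = 0)
    (y : Γ(G, W.1))
    (hy : y ∈ ((I.ideal W) ^ (m + n)) • (⊤ : Submodule Γ(X, W.1) Γ(G, W.1))) :
    ∃ t' : Γ((Dual3.idealMul (I ^ n)).obj G, W.1),
      Scheme.Modules.Hom.app (Dual3.idealMulι (I ^ n) G) W.1 t' = y ∧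
        Scheme.Modules.Hom.app ψ W.1 t' = 0 := by
  have hpow : (I ^ n).ideal W = (I.ideal W) ^ n := rfl
  rw [pow_add, Submodule.mul_smul] at hy
  refine Submodule.smul_induction_on hy ?_ ?_
  · intro a ha z hz
    have hz' : z ∈ ((I ^ n).ideal W) • (⊤ : Submodule Γ(X, W.1) Γ(G, W.1)) := by
      rw [hpow]; exact hz
    obtain ⟨tz, htz⟩ := (exists_idealMulι_app_eq_iff (I ^ n) G W z).mpr hz'
    refine ⟨a • tz, ?_, ?_⟩
    · rw [Scheme.Modules.Hom.app_smul, htz]
    · rw [Scheme.Modules.Hom.app_smul]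
      exact hm a ha tz
  · rintro y₁ y₂ ⟨t₁, ht₁, h₁⟩ ⟨t₂, ht₂, h₂⟩
    exact ⟨t₁ + t₂, by rw [map_add, ht₁, ht₂], by rw [map_add, h₁, h₂, add_zero]⟩

/-- Let X be a Noetherian scheme, F a quasi-coherent O_X-module, G a coherent O_X-module and I a
quasi-coherent sheaf of ideals, with U the open complement of the closed subset cut out by I. If a
morphism ψ : I^n G → F restricts to zero on U, then ψ vanishes on I^N G for some N: there is a
morphism ι : I^N G → I^n G commuting with the inclusions into G and with ι ≫ ψ = 0. (Together with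
the surjectivity statement this says that colim_n Hom(I^n G, F) → Hom(G|_U, F|_U) is bijective.) -/
theorem result (X : Scheme.{u}) [IsNoetherian X] (F G : X.Modules)
    (hF : Coh.IsQCoh F) (hG : Coh.IsCoh G) (I : X.IdealSheafData)
    (U : X.Opens) (hU : (U : Set X) = (I.support : Set X)ᶜ) (n : ℕ)
    (ψ : (Dual3.idealMul (I ^ n)).obj G ⟶ F)
    (hψ : (Scheme.Modules.restrictFunctor U.ι).map ψ = 0) :
    ∃ (N : ℕ) (ι : (Dual3.idealMul (I ^ N)).obj G ⟶ (Dual3.idealMul (I ^ n)).obj G),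
      ι ≫ Dual3.idealMulι (I ^ n) G = Dual3.idealMulι (I ^ N) G ∧ ι ≫ ψ = 0 := by
  haveI : F.IsQuasicoherent := hF
  haveI : G.IsQuasicoherent := hG.1
  have hKq : ∀ J : X.IdealSheafData, ((Dual3.idealMul J).obj G).IsQuasicoherent :=
    fun J => Groth.Agent.H36.IdealMul.isQuasicoherent_idealMul J G
  haveI := hKq (I ^ n)
  obtain ⟨s, hs⟩ := Groth.Agent.H36.IdealMul.exists_finite_affine_cover X
  have hm : ∀ W : X.affineOpens, ∃ m : ℕ, ∀ a ∈ (I.ideal W) ^ m,
      ∀ t : Γ((Dual3.idealMul (I ^ n)).obj G, W.1),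
        a • Scheme.Modules.Hom.app ψ W.1 t = 0 := by
    intro W
    haveI : IsNoetherianRing Γ(X, W.1) := IsLocallyNoetherian.component_noetherian W
    exact Groth.Agent.H36.IdealMul.exists_pow_smul_eq_zero I U hU ψ hψ W
      (Groth.Agent.H36.IdealMul.finite_sections_idealMul (I ^ n) G hG W)
      (IsNoetherian.noetherian _)
  choose m hm using hm
  refine ⟨s.sup m + n, ?_⟩
  haveI := hKq (I ^ (s.sup m + n))
  have hpow : ∀ (k : ℕ) (W : X.affineOpens), (I ^ k).ideal W = (I.ideal W) ^ k := fun _ _ => rfl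
  have hfac : Dual3.idealMulι (I ^ (s.sup m + n)) G ≫
      Groth.Agent.H36.IdealMul.unitJ (I ^ n) G = 0 := by
    apply Groth.Agent.H36.IdealMul.hom_eq_zero_of_affine_cover _ Set.univ
      (Groth.Agent.H36.IdealMul.exists_affine_mem X)
    intro W _ t
    show Scheme.Modules.Hom.app (Groth.Agent.H36.IdealMul.unitJ (I ^ n) G) W.1
      (Scheme.Modules.Hom.app (Dual3.idealMulι (I ^ (s.sup m + n)) G) W.1 t) = 0
    rw [Groth.Agent.H36.IdealMul.unit_app_eq_zero_iff]
    have h1 := Groth.Agent.H36.IdealMul.idealMulι_app_mem (I ^ (s.sup m + n)) G W t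
    rw [hpow] at h1 ⊢
    exact Submodule.smul_mono_left (Ideal.pow_le_pow_right (Nat.le_add_left _ _)) h1
  let ι : (Dual3.idealMul (I ^ (s.sup m + n))).obj G ⟶ (Dual3.idealMul (I ^ n)).obj G :=
    kernel.lift _ (Dual3.idealMulι (I ^ (s.sup m + n)) G) hfac
  have hι : ι ≫ Dual3.idealMulι (I ^ n) G = Dual3.idealMulι (I ^ (s.sup m + n)) G :=
    kernel.lift_ι _ _ _
  refine ⟨ι, hι, ?_⟩
  apply Groth.Agent.H36.IdealMul.hom_eq_zero_of_affine_cover _ (↑s : Set X.affineOpens) hs
  intro W hW t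
  show Scheme.Modules.Hom.app ψ W.1 (Scheme.Modules.Hom.app ι W.1 t) = 0
  have hκ : Scheme.Modules.Hom.app (Dual3.idealMulι (I ^ n) G) W.1
      (Scheme.Modules.Hom.app ι W.1 t) =
      Scheme.Modules.Hom.app (Dual3.idealMulι (I ^ (s.sup m + n)) G) W.1 t := by
    rw [← hι]; rfl
  have h1 := Groth.Agent.H36.IdealMul.idealMulι_app_mem (I ^ (s.sup m + n)) G W t
  rw [hpow] at h1
  have hle : m W ≤ s.sup m := Finset.le_sup (Finset.mem_coe.mp hW)
  have h2 : Scheme.Modules.Hom.app (Dual3.idealMulι (I ^ (s.sup m + n)) G) W.1 t ∈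
      ((I.ideal W) ^ (m W + n)) • (⊤ : Submodule Γ(X, W.1) Γ(G, W.1)) :=
    Submodule.smul_mono_left (Ideal.pow_le_pow_right (Nat.add_le_add_right hle n)) h1
  obtain ⟨t', ht', h0⟩ := key F G I n (m W) ψ W (hm W) _ h2
  have hinj := Groth.Agent.H36.IdealMul.idealMulι_app_injective (I ^ n) G W.1
    (ht'.trans hκ.symm)
  rw [← hinj]
  exact h0

end Groth.Agent.S9516
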