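import Groth.Statements.S9524
import Groth.Agent.H53.ExtCoh

set_option autoImplicit false
universe u
open CategoryTheory CategoryTheory.Limits AlgebraicGeometry
attribute [local instance] HasDerivedCategory.standard
open Coherent

namespace Groth.Agent.S9524

/-- Let X be a locally Noetherian scheme and F, G coherent O_X-modules. Then the sheaf Hom_{O_X}(F, G)
is coherent. (Hom_{O_X}(F, −) is the right adjoint of F ⊗ −, under its existence binder; the
tensor-product half of the published statement is not restated here.) -/
theorem result (X : Scheme.{u}) [IsLocallyNoetherian X] (F G : X.Modules)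
    (hF : Coh.IsCoh F) (hG : Coh.IsCoh G) [DCoh.HasSheafHom F] :
    Coh.IsCoh ((DCoh.sheafHom F).obj G) := by
  haveI : ModSite.HasSheafHom (O := X.sheaf) F := Groth.Agent.H31.hasSheafHom F
  let β : DCoh.sheafHom F ≅ ModSite.sheafHom (O := X.sheaf) F :=
    ((DCoh.sheafHomAdj F).ofNatIsoLeft (Groth.Agent.H31.braidIso (O := X.sheaf) F)).rightAdjointUniq
      (ModSite.sheafHomAdj (O := X.sheaf) F)
  exact Groth.Agent.H90.QH.isCoh_of_iso (β.app G).symm
    (Groth.Agent.H53.ExtCoh.isCoh_sheafHom X F G hF hG)

end Groth.Agent.S9524
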