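import Groth.Statements.S9528
-- import your own Groth.Agent.* helpers here
import Groth.Agent.S0832
import Groth.Agent.S0835
import Groth.Agent.S0852
import Groth.Agent.S8830
import Groth.Agent.S9536
import Groth.Agent.H45.FormalKF

set_option autoImplicit false
universe u
open Formal2

namespace Groth.Agent.S9528

section SubBasics
open CategoryTheory CategoryTheory.Limits AlgebraicGeometry Opposite
open Groth.Agent.S0832 (smulMod_naturality smulFamily_comp_eq_zero_iff)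

variable {A : Type u} [CommRing A] {X : Scheme.{u}} [X.Over (Spec (CommRingCat.of A))]

theorem smulMod_add (M : X.Modules) (a b : A) :
    Formal.smulMod A M (a + b) = Formal.smulMod A M a + Formal.smulMod A M b := by
  ext U m
  change Groth.Agent.S0852.ρ U (a + b) • m =
    Groth.Agent.S0852.ρ U a • m + Groth.Agent.S0852.ρ U b • m
  rw [map_add, add_smul]

theorem smulMod_zero (M : X.Modules) : Formal.smulMod A M (0 : A) = 0 := by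
  ext U m
  change Groth.Agent.S0852.ρ U (0 : A) • m = 0
  rw [map_zero, zero_smul]

/-- The ideal of elements of `A` whose multiplication on `M` is killed by `g`. -/
def killIdeal {M N : X.Modules} (g : M ⟶ N) : Ideal A where
  carrier := {a | Formal.smulMod A M a ≫ g = 0}
  add_mem' {a b} ha hb := by
    change Formal.smulMod A M (a + b) ≫ g = 0
    rw [smulMod_add, Preadditive.add_comp, ha, hb, add_zero]
  zero_mem' := by
    change Formal.smulMod A M (0 : A) ≫ g = 0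
    rw [smulMod_zero, zero_comp]
  smul_mem' r a ha := by
    change Formal.smulMod A M (r * a) ≫ g = 0
    rw [mul_comm, Groth.Agent.S8830.smulMod_mul, Category.assoc, ha, comp_zero]

theorem mem_killIdeal {M N : X.Modules} (g : M ⟶ N) (a : A) :
    a ∈ killIdeal g ↔ Formal.smulMod A M a ≫ g = 0 := Iff.rfl

theorem smulFamily_comp_eq_zero_iff_le (L : Ideal A) {M N : X.Modules} (g : M ⟶ N) :
    Formal.smulFamily L M ≫ g = 0 ↔ L ≤ killIdeal g :=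
  smulFamily_comp_eq_zero_iff L g

variable (X) in
/-- `L·O_X ⊆ L'·O_X`, in the only form in which it is used. -/
def Sub (L L' : Ideal A) : Prop :=
  ∀ ⦃M N : X.Modules⦄ (g : M ⟶ N), Formal.smulFamily L' M ≫ g = 0 → Formal.smulFamily L M ≫ g = 0

theorem Sub.of_le {L L' : Ideal A} (h : L ≤ L') : Sub X L L' := by
  intro M N g hg
  rw [smulFamily_comp_eq_zero_iff_le] at hg ⊢
  exact h.trans hg

theorem Sub.trans {L L' L'' : Ideal A} (h : Sub X L L') (h' : Sub X L' L'') : Sub X L L'' :=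
  fun _ _ g hg => h g (h' g hg)

theorem Sub.mul {L₁ L₁' L₂ L₂' : Ideal A} (h₁ : Sub X L₁ L₁') (h₂ : Sub X L₂ L₂') :
    Sub X (L₁ * L₂) (L₁' * L₂') := by
  intro M N g hg
  rw [smulFamily_comp_eq_zero_iff_le] at hg ⊢
  rw [Ideal.mul_le]
  intro x hx w hw
  -- step 1: for `z ∈ L₂'`, `smulMod z ≫ g` kills `L₁ M`
  have s1 : ∀ z ∈ L₂', ∀ x ∈ L₁, Formal.smulMod A M x ≫ Formal.smulMod A M z ≫ g = 0 := by
    intro z hz
    have : Formal.smulFamily L₁' M ≫ Formal.smulMod A M z ≫ g = 0 := by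
      rw [smulFamily_comp_eq_zero_iff]
      intro y hy
      rw [← Category.assoc, ← Groth.Agent.S8830.smulMod_mul]
      exact hg (mul_comm y z ▸ Ideal.mul_mem_mul hy hz)
    exact (smulFamily_comp_eq_zero_iff _ _).1 (h₁ _ this)
  -- step 2: for `x ∈ L₁`, `smulMod x ≫ g` kills `L₂ M`
  have s2 : Formal.smulFamily L₂' M ≫ Formal.smulMod A M x ≫ g = 0 := by
    rw [smulFamily_comp_eq_zero_iff]
    intro z hz
    rw [← Category.assoc, ← Groth.Agent.S8830.smulMod_mul, mul_comm,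
      Groth.Agent.S8830.smulMod_mul, Category.assoc]
    exact s1 z hz x hx
  have s3 := (smulFamily_comp_eq_zero_iff _ _).1 (h₂ _ s2) w hw
  change Formal.smulMod A M (x * w) ≫ g = 0
  rw [Groth.Agent.S8830.smulMod_mul, Category.assoc]
  exact s3

theorem Sub.pow {L L' : Ideal A} (h : Sub X L L') (m : ℕ) : Sub X (L ^ m) (L' ^ m) := by
  induction m with
  | zero => rw [pow_zero, pow_zero]; exact Sub.of_le le_rfl
  | succ m ih => rw [pow_succ, pow_succ]; exact ih.mul h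

end SubBasics

section Quot
open CategoryTheory CategoryTheory.Limits AlgebraicGeometry Opposite
open Groth.Agent.S0832 (smulMod_naturality smulFamily_comp_eq_zero_iff)

variable {A : Type u} [CommRing A] {X : Scheme.{u}} [X.Over (Spec (CommRingCat.of A))]

/-- `q : M ⟶ N` presents `N` as `M / L M`. -/
def IsQuot (L : Ideal A) {M N : X.Modules} (q : M ⟶ N) : Prop :=
  ∃ h : Formal.smulFamily L M ≫ q = 0, Nonempty (IsColimit (CokernelCofork.ofπ q h))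

theorem IsQuot.w {L : Ideal A} {M N : X.Modules} {q : M ⟶ N} (hq : IsQuot L q) :
    Formal.smulFamily L M ≫ q = 0 := hq.1

theorem IsQuot.epi {L : Ideal A} {M N : X.Modules} {q : M ⟶ N} (hq : IsQuot L q) : Epi q := by
  obtain ⟨h, ⟨hc⟩⟩ := hq
  exact epi_of_isColimit_cofork hc

theorem IsQuot.desc {L : Ideal A} {M N : X.Modules} {q : M ⟶ N} (hq : IsQuot L q)
    {Z : X.Modules} (g : M ⟶ Z) (hg : Formal.smulFamily L M ≫ g = 0) : ∃ l : N ⟶ Z, q ≫ l = g := by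
  obtain ⟨h, ⟨hc⟩⟩ := hq
  obtain ⟨l, hl⟩ := CokernelCofork.IsColimit.desc' hc g hg
  exact ⟨l, hl⟩

theorem IsQuot.mk' {L : Ideal A} {M N : X.Modules} (q : M ⟶ N) [Epi q]
    (h : Formal.smulFamily L M ≫ q = 0)
    (hd : ∀ {Z : X.Modules} (g : M ⟶ Z), Formal.smulFamily L M ≫ g = 0 → ∃ l : N ⟶ Z, q ≫ l = g) :
    IsQuot L q :=
  ⟨h, ⟨CokernelCofork.IsColimit.ofπ' _ _ (fun g hg =>
    ⟨(hd g hg).choose, (hd g hg).choose_spec⟩)⟩⟩

theorem isQuot_π (L : Ideal A) (M : X.Modules) : IsQuot L (cokernel.π (Formal.smulFamily L M)) :=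
  ⟨cokernel.condition _, ⟨cokernelIsCokernel _⟩⟩

/-- Pushing the vanishing along a map. -/
theorem smulFamily_comp_of_comp {L : Ideal A} {M M' N : X.Modules} (t : M ⟶ M') (g : M' ⟶ N)
    (hg : Formal.smulFamily L M' ≫ g = 0) : Formal.smulFamily L M ≫ t ≫ g = 0 := by
  rw [smulFamily_comp_eq_zero_iff] at hg ⊢
  intro a ha
  rw [← Category.assoc, smulMod_naturality, Category.assoc, hg a ha, comp_zero]

/-- Descending the vanishing along an epimorphism. -/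
theorem smulFamily_comp_of_epi {L : Ideal A} {M M' N : X.Modules} (t : M ⟶ M') [Epi t]
    (g : M' ⟶ N) (hg : Formal.smulFamily L M ≫ t ≫ g = 0) : Formal.smulFamily L M' ≫ g = 0 := by
  rw [smulFamily_comp_eq_zero_iff] at hg ⊢
  intro a ha
  rw [← cancel_epi t, comp_zero, ← Category.assoc, ← smulMod_naturality, Category.assoc]
  exact hg a ha

/-- (QC) quotient by `L'` followed by quotient by `L ⊇ L'` is the quotient by `L`. -/
theorem IsQuot.comp {L' L : Ideal A} (hs : Sub X L' L) {M M' N : X.Modules} {t : M ⟶ M'}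
    {q : M' ⟶ N} (ht : IsQuot L' t) (hq : IsQuot L q) : IsQuot L (t ≫ q) := by
  haveI := ht.epi
  haveI := hq.epi
  refine IsQuot.mk' (t ≫ q) (smulFamily_comp_of_comp t q hq.w) (fun {Z} g hg => ?_)
  obtain ⟨g₁, hg₁⟩ := ht.desc g (hs g hg)
  have hg₁' : Formal.smulFamily L M' ≫ g₁ = 0 :=
    smulFamily_comp_of_epi t g₁ (by rw [hg₁]; exact hg)
  obtain ⟨g₂, hg₂⟩ := hq.desc g₁ hg₁'
  exact ⟨g₂, by rw [Category.assoc, hg₂, hg₁]⟩

/-- (QL) if `p` is epi and `p ≫ r` is a quotient by `L`, so is `r`. -/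
theorem IsQuot.of_comp {L : Ideal A} {M M' N : X.Modules} (p : M ⟶ M') [Epi p] {r : M' ⟶ N}
    (h : IsQuot L (p ≫ r)) : IsQuot L r := by
  haveI : Epi (p ≫ r) := h.epi
  haveI : Epi r := epi_of_epi p r
  refine IsQuot.mk' r (smulFamily_comp_of_epi p r h.w) (fun {Z} g hg => ?_)
  obtain ⟨l, hl⟩ := h.desc (p ≫ g) (smulFamily_comp_of_comp p g hg)
  refine ⟨l, ?_⟩
  rw [← cancel_epi p, ← Category.assoc]
  exact hl

/-- Two quotients of the same module by the same ideal are canonically isomorphic. -/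
theorem IsQuot.exists_iso {L : Ideal A} {M N N' : X.Modules} {q : M ⟶ N} {q' : M ⟶ N'}
    (hq : IsQuot L q) (hq' : IsQuot L q') : ∃ e : N ≅ N', q ≫ e.hom = q' := by
  haveI := hq.epi
  haveI := hq'.epi
  obtain ⟨l, hl⟩ := hq.desc q' hq'.w
  obtain ⟨l', hl'⟩ := hq'.desc q hq.w
  refine ⟨⟨l, l', ?_, ?_⟩, hl⟩
  · rw [← cancel_epi q, ← Category.assoc, hl, hl', Category.comp_id]
  · rw [← cancel_epi q', ← Category.assoc, hl', hl, Category.comp_id]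

end Quot

section Theta
open CategoryTheory CategoryTheory.Limits AlgebraicGeometry Opposite
open Groth.Agent.S0832 (smulMod_naturality smulFamily_comp_eq_zero_iff)

variable {A : Type u} [CommRing A] {X : Scheme.{u}} [X.Over (Spec (CommRingCat.of A))]
  (𝔡 : Ideal A) (ν : ℕ → ℕ) (hν : Monotone ν)

/-- The terms of the re-indexed quotient system. -/
noncomputable abbrev θobj (F : ℕᵒᵖ ⥤ X.Modules) (m : ℕ) : X.Modules :=
  Formal.modPow 𝔡 (m + 1) (F.obj (op (ν m)))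

/-- The projections onto the terms. -/
noncomputable abbrev θπ (F : ℕᵒᵖ ⥤ X.Modules) (m : ℕ) : F.obj (op (ν m)) ⟶ θobj 𝔡 ν F m :=
  Formal.modPowπ 𝔡 (m + 1) (F.obj (op (ν m)))

instance epi_θπ (F : ℕᵒᵖ ⥤ X.Modules) (m : ℕ) : Epi (θπ 𝔡 ν F m) :=
  inferInstanceAs (Epi (cokernel.π (Formal.smulFamily (𝔡 ^ (m + 1)) (F.obj (op (ν m))))))

theorem isQuot_θπ (F : ℕᵒᵖ ⥤ X.Modules) (m : ℕ) : IsQuot (𝔡 ^ (m + 1)) (θπ 𝔡 ν F m) :=
  isQuot_π _ _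

theorem θπ_w (F : ℕᵒᵖ ⥤ X.Modules) (m : ℕ) {L : Ideal A} (hL : L ≤ 𝔡 ^ (m + 1)) :
    Formal.smulFamily L (F.obj (op (ν m))) ≫ θπ 𝔡 ν F m = 0 :=
  Sub.of_le hL _ (isQuot_θπ 𝔡 ν F m).w

include hν in
theorem θtrans_w (F : ℕᵒᵖ ⥤ X.Modules) (m : ℕ) :
    Formal.smulFamily (𝔡 ^ (m + 1 + 1)) (F.obj (op (ν (m + 1)))) ≫
      F.map (homOfLE (hν (Nat.le_succ m))).op ≫ θπ 𝔡 ν F m = 0 :=
  smulFamily_comp_of_comp _ _ (θπ_w 𝔡 ν F m (Ideal.pow_le_pow_right (Nat.le_succ _)))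

/-- The transition maps. -/
noncomputable def θtrans (F : ℕᵒᵖ ⥤ X.Modules) (m : ℕ) : θobj 𝔡 ν F (m + 1) ⟶ θobj 𝔡 ν F m :=
  cokernel.desc _ (F.map (homOfLE (hν (Nat.le_succ m))).op ≫ θπ 𝔡 ν F m) (θtrans_w 𝔡 ν hν F m)

theorem θπ_trans (F : ℕᵒᵖ ⥤ X.Modules) (m : ℕ) :
    θπ 𝔡 ν F (m + 1) ≫ θtrans 𝔡 ν hν F m =
      F.map (homOfLE (hν (Nat.le_succ m))).op ≫ θπ 𝔡 ν F m :=
  cokernel.π_desc _ _ _

/-- The re-indexed quotient system. -/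
noncomputable def Θobj (F : ℕᵒᵖ ⥤ X.Modules) : ℕᵒᵖ ⥤ X.Modules :=
  Functor.ofOpSequence (X := θobj 𝔡 ν F) (θtrans 𝔡 ν hν F)

theorem Θobj_map_succ (F : ℕᵒᵖ ⥤ X.Modules) (m : ℕ) :
    (Θobj 𝔡 ν hν F).map (homOfLE (m.le_add_right 1)).op = θtrans 𝔡 ν hν F m :=
  Functor.ofOpSequence_map_homOfLE_succ _ m

theorem θmap_w {F F' : ℕᵒᵖ ⥤ X.Modules} (α : F ⟶ F') (m : ℕ) :
    Formal.smulFamily (𝔡 ^ (m + 1)) (F.obj (op (ν m))) ≫ α.app (op (ν m)) ≫ θπ 𝔡 ν F' m = 0 :=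
  smulFamily_comp_of_comp _ _ (θπ_w 𝔡 ν F' m le_rfl)

/-- The action on morphisms, termwise. -/
noncomputable def θmap {F F' : ℕᵒᵖ ⥤ X.Modules} (α : F ⟶ F') (m : ℕ) :
    θobj 𝔡 ν F m ⟶ θobj 𝔡 ν F' m :=
  cokernel.desc _ (α.app (op (ν m)) ≫ θπ 𝔡 ν F' m) (θmap_w 𝔡 ν α m)

theorem θπ_map {F F' : ℕᵒᵖ ⥤ X.Modules} (α : F ⟶ F') (m : ℕ) :
    θπ 𝔡 ν F m ≫ θmap 𝔡 ν α m = α.app (op (ν m)) ≫ θπ 𝔡 ν F' m :=
  cokernel.π_desc _ _ _

theorem θmap_trans {F F' : ℕᵒᵖ ⥤ X.Modules} (α : F ⟶ F') (m : ℕ) :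
    θtrans 𝔡 ν hν F m ≫ θmap 𝔡 ν α m = θmap 𝔡 ν α (m + 1) ≫ θtrans 𝔡 ν hν F' m := by
  rw [← cancel_epi (θπ 𝔡 ν F (m + 1)), ← Category.assoc, θπ_trans, Category.assoc, θπ_map,
    ← Category.assoc (θπ 𝔡 ν F (m + 1)), θπ_map, Category.assoc, θπ_trans, ← Category.assoc,
    ← Category.assoc, α.naturality]

/-- The action on morphisms. -/
noncomputable def Θmap {F F' : ℕᵒᵖ ⥤ X.Modules} (α : F ⟶ F') :
    Θobj 𝔡 ν hν F ⟶ Θobj 𝔡 ν hν F' :=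
  NatTrans.ofOpSequence (F := Θobj 𝔡 ν hν F) (G := Θobj 𝔡 ν hν F') (θmap 𝔡 ν α) (fun m => by
    rw [Θobj_map_succ, Θobj_map_succ]
    exact θmap_trans 𝔡 ν hν α m)

theorem Θmap_app {F F' : ℕᵒᵖ ⥤ X.Modules} (α : F ⟶ F') (m : ℕ) :
    (Θmap 𝔡 ν hν α).app (op m) = θmap 𝔡 ν α m := rfl

/-- The re-indexed quotient functor on systems. -/
noncomputable def Θ : (ℕᵒᵖ ⥤ X.Modules) ⥤ (ℕᵒᵖ ⥤ X.Modules) where
  obj := Θobj 𝔡 ν hν
  map := Θmap 𝔡 ν hν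
  map_id F := by
    apply NatTrans.ext
    funext ⟨m⟩
    change θmap 𝔡 ν (𝟙 F) m = 𝟙 _
    rw [← cancel_epi (θπ 𝔡 ν F m), θπ_map, Category.comp_id]
    exact Category.id_comp _
  map_comp {F F' F''} α β := by
    apply NatTrans.ext
    funext ⟨m⟩
    change θmap 𝔡 ν (α ≫ β) m = θmap 𝔡 ν α m ≫ θmap 𝔡 ν β m
    rw [← cancel_epi (θπ 𝔡 ν F m), θπ_map, ← Category.assoc, θπ_map, Category.assoc, θπ_map,
      ← Category.assoc]
    rfl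

end Theta

section CohPres
open CategoryTheory CategoryTheory.Limits AlgebraicGeometry Opposite

variable {A : Type u} [CommRing A] {X : Scheme.{u}} [X.Over (Spec (CommRingCat.of A))]
  (𝔠 𝔡 : Ideal A) (ν : ℕ → ℕ) (hν : Monotone ν)

theorem isQuot_of_cohFormal {F : ℕᵒᵖ ⥤ X.Modules} (hF : Formal.IsCohFormal 𝔠 F) {n m : ℕ}
    (h : n ≤ m) : IsQuot (𝔠 ^ (n + 1)) (F.map (homOfLE h).op) :=
  Groth.Agent.S0832.key' hF h

theorem isQuot_θtrans (hsub : ∀ m, Sub X (𝔠 ^ (ν m + 1)) (𝔡 ^ (m + 1)))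
    {F : ℕᵒᵖ ⥤ X.Modules} (hF : Formal.IsCohFormal 𝔠 F) (m : ℕ) :
    IsQuot (𝔡 ^ (m + 1)) (θtrans 𝔡 ν hν F m) := by
  apply IsQuot.of_comp (θπ 𝔡 ν F (m + 1))
  rw [θπ_trans]
  exact IsQuot.comp (hsub m) (isQuot_of_cohFormal 𝔠 hF _) (isQuot_θπ 𝔡 ν F m)

theorem isCohFormal_Θ (hsub : ∀ m, Sub X (𝔠 ^ (ν m + 1)) (𝔡 ^ (m + 1)))
    {F : ℕᵒᵖ ⥤ X.Modules} (hF : Formal.IsCohFormal 𝔠 F) :
    Formal.IsCohFormal 𝔡 (Θobj 𝔡 ν hν F) := by
  refine ⟨fun m => Groth.Agent.S9536.isCoh_modPow 𝔡 _ (hF.1 (ν m)) (m + 1),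
    fun m => Groth.Agent.S9536.killedBy_modPow 𝔡 _ (m + 1), fun m => ?_⟩
  obtain ⟨h, ⟨hc⟩⟩ := isQuot_θtrans 𝔠 𝔡 ν hν hsub hF m
  have e : (Θobj 𝔡 ν hν F).map (homOfLE (Nat.le_succ m)).op = θtrans 𝔡 ν hν F m :=
    Θobj_map_succ 𝔡 ν hν F m
  have h' : Formal.smulFamily (𝔡 ^ (m + 1)) ((Θobj 𝔡 ν hν F).obj (op (m + 1))) ≫
      (Θobj 𝔡 ν hν F).map (homOfLE (Nat.le_succ m)).op = 0 := by
    rw [e]; exact h
  refine ⟨h', Groth.Agent.S0835.isIso_desc_of_isColimit _ _ h' ?_⟩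
  exact IsColimit.ofIsoColimit hc (Cofork.ext (Iso.refl _) (by
    change θtrans 𝔡 ν hν F m ≫ 𝟙 _ = (Θobj 𝔡 ν hν F).map (homOfLE (Nat.le_succ m)).op
    rw [Category.comp_id, e]))

end CohPres

section Gen
open CategoryTheory CategoryTheory.Limits AlgebraicGeometry Opposite
open Groth.Agent.S0832 (map_comp_le)

variable {A : Type u} [CommRing A] {X : Scheme.{u}} [X.Over (Spec (CommRingCat.of A))]
  (𝔡 : Ideal A) (ν : ℕ → ℕ) (hν : Monotone ν)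

theorem θπ_map_add (F : ℕᵒᵖ ⥤ X.Modules) (k : ℕ) : ∀ (d : ℕ) (h : k ≤ k + d),
    θπ 𝔡 ν F (k + d) ≫ (Θobj 𝔡 ν hν F).map (homOfLE h).op =
      F.map (homOfLE (hν h)).op ≫ θπ 𝔡 ν F k := by
  intro d
  induction d with
  | zero =>
    intro h
    have e1 : (Θobj 𝔡 ν hν F).map (homOfLE h).op = 𝟙 _ := by
      rw [← (Θobj 𝔡 ν hν F).map_id]
      rfl
    have e2 : F.map (homOfLE (hν h)).op = 𝟙 _ := by
      rw [← F.map_id]
      rfl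
    exact (congrArg (θπ 𝔡 ν F (k + 0) ≫ ·) e1).trans ((Category.comp_id _).trans
      ((Category.id_comp _).symm.trans (congrArg (· ≫ θπ 𝔡 ν F k) e2.symm)))
  | succ d ih =>
    intro h
    have h1 : k ≤ k + d := Nat.le_add_right k d
    have e1 : (Θobj 𝔡 ν hν F).map (homOfLE h).op =
        θtrans 𝔡 ν hν F (k + d) ≫ (Θobj 𝔡 ν hν F).map (homOfLE h1).op := by
      rw [← Θobj_map_succ]
      exact (map_comp_le (Θobj 𝔡 ν hν F) h1 (Nat.le_succ (k + d))).symm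
    have e2 : F.map (homOfLE (hν h)).op =
        F.map (homOfLE (hν (Nat.le_succ (k + d)))).op ≫ F.map (homOfLE (hν h1)).op :=
      (map_comp_le F (hν h1) (hν (Nat.le_succ (k + d)))).symm
    have e3 : θπ 𝔡 ν F (k + (d + 1)) ≫ θtrans 𝔡 ν hν F (k + d) =
        F.map (homOfLE (hν (Nat.le_succ (k + d)))).op ≫ θπ 𝔡 ν F (k + d) :=
      θπ_trans 𝔡 ν hν F (k + d)
    exact (congrArg (θπ 𝔡 ν F (k + (d + 1)) ≫ ·) e1).trans
      ((Category.assoc _ _ _).symm.trans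
        ((congrArg (· ≫ (Θobj 𝔡 ν hν F).map (homOfLE h1).op) e3).trans
          ((Category.assoc _ _ _).trans
            ((congrArg (F.map (homOfLE (hν (Nat.le_succ (k + d)))).op ≫ ·) (ih h1)).trans
              ((Category.assoc _ _ _).symm.trans
                (congrArg (· ≫ θπ 𝔡 ν F k) e2.symm))))))

theorem θπ_map_le (F : ℕᵒᵖ ⥤ X.Modules) {k k' : ℕ} (h : k ≤ k') :
    θπ 𝔡 ν F k' ≫ (Θobj 𝔡 ν hν F).map (homOfLE h).op =
      F.map (homOfLE (hν h)).op ≫ θπ 𝔡 ν F k := by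
  obtain ⟨d, rfl⟩ := Nat.exists_eq_add_of_le h
  exact θπ_map_add 𝔡 ν hν F k d h

end Gen

section Chase
open CategoryTheory

variable {C : Type*} [Category C]

theorem chase₁ {X1 X2 X3 X4 X5 X6 X7 : C} (a : X1 ⟶ X2) (b : X2 ⟶ X3) (t : X3 ⟶ X4)
    (e : X4 ⟶ X5) (e' : X3 ⟶ X6) (s : X6 ⟶ X5) (m1 : X2 ⟶ X7) (c : X7 ⟶ X4) {Y : C}
    (a0 : Y ⟶ X7) (f1 : X1 ⟶ Y) (g : Y ⟶ X5) (g' : X1 ⟶ X6) (k : X1 ⟶ X5)
    (h1 : b ≫ t = m1 ≫ c) (h2 : a ≫ m1 = f1 ≫ a0) (h3 : (a0 ≫ c) ≫ e = g)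
    (h4 : (a ≫ b) ≫ e' = g') (h5 : f1 ≫ g = k) (h6 : g' ≫ s = k) :
    (a ≫ b) ≫ t ≫ e = (a ≫ b) ≫ e' ≫ s := by
  rw [← Category.assoc (a ≫ b) e' s, h4, h6, Category.assoc a b, ← Category.assoc b t e, h1,
    Category.assoc m1 c e, ← Category.assoc a m1, h2, Category.assoc f1 a0,
    ← Category.assoc a0 c e, h3, h5]

theorem chase₂ {X1 X2 X3 X4 X5 Y2 Y3 Y1 : C} (a0 : X1 ⟶ X2) (c : X2 ⟶ X3) (T : X3 ⟶ Y3)
    (e' : Y3 ⟶ X5) (e : X3 ⟶ X4) (αn : X4 ⟶ X5) (M : X2 ⟶ Y2) (c' : Y2 ⟶ Y3)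
    (αk : X1 ⟶ Y1) (a0' : Y1 ⟶ Y2) (g' : Y1 ⟶ X5) (g : X1 ⟶ X4)
    (h1 : c ≫ T = M ≫ c') (h2 : a0 ≫ M = αk ≫ a0') (h3 : (a0' ≫ c') ≫ e' = g')
    (h4 : (a0 ≫ c) ≫ e = g) (h5 : g ≫ αn = αk ≫ g') :
    (a0 ≫ c) ≫ T ≫ e' = (a0 ≫ c) ≫ e ≫ αn := by
  rw [← Category.assoc (a0 ≫ c) e αn, h4, h5, Category.assoc a0 c, ← Category.assoc c T e', h1,
    Category.assoc M c' e', ← Category.assoc a0 M, h2, Category.assoc αk a0',
    ← Category.assoc a0' c' e', h3]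

end Chase

section Iso
open CategoryTheory CategoryTheory.Limits AlgebraicGeometry Opposite
open Groth.Agent.S0832 (map_comp_le)

variable {A : Type u} [CommRing A] {X : Scheme.{u}} [X.Over (Spec (CommRingCat.of A))]
  (𝔠 𝔡 : Ideal A) (ν μ : ℕ → ℕ) (hν : Monotone ν) (hμ : Monotone μ)
  (hsub' : ∀ n, Sub X (𝔡 ^ (μ n + 1)) (𝔠 ^ (n + 1))) (hle : ∀ n, n ≤ ν (μ n))

/-- The composite projection onto the terms of the double quotient system. -/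
noncomputable abbrev uu (F : ℕᵒᵖ ⥤ X.Modules) (n : ℕ) :
    F.obj (op (ν (μ n))) ⟶ θobj 𝔠 μ (Θobj 𝔡 ν hν F) n :=
  θπ 𝔡 ν F (μ n) ≫ θπ 𝔠 μ (Θobj 𝔡 ν hν F) n

include hsub' in
theorem isQuot_uu (F : ℕᵒᵖ ⥤ X.Modules) (n : ℕ) : IsQuot (𝔠 ^ (n + 1)) (uu 𝔠 𝔡 ν μ hν F n) :=
  IsQuot.comp (hsub' n) (isQuot_θπ 𝔡 ν F (μ n)) (isQuot_θπ 𝔠 μ (Θobj 𝔡 ν hν F) n)

include hsub' in
theorem exists_eIso {F : ℕᵒᵖ ⥤ X.Modules} (hF : Formal.IsCohFormal 𝔠 F) (n : ℕ) :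
    ∃ e : θobj 𝔠 μ (Θobj 𝔡 ν hν F) n ≅ F.obj (op n),
      uu 𝔠 𝔡 ν μ hν F n ≫ e.hom = F.map (homOfLE (hle n)).op :=
  IsQuot.exists_iso (isQuot_uu 𝔠 𝔡 ν μ hν hsub' F n) (isQuot_of_cohFormal 𝔠 hF (hle n))

/-- The comparison isomorphisms. -/
noncomputable def eIso {F : ℕᵒᵖ ⥤ X.Modules} (hF : Formal.IsCohFormal 𝔠 F) (n : ℕ) :
    θobj 𝔠 μ (Θobj 𝔡 ν hν F) n ≅ F.obj (op n) :=
  (exists_eIso 𝔠 𝔡 ν μ hν hsub' hle hF n).choose

theorem uu_eIso {F : ℕᵒᵖ ⥤ X.Modules} (hF : Formal.IsCohFormal 𝔠 F) (n : ℕ) :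
    uu 𝔠 𝔡 ν μ hν F n ≫ (eIso 𝔠 𝔡 ν μ hν hsub' hle hF n).hom = F.map (homOfLE (hle n)).op :=
  (exists_eIso 𝔠 𝔡 ν μ hν hsub' hle hF n).choose_spec

theorem eIso_succ {F : ℕᵒᵖ ⥤ X.Modules} (hF : Formal.IsCohFormal 𝔠 F) (n : ℕ) :
    θtrans 𝔠 μ hμ (Θobj 𝔡 ν hν F) n ≫ (eIso 𝔠 𝔡 ν μ hν hsub' hle hF n).hom =
      (eIso 𝔠 𝔡 ν μ hν hsub' hle hF (n + 1)).hom ≫ F.map (homOfLE (Nat.le_succ n)).op := by
  haveI : Epi (uu 𝔠 𝔡 ν μ hν F (n + 1)) := (isQuot_uu 𝔠 𝔡 ν μ hν hsub' F (n + 1)).epi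
  rw [← cancel_epi (uu 𝔠 𝔡 ν μ hν F (n + 1))]
  exact chase₁ (θπ 𝔡 ν F (μ (n + 1))) (θπ 𝔠 μ (Θobj 𝔡 ν hν F) (n + 1))
    (θtrans 𝔠 μ hμ (Θobj 𝔡 ν hν F) n) (eIso 𝔠 𝔡 ν μ hν hsub' hle hF n).hom
    (eIso 𝔠 𝔡 ν μ hν hsub' hle hF (n + 1)).hom (F.map (homOfLE (Nat.le_succ n)).op)
    ((Θobj 𝔡 ν hν F).map (homOfLE (hμ (Nat.le_succ n))).op) (θπ 𝔠 μ (Θobj 𝔡 ν hν F) n)
    (θπ 𝔡 ν F (μ n)) (F.map (homOfLE (hν (hμ (Nat.le_succ n)))).op)
    (F.map (homOfLE (hle n)).op) (F.map (homOfLE (hle (n + 1))).op)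
    (F.map (homOfLE ((hle n).trans (hν (hμ (Nat.le_succ n))))).op)
    (θπ_trans 𝔠 μ hμ (Θobj 𝔡 ν hν F) n)
    (θπ_map_le 𝔡 ν hν F (hμ (Nat.le_succ n)))
    (uu_eIso 𝔠 𝔡 ν μ hν hsub' hle hF n)
    (uu_eIso 𝔠 𝔡 ν μ hν hsub' hle hF (n + 1))
    (map_comp_le F (hle n) (hν (hμ (Nat.le_succ n))))
    (map_comp_le F (Nat.le_succ n) (hle (n + 1)))

theorem eIso_natural {F F' : ℕᵒᵖ ⥤ X.Modules} (hF : Formal.IsCohFormal 𝔠 F)
    (hF' : Formal.IsCohFormal 𝔠 F') (α : F ⟶ F') (n : ℕ) :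
    θmap 𝔠 μ (Θmap 𝔡 ν hν α) n ≫ (eIso 𝔠 𝔡 ν μ hν hsub' hle hF' n).hom =
      (eIso 𝔠 𝔡 ν μ hν hsub' hle hF n).hom ≫ α.app (op n) := by
  haveI : Epi (uu 𝔠 𝔡 ν μ hν F n) := (isQuot_uu 𝔠 𝔡 ν μ hν hsub' F n).epi
  rw [← cancel_epi (uu 𝔠 𝔡 ν μ hν F n)]
  exact chase₂ (θπ 𝔡 ν F (μ n)) (θπ 𝔠 μ (Θobj 𝔡 ν hν F) n) (θmap 𝔠 μ (Θmap 𝔡 ν hν α) n)
    (eIso 𝔠 𝔡 ν μ hν hsub' hle hF' n).hom (eIso 𝔠 𝔡 ν μ hν hsub' hle hF n).hom (α.app (op n))
    (θmap 𝔡 ν α (μ n)) (θπ 𝔠 μ (Θobj 𝔡 ν hν F') n) (α.app (op (ν (μ n))))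
    (θπ 𝔡 ν F' (μ n)) (F'.map (homOfLE (hle n)).op) (F.map (homOfLE (hle n)).op)
    (θπ_map 𝔠 μ (Θmap 𝔡 ν hν α) n) (θπ_map 𝔡 ν α (μ n))
    (uu_eIso 𝔠 𝔡 ν μ hν hsub' hle hF' n) (uu_eIso 𝔠 𝔡 ν μ hν hsub' hle hF n)
    (α.naturality (homOfLE (hle n)).op)

end Iso

section Equiv
open CategoryTheory CategoryTheory.Limits AlgebraicGeometry Opposite

variable {A : Type u} [CommRing A] {X : Scheme.{u}} [X.Over (Spec (CommRingCat.of A))]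
  (𝔠 𝔡 : Ideal A) (ν μ : ℕ → ℕ) (hν : Monotone ν) (hμ : Monotone μ)
  (hsub : ∀ m, Sub X (𝔠 ^ (ν m + 1)) (𝔡 ^ (m + 1)))
  (hsub' : ∀ n, Sub X (𝔡 ^ (μ n + 1)) (𝔠 ^ (n + 1))) (hle : ∀ n, n ≤ ν (μ n))

/-- The double quotient system of a coherent formal module is isomorphic to it. -/
noncomputable def sysIso {F : ℕᵒᵖ ⥤ X.Modules} (hF : Formal.IsCohFormal 𝔠 F) :
    Θobj 𝔠 μ hμ (Θobj 𝔡 ν hν F) ≅ F := by
  let α : Θobj 𝔠 μ hμ (Θobj 𝔡 ν hν F) ⟶ F :=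
    NatTrans.ofOpSequence (F := Θobj 𝔠 μ hμ (Θobj 𝔡 ν hν F)) (G := F)
      (fun n => (eIso 𝔠 𝔡 ν μ hν hsub' hle hF n).hom) (fun n => by
        rw [Θobj_map_succ]
        exact eIso_succ 𝔠 𝔡 ν μ hν hμ hsub' hle hF n)
  haveI : ∀ k : ℕᵒᵖ, IsIso (α.app k) := fun k =>
    (inferInstance : IsIso (eIso 𝔠 𝔡 ν μ hν hsub' hle hF k.unop).hom)
  haveI : IsIso α := NatIso.isIso_of_isIso_app α
  exact asIso α

theorem sysIso_hom_app {F : ℕᵒᵖ ⥤ X.Modules} (hF : Formal.IsCohFormal 𝔠 F) (n : ℕ) :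
    (sysIso 𝔠 𝔡 ν μ hν hμ hsub' hle hF).hom.app (op n) =
      (eIso 𝔠 𝔡 ν μ hν hsub' hle hF n).hom := rfl

/-- The functor between categories of coherent formal modules. -/
noncomputable def Φ : Formal2.CohFormalCat 𝔠 X ⥤ Formal2.CohFormalCat 𝔡 X :=
  ObjectProperty.lift _ (ObjectProperty.ι _ ⋙ Θ 𝔡 ν hν)
    (fun F => isCohFormal_Θ 𝔠 𝔡 ν hν hsub F.property)

/-- The composite of the two functors is isomorphic to the identity. -/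
noncomputable def compIso :
    Φ 𝔠 𝔡 ν hν hsub ⋙ Φ 𝔡 𝔠 μ hμ hsub' ≅ 𝟭 (Formal2.CohFormalCat 𝔠 X) :=
  NatIso.ofComponents
    (fun F => ObjectProperty.isoMk _ (sysIso 𝔠 𝔡 ν μ hν hμ hsub' hle F.property))
    (fun {F F'} α => by
      apply ObjectProperty.hom_ext
      apply NatTrans.ext
      funext ⟨n⟩
      exact eIso_natural 𝔠 𝔡 ν μ hν hsub' hle F.property F'.property α.hom n)

end Equiv

section Main
open CategoryTheory CategoryTheory.Limits AlgebraicGeometry Opposite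

theorem main (A : Type u) [CommRing A] (I J : Ideal A)
    (X : Scheme.{u}) [X.Over (Spec (CommRingCat.of A))] [IsNoetherian X]
    (hV : (fun x : X => (X ↘ Spec (CommRingCat.of A)) x) ⁻¹' PrimeSpectrum.zeroLocus (I : Set A) =
      (fun x : X => (X ↘ Spec (CommRingCat.of A)) x) ⁻¹' PrimeSpectrum.zeroLocus (J : Set A)) :
    Nonempty (Formal2.CohFormalCat I X ≌ Formal2.CohFormalCat J X) := by
  obtain ⟨a, ha⟩ := Groth.Agent.H45.FormalKF.exists_pow_sub X I J hV.le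
  obtain ⟨b, hb⟩ := Groth.Agent.H45.FormalKF.exists_pow_sub X J I hV.ge
  have ha' : Sub X (J ^ a) I := ha
  have hb' : Sub X (I ^ b) J := hb
  obtain ⟨c, hc⟩ : ∃ c : ℕ, c = a + b + 1 := ⟨_, rfl⟩
  have hI : Sub X (I ^ c) J :=
    (Sub.of_le (Ideal.pow_le_pow_right (by omega))).trans hb'
  have hJ : Sub X (J ^ c) I :=
    (Sub.of_le (Ideal.pow_le_pow_right (by omega))).trans ha'
  let ν : ℕ → ℕ := fun m => c * (m + 1)
  have hν : Monotone ν := fun m m' h => Nat.mul_le_mul_left c (Nat.succ_le_succ h)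
  have hsub : ∀ m, Sub X (I ^ (ν m + 1)) (J ^ (m + 1)) := fun m =>
    (Sub.of_le (Ideal.pow_le_pow_right (Nat.le_succ _))).trans (by
      change Sub X (I ^ (c * (m + 1))) (J ^ (m + 1))
      rw [pow_mul]
      exact hI.pow (m + 1))
  have hsub' : ∀ m, Sub X (J ^ (ν m + 1)) (I ^ (m + 1)) := fun m =>
    (Sub.of_le (Ideal.pow_le_pow_right (Nat.le_succ _))).trans (by
      change Sub X (J ^ (c * (m + 1))) (I ^ (m + 1))
      rw [pow_mul]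
      exact hJ.pow (m + 1))
  have hc1 : 1 ≤ c := by omega
  have hle : ∀ n, n ≤ ν (ν n) := fun n => by
    change n ≤ c * (c * (n + 1) + 1)
    calc n ≤ 1 * (1 * (n + 1) + 1) := by omega
      _ ≤ c * (c * (n + 1) + 1) :=
        Nat.mul_le_mul hc1 (Nat.succ_le_succ (Nat.mul_le_mul_right _ hc1))
  exact ⟨CategoryTheory.Equivalence.mk (Φ I J ν hν hsub) (Φ J I ν hν hsub')
    (compIso I J ν ν hν hν hsub hsub' hle).symm (compIso J I ν ν hν hν hsub' hsub hle)⟩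

end Main


open CategoryTheory AlgebraicGeometry in
/-- For the ideal sheaves generated by ideals of a base ring: let X be a Noetherian scheme over Spec A
and I, J ideals of A such that the closed subsets of X lying over V(I) and over V(J) coincide (that
is, V(I·O_X) = V(J·O_X)). Then the category of coherent formal modules for I on X is equivalent to
the one for J. (The published statement treats arbitrary quasi-coherent ideal sheaves of X with the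
same vanishing locus; this row covers ideal sheaves generated by ideals of a base ring.) -/
theorem result (A : Type u) [CommRing A] (I J : Ideal A)
    (X : Scheme.{u}) [X.Over (Spec (CommRingCat.of A))] [IsNoetherian X]
    (hV : (fun x : X => (X ↘ Spec (CommRingCat.of A)) x) ⁻¹' PrimeSpectrum.zeroLocus (I : Set A) =
      (fun x : X => (X ↘ Spec (CommRingCat.of A)) x) ⁻¹' PrimeSpectrum.zeroLocus (J : Set A)) :
    Nonempty (Formal2.CohFormalCat I X ≌ Formal2.CohFormalCat J X) := by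
  exact main A I J X hV

end Groth.Agent.S9528
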