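import Groth.Statements.S9532
-- import your own Groth.Agent.* helpers here
import Groth.Agent.S9533
import Groth.Agent.H43.ARImages

set_option autoImplicit false
universe u v
open CategoryTheory CategoryTheory.Limits AlgebraicGeometry Opposite
open Algz

namespace Groth.Agent.S9532

section Cat
open CategoryTheory CategoryTheory.Limits Opposite ARSys

variable {C : Type u} [Category.{v} C] [Abelian C]

omit [Abelian C] in
theorem map_thin (F : ℕᵒᵖ ⥤ C) {j j' : ℕᵒᵖ} (φ ψ : j ⟶ j') : F.map φ = F.map ψ :=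
  congrArg F.map (Subsingleton.elim _ _)

omit [Abelian C] in
theorem map_comp_thin (F : ℕᵒᵖ ⥤ C) {j j' j'' : ℕᵒᵖ} (φ : j ⟶ j') (ψ : j' ⟶ j'') (χ : j ⟶ j'') :
    F.map φ ≫ F.map ψ = F.map χ := by
  rw [← F.map_comp]
  exact map_thin F _ _

omit [Abelian C] in
theorem map_comp_le' (F : ℕᵒᵖ ⥤ C) {l K K' : ℕ} (h₁ : l ≤ K) (h₂ : K ≤ K') (h₃ : l ≤ K') :
    F.map (homOfLE h₂).op ≫ F.map (homOfLE h₁).op = F.map (homOfLE h₃).op :=
  map_comp_thin F _ _ _

theorem isML_aux {H N : ℕᵒᵖ ⥤ C} (m : ℕ → ℕ) (hm : Monotone m) (hle : ∀ n, n ≤ m n)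
    (a' : ∀ k, H.obj (op (m k)) ⟶ N.obj (op k))
    (hnat : ∀ (l K : ℕ) (h : l ≤ K),
      a' K ≫ N.map (homOfLE h).op = H.map (homOfLE (hm h)).op ≫ a' l)
    (kk : ℕ → ℕ) (hkk : ∀ l, l ≤ kk l) (b' : ∀ l, N.obj (op (kk l)) ⟶ H.obj (op (m l)))
    (hb1 : ∀ l, a' (kk l) ≫ b' l = H.map (homOfLE (hm (hkk l))).op)
    (hb2 : ∀ l, b' l ≫ a' l = N.map (homOfLE (hkk l)).op)
    (hNepi : ∀ (l K : ℕ) (h : l ≤ K), Epi (N.map (homOfLE h).op)) (n s : ℕ)
    (hs : m (kk n) ≤ n + s) :
    imageSubobject (H.map (homOfLE (Nat.le_add_right n s)).op) =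
      imageSubobject (b' n ≫ H.map (homOfLE (hle n)).op) := by
  apply le_antisymm
  · have e : H.map (homOfLE (Nat.le_add_right n s)).op =
        (H.map (homOfLE hs).op ≫ a' (kk n)) ≫ b' n ≫ H.map (homOfLE (hle n)).op := by
      rw [Category.assoc, ← Category.assoc (a' (kk n)), hb1, map_comp_le' H (hle n) (hm (hkk n))
        ((hle n).trans (hm (hkk n))), map_comp_le' H _ hs (Nat.le_add_right n s)]
    rw [e]
    exact imageSubobject_comp_le _ _
  · have hK1 : kk n ≤ max (kk n) (n + s) := le_max_left _ _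
    have hK2 : n + s ≤ max (kk n) (n + s) := le_max_right _ _
    have hKm : n + s ≤ m (max (kk n) (n + s)) := hK2.trans (hle _)
    haveI : Epi (N.map (homOfLE (hK1.trans (hkk (max (kk n) (n + s))))).op) := hNepi _ _ _
    refine Groth.Agent.H43.image_le_of_refinement (b' n ≫ H.map (homOfLE (hle n)).op)
      (H.map (homOfLE (Nat.le_add_right n s)).op)
      (N.map (homOfLE (hK1.trans (hkk (max (kk n) (n + s))))).op)
      (b' (max (kk n) (n + s)) ≫ H.map (homOfLE hKm).op) ?_
    rw [← map_comp_le' N hK1 (hkk (max (kk n) (n + s))) (hK1.trans (hkk _)), ← hb2,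
      Category.assoc, Category.assoc, ← Category.assoc (a' _), hnat, Category.assoc,
      ← Category.assoc (a' (kk n)), hb1, Category.assoc,
      map_comp_le' H (hle n) (hm (hkk n)) ((hle n).trans (hm (hkk n))),
      map_comp_le' H ((hle n).trans (hm (hkk n))) (hm hK1)
        (((hle n).trans (hm (hkk n))).trans (hm hK1)),
      map_comp_le' H (Nat.le_add_right n s) hKm (((hle n).trans (hm (hkk n))).trans (hm hK1))]

/-- A system pro-isomorphic to a strict system is Mittag-Leffler. -/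
theorem isML_of_proIso {H N : ℕᵒᵖ ⥤ C} (hN : ∀ K, Epi (N.map (homOfLE (Nat.le_succ K)).op))
    (h : Algz.IsProIsomorphic H N) : ARSys.IsML H := by
  obtain ⟨m, hm, hle, a, ha⟩ := h
  choose kk hkk bb hb1 hb2 using ha
  -- all transition maps of `N` are epi
  have hNepi : ∀ (l K : ℕ) (h : l ≤ K), Epi (N.map (homOfLE h).op) := by
    intro l K h
    obtain ⟨d, rfl⟩ := Nat.exists_eq_add_of_le h
    induction d with
    | zero =>
      have : N.map (homOfLE h).op = 𝟙 _ := by
        rw [← N.map_id]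
        exact map_thin N _ _
      rw [this]
      infer_instance
    | succ d ih =>
      have e : N.map (homOfLE h).op = N.map (homOfLE (Nat.le_succ (l + d))).op ≫
          N.map (homOfLE (Nat.le_add_right l d)).op := (map_comp_le' N _ _ _).symm
      rw [e]
      haveI := ih (Nat.le_add_right l d)
      haveI := hN (l + d)
      exact epi_comp _ _
  intro n
  have key := isML_aux m hm hle (fun k => a.app (op k))
    (fun l K h => (a.naturality (homOfLE h).op).symm) kk hkk bb hb1 hb2 hNepi n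
  refine ⟨m (kk n), fun s hs => ?_⟩
  exact (key s (hs.trans (Nat.le_add_left _ _))).trans
    (key (m (kk n)) (Nat.le_add_left _ _)).symm

end Cat

section Main
open CategoryTheory CategoryTheory.Limits AlgebraicGeometry Opposite

theorem main (A : Type u) [CommRing A] [IsNoetherianRing A] (I : Ideal A)
    (U : (Spec (CommRingCat.of A)).Opens) (G : ℕᵒᵖ ⥤ (U : Scheme.{u}).Modules)
    (h : Algz.CanonicallyExtends A I U G) : ARSys.IsML (Algz.sectMod A U G) := by
  obtain ⟨G', hG', hpro⟩ := h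
  have h1 : Algz.IsProIsomorphic
      (Algz.sectSys A U G ⋙ moduleSpecΓFunctor (R := CommRingCat.of A))
      (G' ⋙ moduleSpecΓFunctor (R := CommRingCat.of A)) :=
    Groth.Agent.S9531.isProIsomorphic_map _ hpro
  let e : Algz.sectSys A U G ⋙ moduleSpecΓFunctor (R := CommRingCat.of A) ≅ Algz.sectMod A U G :=
    Functor.associator _ _ _ ≪≫
      Functor.isoWhiskerLeft (Algz.sectMod A U G)
        (tilde.toTildeΓNatIso (R := CommRingCat.of A)).symm ≪≫
      Functor.rightUnitor _
  have h2 := Groth.Agent.S9531.isProIsomorphic_of_iso_left e h1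
  refine isML_of_proIso (fun K => ?_) h2
  exact (ModuleCat.epi_iff_surjective _).2 (Groth.Agent.S9533.hN1 I G' hG' K)

end Main


/-- Let A be a Noetherian ring, I ⊆ 𝔞 ideals, U = Spec A ∖ V(𝔞), and let (F_n) belong to Coh(U, I O_U).
Suppose (F_n) admits a canonical extension to Spec A; then the inverse system of A-modules n ↦
H^0(U, F_n) satisfies the Mittag-Leffler condition. -/
theorem result (A : Type u) [CommRing A] [IsNoetherianRing A] (I 𝔞 : Ideal A) (hI𝔞 : I ≤ 𝔞)
    (G : ℕᵒᵖ ⥤ (↑(LocCoh.puncturedOpen A 𝔞) : Scheme.{u}).Modules) (hG : Formal.IsCohFormal I G)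
    (h : Algz.CanonicallyExtends A I (LocCoh.puncturedOpen A 𝔞) G) :
    ARSys.IsML (Algz.sectMod A (LocCoh.puncturedOpen A 𝔞) G) := by
  exact main A I (LocCoh.puncturedOpen A 𝔞) G h

end Groth.Agent.S9532
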