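import Groth.Statements.S9538
-- import your own Groth.Agent.* helpers here
import Groth.Agent.S9531
import Groth.Agent.S0852
import Groth.Agent.H8.FlatBC

set_option autoImplicit false
universe u
open CategoryTheory CategoryTheory.Limits AlgebraicGeometry Opposite
open Algz

namespace Groth.Agent.S9538

section BaseRing
open CategoryTheory CategoryTheory.Limits AlgebraicGeometry Opposite

variable {A A' : Type u} [CommRing A] [CommRing A'] (φ : A →+* A') {X : Scheme.{u}}

theorem toGlobal_comp (f : X ⟶ Spec (CommRingCat.of A')) (a : A) :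
    Coh.toGlobal (f ≫ Spec.map (CommRingCat.ofHom φ)) a = Coh.toGlobal f (φ a) := by
  have h := Scheme.ΓSpecIso_inv_naturality (CommRingCat.ofHom φ)
  have h2 := congrArg (fun ψ => (ψ ≫ f.appTop).hom a) h
  exact h2.symm

theorem smulMod_base (f : X ⟶ Spec (CommRingCat.of A')) (M : X.Modules) (a : A) :
    @Formal.smulMod A _ X ⟨f ≫ Spec.map (CommRingCat.ofHom φ)⟩ M a =
      @Formal.smulMod A' _ X ⟨f⟩ M (φ a) :=
  congrArg (Formal.smulModΓ M) (toGlobal_comp φ f a)

theorem comp_eq_zero_map_iff (f : X ⟶ Spec (CommRingCat.of A')) (J : Ideal A) {M N : X.Modules}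
    (g : M ⟶ N) :
    (∀ a' ∈ J.map φ, @Formal.smulMod A' _ X ⟨f⟩ M a' ≫ g = 0) ↔
      (∀ a ∈ J, @Formal.smulMod A _ X ⟨f ≫ Spec.map (CommRingCat.ofHom φ)⟩ M a ≫ g = 0) := by
  letI : X.Over (Spec (CommRingCat.of A')) := ⟨f⟩
  constructor
  · intro h a ha
    rw [smulMod_base]
    exact h _ (Ideal.mem_map_of_mem φ ha)
  · intro h a' ha'
    refine Groth.Agent.S0852.smulMod_comp_eq_zero_of_span g (fun a : J => φ (a : A))
      (fun a => ?_) ?_
    · rw [← smulMod_base]
      exact h a a.2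
    · have : Set.range (fun a : J => φ (a : A)) = φ '' (J : Set A) := by
        ext x
        constructor
        · rintro ⟨a, rfl⟩
          exact ⟨a, a.2, rfl⟩
        · rintro ⟨a, ha, rfl⟩
          exact ⟨⟨a, ha⟩, rfl⟩
      rw [this]
      exact ha'

theorem smulFamily_comp_eq_zero_map_iff (f : X ⟶ Spec (CommRingCat.of A')) (J : Ideal A)
    {M N : X.Modules} (g : M ⟶ N) :
    @Formal.smulFamily A' _ X ⟨f⟩ (J.map φ) M ≫ g = 0 ↔
      @Formal.smulFamily A _ X ⟨f ≫ Spec.map (CommRingCat.ofHom φ)⟩ J M ≫ g = 0 := by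
  rw [@Groth.Agent.S0832.smulFamily_comp_eq_zero_iff A' _ X ⟨f⟩,
    @Groth.Agent.S0832.smulFamily_comp_eq_zero_iff A _ X ⟨f ≫ Spec.map (CommRingCat.ofHom φ)⟩]
  exact comp_eq_zero_map_iff φ f J g

theorem killedBy_map (f : X ⟶ Spec (CommRingCat.of A')) (J : Ideal A) {M : X.Modules}
    (h : @Formal.KilledBy A _ X ⟨f ≫ Spec.map (CommRingCat.ofHom φ)⟩ J M) :
    @Formal.KilledBy A' _ X ⟨f⟩ (J.map φ) M := by
  intro a' ha'
  have := (comp_eq_zero_map_iff φ f J (𝟙 M)).2 (fun a ha => by rw [h a ha, zero_comp]) a' ha'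
  rwa [Category.comp_id] at this

theorem isColimit_of_same_kill {C : Type*} [Category C] [HasZeroMorphisms C] {K K' M N : C}
    (s : K ⟶ M) (s' : K' ⟶ M) (hk : ∀ {Z : C} (g : M ⟶ Z), s ≫ g = 0 ↔ s' ≫ g = 0)
    (t : M ⟶ N) (h : s ≫ t = 0) (hc : IsColimit (CokernelCofork.ofπ t h)) :
    Nonempty (IsColimit (CokernelCofork.ofπ t ((hk t).1 h))) := by
  haveI : Epi t := epi_of_isColimit_cofork hc
  refine ⟨CokernelCofork.IsColimit.ofπ' _ _ (fun {Z} g hg => ?_)⟩
  exact ⟨hc.desc (CokernelCofork.ofπ g ((hk g).2 hg)),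
    hc.fac (CokernelCofork.ofπ g ((hk g).2 hg)) WalkingParallelPair.one⟩

theorem isCohFormal_map (f : X ⟶ Spec (CommRingCat.of A')) (I : Ideal A)
    (G : ℕᵒᵖ ⥤ X.Modules)
    (hG : @Formal.IsCohFormal A _ X ⟨f ≫ Spec.map (CommRingCat.ofHom φ)⟩ I G) :
    @Formal.IsCohFormal A' _ X ⟨f⟩ (I.map φ) G := by
  refine ⟨hG.1, fun n => ?_, fun n => ?_⟩
  · rw [← Ideal.map_pow]
    exact killedBy_map φ f _ (hG.2.1 n)
  · obtain ⟨h, hi⟩ := hG.2.2 n
    obtain ⟨hc⟩ := @Groth.Agent.S0835.isColimit_of_isIso_desc _ _ _ _ _ _ _ _ _ h hi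
    obtain ⟨hc'⟩ := isColimit_of_same_kill
      (@Formal.smulFamily A _ X ⟨f ≫ Spec.map (CommRingCat.ofHom φ)⟩ (I ^ (n + 1))
        (G.obj (op (n + 1))))
      (@Formal.smulFamily A' _ X ⟨f⟩ ((I ^ (n + 1)).map φ) (G.obj (op (n + 1))))
      (fun g => (smulFamily_comp_eq_zero_map_iff φ f (I ^ (n + 1)) g).symm) _ h hc
    have e : (I ^ (n + 1)).map φ = (I.map φ) ^ (n + 1) := Ideal.map_pow _ _ _
    have key : ∀ J' : Ideal A', J' = (I ^ (n + 1)).map φ →
        ∃ h' : @Formal.smulFamily A' _ X ⟨f⟩ J' (G.obj (op (n + 1))) ≫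
          G.map (homOfLE (Nat.le_succ n)).op = 0, IsIso (cokernel.desc _ _ h') := by
      intro J' hJ'
      subst hJ'
      exact ⟨_, Groth.Agent.S0835.isIso_desc_of_isColimit _ _ _ hc'⟩
    exact key _ e.symm

theorem isCohFormal_map' (f : X ⟶ Spec (CommRingCat.of A')) (f₀ : X ⟶ Spec (CommRingCat.of A))
    (hf : f ≫ Spec.map (CommRingCat.ofHom φ) = f₀) (I : Ideal A)
    (G : ℕᵒᵖ ⥤ X.Modules) (hG : @Formal.IsCohFormal A _ X ⟨f₀⟩ I G) :
    @Formal.IsCohFormal A' _ X ⟨f⟩ (I.map φ) G := by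
  subst hf
  exact isCohFormal_map φ f I G hG

end BaseRing

section Nat
open CategoryTheory CategoryTheory.Limits AlgebraicGeometry Opposite
open AlgebraicGeometry.Scheme.Modules Groth.Agent.H8.AffBC

variable {X S X' S' : Scheme.{u}} (f : X ⟶ S) (g : S' ⟶ S) (g' : X' ⟶ X) (f' : X' ⟶ S')
  (hw : g' ≫ f = f' ≫ g)

/- copied from helper8's `H8/FpqcPushInv` (to avoid its heavy imports) -/
lemma vMap_naturality {F₁ F₂ : X.Modules} (φ : F₁ ⟶ F₂) :
    (Scheme.Modules.pushforward f).map φ ≫ vMap f g g' f' hw F₂ =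
      vMap f g g' f' hw F₁ ≫ (Scheme.Modules.pushforward g).map
        ((Scheme.Modules.pushforward f').map ((Scheme.Modules.pullback g').map φ)) := by
  unfold vMap
  have h1 := (pullbackPushforwardAdjunction g').unit.naturality φ
  simp only [Functor.id_obj, Functor.id_map, Functor.comp_obj, Functor.comp_map] at h1
  have h2 := (pushforwardComp g' f).hom.naturality ((Scheme.Modules.pullback g').map φ)
  have h3 := (pushforwardCongr hw).hom.naturality ((Scheme.Modules.pullback g').map φ)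
  have h4 := (pushforwardComp f' g).inv.naturality ((Scheme.Modules.pullback g').map φ)
  simp only [Functor.comp_map] at h2 h4
  rw [← Functor.map_comp_assoc, h1, Functor.map_comp_assoc]
  simp only [Category.assoc]
  rw [reassoc_of% h2, reassoc_of% h3, h4]

lemma uMap_naturality {F₁ F₂ : X.Modules} (φ : F₁ ⟶ F₂) :
    (Scheme.Modules.pullback g).map ((Scheme.Modules.pushforward f).map φ) ≫
        uMap f g g' f' hw F₂ =
      uMap f g g' f' hw F₁ ≫
        (Scheme.Modules.pushforward f').map ((Scheme.Modules.pullback g').map φ) := by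
  unfold uMap
  rw [← Adjunction.homEquiv_naturality_left_symm, vMap_naturality,
    Adjunction.homEquiv_naturality_right_symm]

end Nat

section Sys
open CategoryTheory CategoryTheory.Limits AlgebraicGeometry Opposite

/-- The counit `(Γ(H_n))~ ⟶ H_n` as a morphism of systems. -/
noncomputable def counitSys (R : CommRingCat.{u}) (H : ℕᵒᵖ ⥤ (Spec R).Modules) :
    (H ⋙ moduleSpecΓFunctor (R := R)) ⋙ tilde.functor R ⟶ H where
  app n := (Scheme.Modules.fromTildeΓNatTrans (R := R)).app (H.obj n)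
  naturality _ _ g := (Scheme.Modules.fromTildeΓNatTrans (R := R)).naturality (H.map g)

theorem isIso_counitSys (R : CommRingCat.{u}) (H : ℕᵒᵖ ⥤ (Spec R).Modules)
    (hH : ∀ n, (H.obj n).IsQuasicoherent) : IsIso (counitSys R H) := by
  haveI : ∀ n, IsIso ((counitSys R H).app n) := fun n =>
    @Scheme.Modules.isIso_fromTildeΓ_of_isQuasicoherent R (H.obj n) (hH n)
  exact NatIso.isIso_of_isIso_app _

end Sys

section Geo
open CategoryTheory CategoryTheory.Limits AlgebraicGeometry Opposite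
open Groth.Agent.H8.AffBC

variable (A : Type u) [CommRing A] [IsNoetherianRing A] (A' : Type u) [CommRing A'] [Algebra A A']
  [Module.Flat A A'] (U : (Spec (CommRingCat.of A)).Opens)

instance flat_specMap : Flat (Spec.map (CommRingCat.ofHom (algebraMap A A'))) := by
  rw [HasRingHomProperty.Spec_iff (P := @Flat)]
  exact (RingHom.flat_algebraMap_iff).2 inferInstance

/-- The base change maps as a morphism of systems. -/
noncomputable def bcSys (G : ℕᵒᵖ ⥤ (U : Scheme.{u}).Modules) :
    (G ⋙ Scheme.Modules.pushforward U.ι) ⋙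
        Scheme.Modules.pullback (Spec.map (CommRingCat.ofHom (algebraMap A A'))) ⟶
      (G ⋙ Scheme.Modules.pullback
        (Spec.map (CommRingCat.ofHom (algebraMap A A')) ∣_ U)) ⋙
        Scheme.Modules.pushforward
          (Spec.map (CommRingCat.ofHom (algebraMap A A')) ⁻¹ᵁ U).ι where
  app n := uMap U.ι (Spec.map (CommRingCat.ofHom (algebraMap A A')))
    (Spec.map (CommRingCat.ofHom (algebraMap A A')) ∣_ U)
    (Spec.map (CommRingCat.ofHom (algebraMap A A')) ⁻¹ᵁ U).ι
    (isPullback_morphismRestrict _ U).w (G.obj n)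
  naturality _ _ g := uMap_naturality U.ι (Spec.map (CommRingCat.ofHom (algebraMap A A')))
    (Spec.map (CommRingCat.ofHom (algebraMap A A')) ∣_ U)
    (Spec.map (CommRingCat.ofHom (algebraMap A A')) ⁻¹ᵁ U).ι
    (isPullback_morphismRestrict _ U).w (G.map g)

theorem main (I : Ideal A) (G : ℕᵒᵖ ⥤ (U : Scheme.{u}).Modules)
    (hG : ∀ n, (G.obj n).IsQuasicoherent)
    (h : Algz.CanonicallyExtends A I U G) :
    Algz.CanonicallyExtends A' (I.map (algebraMap A A'))
      (Spec.map (CommRingCat.ofHom (algebraMap A A')) ⁻¹ᵁ U)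
      (G ⋙ Scheme.Modules.pullback (Spec.map (CommRingCat.ofHom (algebraMap A A')) ∣_ U)) := by
  obtain ⟨G'', hG'', hpro⟩ := h
  refine ⟨G'' ⋙ Scheme.Modules.pullback (Spec.map (CommRingCat.ofHom (algebraMap A A'))), ?_, ?_⟩
  · have h1 := @Groth.Agent.S9531.isCohFormal_pullback A _ (Spec (CommRingCat.of A'))
      (Spec (CommRingCat.of A)) ⟨Spec.map (CommRingCat.ofHom (algebraMap A A'))⟩ ⟨𝟙 _⟩ I
      (Spec.map (CommRingCat.ofHom (algebraMap A A'))) (Category.comp_id _) G'' hG''
    exact isCohFormal_map' (algebraMap A A') (𝟙 _) _ (Category.id_comp _) I _ h1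
  · have hpb := isPullback_morphismRestrict (Spec.map (CommRingCat.ofHom (algebraMap A A'))) U
    haveI : QuasiCompact (Spec.map (CommRingCat.ofHom (algebraMap A A')) ⁻¹ᵁ U).ι :=
      MorphismProperty.of_isPullback hpb inferInstance
    have hq1 : ∀ n, ((G ⋙ Scheme.Modules.pushforward U.ι).obj n).IsQuasicoherent := by
      intro n
      haveI := hG n
      exact Groth.Agent.H8.isQuasicoherent_pushforward U.ι (G.obj n)
    have hq2 : ∀ n, (((G ⋙ Scheme.Modules.pullback
        (Spec.map (CommRingCat.ofHom (algebraMap A A')) ∣_ U)) ⋙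
        Scheme.Modules.pushforward
          (Spec.map (CommRingCat.ofHom (algebraMap A A')) ⁻¹ᵁ U).ι).obj n).IsQuasicoherent := by
      intro n
      haveI := hG n
      haveI : ((Scheme.Modules.pullback
          (Spec.map (CommRingCat.ofHom (algebraMap A A')) ∣_ U)).obj (G.obj n)).IsQuasicoherent :=
        Groth.Agent.H8.isQuasicoherent_pullback _ (G.obj n)
      exact Groth.Agent.H8.isQuasicoherent_pushforward
        (Spec.map (CommRingCat.ofHom (algebraMap A A')) ⁻¹ᵁ U).ι
        ((Scheme.Modules.pullback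
          (Spec.map (CommRingCat.ofHom (algebraMap A A')) ∣_ U)).obj (G.obj n))
    haveI hc := isIso_counitSys (CommRingCat.of A) (G ⋙ Scheme.Modules.pushforward U.ι) hq1
    haveI ha := isIso_counitSys (CommRingCat.of A') ((G ⋙ Scheme.Modules.pullback
        (Spec.map (CommRingCat.ofHom (algebraMap A A')) ∣_ U)) ⋙
        Scheme.Modules.pushforward
          (Spec.map (CommRingCat.ofHom (algebraMap A A')) ⁻¹ᵁ U).ι) hq2
    haveI hb : IsIso (bcSys A A' U G) := by
      haveI : ∀ n, IsIso ((bcSys A A' U G).app n) := by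
        intro n
        haveI := hG n
        exact Groth.Agent.H8.FlatBC.isIso_uMap_of_flat hpb (G.obj n)
      exact NatIso.isIso_of_isIso_app _
    have e : Algz.sectSys A U G ⋙
          Scheme.Modules.pullback (Spec.map (CommRingCat.ofHom (algebraMap A A'))) ≅
        Algz.sectSys A' (Spec.map (CommRingCat.ofHom (algebraMap A A')) ⁻¹ᵁ U)
          (G ⋙ Scheme.Modules.pullback (Spec.map (CommRingCat.ofHom (algebraMap A A')) ∣_ U)) :=
      (Functor.isoWhiskerRight (asIso (counitSys (CommRingCat.of A)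
          (G ⋙ Scheme.Modules.pushforward U.ι)))
        (Scheme.Modules.pullback (Spec.map (CommRingCat.ofHom (algebraMap A A'))))) ≪≫
      asIso (bcSys A A' U G) ≪≫
      (asIso (counitSys (CommRingCat.of A') ((G ⋙ Scheme.Modules.pullback
        (Spec.map (CommRingCat.ofHom (algebraMap A A')) ∣_ U)) ⋙
        Scheme.Modules.pushforward
          (Spec.map (CommRingCat.ofHom (algebraMap A A')) ⁻¹ᵁ U).ι))).symm
    exact Groth.Agent.S9531.isProIsomorphic_of_iso_left e
      (Groth.Agent.S9531.isProIsomorphic_map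
        (Scheme.Modules.pullback (Spec.map (CommRingCat.ofHom (algebraMap A A')))) hpro)

end Geo


/-- Let A be a Noetherian ring, I ⊆ 𝔞 ideals, U = Spec A ∖ V(𝔞), (F_n) an object of Coh(U, I O_U), A →
A' a flat ring map with f : Spec A' → Spec A, U' the inverse image of U, and (F'_n) the pullback of
(F_n) along the restriction of f over U. If (F_n) canonically extends to Spec A, then (F'_n)
canonically extends to Spec A' for the ideal I A'. (The second assertion, that the canonical
extension pulls back to the canonical extension, is not stated.) -/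
theorem result (A : Type u) [CommRing A] [IsNoetherianRing A] (I 𝔞 : Ideal A) (hI𝔞 : I ≤ 𝔞)
    (G : ℕᵒᵖ ⥤ (↑(LocCoh.puncturedOpen A 𝔞) : Scheme.{u}).Modules) (hG : Formal.IsCohFormal I G)
    (A' : Type u) [CommRing A'] [Algebra A A'] [Module.Flat A A']
    (h : Algz.CanonicallyExtends A I (LocCoh.puncturedOpen A 𝔞) G) :
    Algz.CanonicallyExtends A' (I.map (algebraMap A A')) (Spec.map (CommRingCat.ofHom (algebraMap A A')) ⁻¹ᵁ (LocCoh.puncturedOpen A 𝔞))
      (G ⋙ Scheme.Modules.pullback (morphismRestrict (Spec.map (CommRingCat.ofHom (algebraMap A A'))) (LocCoh.puncturedOpen A 𝔞))) := by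
  exact main A A' (LocCoh.puncturedOpen A 𝔞) I G (fun n => (hG.1 n.unop).1) h

end Groth.Agent.S9538
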