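import Groth.Statements.S9539
-- import your own Groth.Agent.* helpers here
import Groth.Agent.S9538
import Groth.Agent.S9535
import Groth.Agent.S9534
import Groth.Agent.H90.QCohHom
import Groth.Agent.Lead.CompleteNoetherian
import Groth.Agent.H39.PullTrack5
import Groth.Agent.H8.IsoCover
import Groth.Agent.H8.AffBC

set_option autoImplicit false
universe u
open CategoryTheory CategoryTheory.Limits AlgebraicGeometry Opposite
open Algz

namespace Groth.Agent.S9539

section Fwd
open CategoryTheory CategoryTheory.Limits AlgebraicGeometry Opposite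

/-- `f^*` followed by restriction to `f⁻¹ U` is restriction to `U` followed by `(f|_U)^*`. -/
noncomputable def restrictPullbackIso {X Y : Scheme.{u}} (f : X ⟶ Y) (U : Y.Opens) :
    Scheme.Modules.pullback f ⋙ Scheme.Modules.restrictFunctor (f ⁻¹ᵁ U).ι ≅
      Scheme.Modules.restrictFunctor U.ι ⋙ Scheme.Modules.pullback (f ∣_ U) :=
  Functor.isoWhiskerLeft _ (Scheme.Modules.restrictFunctorIsoPullback (f ⁻¹ᵁ U).ι) ≪≫
  Scheme.Modules.pullbackComp (f ⁻¹ᵁ U).ι f ≪≫
  Scheme.Modules.pullbackCongr (isPullback_morphismRestrict f U).w.symm ≪≫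
  (Scheme.Modules.pullbackComp (f ∣_ U) U.ι).symm ≪≫
  Functor.isoWhiskerRight (Scheme.Modules.restrictFunctorIsoPullback U.ι).symm _

variable (A : Type u) [CommRing A] (A' : Type u) [CommRing A'] [Algebra A A']
  (U : (Spec (CommRingCat.of A)).Opens) (I : Ideal A)

theorem extends_baseChange (G : ℕᵒᵖ ⥤ (U : Scheme.{u}).Modules)
    (h : @Algz.Extends A _ (Spec (CommRingCat.of A)) ⟨𝟙 (Spec (CommRingCat.of A))⟩ I U G) :
    @Algz.Extends A' _ (Spec (CommRingCat.of A')) ⟨𝟙 (Spec (CommRingCat.of A'))⟩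
      (I.map (algebraMap A A')) (Spec.map (CommRingCat.ofHom (algebraMap A A')) ⁻¹ᵁ U)
      (G ⋙ Scheme.Modules.pullback (Spec.map (CommRingCat.ofHom (algebraMap A A')) ∣_ U)) := by
  obtain ⟨G'', hG'', ⟨e⟩⟩ := h
  refine ⟨G'' ⋙ Scheme.Modules.pullback (Spec.map (CommRingCat.ofHom (algebraMap A A'))), ?_, ⟨?_⟩⟩
  · have h1 := @Groth.Agent.S9531.isCohFormal_pullback A _ (Spec (CommRingCat.of A'))
      (Spec (CommRingCat.of A)) ⟨Spec.map (CommRingCat.ofHom (algebraMap A A'))⟩ ⟨𝟙 _⟩ I
      (Spec.map (CommRingCat.ofHom (algebraMap A A'))) (Category.comp_id _) G'' hG''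
    exact Groth.Agent.S9538.isCohFormal_map' (algebraMap A A') (𝟙 _) _ (Category.id_comp _) I _ h1
  · exact Functor.isoWhiskerLeft G''
      (restrictPullbackIso (Spec.map (CommRingCat.ofHom (algebraMap A A'))) U) ≪≫
      Functor.isoWhiskerRight e
        (Scheme.Modules.pullback (Spec.map (CommRingCat.ofHom (algebraMap A A')) ∣_ U))

end Fwd

section RingLevel
open TensorProduct

variable {R S : Type u} [CommRing R] [CommRing S] [Algebra R S] (K : Ideal R)
  {M : Type u} [AddCommGroup M] [Module R M]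

theorem tmul_eq_zero_of_mem_map (hM : ∀ k ∈ K, ∀ m : M, k • m = 0)
    {d : S} (hd : d ∈ K.map (algebraMap R S)) (m : M) : d ⊗ₜ[R] m = 0 := by
  induction hd using Submodule.span_induction generalizing m with
  | mem x hx =>
    obtain ⟨k, hk, rfl⟩ := hx
    rw [Algebra.algebraMap_eq_smul_one, TensorProduct.smul_tmul, hM k hk m, tmul_zero]
  | zero => exact zero_tmul _ _
  | add x y _ _ hx hy => rw [add_tmul, hx, hy, add_zero]
  | smul c x _ hx =>
    have : (c • x) ⊗ₜ[R] m = c • (x ⊗ₜ[R] m) := (TensorProduct.smul_tmul' c x m).symm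
    rw [this, hx, smul_zero]

theorem one_tmul_surjective (hM : ∀ k ∈ K, ∀ m : M, k • m = 0)
    (h1 : ∀ s : S, ∃ r : R, s - algebraMap R S r ∈ K.map (algebraMap R S)) :
    Function.Surjective (fun m : M => (1 : S) ⊗ₜ[R] m) := by
  intro z
  induction z with
  | zero => exact ⟨0, tmul_zero _ _⟩
  | tmul s m =>
    obtain ⟨r, hr⟩ := h1 s
    refine ⟨r • m, ?_⟩
    change (1 : S) ⊗ₜ[R] (r • m) = s ⊗ₜ[R] m
    have e : s = (s - algebraMap R S r) + algebraMap R S r := by ring
    rw [e, add_tmul, tmul_eq_zero_of_mem_map K hM hr, zero_add, Algebra.algebraMap_eq_smul_one,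
      TensorProduct.smul_tmul]
  | add x y hx hy =>
    obtain ⟨a, ha⟩ := hx
    obtain ⟨b, hb⟩ := hy
    exact ⟨a + b, by change (1 : S) ⊗ₜ[R] (a + b) = _; rw [tmul_add]; exact congrArg₂ _ ha hb⟩

theorem one_tmul_injective (hM : ∀ k ∈ K, ∀ m : M, k • m = 0)
    (h1 : ∀ s : S, ∃ r : R, s - algebraMap R S r ∈ K.map (algebraMap R S))
    (h2 : ∀ r : R, algebraMap R S r ∈ K.map (algebraMap R S) → r ∈ K) :
    Function.Injective (fun m : M => (1 : S) ⊗ₜ[R] m) := by
  choose ρ hρ using h1
  have hsm : ∀ (r r' : R), r - r' ∈ K → ∀ m : M, r • m = r' • m := by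
    intro r r' h m
    have := hM _ h m
    rwa [sub_smul, sub_eq_zero] at this
  have hadd : ∀ s s' : S, ρ (s + s') - (ρ s + ρ s') ∈ K := by
    intro s s'
    apply h2
    have e : algebraMap R S (ρ (s + s') - (ρ s + ρ s')) =
        (s - algebraMap R S (ρ s)) + (s' - algebraMap R S (ρ s')) -
          ((s + s') - algebraMap R S (ρ (s + s'))) := by
      simp only [map_sub, map_add]; ring
    rw [e]
    exact Ideal.sub_mem _ (Ideal.add_mem _ (hρ s) (hρ s')) (hρ (s + s'))
  have hsmul : ∀ (r : R) (s : S), ρ (r • s) - r * ρ s ∈ K := by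
    intro r s
    apply h2
    have e : algebraMap R S (ρ (r • s) - r * ρ s) =
        algebraMap R S r * (s - algebraMap R S (ρ s)) - ((r • s) - algebraMap R S (ρ (r • s))) := by
      simp only [map_sub, map_mul, Algebra.smul_def]; ring
    rw [e]
    exact Ideal.sub_mem _ (Ideal.mul_mem_left _ _ (hρ s)) (hρ (r • s))
  have hone : ρ 1 - 1 ∈ K := by
    apply h2
    have e : algebraMap R S (ρ 1 - 1) = -((1 : S) - algebraMap R S (ρ 1)) := by
      simp only [map_sub, map_one]; ring
    rw [e]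
    exact Ideal.neg_mem_iff _ |>.2 (hρ 1)
  let b : S →ₗ[R] M →ₗ[R] M :=
    { toFun := fun s => ρ s • (LinearMap.id : M →ₗ[R] M)
      map_add' := by
        intro s s'
        ext m
        change ρ (s + s') • m = ρ s • m + ρ s' • m
        rw [hsm _ _ (hadd s s') m, add_smul]
      map_smul' := by
        intro r s
        ext m
        change ρ (r • s) • m = r • (ρ s • m)
        rw [hsm _ _ (hsmul r s) m, mul_smul] }
  intro m m' h
  have h' := congrArg (TensorProduct.lift b) h
  change TensorProduct.lift b ((1 : S) ⊗ₜ[R] m) = TensorProduct.lift b ((1 : S) ⊗ₜ[R] m') at h'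
  rw [TensorProduct.lift.tmul, TensorProduct.lift.tmul] at h'
  change ρ 1 • m = ρ 1 • m' at h'
  rwa [hsm _ _ hone m, hsm _ _ hone m', one_smul, one_smul] at h'

theorem one_tmul_bijective_of_isPushout {R S B B' : Type u} [CommRing R] [CommRing S] [CommRing B]
    [CommRing B'] [Algebra R S] [Algebra R B] [Algebra B B'] [Algebra S B'] [Algebra R B']
    [IsScalarTower R B B'] [IsScalarTower R S B'] [Algebra.IsPushout R S B B'] (K : Ideal R)
    {M : Type u} [AddCommGroup M] [Module R M] [Module B M] [IsScalarTower R B M]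
    (hM : ∀ k ∈ K, ∀ m : M, k • m = 0)
    (h1 : ∀ s : S, ∃ r : R, s - algebraMap R S r ∈ K.map (algebraMap R S))
    (h2 : ∀ r : R, algebraMap R S r ∈ K.map (algebraMap R S) → r ∈ K) :
    Function.Bijective (fun m : M => (1 : B') ⊗ₜ[B] m) := by
  have e : (fun m : M => (1 : B') ⊗ₜ[B] m) =
      (Algebra.IsPushout.cancelBaseChange R S B B' M).symm ∘ (fun m : M => (1 : S) ⊗ₜ[R] m) := by
    funext m
    change _ = (Algebra.IsPushout.cancelBaseChange R S B B' M).symm ((1 : S) ⊗ₜ[R] m)
    rw [LinearEquiv.eq_symm_apply]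
    exact Algebra.IsPushout.cancelBaseChange_tmul R S B B' M m
  rw [e]
  exact (Algebra.IsPushout.cancelBaseChange R S B B' M).symm.bijective.comp
    ⟨one_tmul_injective K hM h1 h2, one_tmul_surjective K hM h1⟩

theorem one_tmul_bijective_of_isPushout_cat {R S B B' : CommRingCat.{u}} (i : R ⟶ B) (f : R ⟶ S)
    (g : B ⟶ B') (j : S ⟶ B') (h : IsPushout i f g j) (K : Ideal R)
    {M : Type u} [AddCommGroup M] [Module B M]
    (hM : ∀ k ∈ K, ∀ m : M, i.hom k • m = 0)
    (h1 : ∀ s : S, ∃ r : R, s - f.hom r ∈ K.map f.hom)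
    (h2 : ∀ r : R, f.hom r ∈ K.map f.hom → r ∈ K) :
    letI := g.hom.toAlgebra
    Function.Bijective (fun m : M => (1 : B') ⊗ₜ[B] m) := by
  letI := f.hom.toAlgebra
  letI := i.hom.toAlgebra
  letI := g.hom.toAlgebra
  letI := j.hom.toAlgebra
  letI := (g.hom.comp i.hom).toAlgebra
  haveI : IsScalarTower R B B' := IsScalarTower.of_algebraMap_eq (fun _ => rfl)
  haveI : IsScalarTower R S B' := IsScalarTower.of_algebraMap_eq (fun x => by
    have := congrArg (fun ψ => ψ.hom x) h.w
    exact this)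
  letI : Module R M := Module.compHom M i.hom
  haveI : IsScalarTower R B M := ⟨fun r b m => by
    change (i.hom r * b) • m = i.hom r • (b • m)
    rw [mul_smul]⟩
  haveI : Algebra.IsPushout R S B B' := by
    rw [← CommRingCat.isPushout_iff_isPushout]
    exact h.flip
  exact one_tmul_bijective_of_isPushout (R := R) (S := S) (B := B) (B' := B') K hM h1 h2

end RingLevel

section UnitIso
open CategoryTheory CategoryTheory.Limits AlgebraicGeometry Opposite TensorProduct
open Groth.Agent.H39.PullTrack OmegaSh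

variable {X Y S T : Scheme.{u}} {f : T ⟶ S} {g : Y ⟶ X} {iX : X ⟶ S} {iY : Y ⟶ T}

theorem unit_app_bijective (H : IsPullback g iY iX f) [IsAffine S] [IsAffine T]
    (K : Ideal Γ(S, ⊤))
    (h1 : ∀ s : Γ(T, ⊤), ∃ r : Γ(S, ⊤), s - (f.appLE ⊤ ⊤ le_top).hom r ∈
      K.map (f.appLE ⊤ ⊤ le_top).hom)
    (h2 : ∀ r : Γ(S, ⊤), (f.appLE ⊤ ⊤ le_top).hom r ∈ K.map (f.appLE ⊤ ⊤ le_top).hom → r ∈ K)
    (F : X.Modules) [F.IsQuasicoherent] {V : X.Opens} (hV : IsAffineOpen V)
    (hV' : IsAffineOpen (g ⁻¹ᵁ V))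
    (hF : ∀ k ∈ K, ∀ m : Γ(F, V), (iX.appLE ⊤ V le_top).hom k • m = 0) :
    Function.Bijective (((Scheme.Modules.pullbackPushforwardAdjunction g).unit.app F).app V) := by
  letI := (g.appLE V (g ⁻¹ᵁ V) le_rfl).hom.toAlgebra
  obtain ⟨E, hE⟩ := exists_sectionsPullbackEquiv g F hV hV' le_rfl
  have hUY : g ⁻¹ᵁ V = g ⁻¹ᵁ V ⊓ iY ⁻¹ᵁ ⊤ := by simp
  have hpo := (isIso_pushoutSection_iff H (US := ⊤) (UT := ⊤) (UX := V) le_top le_top hUY).1
    (isIso_pushoutSection_of_isAffineOpen H le_top le_top hUY (isAffineOpen_top S)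
      (isAffineOpen_top T) hV)
  have hb := one_tmul_bijective_of_isPushout_cat _ _ _ _ hpo K (M := Γ(F, V)) hF h1 h2
  have hcomp : ∀ x : Γ(F, V),
      E (((Scheme.Modules.pullbackPushforwardAdjunction g).unit.app F).app V x) =
        (1 : Γ(Y, g ⁻¹ᵁ V)) ⊗ₜ[Γ(X, V)] x := by
    intro x
    rw [← hE x, pullSectLE_self]
    rfl
  constructor
  · intro x y hxy
    apply hb.1
    change (1 : Γ(Y, g ⁻¹ᵁ V)) ⊗ₜ[Γ(X, V)] x = (1 : Γ(Y, g ⁻¹ᵁ V)) ⊗ₜ[Γ(X, V)] y
    rw [← hcomp x, ← hcomp y, hxy]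
  · intro z
    obtain ⟨x, hx⟩ := hb.2 (E z)
    refine ⟨x, E.injective ?_⟩
    rw [hcomp x]
    exact hx

theorem isIso_unit (H : IsPullback g iY iX f) [IsAffine S] [IsAffine T]
    (K : Ideal Γ(S, ⊤))
    (h1 : ∀ s : Γ(T, ⊤), ∃ r : Γ(S, ⊤), s - (f.appLE ⊤ ⊤ le_top).hom r ∈
      K.map (f.appLE ⊤ ⊤ le_top).hom)
    (h2 : ∀ r : Γ(S, ⊤), (f.appLE ⊤ ⊤ le_top).hom r ∈ K.map (f.appLE ⊤ ⊤ le_top).hom → r ∈ K)
    (F : X.Modules) [F.IsQuasicoherent]
    (hF : ∀ k ∈ K, ∀ (V : X.Opens) (m : Γ(F, V)), (iX.appLE ⊤ V le_top).hom k • m = 0) :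
    IsIso ((Scheme.Modules.pullbackPushforwardAdjunction g).unit.app F) := by
  haveI : IsAffineHom f := inferInstance
  haveI : IsAffineHom g := MorphismProperty.of_isPullback H.flip inferInstance
  haveI : ((Scheme.Modules.pullback g).obj F).IsQuasicoherent :=
    Groth.Agent.H8.isQuasicoherent_pullback g F
  haveI : ((Scheme.Modules.pushforward g).obj ((Scheme.Modules.pullback g).obj F)).IsQuasicoherent :=
    Groth.Agent.H8.isQuasicoherent_pushforward g _
  haveI : ((𝟭 X.Modules).obj F).IsQuasicoherent := inferInstanceAs F.IsQuasicoherent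
  haveI : ((Scheme.Modules.pullback g ⋙ Scheme.Modules.pushforward g).obj F).IsQuasicoherent :=
    inferInstanceAs ((Scheme.Modules.pushforward g).obj
      ((Scheme.Modules.pullback g).obj F)).IsQuasicoherent
  exact Groth.Agent.H8.isIso_of_bijective_affine_cover
    ((Scheme.Modules.pullbackPushforwardAdjunction g).unit.app F)
    (fun V : X.affineOpens => (V : X.Opens)) (iSup_affineOpens_eq_top X) (fun V => V.2)
    (fun V => unit_app_bijective H K h1 h2 F V.2 (V.2.preimage g) (fun k hk m => hF k hk V m))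

end UnitIso

section Translate
open CategoryTheory CategoryTheory.Limits AlgebraicGeometry Opposite

variable {A A' : Type u} [CommRing A] [CommRing A'] (φ : A →+* A') (J : Ideal A)

/-- The ideal of `Γ(Spec A, ⊤)` corresponding to `J`. -/
noncomputable def KΓ : Ideal Γ(Spec (CommRingCat.of A), ⊤) :=
  J.comap (Scheme.ΓSpecIso (CommRingCat.of A)).hom.hom

theorem appLE_top_top :
    (Spec.map (CommRingCat.ofHom φ)).appLE ⊤ ⊤ le_top = (Spec.map (CommRingCat.ofHom φ)).appTop :=
  Scheme.Hom.appLE_eq_app _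

theorem hom_appTop (r : Γ(Spec (CommRingCat.of A), ⊤)) :
    (Scheme.ΓSpecIso (CommRingCat.of A')).hom.hom
      ((Spec.map (CommRingCat.ofHom φ)).appTop.hom r) =
      φ ((Scheme.ΓSpecIso (CommRingCat.of A)).hom.hom r) :=
  congrArg (fun ψ => ψ.hom r) (Scheme.ΓSpecIso_naturality (CommRingCat.ofHom φ))

theorem appTop_inv (a : A) :
    (Spec.map (CommRingCat.ofHom φ)).appTop.hom
      ((Scheme.ΓSpecIso (CommRingCat.of A)).inv.hom a) =
      (Scheme.ΓSpecIso (CommRingCat.of A')).inv.hom (φ a) :=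
  (congrArg (fun ψ => ψ.hom a) (Scheme.ΓSpecIso_inv_naturality (CommRingCat.ofHom φ))).symm

theorem inv_hom_apply (r : Γ(Spec (CommRingCat.of A), ⊤)) :
    (Scheme.ΓSpecIso (CommRingCat.of A)).inv.hom
      ((Scheme.ΓSpecIso (CommRingCat.of A)).hom.hom r) = r :=
  congrArg (fun ψ => ψ.hom r) (Scheme.ΓSpecIso (CommRingCat.of A)).hom_inv_id

theorem hom_inv_apply (a : A) :
    (Scheme.ΓSpecIso (CommRingCat.of A)).hom.hom
      ((Scheme.ΓSpecIso (CommRingCat.of A)).inv.hom a) = a :=
  congrArg (fun ψ => ψ.hom a) (Scheme.ΓSpecIso (CommRingCat.of A)).inv_hom_id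

theorem map_le_aux :
    (KΓ J).map (Spec.map (CommRingCat.ofHom φ)).appTop.hom ≤
      (J.map φ).comap (Scheme.ΓSpecIso (CommRingCat.of A')).hom.hom := by
  rw [Ideal.map_le_iff_le_comap]
  intro k hk
  change (Scheme.ΓSpecIso (CommRingCat.of A')).hom.hom
    ((Spec.map (CommRingCat.ofHom φ)).appTop.hom k) ∈ J.map φ
  rw [hom_appTop]
  exact Ideal.mem_map_of_mem φ hk

theorem inv_mem_aux {d : A'} (hd : d ∈ J.map φ) :
    (Scheme.ΓSpecIso (CommRingCat.of A')).inv.hom d ∈
      (KΓ J).map (Spec.map (CommRingCat.ofHom φ)).appTop.hom := by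
  have h : J.map φ ≤ ((KΓ J).map (Spec.map (CommRingCat.ofHom φ)).appTop.hom).comap
      (Scheme.ΓSpecIso (CommRingCat.of A')).inv.hom := by
    rw [Ideal.map_le_iff_le_comap]
    intro b hb
    change (Scheme.ΓSpecIso (CommRingCat.of A')).inv.hom (φ b) ∈
      (KΓ J).map (Spec.map (CommRingCat.ofHom φ)).appTop.hom
    rw [← appTop_inv]
    refine Ideal.mem_map_of_mem _ ?_
    change (Scheme.ΓSpecIso (CommRingCat.of A)).hom.hom
      ((Scheme.ΓSpecIso (CommRingCat.of A)).inv.hom b) ∈ J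
    rw [hom_inv_apply]
    exact hb
  exact h hd

theorem h1_of (H1 : ∀ a' : A', ∃ a : A, a' - φ a ∈ J.map φ)
    (s : Γ(Spec (CommRingCat.of A'), ⊤)) :
    ∃ r : Γ(Spec (CommRingCat.of A), ⊤),
      s - ((Spec.map (CommRingCat.ofHom φ)).appLE ⊤ ⊤ le_top).hom r ∈
        (KΓ J).map ((Spec.map (CommRingCat.ofHom φ)).appLE ⊤ ⊤ le_top).hom := by
  rw [appLE_top_top]
  obtain ⟨a, ha⟩ := H1 ((Scheme.ΓSpecIso (CommRingCat.of A')).hom.hom s)
  refine ⟨(Scheme.ΓSpecIso (CommRingCat.of A)).inv.hom a, ?_⟩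
  have := inv_mem_aux φ J ha
  rw [map_sub, inv_hom_apply, ← appTop_inv] at this
  exact this

theorem h2_of (H2 : ∀ a : A, φ a ∈ J.map φ → a ∈ J)
    (r : Γ(Spec (CommRingCat.of A), ⊤))
    (hr : ((Spec.map (CommRingCat.ofHom φ)).appLE ⊤ ⊤ le_top).hom r ∈
        (KΓ J).map ((Spec.map (CommRingCat.ofHom φ)).appLE ⊤ ⊤ le_top).hom) :
    r ∈ KΓ J := by
  rw [appLE_top_top] at hr
  have h := map_le_aux φ J hr
  change (Scheme.ΓSpecIso (CommRingCat.of A')).hom.hom
    ((Spec.map (CommRingCat.ofHom φ)).appTop.hom r) ∈ J.map φ at h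
  rw [hom_appTop] at h
  exact H2 _ h

end Translate

section Descent
open CategoryTheory CategoryTheory.Limits AlgebraicGeometry Opposite

variable (A : Type u) [CommRing A] (A' : Type u) [CommRing A'] [Algebra A A']
  (U : (Spec (CommRingCat.of A)).Opens)

theorem isIso_unit_restrict (J : Ideal A)
    (H1 : ∀ a' : A', ∃ a : A, a' - algebraMap A A' a ∈ J.map (algebraMap A A'))
    (H2 : ∀ a : A, algebraMap A A' a ∈ J.map (algebraMap A A') → a ∈ J)
    (F : (U : Scheme.{u}).Modules) [F.IsQuasicoherent] (hF : Formal.KilledBy J F) :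
    IsIso ((Scheme.Modules.pullbackPushforwardAdjunction
      (Spec.map (CommRingCat.ofHom (algebraMap A A')) ∣_ U)).unit.app F) := by
  refine isIso_unit (isPullback_morphismRestrict (Spec.map (CommRingCat.ofHom (algebraMap A A'))) U)
    (KΓ J) (h1_of (algebraMap A A') J H1) (h2_of (algebraMap A A') J H2) F ?_
  intro k hk V m
  have h0 := hF _ hk
  have h1 := congrArg (fun ψ : F ⟶ F => ψ.app V m) h0
  have h2 := Groth.Agent.S0852.smulMod_app (A := A) F
    ((Scheme.ΓSpecIso (CommRingCat.of A)).hom.hom k) V m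
  have h3 : (Groth.Agent.S0852.ρ (A := A) (X := (U : Scheme.{u})) V)
      ((Scheme.ΓSpecIso (CommRingCat.of A)).hom.hom k) = (U.ι.appLE ⊤ V le_top).hom k := by
    change Coh.resTop (U : Scheme.{u}) (op V) (Coh.toGlobal _ _) = _
    unfold Coh.toGlobal
    refine (congrArg (fun z => Coh.resTop (U : Scheme.{u}) (op V)
      ((Scheme.Hom.appTop ((U : Scheme.{u}) ↘ Spec (CommRingCat.of A))).hom z))
        (inv_hom_apply k)).trans ?_
    rfl
  rw [← h3, ← h2]
  exact h1

/-- Base change maps for restriction to `U` of a pushforward along `Spec A' ⟶ Spec A`. -/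
noncomputable def bcSys' (G₁ : ℕᵒᵖ ⥤ (Spec (CommRingCat.of A')).Modules) :
    (G₁ ⋙ Scheme.Modules.pushforward (Spec.map (CommRingCat.ofHom (algebraMap A A')))) ⋙
        Scheme.Modules.pullback U.ι ⟶
      (G₁ ⋙ Scheme.Modules.pullback
          (Spec.map (CommRingCat.ofHom (algebraMap A A')) ⁻¹ᵁ U).ι) ⋙
        Scheme.Modules.pushforward (Spec.map (CommRingCat.ofHom (algebraMap A A')) ∣_ U) where
  app n := Groth.Agent.H8.AffBC.uMap (Spec.map (CommRingCat.ofHom (algebraMap A A'))) U.ι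
    (Spec.map (CommRingCat.ofHom (algebraMap A A')) ⁻¹ᵁ U).ι
    (Spec.map (CommRingCat.ofHom (algebraMap A A')) ∣_ U)
    (isPullback_morphismRestrict _ U).flip.w (G₁.obj n)
  naturality _ _ g := Groth.Agent.S9538.uMap_naturality
    (Spec.map (CommRingCat.ofHom (algebraMap A A'))) U.ι
    (Spec.map (CommRingCat.ofHom (algebraMap A A')) ⁻¹ᵁ U).ι
    (Spec.map (CommRingCat.ofHom (algebraMap A A')) ∣_ U)
    (isPullback_morphismRestrict _ U).flip.w (G₁.map g)

theorem isIso_bcSys' (G₁ : ℕᵒᵖ ⥤ (Spec (CommRingCat.of A')).Modules)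
    (hq : ∀ n, (G₁.obj n).IsQuasicoherent) : IsIso (bcSys' A A' U G₁) := by
  haveI : ∀ n, IsIso ((bcSys' A A' U G₁).app n) := by
    intro n
    haveI := hq n
    exact Groth.Agent.H8.AffBC.isIso_uMap (F := G₁.obj n)
      (isPullback_morphismRestrict (Spec.map (CommRingCat.ofHom (algebraMap A A'))) U).flip
  exact NatIso.isIso_of_isIso_app _

/-- The unit `G_n ⟶ f'_* f'^* G_n` as a morphism of systems. -/
noncomputable def unitSys {X Y : Scheme.{u}} (g : Y ⟶ X) (G : ℕᵒᵖ ⥤ X.Modules) :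
    G ⟶ (G ⋙ Scheme.Modules.pullback g) ⋙ Scheme.Modules.pushforward g where
  app n := (Scheme.Modules.pullbackPushforwardAdjunction g).unit.app (G.obj n)
  naturality _ _ k := (Scheme.Modules.pullbackPushforwardAdjunction g).unit.naturality (G.map k)

theorem restrict_push_iso (I : Ideal A)
    (H1 : ∀ m : ℕ, ∀ a' : A', ∃ a : A,
      a' - algebraMap A A' a ∈ (I ^ m).map (algebraMap A A'))
    (H2 : ∀ m : ℕ, ∀ a : A, algebraMap A A' a ∈ (I ^ m).map (algebraMap A A') → a ∈ I ^ m)
    (G₁ : ℕᵒᵖ ⥤ (Spec (CommRingCat.of A')).Modules) (hq : ∀ n, (G₁.obj n).IsQuasicoherent)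
    (G : ℕᵒᵖ ⥤ (U : Scheme.{u}).Modules) (hGq : ∀ n, (G.obj n).IsQuasicoherent)
    (hGk : ∀ n : ℕ, Formal.KilledBy (I ^ (n + 1)) (G.obj (op n)))
    (e₁ : G₁ ⋙ Scheme.Modules.restrictFunctor
        (Spec.map (CommRingCat.ofHom (algebraMap A A')) ⁻¹ᵁ U).ι ≅
      G ⋙ Scheme.Modules.pullback (Spec.map (CommRingCat.ofHom (algebraMap A A')) ∣_ U)) :
    Nonempty ((G₁ ⋙ Scheme.Modules.pushforward
      (Spec.map (CommRingCat.ofHom (algebraMap A A')))) ⋙
        Scheme.Modules.restrictFunctor U.ι ≅ G) := by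
  haveI := isIso_bcSys' A A' U G₁ hq
  haveI : IsIso (unitSys (Spec.map (CommRingCat.ofHom (algebraMap A A')) ∣_ U) G) := by
    haveI : ∀ n, IsIso ((unitSys (Spec.map (CommRingCat.ofHom (algebraMap A A')) ∣_ U) G).app n) := by
      intro n
      haveI := hGq n
      exact isIso_unit_restrict A A' U (I ^ (n.unop + 1)) (H1 _) (H2 _) (G.obj n) (hGk n.unop)
    exact NatIso.isIso_of_isIso_app _
  exact ⟨Functor.isoWhiskerLeft (G₁ ⋙ Scheme.Modules.pushforward
        (Spec.map (CommRingCat.ofHom (algebraMap A A'))))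
      (Scheme.Modules.restrictFunctorIsoPullback U.ι) ≪≫
    asIso (bcSys' A A' U G₁) ≪≫
    Functor.isoWhiskerRight (Functor.isoWhiskerLeft G₁
      (Scheme.Modules.restrictFunctorIsoPullback
        (Spec.map (CommRingCat.ofHom (algebraMap A A')) ⁻¹ᵁ U).ι).symm)
      (Scheme.Modules.pushforward (Spec.map (CommRingCat.ofHom (algebraMap A A')) ∣_ U)) ≪≫
    Functor.isoWhiskerRight e₁
      (Scheme.Modules.pushforward (Spec.map (CommRingCat.ofHom (algebraMap A A')) ∣_ U)) ≪≫
    (asIso (unitSys (Spec.map (CommRingCat.ofHom (algebraMap A A')) ∣_ U) G)).symm⟩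

end Descent

section Sections
open CategoryTheory CategoryTheory.Limits AlgebraicGeometry Opposite
open Groth.Agent.S9535 (ovr ΓF TF adjA Γmap_smulMod exists_factor)

variable {A : Type u} [CommRing A]

attribute [local instance] ovr

/-- A map of quasi-coherent modules on `Spec A` which on global sections is surjective with kernel
inside `J Γ(M)`, and whose target is killed by `J`, is a cokernel of `J ⊗ M → M`. -/
theorem isColimit_of_sections (J : Ideal A) {M Q : (Spec (CommRingCat.of A)).Modules}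
    [M.IsQuasicoherent] [Q.IsQuasicoherent] (t : M ⟶ Q) (hQ : Formal.KilledBy J Q)
    (hsurj : Function.Surjective ((ΓF A).map t).hom)
    (hker : LinearMap.ker ((ΓF A).map t).hom ≤ J • ⊤) :
    ∃ h : Formal.smulFamily (A := A) J M ≫ t = 0,
      Nonempty (IsColimit (CokernelCofork.ofπ t h)) := by
  let adj := adjA A
  let N := (ΓF A).obj M
  let q : N ⟶ (ΓF A).obj Q := (ΓF A).map t
  let p : (TF A).obj N ⟶ Q := (TF A).map q ≫ adj.counit.app Q
  haveI hεQ : IsIso (adj.counit.app Q) := Scheme.Modules.isIso_fromTildeΓ_of_isQuasicoherent Q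
  haveI hεM : IsIso (adj.counit.app M) := Scheme.Modules.isIso_fromTildeΓ_of_isQuasicoherent M
  have hp : p = adj.counit.app M ≫ t := adj.counit.naturality t
  haveI : Epi q := (ModuleCat.epi_iff_surjective _).2 hsurj
  haveI : (TF A).PreservesEpimorphisms := Functor.preservesEpimorphisms_of_adjunction (adjA A)
  haveI : Epi ((TF A).map q) := inferInstance
  haveI : Epi p := epi_comp _ _
  have h0 : Formal.smulFamily (A := A) J ((TF A).obj N) ≫ p = 0 := by
    refine (Groth.Agent.S0832.smulFamily_comp_eq_zero_iff (A := A) (X := Spec (CommRingCat.of A))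
      J p).2 (fun a ha => ?_)
    have h1 := Groth.Agent.S0832.smulMod_naturality (A := A) (X := Spec (CommRingCat.of A)) p a
    rw [h1, hQ a ha, comp_zero]
  have hcol : IsColimit (CokernelCofork.ofπ p h0) := by
    refine CokernelCofork.IsColimit.ofπ' _ _ (fun {Z} g hg => ?_)
    let g' : N ⟶ (ΓF A).obj Z := adj.homEquiv _ _ g
    have hg'1 : g' = adj.unit.app N ≫ (ΓF A).map g := adj.homEquiv_unit N Z g
    have hg'2 : ∀ a ∈ J, ∀ x : N, g'.hom (a • x) = 0 := by
      intro a ha x
      have h1 := (Groth.Agent.S0832.smulFamily_comp_eq_zero_iff _ g).1 hg a ha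
      have h2 : ((ΓF A).map (Formal.smulMod A ((TF A).obj N) a ≫ g)).hom
          ((adj.unit.app N).hom x) = 0 := by
        rw [h1]; rfl
      rw [Functor.map_comp] at h2
      change ((ΓF A).map g).hom (((ΓF A).map (Formal.smulMod A ((TF A).obj N) a)).hom
          ((adj.unit.app N).hom x)) = 0 at h2
      rw [Γmap_smulMod] at h2
      rw [map_smul, hg'1]
      change a • ((ΓF A).map g).hom ((adj.unit.app N).hom x) = 0
      rw [← map_smul]
      exact h2
    have hle : LinearMap.ker q.hom ≤ LinearMap.ker g'.hom := by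
      intro x hx
      have hx' := hker hx
      rw [LinearMap.mem_ker]
      refine Submodule.smul_induction_on hx' (fun a ha y _ => hg'2 a ha y) (fun y z hy hz => ?_)
      rw [map_add, hy, hz, add_zero]
    have hex := exists_factor q g' hsurj hle
    let l' := hex.choose
    have hl' : q ≫ l' = g' := hex.choose_spec
    refine ⟨inv (adj.counit.app Q) ≫ (adj.homEquiv _ _).symm l', ?_⟩
    change ((TF A).map q ≫ adj.counit.app Q) ≫
      inv (adj.counit.app Q) ≫ (adj.homEquiv _ _).symm l' = g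
    rw [Category.assoc, IsIso.hom_inv_id_assoc, ← Adjunction.homEquiv_naturality_left_symm, hl']
    exact (adj.homEquiv _ _).symm_apply_apply g
  obtain ⟨h, ⟨hc⟩⟩ := Groth.Agent.S0832.isColimit_iso_comp (A := A)
    (X := Spec (CommRingCat.of A)) (inv (adj.counit.app M)) p h0 hcol
  have e : inv (adj.counit.app M) ≫ p = t := by
    rw [hp, IsIso.inv_hom_id_assoc]
  have key : ∀ (t' : M ⟶ Q) (_ : t' = t) (h' : Formal.smulFamily (A := A) J M ≫ t' = 0),
      IsColimit (CokernelCofork.ofπ t' h') →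
        ∃ h'' : Formal.smulFamily (A := A) J M ≫ t = 0,
          Nonempty (IsColimit (CokernelCofork.ofπ t h'')) := by
    intro t' he h' hc'
    subst he
    exact ⟨h', ⟨hc'⟩⟩
  exact key _ e h hc

end Sections

section TwoStruct

variable {A A' M : Type u} [CommRing A] [CommRing A'] (φ : A →+* A') [AddCommGroup M]
  [Module A M] [Module A' M] (hsm : ∀ (a : A) (x : M), a • x = φ a • x)

include hsm in
theorem finite_of_killed (K' : Ideal A') (hK : ∀ k ∈ K', ∀ x : M, k • x = 0)
    (H1 : ∀ a' : A', ∃ a : A, a' - φ a ∈ K') [Module.Finite A' M] : Module.Finite A M := by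
  obtain ⟨s, hs⟩ := (Module.Finite.fg_top (R := A') (M := M))
  refine ⟨⟨s, ?_⟩⟩
  rw [eq_top_iff]
  intro x hx0
  clear hx0
  have hx : x ∈ Submodule.span A' (s : Set M) := hs ▸ Submodule.mem_top
  induction hx using Submodule.span_induction with
  | mem y hy => exact Submodule.subset_span hy
  | zero => exact Submodule.zero_mem _
  | add y z _ _ hy hz => exact Submodule.add_mem _ hy hz
  | smul a' y _ hy =>
    obtain ⟨a, ha⟩ := H1 a'
    have e : a' • y = a • y := by
      have h0 := hK _ ha y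
      rw [sub_smul, sub_eq_zero] at h0
      rw [h0, hsm]
    rw [e]
    exact Submodule.smul_mem _ a hy

include hsm in
theorem smul_top_le (J : Ideal A) (x : M)
    (hx : x ∈ (J.map φ) • (⊤ : Submodule A' M)) : x ∈ J • (⊤ : Submodule A M) := by
  refine Submodule.smul_induction_on hx (fun a' ha' y hy0 => ?_) (fun y z hy hz => Submodule.add_mem _ hy hz)
  clear hy0
  induction ha' using Submodule.span_induction generalizing y with
  | mem d hd =>
    obtain ⟨b, hb, rfl⟩ := hd
    rw [← hsm]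
    exact Submodule.smul_mem_smul hb Submodule.mem_top
  | zero => rw [zero_smul]; exact Submodule.zero_mem _
  | add c d _ _ hc hd => rw [add_smul]; exact Submodule.add_mem _ (hc y) (hd y)
  | smul c d _ hd =>
    rw [smul_eq_mul, mul_comm, mul_smul]
    exact hd (c • y)

end TwoStruct

section Push
open CategoryTheory CategoryTheory.Limits AlgebraicGeometry Opposite
open Groth.Agent.S9535 (ovr ΓF TF adjA Γmap_smulMod)

variable (A : Type u) [CommRing A] (A' : Type u) [CommRing A'] [Algebra A A']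

attribute [local instance] ovr

theorem smulMod_push (N : (Spec (CommRingCat.of A')).Modules) (a : A) :
    Formal.smulMod A ((Scheme.Modules.pushforward
        (Spec.map (CommRingCat.ofHom (algebraMap A A')))).obj N) a =
      (Scheme.Modules.pushforward (Spec.map (CommRingCat.ofHom (algebraMap A A')))).map
        (Formal.smulMod A' N (algebraMap A A' a)) := by
  have h1 := @Groth.Agent.S9534.pushforward_map_smulMod A _ (Spec (CommRingCat.of A'))
    (Spec (CommRingCat.of A)) ⟨Spec.map (CommRingCat.ofHom (algebraMap A A'))⟩ (ovr A)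
    (Spec.map (CommRingCat.ofHom (algebraMap A A'))) (Category.comp_id _) N a
  rw [← h1]
  congr 1
  have h2 := Groth.Agent.S9538.smulMod_base (algebraMap A A')
    (𝟙 (Spec (CommRingCat.of A'))) N a
  refine Eq.trans ?_ h2
  congr 1

theorem killedBy_push (J : Ideal A) (N : (Spec (CommRingCat.of A')).Modules)
    (hN : Formal.KilledBy (J.map (algebraMap A A')) N) :
    Formal.KilledBy J ((Scheme.Modules.pushforward
      (Spec.map (CommRingCat.ofHom (algebraMap A A')))).obj N) := by
  intro a ha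
  rw [smulMod_push, hN _ (Ideal.mem_map_of_mem _ ha), Functor.map_zero]

theorem push_smul (N : (Spec (CommRingCat.of A')).Modules) (a : A)
    (x : ↑((ΓF A).obj ((Scheme.Modules.pushforward
      (Spec.map (CommRingCat.ofHom (algebraMap A A')))).obj N))) :
    a • x = (show ↑((ΓF A).obj ((Scheme.Modules.pushforward
      (Spec.map (CommRingCat.ofHom (algebraMap A A')))).obj N)) from
      (algebraMap A A' a) • (show ↑((ΓF A').obj N) from x)) := by
  rw [← Γmap_smulMod A _ a x, smulMod_push]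
  exact Γmap_smulMod A' N (algebraMap A A' a) x

theorem isCoh_push [IsNoetherianRing A] [IsNoetherianRing A'] (J : Ideal A)
    (H1 : ∀ a' : A', ∃ a : A, a' - algebraMap A A' a ∈ J.map (algebraMap A A'))
    (N : (Spec (CommRingCat.of A')).Modules) (hN : Coh.IsCoh N)
    (hk : Formal.KilledBy (J.map (algebraMap A A')) N) :
    Coh.IsCoh ((Scheme.Modules.pushforward
      (Spec.map (CommRingCat.ofHom (algebraMap A A')))).obj N) := by
  haveI : N.IsQuasicoherent := hN.1
  haveI hq : ((Scheme.Modules.pushforward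
      (Spec.map (CommRingCat.ofHom (algebraMap A A')))).obj N).IsQuasicoherent :=
    Groth.Agent.H8.isQuasicoherent_pushforward _ N
  haveI hfin' : Module.Finite A' ↑((ΓF A').obj N) := Groth.Agent.S9535.finite_Γ A' N hN
  have hfin : Module.Finite A ↑((ΓF A).obj ((Scheme.Modules.pushforward
      (Spec.map (CommRingCat.ofHom (algebraMap A A')))).obj N)) := by
    letI : Module A' ↑((ΓF A).obj ((Scheme.Modules.pushforward
        (Spec.map (CommRingCat.ofHom (algebraMap A A')))).obj N)) :=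
      (show Module A' ↑((ΓF A').obj N) from inferInstance)
    haveI : Module.Finite A' ↑((ΓF A).obj ((Scheme.Modules.pushforward
        (Spec.map (CommRingCat.ofHom (algebraMap A A')))).obj N)) := hfin'
    refine finite_of_killed (algebraMap A A') (push_smul A A' N) (J.map (algebraMap A A'))
      (fun k hk' x => ?_) H1
    have h1 := Γmap_smulMod A' N k x
    rw [hk k hk'] at h1
    exact h1.symm
  haveI := hfin
  have h2 : Coh.IsCoh (tilde (R := CommRingCat.of A) ((ΓF A).obj ((Scheme.Modules.pushforward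
      (Spec.map (CommRingCat.ofHom (algebraMap A A')))).obj N))) :=
    Groth.Agent.S9536.isCoh_tilde (CommRingCat.of A) _
  haveI hε : IsIso ((adjA A).counit.app ((Scheme.Modules.pushforward
      (Spec.map (CommRingCat.ofHom (algebraMap A A')))).obj N)) :=
    @Scheme.Modules.isIso_fromTildeΓ_of_isQuasicoherent (CommRingCat.of A)
      ((Scheme.Modules.pushforward (Spec.map (CommRingCat.ofHom (algebraMap A A')))).obj N) hq
  exact Groth.Agent.H90.QH.isCoh_of_iso (asIso ((adjA A).counit.app ((Scheme.Modules.pushforward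
      (Spec.map (CommRingCat.ofHom (algebraMap A A')))).obj N))) h2

theorem isCohFormal_push [IsNoetherianRing A] [IsNoetherianRing A'] (I : Ideal A)
    (H1 : ∀ m : ℕ, ∀ a' : A', ∃ a : A,
      a' - algebraMap A A' a ∈ (I ^ m).map (algebraMap A A'))
    (G₁ : ℕᵒᵖ ⥤ (Spec (CommRingCat.of A')).Modules)
    (hG₁ : Formal.IsCohFormal (I.map (algebraMap A A')) G₁) :
    Formal.IsCohFormal I (G₁ ⋙ Scheme.Modules.pushforward
      (Spec.map (CommRingCat.ofHom (algebraMap A A')))) := by
  have hkill : ∀ n : ℕ, Formal.KilledBy ((I ^ (n + 1)).map (algebraMap A A')) (G₁.obj (op n)) := by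
    intro n
    rw [Ideal.map_pow]
    exact hG₁.2.1 n
  have hkill' : ∀ n : ℕ, Formal.KilledBy (I ^ (n + 1)) ((Scheme.Modules.pushforward
      (Spec.map (CommRingCat.ofHom (algebraMap A A')))).obj (G₁.obj (op n))) :=
    fun n => killedBy_push A A' (I ^ (n + 1)) _ (hkill n)
  refine ⟨fun n => ?_, hkill', fun n => ?_⟩
  · exact isCoh_push A A' (I ^ (n + 1)) (H1 (n + 1)) _ (hG₁.1 n) (hkill n)
  · haveI : (G₁.obj (op (n + 1))).IsQuasicoherent := (hG₁.1 (n + 1)).1
    haveI : (G₁.obj (op n)).IsQuasicoherent := (hG₁.1 n).1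
    haveI : ((Scheme.Modules.pushforward
        (Spec.map (CommRingCat.ofHom (algebraMap A A')))).obj (G₁.obj (op (n + 1)))).IsQuasicoherent :=
      Groth.Agent.H8.isQuasicoherent_pushforward _ _
    haveI : ((Scheme.Modules.pushforward
        (Spec.map (CommRingCat.ofHom (algebraMap A A')))).obj (G₁.obj (op n))).IsQuasicoherent :=
      Groth.Agent.H8.isQuasicoherent_pushforward _ _
    have hI' : (I.map (algebraMap A A')).FG := IsNoetherian.noetherian _
    obtain ⟨h, ⟨hc⟩⟩ := isColimit_of_sections (I ^ (n + 1))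
      ((Scheme.Modules.pushforward (Spec.map (CommRingCat.ofHom (algebraMap A A')))).map
        (G₁.map (homOfLE (Nat.le_succ n)).op)) (hkill' n)
      (fun x => Groth.Agent.S9535.fn_surjective hG₁ n x)
      (fun x hx => by
        have hx' : x ∈ LinearMap.ker (Groth.Agent.S9535.fn A' G₁ n) := hx
        rw [Groth.Agent.S9535.fn_ker hI' hG₁ n, ← Ideal.map_pow] at hx'
        letI : Module A' ↑((ΓF A).obj ((Scheme.Modules.pushforward
            (Spec.map (CommRingCat.ofHom (algebraMap A A')))).obj (G₁.obj (op (n + 1))))) :=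
          (show Module A' ↑((ΓF A').obj (G₁.obj (op (n + 1)))) from inferInstance)
        exact smul_top_le (algebraMap A A') (push_smul A A' (G₁.obj (op (n + 1))))
          (I ^ (n + 1)) x hx')
    exact ⟨h, Groth.Agent.S0835.isIso_desc_of_isColimit _ _ h hc⟩

end Push

section Adic

variable {A : Type u} [CommRing A] (I : Ideal A)

theorem mem_map_iff_eval (hI : I.FG) (m : ℕ) (x : AdicCompletion I A) :
    x ∈ (I ^ m).map (algebraMap A (AdicCompletion I A)) ↔ AdicCompletion.eval I A m x = 0 := by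
  rw [← LinearMap.mem_ker, ← AdicCompletion.pow_smul_top_eq_ker_eval hI, Ideal.smul_top_eq_map,
    Submodule.restrictScalars_mem]

theorem adic_H1 (hI : I.FG) (m : ℕ) (a' : AdicCompletion I A) :
    ∃ a : A, a' - algebraMap A (AdicCompletion I A) a ∈
      (I ^ m).map (algebraMap A (AdicCompletion I A)) := by
  obtain ⟨a, ha⟩ := Submodule.mkQ_surjective _ (AdicCompletion.eval I A m a')
  refine ⟨a, ?_⟩
  rw [mem_map_iff_eval I hI, map_sub, AdicCompletion.algebraMap_apply, AdicCompletion.eval_of,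
    Algebra.algebraMap_self_apply, ha, sub_self]

theorem adic_H2 (hI : I.FG) (m : ℕ) (a : A)
    (h : algebraMap A (AdicCompletion I A) a ∈ (I ^ m).map (algebraMap A (AdicCompletion I A))) :
    a ∈ I ^ m := by
  rw [mem_map_iff_eval I hI, AdicCompletion.algebraMap_apply, AdicCompletion.eval_of,
    Algebra.algebraMap_self_apply] at h
  have h' : a ∈ (I ^ m • ⊤ : Submodule A A) := (Submodule.Quotient.mk_eq_zero _).1 h
  simpa using h'

end Adic

section Final
open CategoryTheory CategoryTheory.Limits AlgebraicGeometry Opposite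

theorem extends_descent (A : Type u) [CommRing A] [IsNoetherianRing A] (A' : Type u) [CommRing A']
    [Algebra A A'] [IsNoetherianRing A'] (I : Ideal A)
    (H1 : ∀ m : ℕ, ∀ a' : A', ∃ a : A,
      a' - algebraMap A A' a ∈ (I ^ m).map (algebraMap A A'))
    (H2 : ∀ m : ℕ, ∀ a : A, algebraMap A A' a ∈ (I ^ m).map (algebraMap A A') → a ∈ I ^ m)
    (U : (Spec (CommRingCat.of A)).Opens)
    (G : ℕᵒᵖ ⥤ (U : Scheme.{u}).Modules) (hG : Formal.IsCohFormal I G)
    (h : @Algz.Extends A' _ (Spec (CommRingCat.of A')) ⟨𝟙 (Spec (CommRingCat.of A'))⟩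
      (I.map (algebraMap A A')) (Spec.map (CommRingCat.ofHom (algebraMap A A')) ⁻¹ᵁ U)
      (G ⋙ Scheme.Modules.pullback (Spec.map (CommRingCat.ofHom (algebraMap A A')) ∣_ U))) :
    @Algz.Extends A _ (Spec (CommRingCat.of A)) ⟨𝟙 (Spec (CommRingCat.of A))⟩ I U G := by
  obtain ⟨G₁, hG₁, ⟨e₁⟩⟩ := h
  refine ⟨G₁ ⋙ Scheme.Modules.pushforward (Spec.map (CommRingCat.ofHom (algebraMap A A'))),
    isCohFormal_push A A' I H1 G₁ hG₁, ?_⟩
  exact restrict_push_iso A A' U I H1 H2 G₁ (fun n => (hG₁.1 n.unop).1) G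
    (fun n => (hG.1 n.unop).1) hG.2.1 e₁

theorem main (A : Type u) [CommRing A] [IsNoetherianRing A] (I : Ideal A)
    (U : (Spec (CommRingCat.of A)).Opens)
    (G : ℕᵒᵖ ⥤ (U : Scheme.{u}).Modules) (hG : Formal.IsCohFormal I G) :
    @Algz.Extends A _ (Spec (CommRingCat.of A)) ⟨𝟙 (Spec (CommRingCat.of A))⟩ I U G ↔
      ∃ F' : (↑(Spec.map (CommRingCat.ofHom (algebraMap A (AdicCompletion I A))) ⁻¹ᵁ U) : Scheme.{u}).Modules, Coh.IsCoh F' ∧
        Nonempty (Formal.completion (I.map (algebraMap A (AdicCompletion I A))) F' ≅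
          G ⋙ Scheme.Modules.pullback (morphismRestrict (Spec.map (CommRingCat.ofHom (algebraMap A (AdicCompletion I A)))) U)) := by
  have hI : I.FG := IsNoetherian.noetherian I
  haveI : IsNoetherianRing (AdicCompletion I A) :=
    Groth.Agent.Lead.isNoetherianRing_adicCompletion I hI
  haveI : IsAdicComplete (I.map (algebraMap A (AdicCompletion I A))) (AdicCompletion I A) :=
    AdicCompletion.isAdicComplete_self I hI
  constructor
  · intro h
    exact Groth.Agent.S9535.main (AdicCompletion I A) (I.map (algebraMap A (AdicCompletion I A)))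
      _ _ (extends_baseChange A (AdicCompletion I A) U I G h)
  · rintro ⟨F', hF', ⟨e⟩⟩
    exact extends_descent A (AdicCompletion I A) I (adic_H1 I hI) (adic_H2 I hI) U G hG
      (Groth.Agent.S9536.main (AdicCompletion I A) (I.map (algebraMap A (AdicCompletion I A)))
        _ _ F' hF' e)

end Final


/-- Let A be a Noetherian ring, I ⊆ 𝔞 ideals, U = Spec A ∖ V(𝔞), (F_n) an object of Coh(U, I O_U); let
A' be the I-adic completion of A, f : Spec A' → Spec A and U' the inverse image of U. Then (F_n)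
extends to Spec A if and only if the pullback of (F_n) to U' is isomorphic to the completion, for
the ideal I A', of a coherent O_{U'}-module. -/
theorem result (A : Type u) [CommRing A] [IsNoetherianRing A] (I 𝔞 : Ideal A) (hI𝔞 : I ≤ 𝔞)
    (G : ℕᵒᵖ ⥤ (↑(LocCoh.puncturedOpen A 𝔞) : Scheme.{u}).Modules) (hG : Formal.IsCohFormal I G) :
    @Algz.Extends A _ (Spec (CommRingCat.of A)) ⟨𝟙 (Spec (CommRingCat.of A))⟩ I (LocCoh.puncturedOpen A 𝔞) G ↔
      ∃ F' : (↑(Spec.map (CommRingCat.ofHom (algebraMap A (AdicCompletion I A))) ⁻¹ᵁ (LocCoh.puncturedOpen A 𝔞)) : Scheme.{u}).Modules, Coh.IsCoh F' ∧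
        Nonempty (Formal.completion (I.map (algebraMap A (AdicCompletion I A))) F' ≅
          G ⋙ Scheme.Modules.pullback (morphismRestrict (Spec.map (CommRingCat.ofHom (algebraMap A (AdicCompletion I A)))) (LocCoh.puncturedOpen A 𝔞))) := by
  exact main A I (LocCoh.puncturedOpen A 𝔞) G hG

end Groth.Agent.S9539
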