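import Groth.Statements.S9559
import Mathlib
import Groth.Agent.H68.EtLoc
import Groth.Agent.S0097
import Groth.Agent.S0098

set_option autoImplicit false
open CategoryTheory CategoryTheory.Limits AlgebraicGeometry Opposite
universe u
open EtLocal

namespace Groth.Agent.S9559


/-- A finite étale morphism f : X ⟶ S becomes, after base change to a suitable étale neighbourhood (U,
u) of any point s of S, a finite disjoint union of copies of U: X_U is isomorphic over U to a finite
coproduct of schemes V_j each of which maps isomorphically onto U. -/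
theorem result {X S : Scheme.{u}} (f : X ⟶ S) [IsFinite f] [Etale f] (s : S) :
    ∃ (U : Scheme.{u}) (g : U ⟶ S) (_ : AlgebraicGeometry.Etale g) (u : U) (_ : g.base u = s)
      (n : ℕ) (V : Fin n → Scheme.{u}) (c : ∀ j, V j ⟶ U) (_ : ∀ j, IsIso (c j))
      (e : (∐ V) ≅ pullback f g), ∀ j, Sigma.ι V j ≫ e.hom ≫ pullback.snd f g = c j := by
  classical
  haveI : Etale ((⊤ : X.Opens).ι ≫ f) := inferInstance
  exact Groth.Agent.H68.EtLoc.finite_case (MorphismProperty.isomorphisms Scheme.{u})
      (fun _ _ p (hp : IsIso p) => inferInstance) f s
      (fun {U} g V u v hfin hfib hres => by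
        haveI := hfin
        haveI : Etale (V.ι ≫ pullback.snd ((⊤ : X.Opens).ι ≫ f) g) := inferInstance
        exact Groth.Agent.S0098.result _ u v hfib hres)

end Groth.Agent.S9559
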