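import Groth.Statements.S9560
-- import your own Groth.Agent.* helpers here
import Mathlib

set_option autoImplicit false
universe u
open EtLocal

namespace Groth.Agent.S9560

/-- Suppose A is a Noetherian ring and B is a finite-type A-algebra, and consider a prime q of B lying
over the prime p of A, where B_q carries its A_p-algebra structure. Then B is étale at q over A (the
local ring B_q is formally étale over A) if and only if the local homomorphism A_p → B_q is étale,
which means three things: B_q is A_p-flat, the ideal p B_q equals the maximal ideal of B_q, and the
residue field of q is a finite separable extension of the residue field of p (that B_q is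
essentially of finite type over A_p holds automatically). -/
theorem result (A B : Type u) [CommRing A] [CommRing B]
    [Algebra A B] [IsNoetherianRing A] [Algebra.FiniteType A B]
    (p : Ideal A) [p.IsPrime] (q : Ideal B) [q.IsPrime] [q.LiesOver p]
    [Algebra (Localization.AtPrime p) (Localization.AtPrime q)]
    [Localization.AtPrime.IsLiesOverAlgebra p q] :
    Algebra.IsEtaleAt A q ↔
      Module.Flat (Localization.AtPrime p) (Localization.AtPrime q) ∧
        p.map (algebraMap A (Localization.AtPrime q)) = IsLocalRing.maximalIdeal (Localization.AtPrime q) ∧
        Module.Finite p.ResidueField q.ResidueField ∧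
        Algebra.IsSeparable p.ResidueField q.ResidueField := by
  haveI : Algebra.FinitePresentation A B :=
    Algebra.FinitePresentation.of_finiteType.mp inferInstance
  constructor
  · intro h
    haveI : Algebra.IsEtaleAt A q := h
    haveI : Algebra.IsUnramifiedAt A q :=
      (Algebra.FormallyEtale.iff_formallyUnramified_and_formallySmooth.mp h).1
    refine ⟨?_, ((Algebra.isUnramifiedAt_iff_map_eq A p q).mp inferInstance).2,
      inferInstance, inferInstance⟩
    obtain ⟨g, hg, hEt⟩ := Algebra.exists_etale_of_isEtaleAt (R := A) q
    let f : Localization.Away g →ₐ[B] Localization.AtPrime q :=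
      IsLocalization.liftAlgHom (M := Submonoid.powers g)
        (f := Algebra.ofId B (Localization.AtPrime q)) (by
          rintro ⟨_, n, rfl⟩
          exact IsLocalization.map_units (M := q.primeCompl) (Localization.AtPrime q)
            ⟨g ^ n, q.primeCompl.pow_mem hg n⟩)
    algebraize [f.toRingHom]
    have : IsScalarTower A (Localization.Away g) (Localization.AtPrime q) := .to₁₃₄ _ B _ _
    have : IsLocalization (Algebra.algebraMapSubmonoid (Localization.Away g) q.primeCompl)
        (Localization.AtPrime q) :=
      .isLocalization_of_submonoid_le _ _ (Submonoid.powers g) _ (by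
        rintro _ ⟨n, rfl⟩; exact q.primeCompl.pow_mem hg n)
    have : Module.Flat (Localization.Away g) (Localization.AtPrime q) :=
      IsLocalization.flat _ (Algebra.algebraMapSubmonoid (Localization.Away g) q.primeCompl)
    have : Module.Flat A (Localization.Away g) := inferInstance
    have : Module.Flat A (Localization.AtPrime q) :=
      Module.Flat.trans A (Localization.Away g) (Localization.AtPrime q)
    exact (Module.flat_iff_of_isLocalization (Localization.AtPrime p) p.primeCompl _).mpr this
  · rintro ⟨hflat, hmap, hfin, hsep⟩
    haveI : Algebra.IsUnramifiedAt A q :=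
      (Algebra.isUnramifiedAt_iff_map_eq A p q).mpr ⟨hsep, hmap⟩
    let Rp := Localization.AtPrime p
    let Sp := Localization (Algebra.algebraMapSubmonoid B p.primeCompl)
    let Sq := Localization.AtPrime q
    let f : Sp →ₐ[B] Sq := IsLocalization.liftAlgHom
      (M := Algebra.algebraMapSubmonoid B p.primeCompl)
        (f := Algebra.ofId _ _) (by
      rintro ⟨_, x, hx, rfl⟩
      simpa using! IsLocalization.map_units (M := q.primeCompl) Sq ⟨algebraMap _ _ x,
        by simp_all [q.over_def p]⟩)
    algebraize [f.toRingHom]
    have : IsScalarTower A Sp Sq := .to₁₃₄ _ B _ _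
    have : IsScalarTower Rp Sp Sq := .of_algebraMap_eq' <| by
      apply IsLocalization.ringHom_ext p.primeCompl
      simp only [RingHom.comp_assoc, ← IsScalarTower.algebraMap_eq]
    have : IsLocalization (Algebra.algebraMapSubmonoid Sp q.primeCompl) Sq :=
      .isLocalization_of_submonoid_le _ _ (Algebra.algebraMapSubmonoid B p.primeCompl) _
      (by rintro _ ⟨x, hx, rfl⟩; simp_all [q.over_def p])
    have : Algebra.FinitePresentation Rp Sp := by
      have : Algebra.IsPushout A Rp B Sp :=
        .symm <| Algebra.isPushout_of_isLocalization p.primeCompl _ _ _
      exact .equiv (Algebra.IsPushout.equiv A Rp B Sp)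
    have : IsLocalHom (algebraMap Rp Sq) := by
      rw [Localization.AtPrime.IsLiesOverAlgebra.algebraMap_eq]; infer_instance
    have : Algebra.EssFiniteType A Sq := .comp A B Sq
    have : Algebra.EssFiniteType Rp Sq := .of_comp A _ _
    have : Algebra.FormallyUnramified Rp Sq := .of_restrictScalars A _ _
    have : Module.Flat Rp Sq := hflat
    have : Algebra.FormallyEtale (IsLocalRing.ResidueField Rp)
        (TensorProduct Rp (IsLocalRing.ResidueField Rp) Sq) :=
      .of_formallyUnramified_of_field _ _
    have : Algebra.FormallySmooth Rp Sq :=
      Algebra.FormallySmooth.of_formallySmooth_residueField_tensor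
        (R := Rp) (S := Sq) (P := Sp) (Algebra.algebraMapSubmonoid _ q.primeCompl)
    have : Algebra.FormallySmooth A Sq := .comp A Rp Sq
    exact Algebra.FormallyEtale.iff_formallyUnramified_and_formallySmooth.mpr
      ⟨inferInstance, this⟩

end Groth.Agent.S9560
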