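import Groth.Statements.S9563
-- import your own Groth.Agent.* helpers here
import Groth.Agent.H48.EtLocal

set_option autoImplicit false
universe u
open EtLocal

namespace Groth.Agent.S9563

/-- Let A → B be an étale homomorphism of Noetherian local rings, i.e. a local homomorphism with B
essentially of finite type and flat over A, m_A B = m_B, and residue field of B finite separable
over that of A. Then there are a standard étale A-algebra B' = A[t]_g/(f) (f monic and f' invertible
in B') and a prime 𝔮 of B' such that B is isomorphic as an A-algebra to the localization of B' at 𝔮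
(existence of an isomorphism). -/
theorem result (A B : Type u) [CommRing A] [CommRing B]
    [IsLocalRing A] [IsLocalRing B] [IsNoetherianRing A] [IsNoetherianRing B] [Algebra A B]
    [IsLocalHom (algebraMap A B)] [Algebra.EssFiniteType A B] [Module.Flat A B]
    (hm : (IsLocalRing.maximalIdeal A).map (algebraMap A B) = IsLocalRing.maximalIdeal B)
    [Module.Finite (IsLocalRing.ResidueField A) (IsLocalRing.ResidueField B)]
    [Algebra.IsSeparable (IsLocalRing.ResidueField A) (IsLocalRing.ResidueField B)] :
    ∃ (P : StandardEtalePair A) (𝔮 : Ideal P.Ring) (_ : 𝔮.IsPrime),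
      Nonempty (B ≃ₐ[A] Localization.AtPrime 𝔮) := by
  classical
  have hFE : Algebra.FormallyEtale A B := H48.formallyEtale_of_etale_localHom A B hm
  let B₀ := Algebra.EssFiniteType.subalgebra A B
  let q₀ : Ideal B₀ := (IsLocalRing.maximalIdeal B).comap (algebraMap B₀ B)
  haveI : q₀.IsPrime := Ideal.comap_isPrime _ _
  haveI : IsLocalization q₀.primeCompl B :=
    H48.isLocalization_atPrime_of_isLocalRing (Algebra.EssFiniteType.submonoid A B)
  haveI : Algebra.FinitePresentation A B₀ :=
    Algebra.FinitePresentation.of_finiteType.mp inferInstance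
  let eB : Localization.AtPrime q₀ ≃ₐ[B₀] B := IsLocalization.algEquiv q₀.primeCompl _ _
  haveI : Algebra.IsEtaleAt A q₀ := Algebra.FormallyEtale.of_equiv (eB.symm.restrictScalars A)
  obtain ⟨f, hf, hstd⟩ := Algebra.IsEtaleAt.exists_isStandardEtale (R := A) q₀
  let Pres : StandardEtalePresentation A (Localization.Away f) :=
    hstd.nonempty_standardEtalePresentation.some
  let e : Localization.Away f ≃ₐ[A] Pres.P.Ring := Pres.equivRing
  let g : Localization.Away f →ₐ[B₀] B :=
    IsLocalization.liftAlgHom (M := Submonoid.powers f) (f := Algebra.ofId B₀ B) (by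
      rintro ⟨_, n, rfl⟩
      exact IsLocalization.map_units (M := q₀.primeCompl) B ⟨f ^ n, q₀.primeCompl.pow_mem hf n⟩)
  algebraize [g.toRingHom]
  have : IsScalarTower A (Localization.Away f) B := .to₁₃₄ _ B₀ _ _
  have : IsLocalization (Algebra.algebraMapSubmonoid (Localization.Away f) q₀.primeCompl) B :=
    .isLocalization_of_submonoid_le _ _ (Submonoid.powers f) _ (by
      rintro _ ⟨n, rfl⟩; exact q₀.primeCompl.pow_mem hf n)
  let 𝔮f : Ideal (Localization.Away f) :=
    (IsLocalRing.maximalIdeal B).comap (algebraMap (Localization.Away f) B)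
  haveI : 𝔮f.IsPrime := Ideal.comap_isPrime _ _
  haveI : IsLocalization 𝔮f.primeCompl B :=
    H48.isLocalization_atPrime_of_isLocalRing
      (Algebra.algebraMapSubmonoid (Localization.Away f) q₀.primeCompl)
  let e1 : B ≃ₐ[A] Localization.AtPrime 𝔮f :=
    (IsLocalization.algEquiv 𝔮f.primeCompl B (Localization.AtPrime 𝔮f)).restrictScalars A
  let 𝔮 : Ideal Pres.P.Ring := 𝔮f.comap e.symm
  haveI : 𝔮.IsPrime := Ideal.comap_isPrime _ _
  have H : Submonoid.map e 𝔮f.primeCompl = 𝔮.primeCompl := by
    ext x
    simp only [Submonoid.mem_map, Ideal.mem_primeCompl_iff, 𝔮, Ideal.mem_comap]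
    constructor
    · rintro ⟨y, hy, rfl⟩; simpa using hy
    · intro hx; exact ⟨e.symm x, hx, by simp⟩
  let e2 : Localization.AtPrime 𝔮f ≃ₐ[A] Localization.AtPrime 𝔮 :=
    IsLocalization.algEquivOfAlgEquiv _ _ e H
  exact ⟨Pres.P, 𝔮, inferInstance, ⟨e1.trans e2⟩⟩

end Groth.Agent.S9563
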