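import Groth.Statements.S9564
-- import your own Groth.Agent.* helpers here
import Groth.Agent.H48.EtLocal

set_option autoImplicit false
universe u
open EtLocal

namespace Groth.Agent.S9564

/-- Let A → B be an unramified homomorphism of Noetherian local rings, i.e. a local homomorphism with B
essentially of finite type over A, m_A B = m_B, and residue field of B finite separable over that of
A. Then there are a standard étale A-algebra B' = A[t]_g/(f) (f monic and f' invertible in B'), a
prime 𝔮 of B' and an ideal I of the localization of B' at 𝔮 such that B is isomorphic as an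
A-algebra to the quotient of that localization by I (existence of an isomorphism). -/
theorem result (A B : Type u) [CommRing A] [CommRing B]
    [IsLocalRing A] [IsLocalRing B] [IsNoetherianRing A] [IsNoetherianRing B] [Algebra A B]
    [IsLocalHom (algebraMap A B)] [Algebra.EssFiniteType A B]
    (hm : (IsLocalRing.maximalIdeal A).map (algebraMap A B) = IsLocalRing.maximalIdeal B)
    [Module.Finite (IsLocalRing.ResidueField A) (IsLocalRing.ResidueField B)]
    [Algebra.IsSeparable (IsLocalRing.ResidueField A) (IsLocalRing.ResidueField B)] :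
    ∃ (P : StandardEtalePair A) (𝔮 : Ideal P.Ring) (_ : 𝔮.IsPrime) (I : Ideal (Localization.AtPrime 𝔮)),
      Nonempty (B ≃ₐ[A] (Localization.AtPrime 𝔮 ⧸ I)) := by
  classical
  have hFU : Algebra.FormallyUnramified A B := Algebra.FormallyUnramified.of_map_maximalIdeal hm
  let B₀ := Algebra.EssFiniteType.subalgebra A B
  let q₀ : Ideal B₀ := (IsLocalRing.maximalIdeal B).comap (algebraMap B₀ B)
  haveI : q₀.IsPrime := Ideal.comap_isPrime _ _
  haveI : IsLocalization q₀.primeCompl B :=
    H48.isLocalization_atPrime_of_isLocalRing (Algebra.EssFiniteType.submonoid A B)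
  let eB : Localization.AtPrime q₀ ≃ₐ[B₀] B := IsLocalization.algEquiv q₀.primeCompl _ _
  haveI : Algebra.IsUnramifiedAt A q₀ :=
    Algebra.FormallyUnramified.of_equiv (eB.symm.restrictScalars A)
  obtain ⟨f, hf, P, φ, hφ⟩ :=
    Algebra.IsUnramifiedAt.exists_hasStandardEtaleSurjectionOn (R := A) q₀
  let g : Localization.Away f →ₐ[B₀] B :=
    IsLocalization.liftAlgHom (M := Submonoid.powers f) (f := Algebra.ofId B₀ B) (by
      rintro ⟨_, n, rfl⟩
      exact IsLocalization.map_units (M := q₀.primeCompl) B ⟨f ^ n, q₀.primeCompl.pow_mem hf n⟩)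
  algebraize [g.toRingHom]
  have : IsScalarTower A (Localization.Away f) B := .to₁₃₄ _ B₀ _ _
  have : IsLocalization (Algebra.algebraMapSubmonoid (Localization.Away f) q₀.primeCompl) B :=
    .isLocalization_of_submonoid_le _ _ (Submonoid.powers f) _ (by
      rintro _ ⟨n, rfl⟩; exact q₀.primeCompl.pow_mem hf n)
  let 𝔮f : Ideal (Localization.Away f) :=
    (IsLocalRing.maximalIdeal B).comap (algebraMap (Localization.Away f) B)
  haveI : 𝔮f.IsPrime := Ideal.comap_isPrime _ _
  haveI : IsLocalization 𝔮f.primeCompl B :=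
    H48.isLocalization_atPrime_of_isLocalRing
      (Algebra.algebraMapSubmonoid (Localization.Away f) q₀.primeCompl)
  let ψ : P.Ring →ₐ[A] B := (IsScalarTower.toAlgHom A (Localization.Away f) B).comp φ
  let 𝔮 : Ideal P.Ring := (IsLocalRing.maximalIdeal B).comap ψ
  haveI : 𝔮.IsPrime := Ideal.comap_isPrime _ _
  have hunit : ∀ y : 𝔮.primeCompl, IsUnit (ψ y) := by
    rintro ⟨y, hy⟩
    by_contra h
    exact hy ((IsLocalRing.mem_maximalIdeal _).mpr h)
  let Ψ : Localization.AtPrime 𝔮 →ₐ[A] B := IsLocalization.liftAlgHom (M := 𝔮.primeCompl) hunit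
  have hΨ : Function.Surjective Ψ := by
    intro b
    obtain ⟨⟨x, s⟩, hxs⟩ := IsLocalization.surj 𝔮f.primeCompl b
    obtain ⟨x', hx'⟩ := hφ x
    obtain ⟨s', hs'⟩ := hφ s.1
    have hψs : ψ s' = algebraMap (Localization.Away f) B s.1 := by
      simp only [ψ, AlgHom.comp_apply, hs']; rfl
    have hψx : ψ x' = algebraMap (Localization.Away f) B x := by
      simp only [ψ, AlgHom.comp_apply, hx']; rfl
    have hs'q : s' ∈ 𝔮.primeCompl := by
      intro h
      have h1 : ψ s' ∈ IsLocalRing.maximalIdeal B := h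
      rw [hψs] at h1
      exact s.2 h1
    refine ⟨IsLocalization.mk' (Localization.AtPrime 𝔮) x' ⟨s', hs'q⟩, ?_⟩
    have h2 : Ψ (IsLocalization.mk' (Localization.AtPrime 𝔮) x' ⟨s', hs'q⟩) * ψ s' = ψ x' := by
      have h3 := IsLocalization.mk'_spec (Localization.AtPrime 𝔮) x' ⟨s', hs'q⟩
      have h4 := congrArg Ψ h3
      rw [map_mul] at h4
      simpa [Ψ, IsLocalization.liftAlgHom_apply, IsLocalization.lift_eq] using h4
    have hu : IsUnit (ψ s') := hunit ⟨s', hs'q⟩
    apply hu.mul_left_injective
    show _ * ψ s' = b * ψ s'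
    rw [h2, hψx, hψs]
    exact hxs.symm
  exact ⟨P, 𝔮, inferInstance, RingHom.ker Ψ,
    ⟨(Ideal.quotientKerAlgEquivOfSurjective hΨ).symm⟩⟩

end Groth.Agent.S9564
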