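import Groth.Statements.S9567
import Mathlib

set_option autoImplicit false
universe u
open EtLocal

namespace Groth.Agent.S9567

open AlgebraicGeometry CategoryTheory in
/-- Let φ : X ⟶ Y be any morphism of schemes, x a point of X and V an affine open neighbourhood of φ(x),
with ring R = Γ(Y, V). If φ is étale on some open neighbourhood of x, then there are an affine open
neighbourhood U of x with φ(U) ⊆ V, a monic polynomial p over R and an open immersion j of U into
Spec of (R[t]/(p))[1/p′] (the localization of R[t]/(p) away from the image of the derivative of p)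
such that j followed by the projection to Spec R is the morphism U → Spec R induced by φ. -/
theorem result {X Y : Scheme.{u}} (φ : X ⟶ Y) (x : X)
    (V : Y.Opens) (hV : IsAffineOpen V) (hxV : φ.base x ∈ V)
    (hφ : ∃ W : X.Opens, x ∈ W ∧ Etale (W.ι ≫ φ)) :
    ∃ (U : X.Opens) (hU : IsAffineOpen U) (_ : x ∈ U) (e : U ≤ φ ⁻¹ᵁ V)
      (p : Polynomial Γ(Y, V)) (_ : p.Monic)
      (j : U.toScheme ⟶ Spec (CommRingCat.of (Localization.Away (AdjoinRoot.mk p (Polynomial.derivative p))))),
      IsOpenImmersion j ∧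
        j ≫ Spec.map (CommRingCat.ofHom
            (algebraMap Γ(Y, V) (Localization.Away (AdjoinRoot.mk p (Polynomial.derivative p))))) =
          hU.isoSpec.hom ≫ Spec.map (φ.appLE V U e) := by
  classical
  obtain ⟨W, hxW, hW⟩ := hφ
  have hx'V : (⟨x, hxW⟩ : W.toScheme) ∈ (W.ι ≫ φ) ⁻¹ᵁ V := by
    change φ.base (W.ι.base ⟨x, hxW⟩) ∈ V
    exact hxV
  obtain ⟨_, ⟨V', hV', rfl⟩, hx'V', hV'le⟩ :=
    W.toScheme.isBasis_affineOpens.exists_subset_of_mem_open hx'V ((W.ι ≫ φ) ⁻¹ᵁ V).isOpen
  have hV'le' : V' ≤ (W.ι ≫ φ) ⁻¹ᵁ V := hV'le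
  have hU₀ : IsAffineOpen (W.ι ''ᵁ V') := hV'.image_of_isOpenImmersion W.ι
  have hxU₀ : x ∈ W.ι ''ᵁ V' := ⟨⟨x, hxW⟩, hx'V', rfl⟩
  have e₀ : W.ι ''ᵁ V' ≤ φ ⁻¹ᵁ V := by
    rintro _ ⟨y, hy, rfl⟩
    exact hV'le' hy
  have hét : (φ.appLE V (W.ι ''ᵁ V') e₀).hom.Etale := by
    have h1 := (W.ι ≫ φ).etale_appLE hV hV' hV'le'
    have h2 : (W.ι ≫ φ).appLE V V' hV'le' = φ.appLE V (W.ι ''ᵁ V') e₀ := by
      rw [← Scheme.Hom.appLE_comp_appLE W.ι φ V (W.ι ''ᵁ V') V' e₀
        (W.ι.preimage_image_eq V').ge]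
      erw [Scheme.Opens.ι_appLE]
      exact φ.appLE_map e₀ _
    rwa [h2] at h1
  -- algebra structures
  let R := Γ(Y, V)
  let S := Γ(X, W.ι ''ᵁ V')
  letI algRS : Algebra R S := (φ.appLE V (W.ι ''ᵁ V') e₀).hom.toAlgebra
  haveI etRS : Algebra.Etale R S := hét
  let q : Ideal S := (IsLocalRing.maximalIdeal (X.presheaf.stalk x)).comap
    (X.presheaf.germ (W.ι ''ᵁ V') x hxU₀).hom
  haveI : q.IsPrime := Ideal.comap_isPrime _ _
  haveI : Algebra.IsEtaleAt R q := by
    haveI : Algebra.FormallyEtale S (Localization.AtPrime q) :=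
      Algebra.FormallyEtale.of_isLocalization q.primeCompl
    exact Algebra.FormallyEtale.comp R S (Localization.AtPrime q)
  obtain ⟨f, hfq, hstd⟩ := Algebra.IsEtaleAt.exists_isStandardEtale (R := R) q
  obtain ⟨P⟩ := hstd.nonempty_standardEtalePresentation
  have hxU : x ∈ X.basicOpen f := by
    rw [X.mem_basicOpen f x hxU₀]
    by_contra h
    exact hfq (show (X.presheaf.germ _ x hxU₀).hom f ∈ IsLocalRing.maximalIdeal _ from
      (IsLocalRing.mem_maximalIdeal _).mpr h)
  have hU : IsAffineOpen (X.basicOpen f) := hU₀.basicOpen f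
  have e : X.basicOpen f ≤ φ ⁻¹ᵁ V := (X.basicOpen_le f).trans e₀
  let T := Γ(X, X.basicOpen f)
  letI algRT : Algebra R T := (φ.appLE V (X.basicOpen f) e).hom.toAlgebra
  haveI : IsScalarTower R S T := IsScalarTower.of_algebraMap_eq' (by
    exact congrArg CommRingCat.Hom.hom
      (φ.appLE_map e₀ (homOfLE (X.basicOpen_le f)).op).symm)
  haveI : IsLocalization.Away f T := hU₀.isLocalization_basicOpen f
  let ε : Localization.Away f ≃ₐ[S] T := IsLocalization.algEquiv (Submonoid.powers f) _ _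
  let AR := AdjoinRoot P.f
  let L := Localization.Away (AdjoinRoot.mk P.f P.g)
  let Φ : L ≃ₐ[R] T :=
    (P.P.equivAwayAdjoinRoot.symm.trans P.equivRing.symm).trans (ε.restrictScalars R)
  let L' := Localization.Away (AdjoinRoot.mk P.f (Polynomial.derivative P.f))
  have hunit : IsUnit (algebraMap AR L (AdjoinRoot.mk P.f (Polynomial.derivative P.f))) := by
    obtain ⟨p₁, p₂, n, hc⟩ := P.cond
    have h1 : AdjoinRoot.mk P.f (Polynomial.derivative P.f) * AdjoinRoot.mk P.f p₁ =
        (AdjoinRoot.mk P.f P.g) ^ n := by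
      rw [← map_mul, ← map_pow, ← hc, map_add, map_mul (AdjoinRoot.mk P.f) P.f,
        AdjoinRoot.mk_self, zero_mul, add_zero]
    have h2 : IsUnit (algebraMap AR L ((AdjoinRoot.mk P.f P.g) ^ n)) := by
      rw [map_pow]
      exact (IsLocalization.Away.algebraMap_isUnit _).pow n
    rw [← h1, map_mul] at h2
    exact isUnit_of_mul_isUnit_left h2
  let θ : L' →+* L := IsLocalization.Away.lift (AdjoinRoot.mk P.f (Polynomial.derivative P.f)) hunit
  have hθ : θ.comp (algebraMap AR L') = algebraMap AR L := IsLocalization.Away.lift_comp _ hunit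
  have hθimm : IsOpenImmersion (Spec.map (CommRingCat.ofHom θ)) := by
    have h3 : Spec.map (CommRingCat.ofHom θ) ≫ Spec.map (CommRingCat.ofHom (algebraMap AR L')) =
        Spec.map (CommRingCat.ofHom (algebraMap AR L)) := by
      rw [← Spec.map_comp, ← CommRingCat.ofHom_comp, hθ]
    haveI : IsOpenImmersion (Spec.map (CommRingCat.ofHom θ) ≫
        Spec.map (CommRingCat.ofHom (algebraMap AR L'))) := by
      rw [h3]; infer_instance
    exact IsOpenImmersion.of_comp _ (Spec.map (CommRingCat.ofHom (algebraMap AR L')))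
  let j : (X.basicOpen f).toScheme ⟶ Spec (CommRingCat.of L') :=
    hU.isoSpec.hom ≫ Spec.map (CommRingCat.ofHom (Φ : L →+* T)) ≫ Spec.map (CommRingCat.ofHom θ)
  refine ⟨X.basicOpen f, hU, hxU, e, P.f, P.monic_f, j, ?_, ?_⟩
  · haveI : IsIso (CommRingCat.ofHom (Φ : L →+* T)) :=
      (Φ.toRingEquiv.toCommRingCatIso).isIso_hom
    infer_instance
  · have hring : CommRingCat.ofHom (algebraMap R L') ≫ CommRingCat.ofHom θ ≫
        CommRingCat.ofHom (Φ : L →+* T) = φ.appLE V (X.basicOpen f) e := by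
      apply CommRingCat.hom_ext
      apply RingHom.ext
      intro r
      show Φ (θ (algebraMap R L' r)) = algebraMap R T r
      rw [IsScalarTower.algebraMap_apply R AR L' r]
      have h4 := RingHom.congr_fun hθ (algebraMap R AR r)
      simp only [RingHom.comp_apply] at h4
      rw [h4, ← IsScalarTower.algebraMap_apply R AR L r]
      exact Φ.commutes r
    simp only [j, Category.assoc]
    rw [← Spec.map_comp, ← Spec.map_comp, Category.assoc, hring]

end Groth.Agent.S9567
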