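import Groth.Statements.S9568
-- import your own Groth.Agent.* helpers here
import Mathlib.RingTheory.Localization.Finiteness

set_option autoImplicit false
universe u
open EtLocal

namespace Groth.Agent.S9568

open TensorProduct in
/-- If `P → B` is surjective with kernel `I` and `1 ⊗ x = 0` in `B ⊗[P] M`, then `x ∈ I M`. -/
theorem mem_smul_top_of_one_tmul_eq_zero {P B M : Type*} [CommRing P] [CommRing B] [Algebra P B]
    [AddCommGroup M] [Module P M] (hs : Function.Surjective (algebraMap P B)) (x : M)
    (hx : (1 : B) ⊗ₜ[P] x = 0) :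
    x ∈ (RingHom.ker (algebraMap P B)) • (⊤ : Submodule P M) := by
  have hs' : Function.Surjective (Algebra.ofId P B) := hs
  let e : (P ⧸ RingHom.ker (Algebra.ofId P B)) ≃ₐ[P] B :=
    Ideal.quotientKerAlgEquivOfSurjective hs'
  have h1 : (1 : P ⧸ RingHom.ker (Algebra.ofId P B)) ⊗ₜ[P] x = 0 := by
    have := congrArg (TensorProduct.congr e.symm.toLinearEquiv (LinearEquiv.refl P M)) hx
    simpa using this
  have h2 := congrArg (TensorProduct.quotTensorEquivQuotSMul M (RingHom.ker (Algebra.ofId P B))) h1
  rw [TensorProduct.quotTensorEquivQuotSMul_mk_one_tmul, map_zero,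
    Submodule.Quotient.mk_eq_zero] at h2
  exact h2

open TensorProduct in
/-- Kernel of `Ω[P⁄A] → Ω[B⁄A]` for a surjection `P → B` with kernel `I`: elements of the kernel
are of the form `dg + (element of I Ω)`, `g ∈ I`. -/
theorem exists_sub_mem_of_map_eq_zero {A P B : Type*} [CommRing A] [CommRing P] [CommRing B]
    [Algebra A P] [Algebra A B] [Algebra P B] [IsScalarTower A P B]
    (hs : Function.Surjective (algebraMap P B)) (ω : KaehlerDifferential A P)
    (h : KaehlerDifferential.map A A P B ω = 0) :
    ∃ g ∈ RingHom.ker (algebraMap P B), ω - KaehlerDifferential.D A P g ∈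
      (RingHom.ker (algebraMap P B)) • (⊤ : Submodule P (KaehlerDifferential A P)) := by
  have h1 : KaehlerDifferential.mapBaseChange A P B ((1 : B) ⊗ₜ[P] ω) = 0 := by
    rw [KaehlerDifferential.mapBaseChange_tmul, h, smul_zero]
  obtain ⟨c, hc⟩ :=
    (KaehlerDifferential.exact_kerCotangentToTensor_mapBaseChange A P B hs _).mp h1
  obtain ⟨⟨g, hg⟩, rfl⟩ := Ideal.toCotangent_surjective _ c
  rw [KaehlerDifferential.kerCotangentToTensor_toCotangent] at hc
  refine ⟨g, hg, mem_smul_top_of_one_tmul_eq_zero hs _ ?_⟩
  rw [TensorProduct.tmul_sub, ← hc, sub_self]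


/-- Let A be a ring, φ a surjection from the polynomial ring P = A[x_1, …, x_n] onto an A-algebra B with
kernel I, q a prime of B and 𝔮 its preimage in P. Then the localization at q of the module of
differentials Ω_{B/A} vanishes if and only if the images of the differentials dg, g ∈ I, span the
localization of Ω_{P/A} at 𝔮 over P_𝔮. (Geometrically: for f locally of finite type, the stalk of
Ω_{X/Y} at x vanishes iff near x the scheme X is a closed subscheme of an affine space over the base
cut out by an ideal whose germs at the point have differentials generating the stalk of Ω of the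
affine space; the published statement also lists the equivalence with f being unramified at x and
with the diagonal being a local isomorphism at x, which this row does not restate. The published
statement asks for one such presentation near the point; this row states the equivalence for every
presentation, which is what the published proof shows and which implies the existential form.) -/
theorem result {A B : Type u} [CommRing A] [CommRing B]
    [Algebra A B] (n : ℕ) (φ : MvPolynomial (Fin n) A →ₐ[A] B) (hφ : Function.Surjective φ)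
    (q : Ideal B) [q.IsPrime] :
    Subsingleton (LocalizedModule q.primeCompl (KaehlerDifferential A B)) ↔
      Submodule.span (Localization.AtPrime (q.comap φ.toRingHom))
        ((LocalizedModule.mkLinearMap (q.comap φ.toRingHom).primeCompl
            (KaehlerDifferential A (MvPolynomial (Fin n) A))) ''
          ((KaehlerDifferential.D A (MvPolynomial (Fin n) A)) '' (RingHom.ker φ.toRingHom : Set (MvPolynomial (Fin n) A)))) = ⊤ := by
  classical
  letI : Algebra (MvPolynomial (Fin n) A) B := φ.toRingHom.toAlgebra
  haveI : IsScalarTower A (MvPolynomial (Fin n) A) B :=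
    IsScalarTower.of_algebraMap_eq fun a => (φ.commutes a).symm
  have hs : Function.Surjective (algebraMap (MvPolynomial (Fin n) A) B) := hφ
  have halg : ∀ p : MvPolynomial (Fin n) A, algebraMap (MvPolynomial (Fin n) A) B p = φ p :=
    fun _ => rfl
  -- notation
  set 𝔮 : Ideal (MvPolynomial (Fin n) A) := q.comap φ.toRingHom with h𝔮
  set I : Ideal (MvPolynomial (Fin n) A) := RingHom.ker φ.toRingHom with hI
  have hI𝔮 : I ≤ 𝔮 := fun x hx => by
    rw [h𝔮, Ideal.mem_comap, RingHom.mem_ker.mp hx]; exact zero_mem _
  have hmem𝔮 : ∀ p : MvPolynomial (Fin n) A, p ∈ 𝔮.primeCompl ↔ φ p ∈ q.primeCompl :=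
    fun p => Iff.rfl
  let mkP : (KaehlerDifferential A (MvPolynomial (Fin n) A)) →ₗ[MvPolynomial (Fin n) A] LocalizedModule 𝔮.primeCompl (KaehlerDifferential A (MvPolynomial (Fin n) A)) :=
    LocalizedModule.mkLinearMap 𝔮.primeCompl (KaehlerDifferential A (MvPolynomial (Fin n) A))
  let mkB : (KaehlerDifferential A B) →ₗ[B] LocalizedModule q.primeCompl (KaehlerDifferential A B) :=
    LocalizedModule.mkLinearMap q.primeCompl (KaehlerDifferential A B)
  let mp : (KaehlerDifferential A (MvPolynomial (Fin n) A)) →ₗ[MvPolynomial (Fin n) A] (KaehlerDifferential A B) :=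
    KaehlerDifferential.map A A (MvPolynomial (Fin n) A) B
  let N : Submodule (MvPolynomial (Fin n) A) (KaehlerDifferential A (MvPolynomial (Fin n) A)) :=
    Submodule.span (MvPolynomial (Fin n) A)
      ((KaehlerDifferential.D A (MvPolynomial (Fin n) A)) '' (I : Set (MvPolynomial (Fin n) A)))
  let K : Submodule (MvPolynomial (Fin n) A) (KaehlerDifferential A (MvPolynomial (Fin n) A)) := LinearMap.ker mp
  have hNK : N ≤ K := by
    refine Submodule.span_le.mpr ?_
    rintro _ ⟨g, hg, rfl⟩
    show mp (KaehlerDifferential.D A (MvPolynomial (Fin n) A) g) = 0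
    have hg0 : φ g = 0 := RingHom.mem_ker.mp hg
    rw [KaehlerDifferential.map_D, halg, hg0, map_zero]
  have hKN : K ≤ N ⊔ I • ⊤ := by
    intro ω hω
    obtain ⟨g, hg, hsub⟩ := exists_sub_mem_of_map_eq_zero hs ω hω
    have : ω = KaehlerDifferential.D A (MvPolynomial (Fin n) A) g +
        (ω - KaehlerDifferential.D A (MvPolynomial (Fin n) A) g) := by abel
    rw [this]
    exact Submodule.add_mem_sup (Submodule.subset_span ⟨g, hg, rfl⟩) hsub
  have hmp_smul : ∀ (t : MvPolynomial (Fin n) A) (ω : (KaehlerDifferential A (MvPolynomial (Fin n) A))), mp (t • ω) = φ t • mp ω := by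
    intro t ω
    rw [map_smul, ← halg, algebraMap_smul]
  -- (3): vanishing of the localized differentials in terms of `K`
  have hE : Subsingleton (LocalizedModule q.primeCompl (KaehlerDifferential A B)) ↔
      K.localized' (Localization.AtPrime 𝔮) 𝔮.primeCompl mkP = ⊤ := by
    constructor
    · intro hsub
      rw [eq_top_iff]
      intro x _
      obtain ⟨⟨ω, s⟩, rfl⟩ := IsLocalizedModule.mk'_surjective 𝔮.primeCompl mkP x
      have h0 : mkB (mp ω) = 0 := Subsingleton.elim _ _
      obtain ⟨u, hu⟩ := (IsLocalizedModule.eq_zero_iff q.primeCompl mkB).mp h0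
      obtain ⟨t, ht⟩ := hφ (u : B)
      have ht𝔮 : t ∈ 𝔮.primeCompl := (hmem𝔮 t).mpr (ht ▸ u.2)
      refine ⟨t • ω, ?_, ⟨t, ht𝔮⟩ * s, ?_⟩
      · show mp (t • ω) = 0
        rw [hmp_smul, ht]
        exact hu
      · exact IsLocalizedModule.mk'_cancel_left mkP ω ⟨t, ht𝔮⟩ s
    · intro htop
      refine subsingleton_of_forall_eq 0 fun y => ?_
      obtain ⟨⟨ω', u⟩, rfl⟩ := IsLocalizedModule.mk'_surjective q.primeCompl mkB y
      obtain ⟨ω, rfl⟩ :=
        KaehlerDifferential.map_surjective_of_surjective A A (MvPolynomial (Fin n) A) B hs ω'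
      have hω : mkP ω ∈ K.localized' (Localization.AtPrime 𝔮) 𝔮.primeCompl mkP := by
        rw [htop]; trivial
      obtain ⟨m, hm, s, hms⟩ := hω
      rw [IsLocalizedModule.mk'_eq_iff, Submonoid.smul_def, ← map_smul] at hms
      obtain ⟨t, ht⟩ := (IsLocalizedModule.eq_iff_exists 𝔮.primeCompl mkP).mp hms
      have h1 : mp ((t : MvPolynomial (Fin n) A) • m) = 0 := by
        rw [map_smul, show mp m = 0 from hm, smul_zero]
      have h2 : φ ((t : MvPolynomial (Fin n) A) * (s : MvPolynomial (Fin n) A)) • mp ω = 0 := by
        rw [← hmp_smul, mul_smul]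
        exact (congrArg mp ht).symm.trans h1
      have h3 : φ ((t : MvPolynomial (Fin n) A) * (s : MvPolynomial (Fin n) A)) ∈ q.primeCompl :=
        (hmem𝔮 _).mp (𝔮.primeCompl.mul_mem t.2 s.2)
      rw [Function.uncurry_apply_pair, IsLocalizedModule.mk'_eq_zero]
      exact (IsLocalizedModule.eq_zero_iff q.primeCompl mkB).mpr ⟨⟨_, h3⟩, h2⟩
  -- rewrite the right-hand side
  have hspan : Submodule.span (Localization.AtPrime 𝔮)
      (mkP '' ((KaehlerDifferential.D A (MvPolynomial (Fin n) A)) ''
        (I : Set (MvPolynomial (Fin n) A)))) =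
      N.localized' (Localization.AtPrime 𝔮) 𝔮.primeCompl mkP :=
    (Submodule.localized'_span (Localization.AtPrime 𝔮) 𝔮.primeCompl mkP _).symm
  show Subsingleton (LocalizedModule q.primeCompl (KaehlerDifferential A B)) ↔
    Submodule.span (Localization.AtPrime 𝔮)
      (mkP '' ((KaehlerDifferential.D A (MvPolynomial (Fin n) A)) ''
        (I : Set (MvPolynomial (Fin n) A)))) = ⊤
  rw [hspan, hE]
  constructor
  · intro hK
    -- Nakayama
    haveI hf0 : Module.Finite (MvPolynomial (Fin n) A)
        (KaehlerDifferential A (MvPolynomial (Fin n) A)) := inferInstance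
    haveI hf1 : Module.Finite (Localization 𝔮.primeCompl)
        (LocalizedModule 𝔮.primeCompl (KaehlerDifferential A (MvPolynomial (Fin n) A))) :=
      Module.Finite.of_isLocalizedModule 𝔮.primeCompl mkP
    have hfin : (⊤ : Submodule (Localization.AtPrime 𝔮) (LocalizedModule 𝔮.primeCompl (KaehlerDifferential A (MvPolynomial (Fin n) A)))).FG :=
      Module.Finite.fg_top
    have hle : (⊤ : Submodule (Localization.AtPrime 𝔮) (LocalizedModule 𝔮.primeCompl (KaehlerDifferential A (MvPolynomial (Fin n) A)))) ≤
        N.localized' (Localization.AtPrime 𝔮) 𝔮.primeCompl mkP ⊔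
          IsLocalRing.maximalIdeal (Localization.AtPrime 𝔮) • ⊤ := by
      intro x _
      have hx : x ∈ K.localized' (Localization.AtPrime 𝔮) 𝔮.primeCompl mkP := by
        rw [hK]; trivial
      obtain ⟨ω, hω, s, rfl⟩ := hx
      obtain ⟨ν, hν, ι, hι, rfl⟩ := Submodule.mem_sup.mp (hKN hω)
      rw [IsLocalizedModule.mk'_add]
      refine Submodule.add_mem_sup ⟨ν, hν, s, rfl⟩ ?_
      refine Submodule.smul_induction_on hι ?_ ?_
      · intro a ha ω0 _
        rw [IsLocalizedModule.mk'_smul, ← algebraMap_smul (Localization.AtPrime 𝔮) a]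
        refine Submodule.smul_mem_smul ?_ Submodule.mem_top
        exact (IsLocalization.AtPrime.to_map_mem_maximal_iff (Localization.AtPrime 𝔮) 𝔮 a).mpr
          (hI𝔮 ha)
      · intro x y hx hy
        rw [IsLocalizedModule.mk'_add]
        exact Submodule.add_mem _ hx hy
    exact top_le_iff.mp (Submodule.le_of_le_smul_of_le_jacobson_bot hfin
      (IsLocalRing.maximalIdeal_le_jacobson _) hle)
  · intro hN
    rw [eq_top_iff, ← hN]
    rintro _ ⟨m, hm, s, rfl⟩
    exact ⟨m, hNK hm, s, rfl⟩

end Groth.Agent.S9568
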