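import Groth.Statements.S9569
import Groth.Agent.S17860
import Groth.Agent.H22.TwistSeq
import Groth.Agent.H18.GlobGen
import Groth.Agent.H18.TensorCoh
import Groth.Agent.H8.SectionsExact
import Groth.Agent.H22.SerreH1
-- import your own Groth.Agent.* helpers here

set_option autoImplicit false
universe u
open CategoryTheory CategoryTheory.Limits AlgebraicGeometry TopologicalSpace Opposite
open Constr

namespace Groth.Agent.S9569

open Groth.Agent.H18.TensorGen Groth.Agent.H18.SecTw Groth.Agent.H18.TensorSec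
open Groth.Agent.H22.TwistSeq
open Groth.Agent.H22.QCohLimits (app_res)
open Groth.Agent.H8 (res_res res_smul ringRes_res section_eq_of_cover)
open Groth.Agent.S17860 (freeι freeπ eq_sum_freeι app_unit toO unitOne)

section Aux

variable {X : Scheme.{u}}

/-- a section which is locally in the image of a monomorphism is in the image. -/
lemma exists_preimage_of_locally {A B : X.Modules} (φ : A ⟶ B) [Mono φ] (W : X.Opens)
    (b : Γ(B, W))
    (h : ∀ x ∈ W, ∃ (V : X.Opens) (hV : V ≤ W), x ∈ V ∧ ∃ a : Γ(A, V),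
      φ.app V a = B.presheaf.map (homOfLE hV).op b) :
    ∃ a : Γ(A, W), φ.app W a = b := by
  let S : ShortComplex X.Modules := ShortComplex.mk φ (cokernel.π φ) (cokernel.condition φ)
  have hS : S.Exact := ShortComplex.exact_cokernel φ
  have : Mono S.f := inferInstanceAs (Mono φ)
  apply Groth.Agent.H8.exists_app_eq_of_exact S hS W b
  refine section_eq_of_cover (cokernel φ) _ _ (fun x hx => ?_)
  obtain ⟨V, hV, hxV, a, ha⟩ := h x hx
  refine ⟨V, hV, hxV, ?_⟩
  rw [map_zero, ← app_res, ← ha]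
  exact Groth.Agent.H8.app_comp_eq_zero S V a

/-- an epimorphism of modules is locally surjective on sections. -/
lemma exists_local_lift {M N : X.Modules} (p : M ⟶ N) [Epi p] (U : X.Opens)
    (t : Γ(N, U)) (x : X) (hx : x ∈ U) :
    ∃ (V : X.Opens) (hV : V ≤ U), x ∈ V ∧ ∃ s : Γ(M, V),
      p.app V s = N.presheaf.map (homOfLE hV).op t := by
  have h1 : Epi ((Groth.Agent.H22.SerreH1.toAbF X).map p) := inferInstance
  have h2 := (TopCat.Sheaf.isLocallySurjective_iff_epi (X := X.toTopCat)
    (C := AddCommGrpCat.{u}) ((Groth.Agent.H22.SerreH1.toAbF X).map p)).mpr h1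
  rw [TopCat.Presheaf.isLocallySurjective_iff] at h2
  obtain ⟨V, hV, ⟨s, hs⟩, hxV⟩ := h2 U t x hx
  exact ⟨V, hV, hxV, s, hs⟩

/-- a point of the non-vanishing locus of a finite sum lies in that of a summand. -/
lemma exists_mem_basicOpen_of_sum {ι : Type*} {U : X.Opens} (f : ι → Γ(X, U)) (S : Finset ι)
    (x : X) (hx : x ∈ X.basicOpen (∑ i ∈ S, f i)) : ∃ i ∈ S, x ∈ X.basicOpen (f i) := by
  classical
  induction S using Finset.induction_on with
  | empty =>
    rw [Finset.sum_empty, Scheme.basicOpen_zero] at hx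
    exact absurd hx (by simp)
  | insert a S ha ih =>
    rw [Finset.sum_insert ha] at hx
    rcases X.basicOpen_add_le _ _ hx with h1 | h1
    · exact ⟨a, Finset.mem_insert_self a S, h1⟩
    · obtain ⟨i, hi, hxi⟩ := ih h1
      exact ⟨i, Finset.mem_insert_of_mem hi, hxi⟩

end Aux

section Main

variable {X : Scheme.{u}} (L : X.Modules) (n : ℕ) (s : Fin (n + 1) → (Coh.structureModule X ⟶ L))

/-- the map `O^{n+1} ⟶ L`. -/
noncomputable abbrev pp : FlatMod.freeMod X (n + 1) ⟶ L := Sigma.desc s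

/-- the basis sections of `O^{n+1}`, restricted to `V`. -/
noncomputable def EV (V : X.Opens) (i : Fin (n + 1)) : Γ(FlatMod.freeMod X (n + 1), V) :=
  (FlatMod.freeMod X (n + 1)).presheaf.map (homOfLE (le_top : V ≤ ⊤)).op
    ((freeι X (n + 1) i).app ⊤ (unitOne X ⊤))

/-- the global sections of `L`, restricted to `V`. -/
noncomputable def sV (V : X.Opens) (i : Fin (n + 1)) : Γ(L, V) :=
  L.presheaf.map (homOfLE (le_top : V ≤ ⊤)).op ((s i).app ⊤ (unitOne X ⊤))

lemma EV_res {V W : X.Opens} (h : W ≤ V) (i : Fin (n + 1)) :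
    (FlatMod.freeMod X (n + 1)).presheaf.map (homOfLE h).op (EV n V i) = EV n W i := by
  unfold EV
  rw [res_res]

lemma sV_res {V W : X.Opens} (h : W ≤ V) (i : Fin (n + 1)) :
    L.presheaf.map (homOfLE h).op (sV L n s V i) = sV L n s W i := by
  unfold sV
  rw [res_res]

lemma pp_EV (V : X.Opens) (i : Fin (n + 1)) :
    (pp L n s).app V (EV n V i) = sV L n s V i := by
  have h1 : freeι X (n + 1) i ≫ pp L n s = s i := Sigma.ι_desc _ _
  have h2 : (pp L n s).app ⊤ ((freeι X (n + 1) i).app ⊤ (unitOne X ⊤)) =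
      (s i).app ⊤ (unitOne X ⊤) :=
    congrArg (fun f : Coh.structureModule X ⟶ L => f.app ⊤ (unitOne X ⊤)) h1
  unfold EV sV
  rw [app_res, h2]

/-- every section of `O^{n+1}` is a combination of the basis sections. -/
lemma eq_sum_EV (V : X.Opens) (y : Γ(FlatMod.freeMod X (n + 1), V)) :
    y = ∑ i, toO ((freeπ X (n + 1) i).app V y) • EV n V i := by
  conv_lhs => rw [eq_sum_freeι (n + 1) V y]
  refine Finset.sum_congr rfl fun i _ => ?_
  exact app_unit (freeι X (n + 1) i) V _

/-- the Koszul-type sections `e_i ⊗ s_j - e_j ⊗ s_i` of `O^{n+1} ⊗ L`. -/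
noncomputable def BB (i j : Fin (n + 1)) :
    Γ(CohB1.tensorMod (FlatMod.freeMod X (n + 1)) L, ⊤) :=
  tm (FlatMod.freeMod X (n + 1)) L (EV n ⊤ i) (sV L n s ⊤ j) -
    tm (FlatMod.freeMod X (n + 1)) L (EV n ⊤ j) (sV L n s ⊤ i)

/-- local form of `BB` where `L` is generated by `μ`. -/
lemma BB_res (i j : Fin (n + 1)) (V : X.Opens) (μ : Γ(L, V)) (a : Fin (n + 1) → Γ(X, V))
    (ha : ∀ l, a l • μ = sV L n s V l) :
    (CohB1.tensorMod (FlatMod.freeMod X (n + 1)) L).presheaf.map
        (homOfLE (le_top : V ≤ ⊤)).op (BB L n s i j) =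
      tm (FlatMod.freeMod X (n + 1)) L (a j • EV n V i - a i • EV n V j) μ := by
  unfold BB
  rw [map_sub, tm_res, tm_res, EV_res, EV_res, sV_res, sV_res, ← ha j, ← ha i,
    tm_smul_right, tm_smul_right, tm_sub_left, tm_smul_left, tm_smul_left]

/-- the local combination lies in the kernel. -/
lemma pp_comb (i j : Fin (n + 1)) (V : X.Opens) (μ : Γ(L, V)) (a : Fin (n + 1) → Γ(X, V))
    (ha : ∀ l, a l • μ = sV L n s V l) :
    (pp L n s).app V (a j • EV n V i - a i • EV n V j) = 0 := by
  rw [map_sub, Scheme.Modules.Hom.app_smul, Scheme.Modules.Hom.app_smul, pp_EV, pp_EV,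
    ← ha i, ← ha j, smul_smul, smul_smul, mul_comm, sub_self]

/-- the Koszul-type sections come from global sections of `K ⊗ L`. -/
lemma exists_gg (hL : PicF.IsInvertible L) (i j : Fin (n + 1)) :
    ∃ g : Γ(CohB1.tensorMod (kernel (pp L n s)) L, ⊤),
      (tmMap (kernel.ι (pp L n s)) L).app ⊤ g = BB L n s i j := by
  have : Mono (tmMap (kernel.ι (pp L n s)) L) := mono_tmMap _ L hL
  apply exists_preimage_of_locally
  intro x _
  obtain ⟨A0, lam, hxA, hlam⟩ := exists_isGen hL x
  refine ⟨A0, le_top, hxA, ?_⟩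
  have hb := hlam A0 le_rfl
  choose a ha using fun l => hb.2 (sV L n s A0 l)
  have ha' : ∀ l, a l • L.presheaf.map (homOfLE (le_rfl : A0 ≤ A0)).op lam = sV L n s A0 l := ha
  have hk := pp_comb L n s i j A0 _ a ha'
  let S : ShortComplex X.Modules :=
    ShortComplex.mk (kernel.ι (pp L n s)) (pp L n s) (kernel.condition _)
  have hS : S.Exact := S.exact_of_f_is_kernel (kernelIsKernel _)
  have : Mono S.f := inferInstanceAs (Mono (kernel.ι (pp L n s)))
  obtain ⟨k, hk'⟩ := Groth.Agent.H8.exists_app_eq_of_exact S hS A0 _ hk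
  refine ⟨tm _ L k (L.presheaf.map (homOfLE (le_rfl : A0 ≤ A0)).op lam), ?_⟩
  rw [tmMap_tm, BB_res L n s i j A0 _ a ha']
  exact congrArg (fun z => tm _ L z (L.presheaf.map (homOfLE (le_rfl : A0 ≤ A0)).op lam)) hk'

theorem main (hL : PicF.IsInvertible L) (hs : Epi (pp L n s)) :
    Curv2.IsGloballyGenerated (CohB1.tensorMod (kernel (pp L n s)) L) := by
  have hmono : Mono (tmMap (kernel.ι (pp L n s)) L) := mono_tmMap _ L hL
  choose g hg using fun ij : Fin (n + 1) × Fin (n + 1) => exists_gg L n s hL ij.1 ij.2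
  apply Groth.Agent.H18.GlobGen.isGloballyGenerated_of_ggAt
  intro x U t hxU
  obtain ⟨A0, lam, hxA, hlam⟩ := exists_isGen hL x
  have hW1 : A0 ⊓ U ≤ A0 := inf_le_left
  obtain ⟨W2, hW2, hxW2, y, hy⟩ := exists_local_lift (pp L n s) (A0 ⊓ U)
    (L.presheaf.map (homOfLE hW1).op lam) x ⟨hxA, hxU⟩
  have hW2A : W2 ≤ A0 := hW2.trans hW1
  have hy' : (pp L n s).app W2 y = L.presheaf.map (homOfLE hW2A).op lam := by
    rw [hy, res_res]
  have hb2 := hlam W2 hW2A
  choose a2 ha2 using fun l => hb2.2 (sV L n s W2 l)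
  have ha2' : ∀ l, a2 l • L.presheaf.map (homOfLE hW2A).op lam = sV L n s W2 l := ha2
  have hone : ∑ i, toO ((freeπ X (n + 1) i).app W2 y) * a2 i = 1 := by
    apply hb2.1
    show (∑ i, toO ((freeπ X (n + 1) i).app W2 y) * a2 i) •
      L.presheaf.map (homOfLE hW2A).op lam = (1 : Γ(X, W2)) • L.presheaf.map (homOfLE hW2A).op lam
    rw [one_smul, Finset.sum_smul]
    have hsum : (pp L n s).app W2 y = ∑ i, (toO ((freeπ X (n + 1) i).app W2 y) * a2 i) •
        L.presheaf.map (homOfLE hW2A).op lam := by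
      conv_lhs => rw [eq_sum_EV n W2 y]
      rw [map_sum]
      refine Finset.sum_congr rfl fun i _ => ?_
      rw [Scheme.Modules.Hom.app_smul, pp_EV, ← ha2' i, smul_smul]
    rw [← hsum]
    exact hy'
  have hx1 : x ∈ X.basicOpen (∑ i, toO ((freeπ X (n + 1) i).app W2 y) * a2 i) := by
    rw [hone, Scheme.basicOpen_one]
    exact hxW2
  obtain ⟨l, -, hxl⟩ := exists_mem_basicOpen_of_sum _ Finset.univ x hx1
  rw [Scheme.basicOpen_mul] at hxl
  have hxV : x ∈ X.basicOpen (a2 l) := hxl.2
  have hVW2 : X.basicOpen (a2 l) ≤ W2 := X.basicOpen_le _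
  have hVA : X.basicOpen (a2 l) ≤ A0 := hVW2.trans hW2A
  have hVU : X.basicOpen (a2 l) ≤ U := hVW2.trans (hW2.trans inf_le_right)
  have hbV := hlam (X.basicOpen (a2 l)) hVA
  choose a ha using fun i => hbV.2 (sV L n s (X.basicOpen (a2 l)) i)
  have ha' : ∀ i, a i • L.presheaf.map (homOfLE hVA).op lam = sV L n s (X.basicOpen (a2 l)) i :=
    ha
  have hal : a l = X.presheaf.map (homOfLE hVW2).op (a2 l) := by
    apply hbV.1
    show a l • L.presheaf.map (homOfLE hVA).op lam =
      X.presheaf.map (homOfLE hVW2).op (a2 l) • L.presheaf.map (homOfLE hVA).op lam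
    rw [ha' l]
    have e : L.presheaf.map (homOfLE hVA).op lam =
        L.presheaf.map (homOfLE hVW2).op (L.presheaf.map (homOfLE hW2A).op lam) := by
      rw [res_res]
    rw [e, ← res_smul, ha2' l, sV_res]
  have hunit : IsUnit (a l) := by
    rw [hal]
    exact RingedSpace.isUnit_res_basicOpen X.toRingedSpace (a2 l)
  obtain ⟨u, hu⟩ := hunit.exists_left_inv
  have hgenV : IsGen L (X.basicOpen (a2 l)) (L.presheaf.map (homOfLE hVA).op lam) := hlam.res hVA
  obtain ⟨k, hk⟩ := surjective_tm (F := kernel (pp L n s)) hgenV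
    ((CohB1.tensorMod (kernel (pp L n s)) L).presheaf.map (homOfLE hVU).op t)
  simp only at hk
  refine ⟨X.basicOpen (a2 l), hVU, hxV, ?_⟩
  have hιk := eq_sum_EV n (X.basicOpen (a2 l)) ((kernel.ι (pp L n s)).app (X.basicOpen (a2 l)) k)
  have hzero : ∑ i, toO ((freeπ X (n + 1) i).app (X.basicOpen (a2 l))
      ((kernel.ι (pp L n s)).app (X.basicOpen (a2 l)) k)) * a i = 0 := by
    apply hbV.1
    show (∑ i, toO ((freeπ X (n + 1) i).app (X.basicOpen (a2 l))
      ((kernel.ι (pp L n s)).app (X.basicOpen (a2 l)) k)) * a i) •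
        L.presheaf.map (homOfLE hVA).op lam =
      (0 : Γ(X, X.basicOpen (a2 l))) • L.presheaf.map (homOfLE hVA).op lam
    rw [zero_smul, Finset.sum_smul]
    have h0 : (pp L n s).app (X.basicOpen (a2 l))
        ((kernel.ι (pp L n s)).app (X.basicOpen (a2 l)) k) = 0 := by
      have h00 : (kernel.ι (pp L n s) ≫ pp L n s).app (X.basicOpen (a2 l)) = 0 := by
        rw [kernel.condition]; rfl
      exact congr($h00 k)
    have hsum : (pp L n s).app (X.basicOpen (a2 l))
        ((kernel.ι (pp L n s)).app (X.basicOpen (a2 l)) k) =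
        ∑ i, (toO ((freeπ X (n + 1) i).app (X.basicOpen (a2 l))
          ((kernel.ι (pp L n s)).app (X.basicOpen (a2 l)) k)) * a i) •
            L.presheaf.map (homOfLE hVA).op lam := by
      conv_lhs => rw [hιk]
      rw [map_sum]
      refine Finset.sum_congr rfl fun i _ => ?_
      rw [Scheme.Modules.Hom.app_smul, pp_EV, ← ha' i, smul_smul]
    rw [← hsum]
    exact h0
  generalize hc : (fun i => toO ((freeπ X (n + 1) i).app (X.basicOpen (a2 l))
      ((kernel.ι (pp L n s)).app (X.basicOpen (a2 l)) k))) = c at hιk hzero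
  have hιk' : (kernel.ι (pp L n s)).app (X.basicOpen (a2 l)) k =
      ∑ i, c i • EV n (X.basicOpen (a2 l)) i := by
    rw [← hc]; exact hιk
  have hzero' : ∑ i, c i * a i = 0 := by
    rw [← hc]; exact hzero
  have hkey : (kernel.ι (pp L n s)).app (X.basicOpen (a2 l)) k =
      ∑ i, (u * c i) • (a l • EV n (X.basicOpen (a2 l)) i - a i • EV n (X.basicOpen (a2 l)) l) := by
    rw [hιk']
    simp only [smul_sub, smul_smul, Finset.sum_sub_distrib]
    rw [← Finset.sum_smul]
    have e1 : ∑ i, u * c i * a i = 0 := by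
      have e2 : ∑ i, u * c i * a i = u * ∑ i, c i * a i := by
        rw [Finset.mul_sum]
        refine Finset.sum_congr rfl fun i _ => by ring
      rw [e2, hzero', mul_zero]
    rw [e1, zero_smul, sub_zero]
    refine Finset.sum_congr rfl fun i _ => ?_
    have e3 : u * c i * a l = c i := by
      calc u * c i * a l = c i * (u * a l) := by ring
        _ = c i := by rw [hu, mul_one]
    rw [e3]
  have hfin : (CohB1.tensorMod (kernel (pp L n s)) L).presheaf.map (homOfLE hVU).op t =
      ∑ i, (u * c i) • (CohB1.tensorMod (kernel (pp L n s)) L).presheaf.map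
        (homOfLE (le_top : X.basicOpen (a2 l) ≤ ⊤)).op (g (i, l)) := by
    apply Groth.Agent.H8.app_injective_of_mono (tmMap (kernel.ι (pp L n s)) L)
      (X.basicOpen (a2 l))
    rw [← hk, tmMap_tm, hkey, map_sum]
    have hl : tm (FlatMod.freeMod X (n + 1)) L
        (∑ i, (u * c i) • (a l • EV n (X.basicOpen (a2 l)) i -
          a i • EV n (X.basicOpen (a2 l)) l)) (L.presheaf.map (homOfLE hVA).op lam) =
        ∑ i, (u * c i) • tm (FlatMod.freeMod X (n + 1)) L
          (a l • EV n (X.basicOpen (a2 l)) i - a i • EV n (X.basicOpen (a2 l)) l)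
          (L.presheaf.map (homOfLE hVA).op lam) :=
      (map_sum (Groth.Agent.H18.TensorCoh.tmLin (FlatMod.freeMod X (n + 1)) L
        (L.presheaf.map (homOfLE hVA).op lam)) _ _).trans
        (Finset.sum_congr rfl fun i _ =>
          (Groth.Agent.H18.TensorCoh.tmLin (FlatMod.freeMod X (n + 1)) L
            (L.presheaf.map (homOfLE hVA).op lam)).map_smul _ _)
    rw [hl]
    refine Finset.sum_congr rfl fun i _ => ?_
    rw [Scheme.Modules.Hom.app_smul, app_res, hg (i, l),
      BB_res L n s i l (X.basicOpen (a2 l)) _ a ha']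
  rw [hfin]
  exact Submodule.sum_mem _ fun i _ =>
    Submodule.smul_mem _ _ (Submodule.subset_span ⟨g (i, l), rfl⟩)

end Main

/-- Let X be a scheme, L an invertible O_X-module and s_0, …, s_n global sections of L, given as module
maps O_X → L, which generate L: the map O_X^{n+1} → L they induce is an epimorphism. Let F be the
kernel of that map. Then F ⊗ L is globally generated, i.e. it is a quotient of a free O_X-module. -/
theorem result (X : Scheme.{u}) (L : X.Modules) (hL : PicF.IsInvertible L)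
    (n : ℕ) (s : Fin (n + 1) → (Coh.structureModule X ⟶ L))
    (hs : Epi (Sigma.desc s : FlatMod.freeMod X (n + 1) ⟶ L)) :
    Curv2.IsGloballyGenerated (CohB1.tensorMod (kernel (Sigma.desc s : FlatMod.freeMod X (n + 1) ⟶ L)) L) := by
  exact main L n s hL hs

end Groth.Agent.S9569
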