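import Groth.Statements.S9571
import Groth.Agent.H18.TwistFrac

set_option autoImplicit false
universe u
open CategoryTheory CategoryTheory.Limits AlgebraicGeometry TopologicalSpace Opposite
open Constr

namespace Groth.Agent.S9571

/-- Let S be a graded ring, X = Proj S and d ≥ 1; let W_d be the union of the opens D_+(ab) over pairs
of homogeneous a, b with deg a = deg b + d (the open over which the twisting sheaves O_X(nd) are
invertible with compatible multiplications). For n ≥ 1 and f homogeneous of degree nd, with s the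
section of O_X(nd) over W_d defined by f, the non-vanishing locus (W_d)_s equals D_+(f) ∩ W_d.
Pointwise: for p in some D_+(ab) as above, p ∈ D_+(f) if and only if the value f/1 of s at p
generates the module of degree-nd fractions at p (the span of the fractions c/t with t ∉ p and deg c
= deg t + nd, over the degree-zero local ring at p). -/
theorem result {R A : Type u} [CommRing R] [CommRing A] [Algebra R A] (𝒜 : ℕ → Submodule R A) [GradedAlgebra 𝒜]
    {d : ℕ} (hd : 0 < d) {i j : ℕ} {a b : A} (ha : a ∈ 𝒜 i) (hb : b ∈ 𝒜 j) (hij : i = j + d)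
    (p : ProjectiveSpectrum 𝒜) (hp : p ∈ ProjectiveSpectrum.basicOpen 𝒜 (a * b))
    {n : ℕ} (hn : 0 < n) (f : 𝒜 (n * d)) :
    p ∈ ProjectiveSpectrum.basicOpen 𝒜 (f : A) ↔
      Submodule.span (Twist.A0 𝒜 p) {(Twist.globalOf 𝒜 f).1 ⟨p, trivial⟩} = ⊤ := by
  have hone : (1 : A) ∉ p.asHomogeneousIdeal :=
    fun h => p.isPrime.ne_top ((Ideal.eq_top_iff_one _).mpr h)
  have hab : a * b ∉ p.asHomogeneousIdeal := hp
  have hap : a ∉ p.asHomogeneousIdeal := fun h => hab (Ideal.mul_mem_right _ _ h)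
  have hbp : b ∉ p.asHomogeneousIdeal := fun h => hab (Ideal.mul_mem_left _ _ h)
  have he : (((Twist.globalOf 𝒜 f).1 ⟨p, trivial⟩ : Twist.twistAt 𝒜 ((n * d : ℕ) : ℤ) p) :
      Twist.Loc 𝒜 p) = Localization.mk f.1 ⟨1, hone⟩ := rfl
  constructor
  · intro hfp
    have hfp' : f.1 ∉ p.asHomogeneousIdeal := hfp
    rw [eq_top_iff]
    rintro ⟨q, hq⟩ -
    obtain ⟨i', j', c, s, hs, hdeg, rfl⟩ :=
      Groth.Agent.H18.mem_twistFracSet_of_mem_twistAt 𝒜 _ p hq
    have hij' : i' = j' + n * d := by exact_mod_cast hdeg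
    have hsf : s.1 * f.1 ∈ 𝒜 i' := hij' ▸ SetLike.mul_mem_graded s.2 f.2
    have hsfp : s.1 * f.1 ∉ p.asHomogeneousIdeal :=
      fun h => (p.isPrime.mem_or_mem h).elim hs hfp'
    rw [Submodule.mem_span_singleton]
    refine ⟨HomogeneousLocalization.mk ⟨i', c, ⟨s.1 * f.1, hsf⟩, hsfp⟩, ?_⟩
    apply Subtype.ext
    rw [Twist.coe_smul_val, he, HomogeneousLocalization.val_mk, Localization.mk_mul,
      Localization.mk_eq_mk_iff, Localization.r_iff_exists]
    refine ⟨1, ?_⟩
    simp only [OneMemClass.coe_one, one_mul, Submonoid.coe_mul, mul_one]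
    ring
  · intro hspan
    show f.1 ∉ p.asHomogeneousIdeal
    intro hfp
    have han : a ^ n ∈ 𝒜 (n • i) := SetLike.pow_mem_graded n ha
    have hbn : b ^ n ∈ 𝒜 (n • j) := SetLike.pow_mem_graded n hb
    have hbnp : b ^ n ∉ p.asHomogeneousIdeal := fun h => hbp (p.isPrime.mem_of_pow_mem _ h)
    have hdeg : ((n • i : ℕ) : ℤ) = ((n • j : ℕ) : ℤ) + ((n * d : ℕ) : ℤ) := by
      subst hij
      simp only [smul_eq_mul]
      push_cast
      ring
    let q : Twist.twistAt 𝒜 ((n * d : ℕ) : ℤ) p := ⟨Localization.mk (a ^ n) ⟨b ^ n, hbnp⟩,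
      Submodule.subset_span ⟨n • i, n • j, ⟨a ^ n, han⟩, ⟨b ^ n, hbn⟩, hbnp, hdeg, rfl⟩⟩
    have hq : q ∈ Submodule.span (Twist.A0 𝒜 p) {(Twist.globalOf 𝒜 f).1 ⟨p, trivial⟩} := by
      rw [hspan]; trivial
    rw [Submodule.mem_span_singleton] at hq
    obtain ⟨c, hc⟩ := hq
    have hc' := congrArg Subtype.val hc
    rw [Twist.coe_smul_val, he, c.eq_num_div_den, Localization.mk_mul,
      Localization.mk_eq_mk_iff, Localization.r_iff_exists] at hc'
    obtain ⟨u, hu⟩ := hc'
    simp only [Submonoid.coe_mul, mul_one, one_mul] at hu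
    have hmem : (u : A) * (c.den * a ^ n) ∈ p.asHomogeneousIdeal.toIdeal := by
      rw [← hu]
      exact Ideal.mul_mem_left _ _ (Ideal.mul_mem_left _ _ (Ideal.mul_mem_left _ _ hfp))
    rcases p.isPrime.mem_or_mem hmem with h | h
    · exact u.2 h
    · rcases p.isPrime.mem_or_mem h with h | h
      · exact c.den_mem h
      · exact hap (p.isPrime.mem_of_pow_mem n h)

end Groth.Agent.S9571
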