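import Groth.Statements.S9575
import Groth.Agent.H18.TwistRestrict

set_option autoImplicit false
universe u
open CategoryTheory CategoryTheory.Limits AlgebraicGeometry TopologicalSpace Opposite
open Constr

namespace Groth.Agent.S9575

/-- Let S be a graded ring, X = Proj S, d ≥ 1, and a, b homogeneous elements with deg a = deg b + d.
Then for every integer n the restriction of the twisting sheaf O_X(nd) to the standard open D_+(ab)
is isomorphic to the structure sheaf of D_+(ab): it is free of rank one, generated by the section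
(a/b)^n. (This is the invertibility half of the fact that D_+(ab) lies in the open W_d where the
O_X(nd) are invertible with compatible multiplications; existence of an isomorphism only. The
compatibility of the multiplication maps O_X(nd) ⊗ O_X(md) → O_X(nd+md) on this open, and the
converse statement that the largest such open is the union of the D_+(ab), are not stated here.) -/
theorem result {R A : Type u} [CommRing R] [CommRing A] [Algebra R A] (𝒜 : ℕ → Submodule R A) [GradedAlgebra 𝒜]
    {d : ℕ} (hd : 0 < d) {i j : ℕ} {a b : A} (ha : a ∈ 𝒜 i) (hb : b ∈ 𝒜 j) (hij : i = j + d) (n : ℤ) :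
    Nonempty ((Twist.twist 𝒜 (n * d)).restrict (Proj.basicOpen 𝒜 (a * b)).ι ≅
      Coh.structureModule ↑(Proj.basicOpen 𝒜 (a * b))) := by
  subst hij
  have hu : a ^ n.toNat * b ^ (-n).toNat ∈ 𝒜 (n.toNat • (j + d) + (-n).toNat • j) :=
    SetLike.mul_mem_graded (SetLike.pow_mem_graded _ ha) (SetLike.pow_mem_graded _ hb)
  have hv : b ^ n.toNat * a ^ (-n).toNat ∈ 𝒜 (n.toNat • j + (-n).toNat • (j + d)) :=
    SetLike.mul_mem_graded (SetLike.pow_mem_graded _ hb) (SetLike.pow_mem_graded _ ha)
  have hpq : ((n.toNat • (j + d) + (-n).toNat • j : ℕ) : ℤ) =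
      (n.toNat • j + (-n).toNat • (j + d) : ℕ) + n * d := by
    have h := Int.toNat_sub_toNat_neg n
    simp only [smul_eq_mul]
    push_cast
    linear_combination (d : ℤ) * h
  have habx : ∀ x : (Proj.basicOpen 𝒜 (a * b) : TopologicalSpace.Opens (ProjectiveSpectrum.top 𝒜)),
      a * b ∉ x.1.asHomogeneousIdeal :=
    fun x => (ProjectiveSpectrum.mem_basicOpen 𝒜 (a * b) x.1).mp x.2
  have hax : ∀ x : (Proj.basicOpen 𝒜 (a * b) : TopologicalSpace.Opens (ProjectiveSpectrum.top 𝒜)),
      a ∉ x.1.asHomogeneousIdeal := fun x h => habx x (Ideal.mul_mem_right _ _ h)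
  have hbx : ∀ x : (Proj.basicOpen 𝒜 (a * b) : TopologicalSpace.Opens (ProjectiveSpectrum.top 𝒜)),
      b ∉ x.1.asHomogeneousIdeal := fun x h => habx x (Ideal.mul_mem_left _ _ h)
  exact Groth.Agent.H18.TwistRestrict.nonempty_twist_restrict_iso 𝒜 (Proj.basicOpen 𝒜 (a * b))
    hu hv hpq
    (fun x h => (x.1.isPrime.mem_or_mem h).elim
      (fun h1 => hax x (x.1.isPrime.mem_of_pow_mem _ h1))
      (fun h1 => hbx x (x.1.isPrime.mem_of_pow_mem _ h1)))
    (fun x h => (x.1.isPrime.mem_or_mem h).elim
      (fun h1 => hbx x (x.1.isPrime.mem_of_pow_mem _ h1))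
      (fun h1 => hax x (x.1.isPrime.mem_of_pow_mem _ h1)))

end Groth.Agent.S9575
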