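import Groth.Statements.S9576
-- import your own Groth.Agent.* helpers here

set_option autoImplicit false
universe u
open CategoryTheory CategoryTheory.Limits AlgebraicGeometry TopologicalSpace Opposite
open Constr

namespace Groth.Agent.S9576

/-- For a ring R and n ≥ 0, projective n-space Proj R[T_0, …, T_n] is covered by the n + 1 standard
opens D_+(T_i), and each D_+(T_i) = Spec R[T_0, …, T_n]_(T_i) is an affine n-space: the ring
homomorphism from the polynomial ring over R in the variables T_j, j ≠ i, to the degree-zero
localization R[T_0, …, T_n]_(T_i), sending T_j to T_j/T_i and a constant r to r/1, is bijective.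
(The published statement is over ℤ; this row is over any ring R.) -/
theorem result (n : ℕ) (R : Type u) [CommRing R] :
    (⨆ i : Fin (n + 1), Proj.basicOpen (CohB1.polyGrading n R) (MvPolynomial.X i)) = ⊤ ∧
      ∀ i : Fin (n + 1), Function.Bijective
        (MvPolynomial.eval₂Hom
          ((HomogeneousLocalization.fromZeroRingHom (CohB1.polyGrading n R) (Submonoid.powers (MvPolynomial.X i))).comp
            (algebraMap R (CohB1.polyGrading n R 0)))
          (fun j : {j : Fin (n + 1) // j ≠ i} =>
            (HomogeneousLocalization.mk ⟨1, ⟨MvPolynomial.X j.1, MvPolynomial.isHomogeneous_X R j.1⟩,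
              ⟨MvPolynomial.X i, MvPolynomial.isHomogeneous_X R i⟩, ⟨1, pow_one _⟩⟩ :
              HomogeneousLocalization.Away (CohB1.polyGrading n R) (MvPolynomial.X i)))) := by
  classical
  have hadj : Algebra.adjoin (CohB1.polyGrading n R 0)
      (Set.range (MvPolynomial.X : Fin (n + 1) → MvPolynomial (Fin (n + 1)) R)) = ⊤ := by
    rw [eq_top_iff]
    rintro p -
    induction p using MvPolynomial.induction_on with
    | C r =>
      have : (MvPolynomial.C r : MvPolynomial (Fin (n + 1)) R) =
          algebraMap (CohB1.polyGrading n R 0) (MvPolynomial (Fin (n + 1)) R)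
            ⟨MvPolynomial.C r, MvPolynomial.isHomogeneous_C _ r⟩ := rfl
      rw [this]
      exact Subalgebra.algebraMap_mem _ _
    | add p q hp hq => exact Subalgebra.add_mem _ hp hq
    | mul_X p j hp => exact Subalgebra.mul_mem _ hp (Algebra.subset_adjoin ⟨j, rfl⟩)
  refine ⟨?_, fun i => ⟨?_, ?_⟩⟩
  · exact Proj.iSup_basicOpen_eq_top' (CohB1.polyGrading n R) MvPolynomial.X
      (fun j => ⟨1, MvPolynomial.isHomogeneous_X R j⟩) hadj
  · -- injectivity: evaluate `T_i ↦ 1`
    let ev : MvPolynomial (Fin (n + 1)) R →+* MvPolynomial {j : Fin (n + 1) // j ≠ i} R :=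
      MvPolynomial.eval₂Hom MvPolynomial.C
        (fun j => if h : j = i then 1 else MvPolynomial.X ⟨j, h⟩)
    have hevi : ev (MvPolynomial.X i) = 1 := by
      simp [ev]
    have hevj : ∀ j : {j : Fin (n + 1) // j ≠ i}, ev (MvPolynomial.X j.1) = MvPolynomial.X j := by
      intro j
      simp [ev, j.2]
    have hev : IsUnit (ev (MvPolynomial.X i)) := by rw [hevi]; exact isUnit_one
    let ρ : Localization.Away (MvPolynomial.X i : MvPolynomial (Fin (n + 1)) R) →+*
        MvPolynomial {j : Fin (n + 1) // j ≠ i} R :=
      IsLocalization.Away.lift (MvPolynomial.X i) hev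
    have hρmk : ∀ (a : MvPolynomial (Fin (n + 1)) R)
        (s : Submonoid.powers (MvPolynomial.X i : MvPolynomial (Fin (n + 1)) R))
        (v : MvPolynomial {j : Fin (n + 1) // j ≠ i} R), ev a = ev s * v →
        ρ (Localization.mk a s) = v := by
      intro a s v h
      rw [Localization.mk_eq_mk'_apply]
      exact (IsLocalization.lift_mk'_spec _ _ _ _).mpr h
    have hcomp : (ρ.comp (algebraMap (HomogeneousLocalization.Away (CohB1.polyGrading n R)
        (MvPolynomial.X i)) (Localization.Away (MvPolynomial.X i :
          MvPolynomial (Fin (n + 1)) R)))).comp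
        (MvPolynomial.eval₂Hom
          ((HomogeneousLocalization.fromZeroRingHom (CohB1.polyGrading n R)
            (Submonoid.powers (MvPolynomial.X i))).comp
            (algebraMap R (CohB1.polyGrading n R 0)))
          (fun j : {j : Fin (n + 1) // j ≠ i} =>
            (HomogeneousLocalization.mk ⟨1, ⟨MvPolynomial.X j.1, MvPolynomial.isHomogeneous_X R j.1⟩,
              ⟨MvPolynomial.X i, MvPolynomial.isHomogeneous_X R i⟩, ⟨1, pow_one _⟩⟩ :
              HomogeneousLocalization.Away (CohB1.polyGrading n R) (MvPolynomial.X i)))) =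
        RingHom.id _ := by
      apply MvPolynomial.ringHom_ext
      · intro r
        simp only [RingHom.comp_apply, MvPolynomial.eval₂Hom_C, RingHom.id_apply,
          HomogeneousLocalization.algebraMap_apply]
        show ρ (Localization.mk _ _) = _
        apply hρmk
        show ev (MvPolynomial.C r) = ev 1 * MvPolynomial.C r
        rw [map_one, one_mul]
        simp [ev]
      · intro j
        simp only [RingHom.comp_apply, MvPolynomial.eval₂Hom_X', RingHom.id_apply,
          HomogeneousLocalization.algebraMap_apply, HomogeneousLocalization.val_mk]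
        apply hρmk
        show ev (MvPolynomial.X j.1) = ev (MvPolynomial.X i) * MvPolynomial.X j
        rw [hevi, one_mul, hevj]
    intro p p' h
    have h1 := RingHom.congr_fun hcomp p
    have h2 := RingHom.congr_fun hcomp p'
    simp only [RingHom.comp_apply, RingHom.id_apply] at h1 h2
    rw [← h1, ← h2, h]
  · -- surjectivity
    have hXi : (MvPolynomial.X i : MvPolynomial (Fin (n + 1)) R) ∈ CohB1.polyGrading n R 1 :=
      MvPolynomial.isHomogeneous_X R i
    have hXj : ∀ j : Fin (n + 1),
        (MvPolynomial.X j : MvPolynomial (Fin (n + 1)) R) ∈ CohB1.polyGrading n R (1 • 1) :=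
      fun j => MvPolynomial.isHomogeneous_X R j
    have hspan := HomogeneousLocalization.Away.span_mk_prod_pow_eq_top
      (𝒜 := CohB1.polyGrading n R) hXi
      (MvPolynomial.X : Fin (n + 1) → MvPolynomial (Fin (n + 1)) R) hadj (fun _ => 1)
      (fun j => MvPolynomial.isHomogeneous_X R j)
    set Φ := (MvPolynomial.eval₂Hom
          ((HomogeneousLocalization.fromZeroRingHom (CohB1.polyGrading n R)
            (Submonoid.powers (MvPolynomial.X i))).comp
            (algebraMap R (CohB1.polyGrading n R 0)))
          (fun j : {j : Fin (n + 1) // j ≠ i} =>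
            (HomogeneousLocalization.mk ⟨1, ⟨MvPolynomial.X j.1, MvPolynomial.isHomogeneous_X R j.1⟩,
              ⟨MvPolynomial.X i, MvPolynomial.isHomogeneous_X R i⟩, ⟨1, pow_one _⟩⟩ :
              HomogeneousLocalization.Away (CohB1.polyGrading n R) (MvPolynomial.X i)))) with hΦ
    -- the basic fractions `T_j / T_i` are in the range
    have ht : ∀ j : Fin (n + 1),
        HomogeneousLocalization.Away.mk (CohB1.polyGrading n R) hXi 1 (MvPolynomial.X j) (hXj j) ∈
          Φ.range := by
      intro j
      by_cases hj : j = i
      · subst hj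
        refine ⟨1, ?_⟩
        rw [map_one]
        apply HomogeneousLocalization.val_injective
        rw [HomogeneousLocalization.val_one, HomogeneousLocalization.Away.val_mk]
        have h1 : (⟨MvPolynomial.X j ^ 1, ⟨1, rfl⟩⟩ :
            Submonoid.powers (MvPolynomial.X j : MvPolynomial (Fin (n + 1)) R)) =
            ⟨MvPolynomial.X j, ⟨1, pow_one _⟩⟩ := Subtype.ext (pow_one _)
        rw [h1]
        exact (Localization.mk_self (⟨MvPolynomial.X j, ⟨1, pow_one _⟩⟩ :
          Submonoid.powers (MvPolynomial.X j : MvPolynomial (Fin (n + 1)) R))).symm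
      · refine ⟨MvPolynomial.X ⟨j, hj⟩, ?_⟩
        rw [hΦ, MvPolynomial.eval₂Hom_X']
        apply HomogeneousLocalization.val_injective
        rw [HomogeneousLocalization.val_mk, HomogeneousLocalization.Away.val_mk]
        congr 1
        exact Subtype.ext (pow_one _).symm
    intro y
    have hy : y ∈ Submodule.span (CohB1.polyGrading n R 0)
        { (HomogeneousLocalization.Away.mk (CohB1.polyGrading n R) hXi a
            (∏ j, (MvPolynomial.X j : MvPolynomial (Fin (n + 1)) R) ^ ai j)
            (hai ▸ SetLike.prod_pow_mem_graded _ _ _ _ fun j _ ↦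
              MvPolynomial.isHomogeneous_X R j) :
            HomogeneousLocalization.Away (CohB1.polyGrading n R) (MvPolynomial.X i)) |
          (a : ℕ) (ai : Fin (n + 1) → ℕ) (hai : ∑ j, ai j • (1 : ℕ) = a • 1) } := by
      rw [hspan]; trivial
    induction hy using Submodule.span_induction with
    | mem y hy =>
      obtain ⟨a, ai, hai, rfl⟩ := hy
      have hprod : HomogeneousLocalization.Away.mk (CohB1.polyGrading n R) hXi a
            (∏ j, (MvPolynomial.X j : MvPolynomial (Fin (n + 1)) R) ^ ai j)
            (hai ▸ SetLike.prod_pow_mem_graded _ _ _ _ fun j _ ↦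
              MvPolynomial.isHomogeneous_X R j) =
          ∏ j, (HomogeneousLocalization.Away.mk (CohB1.polyGrading n R) hXi 1
            (MvPolynomial.X j) (hXj j)) ^ ai j := by
        apply HomogeneousLocalization.val_injective
        rw [← HomogeneousLocalization.algebraMap_apply, ← HomogeneousLocalization.algebraMap_apply,
          map_prod]
        simp_rw [map_pow, HomogeneousLocalization.algebraMap_apply,
          HomogeneousLocalization.Away.val_mk, Localization.mk_pow, Localization.mk_prod]
        congr 1
        apply Subtype.ext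
        simp only [SubmonoidClass.coe_finsetProd, SubmonoidClass.mk_pow, pow_one,
          Finset.prod_pow_eq_pow_sum]
        congr 1
        simpa using hai.symm
      rw [hprod]
      exact Subring.prod_mem _ fun j _ => Subring.pow_mem _ (ht j) _
    | zero => exact ⟨0, map_zero _⟩
    | add y z _ _ hy hz =>
      obtain ⟨p, rfl⟩ := hy
      obtain ⟨q, rfl⟩ := hz
      exact ⟨p + q, map_add _ _ _⟩
    | smul c y _ hy =>
      obtain ⟨p, rfl⟩ := hy
      have hc : (c : MvPolynomial (Fin (n + 1)) R) =
          MvPolynomial.C (MvPolynomial.coeff 0 (c : MvPolynomial (Fin (n + 1)) R)) :=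
        (MvPolynomial.totalDegree_eq_zero_iff_eq_C).mp
          ((MvPolynomial.totalDegree_zero_iff_isHomogeneous _).mpr c.2)
      have hc' : c = algebraMap R (CohB1.polyGrading n R 0)
          (MvPolynomial.coeff 0 (c : MvPolynomial (Fin (n + 1)) R)) := by
        apply Subtype.ext
        rw [hc]
        simp
      refine ⟨MvPolynomial.C (MvPolynomial.coeff 0 (c : MvPolynomial (Fin (n + 1)) R)) * p, ?_⟩
      rw [map_mul, hΦ, MvPolynomial.eval₂Hom_C, RingHom.comp_apply, ← hc', Algebra.smul_def,
        HomogeneousLocalization.algebraMap_eq]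

end Groth.Agent.S9576
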