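import Groth.Statements.S9578
import Groth.Agent.H98.TwRes

set_option autoImplicit false
universe u
open CategoryTheory CategoryTheory.Limits AlgebraicGeometry TopologicalSpace Opposite
open Constr

namespace Groth.Agent.S9578

/-- Let S be a graded ring, M a graded S-module (graded in non-negative degrees here), X = Proj S and d
≥ 1; let W_d ⊆ X be the union of the standard opens D_+(ab) over the pairs of homogeneous elements
a, b with deg a = deg b + d (the open over which the twisting sheaves O_X(nd) are invertible with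
compatible multiplications). Then for every integer n the restrictions to W_d of M~(nd) = M~ ⊗
O_X(nd) and of M(nd)~, the module attached to the shifted module, are isomorphic. (Existence of an
isomorphism only; in the published statement it is the canonical multiplication map M~ ⊗ O_X(nd) →
M(nd)~ that restricts to an isomorphism over W_d. That W_d is the largest open over which the
O_X(nd) are invertible with compatible multiplications is not stated here.) -/
theorem result {R A : Type u} [CommRing R] [CommRing A] [Algebra R A] (𝒜 : ℕ → Submodule R A) [GradedAlgebra 𝒜]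
    {M : Type u} [AddCommGroup M] [Module R M] [Module A M] [IsScalarTower R A M] (ℳ : ℕ → Submodule R M)
    [DirectSum.Decomposition ℳ] [SetLike.GradedSMul 𝒜 ℳ]
    {d : ℕ} (hd : 0 < d) (n : ℤ) :
    Nonempty ((Twist.twistBy 𝒜 (GrTilde.tilde 𝒜 ℳ 0) (n * d)).restrict
        (⨆ (j : ℕ) (a : 𝒜 (j + d)) (b : 𝒜 j), Proj.basicOpen 𝒜 ((a : A) * b)).ι ≅
      (GrTilde.tilde 𝒜 ℳ (n * d)).restrict
        (⨆ (j : ℕ) (a : 𝒜 (j + d)) (b : 𝒜 j), Proj.basicOpen 𝒜 ((a : A) * b)).ι) := by
  have key := Groth.Agent.H98.TwRes.nonempty_restrict_iso 𝒜 ℳ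
    (⨆ (j : ℕ) (a : 𝒜 (j + d)) (b : 𝒜 j), Proj.basicOpen 𝒜 ((a : A) * b)) 0 (n * d) ?_
  · rw [zero_add] at key
    exact key
  · intro x hx
    simp only [TopologicalSpace.Opens.mem_iSup] at hx
    obtain ⟨j, a, b, hab⟩ := hx
    have hab' : (a : A) * b ∉ x.asHomogeneousIdeal := hab
    have ha : (a : A) ∉ x.asHomogeneousIdeal := fun h =>
      hab' (Ideal.mul_mem_right _ x.asHomogeneousIdeal.toIdeal h)
    have hb : (b : A) ∉ x.asHomogeneousIdeal := fun h =>
      hab' (Ideal.mul_mem_left x.asHomogeneousIdeal.toIdeal _ h)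
    have hpa : ∀ m : ℕ, (a : A) ^ m ∉ x.asHomogeneousIdeal := fun m h =>
      ha (x.isPrime.mem_of_pow_mem m h)
    have hpb : ∀ m : ℕ, (b : A) ^ m ∉ x.asHomogeneousIdeal := fun m h =>
      hb (x.isPrime.mem_of_pow_mem m h)
    rcases le_or_gt 0 n with hn | hn
    · refine ⟨n.toNat • (j + d), n.toNat • j, (a : A) ^ n.toNat, (b : A) ^ n.toNat,
        SetLike.pow_mem_graded _ a.2, SetLike.pow_mem_graded _ b.2, ?_, hpa _, hpb _⟩
      have h1 : ((n.toNat : ℕ) : ℤ) = n := Int.toNat_of_nonneg hn
      simp only [smul_eq_mul]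
      push_cast
      rw [h1]
      ring
    · refine ⟨(-n).toNat • j, (-n).toNat • (j + d), (b : A) ^ (-n).toNat, (a : A) ^ (-n).toNat,
        SetLike.pow_mem_graded _ b.2, SetLike.pow_mem_graded _ a.2, ?_, hpb _, hpa _⟩
      have h1 : (((-n).toNat : ℕ) : ℤ) = -n := Int.toNat_of_nonneg (by omega)
      simp only [smul_eq_mul]
      push_cast
      rw [h1]
      ring

end Groth.Agent.S9578
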