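import Groth.Statements.S9580
import Groth.Agent.H18.TwistRestrict

set_option autoImplicit false
universe u
open CategoryTheory CategoryTheory.Limits AlgebraicGeometry TopologicalSpace Opposite
open Constr

namespace Groth.Agent.S9580

/-- Let S be a graded ring, X = Proj S and Y ⊆ X a quasi-compact open subscheme. Then there is an
integer d ≥ 1 such that Y is contained in the open W_d, the union of the standard opens D_+(ab) over
homogeneous a, b with deg a = deg b + d, and such that the restriction O_Y(nd) of O_X(nd) to Y is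
invertible for every integer n. (The remaining assertions — the multiplication maps among the
O_Y(nd) and M~(nd) are isomorphisms, D_+(f) ∩ Y = Y_s, and the loci Y_s form a basis — are not
stated here.) -/
theorem result {R A : Type u} [CommRing R] [CommRing A] [Algebra R A] (𝒜 : ℕ → Submodule R A) [GradedAlgebra 𝒜]
    (Y : (Proj 𝒜).Opens) (hY : IsCompact (Y : Set (Proj 𝒜))) :
    ∃ d : ℕ, 0 < d ∧
      (∀ y : Proj 𝒜, y ∈ Y → ∃ (i j : ℕ) (a b : A), a ∈ 𝒜 i ∧ b ∈ 𝒜 j ∧ i = j + d ∧ y ∈ Proj.basicOpen 𝒜 (a * b)) ∧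
      ∀ n : ℤ, PicF.IsInvertible ((Twist.twist 𝒜 (n * d)).restrict Y.ι) := by
  classical
  choose deg hdeg f hf hfx using Groth.Agent.H18.exists_homogeneous_pos_not_mem 𝒜
  obtain ⟨t, ht⟩ := hY.elim_finite_subcover
    (fun x : ProjectiveSpectrum 𝒜 => ((Proj.basicOpen 𝒜 (f x) : (Proj 𝒜).Opens) : Set (Proj 𝒜)))
    (fun x => (Proj.basicOpen 𝒜 (f x)).isOpen) (fun x _ => Set.mem_iUnion.mpr ⟨x, hfx x⟩)
  obtain ⟨d, hd⟩ : ∃ d, d = ∏ x ∈ t, deg x := ⟨_, rfl⟩
  have hdpos : 0 < d := hd ▸ Finset.prod_pos (fun x _ => hdeg x)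
  have key : ∀ y : ProjectiveSpectrum 𝒜, y ∈ Y → ∃ g ∈ 𝒜 d, g ∉ y.asHomogeneousIdeal := by
    intro y hy
    obtain ⟨x, hxt, hyx⟩ := Set.mem_iUnion₂.mp (ht hy)
    obtain ⟨m, hm⟩ := Finset.dvd_prod_of_mem deg hxt
    have hg : f x ^ m ∈ 𝒜 d := by
      have := SetLike.pow_mem_graded m (hf x)
      rwa [smul_eq_mul, mul_comm, ← hm, ← hd] at this
    exact ⟨f x ^ m, hg, fun h => hyx (y.isPrime.mem_of_pow_mem _ h)⟩
  refine ⟨d, hdpos, ?_, ?_⟩
  · intro y hy
    obtain ⟨g, hg, hgy⟩ := key y hy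
    refine ⟨d, 0, g, 1, hg, SetLike.GradedOne.one_mem, (Nat.zero_add d).symm, ?_⟩
    rw [mul_one]
    exact hgy
  · intro n
    exact Groth.Agent.H18.TwistRestrict.isInvertible_twist_restrict_of_cover 𝒜 Y d n
      (fun y => key y.1 y.2)

end Groth.Agent.S9580
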