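import Groth.Statements.S9581
import Groth.Agent.H48.WeakAss

set_option autoImplicit false
universe u
open CAlg

namespace Groth.Agent.S9581

open Submodule

theorem colon_bot_singleton {A : Type u} [CommRing A] {N : Type u} [AddCommGroup N] [Module A N]
    (x : N) : (⊥ : Submodule A N).colon {x} = (span A {x}).annihilator := by
  ext r
  rw [mem_colon_singleton, mem_bot, mem_annihilator_span_singleton]

/-- (1) ⇔ (3): for a ring R, an R-module M and a prime p of R, the prime p is weakly associated to M
(minimal among the primes containing the annihilator of some element of M) if and only if the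
localization M_p contains an element whose annihilator in R_p has radical equal to the maximal ideal
p R_p. -/
theorem result {R : Type u} [CommRing R] (M : Type u) [AddCommGroup M] [Module R M] (p : Ideal R) [p.IsPrime] :
    p ∈ FlatCA.weakAss R M ↔ IsAssociatedPrime (IsLocalRing.maximalIdeal (Localization.AtPrime p)) (LocalizedModule p.primeCompl M) := by
  constructor
  · rintro ⟨m, hp⟩
    refine ⟨inferInstance, LocalizedModule.mk m 1, ?_⟩
    rw [colon_bot_singleton, Groth.Agent.H48.ann_mk,
      IsLocalization.AtPrime.radical_map_of_mem_minimalPrimes (Localization.AtPrime p) p _ hp,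
      Localization.AtPrime.map_eq_maximalIdeal]
  · rintro ⟨_, y, hy⟩
    induction y using LocalizedModule.induction_on with | _ m s
    rw [colon_bot_singleton, Groth.Agent.H48.ann_mk] at hy
    refine ⟨m, ?_⟩
    have h1 : IsLocalRing.maximalIdeal (Localization.AtPrime p) ∈
        (Ideal.map (algebraMap R (Localization p.primeCompl))
          (span R {m}).annihilator).minimalPrimes := by
      rw [← Ideal.radical_minimalPrimes, ← hy, Ideal.minimalPrimes_eq_subsingleton_self]
      rfl
    rw [IsLocalization.minimalPrimes_map p.primeCompl, Set.mem_preimage,
      Localization.AtPrime.under_maximalIdeal] at h1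
    exact h1

end Groth.Agent.S9581
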