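import Groth.Statements.S9582
import Groth.Agent.H48.WeakAss

set_option autoImplicit false
universe u
open CAlg

namespace Groth.Agent.S9582

open Submodule in
/-- For a reduced ring R, the primes weakly associated to the R-module R (primes minimal over the
annihilator of some element) are exactly the minimal primes of R. -/
theorem result {R : Type u} [CommRing R] [IsReduced R] :
    FlatCA.weakAss R R = minimalPrimes R := by
  ext p
  constructor
  · rintro ⟨x, hp⟩
    haveI : p.IsPrime := hp.1.1
    -- x ∉ p
    have hxp : x ∉ p := by
      intro hx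
      obtain ⟨s, hs, n, hsn⟩ := Groth.Agent.H48.exists_mul_pow_mem_of_mem_minimalPrimes hp hx
      rw [mem_annihilator_span_singleton, smul_eq_mul] at hsn
      have hnil : IsNilpotent (s * x) := by
        refine ⟨n + 1, ?_⟩
        have : (s * x) ^ (n + 1) = s ^ n * (s * x ^ n * x) := by ring
        rw [this, hsn, mul_zero]
      have h0 : s * x = 0 := hnil.eq_zero
      have : s ∈ (span R {x}).annihilator := by
        rw [mem_annihilator_span_singleton, smul_eq_mul, h0]
      exact hs (hp.1.2 this)
    refine ⟨⟨inferInstance, bot_le⟩, ?_⟩
    rintro q ⟨hq, -⟩ hqp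
    apply hp.2 ⟨hq, ?_⟩ hqp
    intro r hr
    rw [mem_annihilator_span_singleton, smul_eq_mul] at hr
    have : r * x ∈ q := by rw [hr]; exact q.zero_mem
    exact (hq.mem_or_mem this).resolve_right (fun hxq => hxp (hqp hxq))
  · intro hp
    refine ⟨1, ?_⟩
    have : (span R {(1 : R)}).annihilator = ⊥ := by
      ext r
      rw [mem_annihilator_span_singleton, smul_eq_mul, mul_one, Ideal.mem_bot]
    rw [this]
    exact hp

end Groth.Agent.S9582
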