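import Groth.Statements.S9583
import Groth.Agent.H48.WeakAss

set_option autoImplicit false
universe u
open CAlg

namespace Groth.Agent.S9583

open Submodule in
/-- For a ring R and a short exact sequence 0 → M' → M → M'' → 0 of R-modules, every prime weakly
associated to M' is weakly associated to M, and every prime weakly associated to M is weakly
associated to M' or to M''. -/
theorem result {R : Type u} [CommRing R] {M' M M'' : Type u} [AddCommGroup M'] [Module R M'] [AddCommGroup M] [Module R M] [AddCommGroup M''] [Module R M''] (f : M' →ₗ[R] M) (g : M →ₗ[R] M'') (hf : Function.Injective f) (hg : Function.Surjective g) (hfg : Function.Exact f g) :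
    FlatCA.weakAss R M' ⊆ FlatCA.weakAss R M ∧ FlatCA.weakAss R M ⊆ FlatCA.weakAss R M' ∪ FlatCA.weakAss R M'' := by
  constructor
  · rintro p ⟨m', hp⟩
    refine ⟨f m', ?_⟩
    have : (span R {f m'}).annihilator = (span R {m'}).annihilator := by
      ext r
      rw [mem_annihilator_span_singleton, mem_annihilator_span_singleton, ← map_smul,
        map_eq_zero_iff f hf]
    rw [this]
    exact hp
  · rintro p ⟨m, hp⟩
    haveI : p.IsPrime := hp.1.1
    by_cases hcase : (span R {g m}).annihilator ≤ p
    · right
      refine ⟨g m, ⟨inferInstance, hcase⟩, ?_⟩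
      rintro q ⟨hq, hle⟩ hqp
      apply hp.2 ⟨hq, ?_⟩ hqp
      intro r hr
      apply hle
      rw [mem_annihilator_span_singleton] at hr ⊢
      rw [← map_smul, hr, map_zero]
    · left
      obtain ⟨r, hr, hrp⟩ := SetLike.not_le_iff_exists.mp hcase
      rw [mem_annihilator_span_singleton, ← map_smul] at hr
      obtain ⟨m', hm'⟩ := (hfg (r • m)).mp hr
      have hann : ∀ a : R, a ∈ (span R {m'}).annihilator ↔ a * r ∈ (span R {m}).annihilator := by
        intro a
        rw [mem_annihilator_span_singleton, mem_annihilator_span_singleton, mul_smul, ← hm',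
          ← map_smul, map_eq_zero_iff f hf]
      refine ⟨m', ⟨inferInstance, ?_⟩, ?_⟩
      · intro a ha
        have := hp.1.2 ((hann a).mp ha)
        exact (Ideal.IsPrime.mem_or_mem inferInstance this).resolve_right hrp
      · rintro q ⟨hq, hle⟩ hqp
        apply hp.2 ⟨hq, ?_⟩ hqp
        intro a ha
        apply hle
        rw [hann]
        exact Ideal.mul_mem_right _ _ ha

end Groth.Agent.S9583
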