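import Groth.Statements.S9586
import Groth.Agent.H48.WeakAss
import Mathlib.RingTheory.Finiteness.Ideal

set_option autoImplicit false
universe u
open CAlg

namespace Groth.Agent.S9586

open Submodule

/-- Key step: if `p` is a finitely generated prime minimal over `ann m`, there is `r : R` with
`u • r • m ≠ 0` for all `u ∉ p`, and for each `x ∈ p` some `u ∉ p` with `u • x • r • m = 0`. -/
theorem key {R : Type u} [CommRing R] (M : Type u) [AddCommGroup M] [Module R M] (p : Ideal R)
    [p.IsPrime] (hp : p.FG) (m : M) (hmin : p ∈ (span R {m}).annihilator.minimalPrimes) :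
    ∃ r : R, (∀ u : R, u ∉ p → u • r • m ≠ 0) ∧ ∀ x ∈ p, ∃ u : R, u ∉ p ∧ u • x • r • m = 0 := by
  let A := Localization.AtPrime p
  let I' : Ideal A := Ideal.map (algebraMap R A) (span R {m}).annihilator
  have hrad : I'.radical = IsLocalRing.maximalIdeal A := by
    rw [IsLocalization.AtPrime.radical_map_of_mem_minimalPrimes A p _ hmin,
      Localization.AtPrime.map_eq_maximalIdeal]
  have hfg : I'.radical.FG := by
    rw [hrad, ← Localization.AtPrime.map_eq_maximalIdeal]
    exact hp.map _
  have hex : ∃ n : ℕ, IsLocalRing.maximalIdeal A ^ n ≤ I' := by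
    obtain ⟨n, hn⟩ := I'.exists_radical_pow_le_of_fg hfg
    exact ⟨n, hrad ▸ hn⟩
  classical
  have hne : I' ≠ ⊤ := by
    intro h
    have : I'.radical = ⊤ := by rw [h, Ideal.radical_top]
    rw [hrad] at this
    exact (IsLocalRing.maximalIdeal.isMaximal A).ne_top this
  have hn0 : Nat.find hex ≠ 0 := by
    intro h0
    have := Nat.find_spec hex
    rw [h0, pow_zero, Ideal.one_eq_top, top_le_iff] at this
    exact hne this
  have hlt : ¬ IsLocalRing.maximalIdeal A ^ (Nat.find hex - 1) ≤ I' :=
    Nat.find_min hex (Nat.sub_one_lt hn0)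
  obtain ⟨z, hz, hzI⟩ := SetLike.not_le_iff_exists.mp hlt
  have hmz : ∀ x ∈ IsLocalRing.maximalIdeal A, x * z ∈ I' := by
    intro x hx
    apply Nat.find_spec hex
    have : Nat.find hex = (Nat.find hex - 1) + 1 := by omega
    rw [this, pow_succ']
    exact Ideal.mul_mem_mul hx hz
  obtain ⟨r, t, rfl⟩ := IsLocalization.exists_mk'_eq p.primeCompl z
  refine ⟨r, ?_, ?_⟩
  · intro u hu h0
    apply hzI
    rw [IsLocalization.mk'_mem_map_algebraMap_iff p.primeCompl]
    refine ⟨u, hu, ?_⟩
    rw [mem_annihilator_span_singleton, mul_smul]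
    exact h0
  · intro x hx
    have hx' : algebraMap R A x ∈ IsLocalRing.maximalIdeal A := by
      rw [← Localization.AtPrime.map_eq_maximalIdeal]
      exact Ideal.mem_map_of_mem _ hx
    have := hmz _ hx'
    rw [← IsLocalization.mk'_one (M := p.primeCompl) A x, ← IsLocalization.mk'_mul,
      IsLocalization.mk'_mem_map_algebraMap_iff p.primeCompl] at this
    obtain ⟨u, hu, h⟩ := this
    refine ⟨u, hu, ?_⟩
    rw [mem_annihilator_span_singleton, mul_smul, mul_smul] at h
    exact h

/-- For a ring R, an R-module M and a finitely generated prime ideal p of R, p is associated to M (equal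
to the annihilator of an element) if and only if p is weakly associated to M (minimal over the
annihilator of an element). -/
theorem result {R : Type u} [CommRing R] (M : Type u) [AddCommGroup M] [Module R M] (p : Ideal R) [p.IsPrime] (hp : p.FG) :
    p ∈ FlatCA.ass R M ↔ p ∈ FlatCA.weakAss R M := by
  constructor
  · rintro ⟨_, m, h⟩
    refine ⟨m, ?_⟩
    rw [← h, Ideal.minimalPrimes_eq_subsingleton_self]
    rfl
  · rintro ⟨m, hmin⟩
    obtain ⟨r, hr1, hr2⟩ := key M p hp m hmin
    obtain ⟨s, hs⟩ := hp
    classical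
    choose! u hu1 hu2 using hr2
    have hsp : ∀ x ∈ s, x ∈ p := fun x hx => hs ▸ Ideal.subset_span hx
    let U : R := ∏ x ∈ s, u x
    have hU : U ∉ p := by
      intro h
      rw [Ideal.IsPrime.prod_mem_iff] at h
      obtain ⟨x, hx, hux⟩ := h
      exact hu1 x (hsp x hx) hux
    refine ⟨inferInstance, U • r • m, ?_⟩
    apply le_antisymm
    · rw [← hs, Ideal.span_le]
      intro x hx
      rw [SetLike.mem_coe, mem_annihilator_span_singleton]
      obtain ⟨c, hc⟩ := Finset.dvd_prod_of_mem u hx
      have : x • U • r • m = c • (u x • x • r • m) := by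
        simp only [U, hc, smul_smul]
        congr 1
        ring
      rw [this, hu2 x (hsp x hx), smul_zero]
    · intro a ha
      rw [mem_annihilator_span_singleton, smul_smul] at ha
      by_contra hap
      exact hr1 (a * U) (fun h => (Ideal.IsPrime.mem_or_mem inferInstance h).elim hap hU) ha

end Groth.Agent.S9586
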