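import Groth.Statements.S9590
import Groth.Agent.H48.WeakAss

set_option autoImplicit false
universe u
open CAlg

namespace Groth.Agent.S9590

open Submodule

theorem ann_mk_of_regular {R : Type u} [CommRing R] (S : Submonoid R) (M : Type u) [AddCommGroup M]
    [Module R M] (hS : ∀ s ∈ S, IsSMulRegular M s) (m : M) (s : S) :
    (span R {LocalizedModule.mk m s}).annihilator = (span R {m}).annihilator := by
  ext r
  rw [Groth.Agent.H48.mem_ann_mk_iff, mem_annihilator_span_singleton]
  constructor
  · rintro ⟨u, hu⟩
    exact (hS u u.2).right_eq_zero_of_smul hu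
  · intro h
    exact ⟨1, by simp [h]⟩

/-- For a ring R, an R-module M and a multiplicative subset S of R such that every element of S is a
nonzerodivisor on M, the primes of R weakly associated to M are the same as those weakly associated
to the R-module S⁻¹M. -/
theorem result {R : Type u} [CommRing R] (S : Submonoid R) (M : Type u) [AddCommGroup M] [Module R M] (hS : ∀ s ∈ S, IsSMulRegular M s) :
    FlatCA.weakAss R M = FlatCA.weakAss R (LocalizedModule S M) := by
  ext p
  constructor
  · rintro ⟨m, hp⟩
    refine ⟨LocalizedModule.mk m 1, ?_⟩
    rw [ann_mk_of_regular S M hS]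
    exact hp
  · rintro ⟨y, hp⟩
    induction y using LocalizedModule.induction_on with | _ m s
    rw [ann_mk_of_regular S M hS] at hp
    exact ⟨m, hp⟩

end Groth.Agent.S9590
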