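import Groth.Statements.S9594
import Groth.Agent.H48.WeakAss

set_option autoImplicit false
universe u
open CAlg

namespace Groth.Agent.S9594

open Submodule

/-- For a ring R, an R-module M and a multiplicative subset S of R, (1) the primes of R associated to
the R-module S⁻¹M are the inverse images of the primes of S⁻¹R associated to S⁻¹M, and (2) a prime
of R associated to M which does not meet S is associated to the R-module S⁻¹M. Here a prime is
associated to a module when it equals the annihilator of some element. -/
theorem result {R : Type u} [CommRing R] (S : Submonoid R) (M : Type u) [AddCommGroup M] [Module R M] :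
    FlatCA.ass R (LocalizedModule S M) = Ideal.comap (algebraMap R (Localization S)) '' FlatCA.ass (Localization S) (LocalizedModule S M) ∧
      ∀ p ∈ FlatCA.ass R M, Disjoint (S : Set R) (p : Set R) → p ∈ FlatCA.ass R (LocalizedModule S M) := by
  constructor
  · ext p
    constructor
    · rintro ⟨hp, y, rfl⟩
      refine ⟨(span (Localization S) {y}).annihilator, ⟨?_, y, rfl⟩,
        (Groth.Agent.H48.ann_restrict_eq_comap S y).symm⟩
      -- primality
      have hdisj : Disjoint (S : Set R) ((span R {y}).annihilator : Set R) := by
        rw [Set.disjoint_left]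
        intro u huS hu
        apply hp.ne_top
        rw [Groth.Agent.H48.ann_eq_top_iff]
        induction y using LocalizedModule.induction_on with | _ m s
        rw [SetLike.mem_coe, Groth.Agent.H48.mem_ann_mk_iff] at hu
        obtain ⟨v, hv⟩ := hu
        rw [Groth.Agent.H48.localizedModule_mk_eq_zero_iff]
        refine ⟨v * ⟨u, huS⟩, ?_⟩
        rw [Submonoid.coe_mul, mul_smul]
        exact hv
      have := IsLocalization.isPrime_of_isPrime_disjoint S (Localization S) _ hp hdisj
      rw [Groth.Agent.H48.ann_restrict_eq_comap S y, IsLocalization.map_comap S] at this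
      exact this
    · rintro ⟨Q, ⟨hQ, y, rfl⟩, rfl⟩
      exact ⟨Ideal.IsPrime.comap _, y, (Groth.Agent.H48.ann_restrict_eq_comap S y).symm⟩
  · rintro p ⟨hp, m, rfl⟩ hdisj
    refine ⟨hp, LocalizedModule.mk m 1, ?_⟩
    ext r
    rw [Groth.Agent.H48.mem_ann_mk_iff]
    constructor
    · intro h
      rw [mem_annihilator_span_singleton] at h
      exact ⟨1, by simp [h]⟩
    · rintro ⟨u, hu⟩
      rw [← mul_smul] at hu
      have hmem : (u : R) * r ∈ (span R {m}).annihilator := by
        rw [mem_annihilator_span_singleton]; exact hu
      refine (hp.mem_or_mem hmem).resolve_left ?_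
      intro hu'
      exact Set.disjoint_left.mp hdisj u.2 hu'

end Groth.Agent.S9594
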