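import Groth.Statements.S9596
import Mathlib.RingTheory.Ideal.MinimalPrime.Colon
import Mathlib.RingTheory.Ideal.MinimalPrime.Localization

set_option autoImplicit false
universe u
open CAlg

namespace Groth.Agent.S9596

open Submodule in
/-- For a Noetherian ring R and any R-module M, a prime which is minimal among the primes in the support
of M is an associated prime of M. -/
theorem result {R : Type u} [CommRing R] [IsNoetherianRing R] (M : Type u) [AddCommGroup M] [Module R M] (p : PrimeSpectrum R) (hp : Minimal (fun q : PrimeSpectrum R => q ∈ Module.support R M) p) :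
    p.asIdeal ∈ associatedPrimes R M := by
  obtain ⟨m, hm⟩ := Module.mem_support_iff_exists_annihilator.mp hp.1
  obtain ⟨q, hq, hqp⟩ := Ideal.exists_minimalPrimes_le hm
  haveI : q.IsPrime := hq.1.1
  have hqs : (⟨q, inferInstance⟩ : PrimeSpectrum R) ∈ Module.support R M :=
    Module.mem_support_iff_exists_annihilator.mpr ⟨m, hq.1.2⟩
  have hpq : p ≤ ⟨q, inferInstance⟩ := hp.2 hqs hqp
  have heq : q = p.asIdeal := le_antisymm hqp hpq
  rw [heq] at hq
  have hcolon : (⊥ : Submodule R M).colon {m} = (span R {m}).annihilator := by
    ext r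
    rw [mem_colon_singleton, mem_bot, mem_annihilator_span_singleton]
  rw [← hcolon] at hq
  obtain ⟨x', hx'⟩ := exists_eq_colon_of_mem_minimalPrimes hq
  exact isAssociatedPrime_iff.mpr ⟨p.2, x', hx'⟩

end Groth.Agent.S9596
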