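import Groth.Statements.S9597
import Mathlib.RingTheory.Ideal.AssociatedPrime.Localization
import Mathlib.RingTheory.Ideal.AssociatedPrime.Finiteness
import Mathlib.RingTheory.Ideal.Quotient.Noetherian

set_option autoImplicit false
universe u
open CAlg

namespace Groth.Agent.S9597

open Submodule

/-- The contraction of an associated prime of `R/Ann M` is an associated prime of `M`. -/
theorem comap_mem_ass {R : Type u} [CommRing R] [IsNoetherianRing R] (M : Type u) [AddCommGroup M]
    [Module R M] [Module.Finite R M]
    (p' : Ideal (R ⧸ Module.annihilator R M))
    (hp' : p' ∈ associatedPrimes (R ⧸ Module.annihilator R M) (R ⧸ Module.annihilator R M)) :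
    p'.comap (Ideal.Quotient.mk (Module.annihilator R M)) ∈ associatedPrimes R M := by
  obtain ⟨hprime, xbar, hx⟩ := isAssociatedPrime_iff.mp hp'
  obtain ⟨x, rfl⟩ := Ideal.Quotient.mk_surjective xbar
  set p := p'.comap (Ideal.Quotient.mk (Module.annihilator R M)) with hp
  haveI : p.IsPrime := Ideal.IsPrime.comap _
  let N : Submodule R M := LinearMap.range (LinearMap.lsmul R M x)
  have hann : Module.annihilator R N = p := by
    ext r
    rw [hp, Ideal.mem_comap, hx, mem_colon_singleton, mem_bot, smul_eq_mul, ← map_mul,
      Ideal.Quotient.eq_zero_iff_mem, Module.mem_annihilator, Module.mem_annihilator]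
    constructor
    · intro h m
      have := h ⟨x • m, ⟨m, rfl⟩⟩
      rw [mul_smul]
      exact congrArg Subtype.val this
    · rintro h ⟨_, m, rfl⟩
      apply Subtype.ext
      have := h m
      rw [mul_smul] at this
      exact this
  have hmem : p ∈ associatedPrimes R N := by
    apply Module.associatedPrimes.minimalPrimes_annihilator_subset_associatedPrimes R N
    rw [hann, Ideal.minimalPrimes_eq_subsingleton_self]
    rfl
  exact associatedPrimes.subset_of_injective N.subtype_injective hmem

/-- Let R be a Noetherian ring, M a finite R-module whose associated primes are pairwise incomparable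
under inclusion (M has no embedded associated primes), and I the annihilator of M. Then the
associated primes of R/I, viewed as a module over itself, are again pairwise incomparable: R/I has
no embedded primes either. -/
theorem result {R : Type u} [CommRing R] [IsNoetherianRing R] (M : Type u) [AddCommGroup M] [Module R M] [Module.Finite R M] (hM : ∀ p ∈ associatedPrimes R M, ∀ q ∈ associatedPrimes R M, p ≤ q → p = q) :
    ∀ p ∈ associatedPrimes (R ⧸ Module.annihilator R M) (R ⧸ Module.annihilator R M), ∀ q ∈ associatedPrimes (R ⧸ Module.annihilator R M) (R ⧸ Module.annihilator R M), p ≤ q → p = q := by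
  intro p hp q hq hpq
  apply Ideal.comap_injective_of_surjective _ Ideal.Quotient.mk_surjective
  exact hM _ (comap_mem_ass M p hp) _ (comap_mem_ass M q hq) (Ideal.comap_mono hpq)

end Groth.Agent.S9597
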