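import Groth.Statements.S9598
import Mathlib.RingTheory.Ideal.AssociatedPrime.Finiteness
import Mathlib.RingTheory.Jacobson.Ring
import Mathlib.RingTheory.KrullDimension.Basic
import Mathlib.RingTheory.Spectrum.Maximal.Defs

set_option autoImplicit false
universe u
open CAlg

namespace Groth.Agent.S9598

/-- In a Jacobson ring with finitely many maximal ideals every prime is maximal. -/
theorem isMaximal_of_isPrime {S : Type u} [CommRing S] [IsJacobsonRing S]
    [Finite (MaximalSpectrum S)] (p : Ideal S) (hp : p.IsPrime) : p.IsMaximal := by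
  have hj : p.jacobson = p := IsJacobsonRing.out inferInstance hp.isRadical
  let T : Set (Ideal S) := {J | p ≤ J ∧ J.IsMaximal}
  have hT : T.Finite := by
    have : T ⊆ Set.range (fun m : MaximalSpectrum S => m.asIdeal) := by
      rintro J ⟨-, hJ⟩
      exact ⟨⟨J, hJ⟩, rfl⟩
    exact (Set.finite_range _).subset this
  have hinf : hT.toFinset.inf id ≤ p := by
    rw [Finset.inf_id_eq_sInf, Set.Finite.coe_toFinset]
    exact hj.le
  obtain ⟨J, hJ, hJp⟩ := (Ideal.IsPrime.inf_le' hp).mp hinf
  rw [Set.Finite.mem_toFinset] at hJ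
  have : J = p := hJ.2.eq_of_le hp.ne_top hJp
  exact this ▸ hJ.2

/-- For a field k and a finite type k-algebra S with dim S > 0, some element of S is a nonzerodivisor
and a nonunit. -/
theorem result {k S : Type u} [Field k] [CommRing S] [Algebra k S] [Algebra.FiniteType k S] (hdim : 0 < ringKrullDim S) :
    ∃ f : S, f ∈ nonZeroDivisors S ∧ ¬ IsUnit f := by
  by_contra hcon
  push Not at hcon
  haveI : IsNoetherianRing S := Algebra.FiniteType.isNoetherianRing k S
  haveI : IsJacobsonRing S := isJacobsonRing_of_finiteType (A := k)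
  haveI : IsFractionRing S S :=
    IsFractionRing.self_iff_nonZeroDivisors_le_isUnit.mpr (fun f hf => hcon f hf)
  have h0 : Ring.KrullDimLE 0 S := Ring.KrullDimLE.mk₀ (fun I hI => isMaximal_of_isPrime I hI)
  rw [Ring.krullDimLE_iff] at h0
  exact absurd hdim (not_lt.mpr (by exact_mod_cast h0))

end Groth.Agent.S9598
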