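import Groth.Statements.S9601
-- import your own Groth.Agent.* helpers here
import Mathlib.RingTheory.AdicCompletion.Completeness

set_option autoImplicit false
universe u
open CAlg

namespace Groth.Agent.S9601

/-- For a ring R, an ideal I of R and an R-module M, let M^ be the I-adic completion and K_n the kernel
of the projection M^ → M/IⁿM. The completion M^ is I-adically complete exactly when K_n = Iⁿ M^
holds for every n ≥ 1. -/
theorem result {R : Type u} [CommRing R] (I : Ideal R) (M : Type u) [AddCommGroup M] [Module R M] :
    IsAdicComplete I (AdicCompletion I M) ↔ ∀ n : ℕ, 1 ≤ n → LinearMap.ker (AdicCompletion.eval I M n) = I ^ n • (⊤ : Submodule R (AdicCompletion I M)) := by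
  constructor
  · intro hc n _
    refine le_antisymm ?_ (AdicCompletion.pow_smul_top_le_ker_eval (M := M) I n)
    intro x hx
    rw [LinearMap.mem_ker, AdicCompletion.eval_apply] at hx
    obtain ⟨a, rfl⟩ := AdicCompletion.mk_surjective I M x
    have han : a n ∈ (I ^ n • ⊤ : Submodule R M) := by
      have h0 : Submodule.mkQ (I ^ n • ⊤ : Submodule R M) (a n) = 0 := hx
      simpa using h0
    have hanj : ∀ j, a (n + j) ∈ (I ^ n • ⊤ : Submodule R M) := by
      intro j
      have h1 := SModEq.sub_mem.mp (a.property (Nat.le_add_right n j))
      have h2 : a (n + j) = a n - (a n - a (n + j)) := by abel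
      rw [h2]; exact Submodule.sub_mem _ han h1
    have hof : ∀ (k : ℕ) (m : M), m ∈ (I ^ k • ⊤ : Submodule R M) →
        AdicCompletion.of I M m ∈ (I ^ k • ⊤ : Submodule R (AdicCompletion I M)) := by
      intro k m hm
      have h1 : AdicCompletion.of I M m ∈
          Submodule.map (AdicCompletion.of I M) (I ^ k • ⊤ : Submodule R M) :=
        Submodule.mem_map_of_mem hm
      rw [Submodule.map_smul''] at h1
      exact (smul_mono_right _ le_top : _ ≤ (I ^ k • ⊤ : Submodule R (AdicCompletion I M))) h1
    have hcauchy : ∀ {i j : ℕ}, i ≤ j →
        AdicCompletion.of I M (a (n + i)) ≡ AdicCompletion.of I M (a (n + j))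
          [SMOD (I ^ i • ⊤ : Submodule R (AdicCompletion I M))] := by
      intro i j hij
      rw [SModEq.sub_mem, ← map_sub]
      apply hof
      have h1 := SModEq.sub_mem.mp (a.property (show n + i ≤ n + j by omega))
      exact Submodule.smul_mono_left (Ideal.pow_le_pow_right (Nat.le_add_left i n)) h1
    obtain ⟨z, hz⟩ := hc.toIsPrecomplete.prec'
      (fun j => AdicCompletion.of I M (a (n + j))) hcauchy
    have hzx : z = AdicCompletion.mk I M a := by
      apply AdicCompletion.ext
      intro j
      have h1 := SModEq.sub_mem.mp (hz j)
      have h2 := AdicCompletion.pow_smul_top_le_ker_eval (M := M) I j h1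
      rw [LinearMap.mem_ker, map_sub, sub_eq_zero, AdicCompletion.eval_apply,
        AdicCompletion.eval_apply] at h2
      rw [← h2]
      show Submodule.mkQ _ (a (n + j)) = Submodule.mkQ _ (a j)
      exact (a.property (Nat.le_add_left j n)).symm
    rw [← hzx]
    have h1 := SModEq.sub_mem.mp (hz n)
    have h2 : AdicCompletion.of I M (a (n + n)) ∈
        (I ^ n • ⊤ : Submodule R (AdicCompletion I M)) := hof n _ (hanj n)
    have h3 : z = AdicCompletion.of I M (a (n + n)) -
        (AdicCompletion.of I M (a (n + n)) - z) := by abel
    rw [h3]; exact Submodule.sub_mem _ h2 h1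
  · intro hk
    have hk' : ∀ n, (I ^ n • ⊤ : Submodule R (AdicCompletion I M)) =
        LinearMap.ker (AdicCompletion.eval I M n) := by
      intro n
      rcases Nat.eq_zero_or_pos n with rfl | hn
      · have h0 : (I ^ 0 • ⊤ : Submodule R (AdicCompletion I M)) = ⊤ := by
          rw [pow_zero, Ideal.one_eq_top, Submodule.top_smul]
        rw [h0]
        symm
        rw [eq_top_iff]
        intro x _
        rw [LinearMap.mem_ker]
        have hsub : Subsingleton (M ⧸ (I ^ 0 • ⊤ : Submodule R M)) := by
          rw [pow_zero, Ideal.one_eq_top, Submodule.top_smul]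
          exact Submodule.Quotient.subsingleton_iff.mpr rfl
        exact Subsingleton.elim _ _
      · exact (hk n hn).symm
    exact
      { prec' := fun x hx => by
          let L : AdicCompletion I M :=
            { val := fun i => (x i).val i
              property := by
                intro m n h'
                simp only [AdicCompletion.transitionMap_comp_eval_apply]
                have hx' := hx h'
                rwa [SModEq.sub_mem, hk' m, LinearMap.mem_ker, _root_.map_sub,
                  sub_eq_zero, AdicCompletion.eval_apply, AdicCompletion.eval_apply,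
                  eq_comm] at hx' }
          refine ⟨L, fun i => ?_⟩
          rw [SModEq.sub_mem, hk' i]
          simp [L] }

end Groth.Agent.S9601
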