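import Groth.Statements.S9602
-- import your own Groth.Agent.* helpers here
import Mathlib.RingTheory.Ideal.Quotient.Nilpotent

set_option autoImplicit false
universe u
open CAlg

namespace Groth.Agent.S9602

/-- Key lemma: an element of the completion whose image in `R ⧸ I` is a unit is a unit. -/
theorem isUnit_of_isUnit_evalOne {R : Type u} [CommRing R] (I : Ideal R)
    (x : AdicCompletion I R) (hx : IsUnit (AdicCompletion.evalOneₐ I x)) : IsUnit x := by
  obtain ⟨a, rfl⟩ := AdicCompletion.mk_surjective I R x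
  have h1 : AdicCompletion.evalOneₐ I (AdicCompletion.mk I R a) = Ideal.Quotient.mk I (a 1) := by
    rw [← AdicCompletion.factorₐ_evalₐ_one, AdicCompletion.evalₐ_mk]
    rfl
  rw [h1] at hx
  have hsub : ∀ m n, m ≤ n → a m - a n ∈ I ^ m := by
    intro m n hmn
    have := SModEq.sub_mem.mp (a.property hmn)
    simpa using this
  have hcong : ∀ n, 1 ≤ n → Ideal.Quotient.mk I (a n) = Ideal.Quotient.mk I (a 1) := by
    intro n hn
    rw [eq_comm, Ideal.Quotient.eq]
    simpa using hsub 1 n hn
  have hunit : ∀ n, IsUnit (Ideal.Quotient.mk (I ^ n) (a n)) := by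
    intro n
    rcases Nat.eq_zero_or_pos n with rfl | hn
    · have : Subsingleton (R ⧸ I ^ 0) := by
        rw [pow_zero]; exact Ideal.Quotient.subsingleton_iff.mpr Ideal.one_eq_top
      exact isUnit_of_subsingleton _
    · rw [Ideal.Quotient.isUnit_mk_pow_iff_isUnit_mk I hn.ne', hcong n hn]
      exact hx
  choose u hu using hunit
  choose b hb using fun n => Ideal.Quotient.mk_surjective (↑(u n)⁻¹ : R ⧸ I ^ n)
  have hab : ∀ n, a n * b n - 1 ∈ I ^ n := by
    intro n
    rw [← Ideal.Quotient.eq, map_mul, hb n, ← hu n, map_one]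
    exact (u n).mul_inv
  have hbc : AdicCompletion.IsAdicCauchy I R b := by
    intro m n hmn
    rw [SModEq.sub_mem]
    have ham : a m - a n ∈ I ^ m := hsub m n hmn
    have h1 := hab m
    have h2 : a n * b n - 1 ∈ I ^ m := Ideal.pow_le_pow_right hmn (hab n)
    have key : b m - b n = b m * (-(a n * b n - 1)) + b n * (a m * b m - 1)
        + b m * b n * (-(a m - a n)) := by ring
    simp only [smul_eq_mul, Ideal.mul_top]
    rw [key]
    exact (I ^ m).add_mem ((I ^ m).add_mem ((I ^ m).mul_mem_left _ ((I ^ m).neg_mem h2))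
      ((I ^ m).mul_mem_left _ h1)) ((I ^ m).mul_mem_left _ ((I ^ m).neg_mem ham))
  refine IsUnit.of_mul_eq_one (AdicCompletion.mk I R ⟨b, hbc⟩) ?_
  apply AdicCompletion.ext_evalₐ
  intro n
  rw [map_mul, AdicCompletion.evalₐ_mk, AdicCompletion.evalₐ_mk, map_one, ← map_mul,
    ← map_one (Ideal.Quotient.mk (I ^ n)), Ideal.Quotient.eq]
  exact hab n

/-- Let R be a ring, I an ideal of R and R^ = lim R/Iⁿ the I-adic completion. An element of R^ whose
image in R/I is invertible is itself invertible in R^; and the kernel of R^ → R/I as well as the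
extended ideal I R^ both lie inside the Jacobson radical of R^. -/
theorem result {R : Type u} [CommRing R] (I : Ideal R) :
    (∀ x : AdicCompletion I R, IsUnit (AdicCompletion.evalOneₐ I x) → IsUnit x) ∧
      RingHom.ker (AdicCompletion.evalOneₐ I).toRingHom ≤ (⊥ : Ideal (AdicCompletion I R)).jacobson ∧
      I.map (algebraMap R (AdicCompletion I R)) ≤ (⊥ : Ideal (AdicCompletion I R)).jacobson := by
  have hker : RingHom.ker (AdicCompletion.evalOneₐ I).toRingHom ≤
      (⊥ : Ideal (AdicCompletion I R)).jacobson := by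
    intro x hx
    rw [RingHom.mem_ker] at hx
    have hx' : AdicCompletion.evalOneₐ I x = 0 := hx
    rw [Ideal.mem_jacobson_bot]
    intro y
    apply isUnit_of_isUnit_evalOne
    rw [map_add, map_mul, hx', zero_mul, zero_add, map_one]
    exact isUnit_one
  refine ⟨isUnit_of_isUnit_evalOne I, hker, le_trans ?_ hker⟩
  rw [Ideal.map_le_iff_le_comap]
  intro r hr
  rw [Ideal.mem_comap, RingHom.mem_ker]
  have := congrArg (fun f => f r) (AdicCompletion.evalOneₐ_comp_algebraMap_eq_mk I)
  simp only [RingHom.comp_apply] at this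
  rw [this]
  exact Ideal.Quotient.eq_zero_iff_mem.mpr hr

end Groth.Agent.S9602
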