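import Groth.Statements.S9603
import Mathlib
-- import your own Groth.Agent.* helpers here

set_option autoImplicit false
universe u
open CAlg

namespace Groth.Agent.S9603

/-- Precompleteness for two ideals implies precompleteness for their sum. -/
lemma isPrecomplete_sup {A M : Type*} [CommRing A] [AddCommGroup M] [Module A M] (I J : Ideal A)
    (hI : IsPrecomplete I M) (hJ : IsPrecomplete J M) : IsPrecomplete (I ⊔ J) M := by
  refine ⟨fun a ha => ?_⟩
  have hinc : ∀ k, a (2 * (k + 1)) - a (2 * k) ∈
      (I ^ k • ⊤ : Submodule A M) ⊔ (J ^ k • ⊤ : Submodule A M) := by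
    intro k
    have h := ha (show 2 * k ≤ 2 * (k + 1) by omega)
    rw [SModEq.sub_mem] at h
    have hle : ((I ⊔ J) ^ (2 * k) • ⊤ : Submodule A M) ≤ I ^ k • ⊤ ⊔ J ^ k • ⊤ := by
      rw [← Submodule.sup_smul]
      apply Submodule.smul_mono_left
      rw [two_mul]
      exact Ideal.sup_pow_add_le_pow_sup_pow
    have h2 := hle h
    rw [← neg_sub]
    exact Submodule.neg_mem _ h2
  choose u hu v hv huv using fun k => Submodule.mem_sup.mp (hinc k)
  let c : ℕ → M := fun n => ∑ k ∈ Finset.range n, u k
  let d : ℕ → M := fun n => ∑ k ∈ Finset.range n, v k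
  have hc : ∀ {m n}, m ≤ n → c m ≡ c n [SMOD (I ^ m • ⊤ : Submodule A M)] := by
    intro m n hmn
    rw [SModEq.sub_mem]
    have h1 : c n - c m = ∑ k ∈ Finset.Ico m n, u k := by
      simp only [c]
      rw [Finset.sum_Ico_eq_sub _ hmn]
    rw [← neg_sub, h1]
    apply Submodule.neg_mem
    apply Submodule.sum_mem
    intro k hk
    exact Submodule.smul_mono_left (Ideal.pow_le_pow_right (Finset.mem_Ico.mp hk).1) (hu k)
  have hd : ∀ {m n}, m ≤ n → d m ≡ d n [SMOD (J ^ m • ⊤ : Submodule A M)] := by
    intro m n hmn
    rw [SModEq.sub_mem]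
    have h1 : d n - d m = ∑ k ∈ Finset.Ico m n, v k := by
      simp only [d]
      rw [Finset.sum_Ico_eq_sub _ hmn]
    rw [← neg_sub, h1]
    apply Submodule.neg_mem
    apply Submodule.sum_mem
    intro k hk
    exact Submodule.smul_mono_left (Ideal.pow_le_pow_right (Finset.mem_Ico.mp hk).1) (hv k)
  obtain ⟨L1, hL1⟩ := hI.prec hc
  obtain ⟨L2, hL2⟩ := hJ.prec hd
  refine ⟨a 0 + L1 + L2, fun n => ?_⟩
  have hb : ∀ n, a (2 * n) = a 0 + c n + d n := by
    intro n
    induction n with
    | zero => simp [c, d]
    | succ n ih =>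
      have := huv n
      simp only [c, d, Finset.sum_range_succ] at ih ⊢
      have e : a (2 * (n + 1)) = a (2 * n) + (u n + v n) := by rw [this]; abel
      rw [e, ih]
      abel
  have h1 : a n ≡ a (2 * n) [SMOD ((I ⊔ J) ^ n • ⊤ : Submodule A M)] := ha (by omega)
  have h2 : a (2 * n) ≡ a 0 + L1 + L2 [SMOD ((I ⊔ J) ^ n • ⊤ : Submodule A M)] := by
    rw [hb, SModEq.sub_mem]
    have e : a 0 + c n + d n - (a 0 + L1 + L2) = (c n - L1) + (d n - L2) := by abel
    rw [e]
    apply Submodule.add_mem
    · exact Submodule.smul_mono_left (Ideal.pow_right_mono le_sup_left n)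
        (SModEq.sub_mem.mp (hL1 n))
    · exact Submodule.smul_mono_left (Ideal.pow_right_mono le_sup_right n)
        (SModEq.sub_mem.mp (hL2 n))
  exact h1.trans h2

/-- For a ring A, elements f_1, …, f_r generating an ideal I and an A-module M, if the canonical map
from M to its (f_i)-adic completion is surjective for every i, then the canonical map from M to its
I-adic completion is surjective. -/
theorem result {A : Type u} [CommRing A] {r : ℕ} (f : Fin r → A) (M : Type u) [AddCommGroup M] [Module A M] (h : ∀ i, Function.Surjective (AdicCompletion.of (Ideal.span {f i}) M)) :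
    Function.Surjective (AdicCompletion.of (Ideal.span (Set.range f)) M) := by
  classical
  rw [AdicCompletion.of_surjective_iff]
  have h' : ∀ i, IsPrecomplete (Ideal.span {f i}) M := fun i =>
    AdicCompletion.of_surjective_iff.mp (h i)
  have key : ∀ s : Finset (Fin r), IsPrecomplete (s.sup fun i => Ideal.span {f i}) M := by
    intro s
    induction s using Finset.induction_on with
    | empty => rw [Finset.sup_empty]; infer_instance
    | insert i s _ ih =>
      rw [Finset.sup_insert]
      exact isPrecomplete_sup _ _ (h' i) ih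
  have e : Ideal.span (Set.range f) = Finset.univ.sup fun i => Ideal.span {f i} := by
    rw [Finset.sup_univ_eq_iSup, ← Ideal.span_iUnion]
    congr 1
    ext x
    simp [eq_comm]
  rw [e]
  exact key _

end Groth.Agent.S9603
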