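import Groth.Statements.S9604

set_option autoImplicit false
universe u
open CAlg

namespace Groth.Agent.S9604

theorem one_dir {R : Type u} [CommRing R] (I J : Ideal R) (c d : ℕ) (hc : 0 < c) (hd : 0 < d)
    (hI : I ^ c ≤ J) (hJ : J ^ d ≤ I) (M : Type u) [AddCommGroup M] [Module R M]
    (h : IsAdicComplete I M) : IsAdicComplete J M := by
  have hJI : ∀ n : ℕ, (J ^ (d * n) • ⊤ : Submodule R M) ≤ (I ^ n • ⊤ : Submodule R M) := by
    intro n
    apply Submodule.smul_mono_left
    rw [pow_mul]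
    exact Ideal.pow_right_mono hJ n
  have hIJ : ∀ n : ℕ, (I ^ (c * n) • ⊤ : Submodule R M) ≤ (J ^ n • ⊤ : Submodule R M) := by
    intro n
    apply Submodule.smul_mono_left
    rw [pow_mul]
    exact Ideal.pow_right_mono hI n
  have hmono : ∀ {m n : ℕ}, m ≤ n → (J ^ n • ⊤ : Submodule R M) ≤ (J ^ m • ⊤ : Submodule R M) :=
    fun hmn => Submodule.smul_mono_left (Ideal.pow_le_pow_right hmn)
  haveI : IsHausdorff J M := by
    refine ⟨fun x hx => ?_⟩
    apply h.toIsHausdorff.haus' x
    intro n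
    exact (hx (d * n)).mono (hJI n)
  haveI : IsPrecomplete J M := by
    refine ⟨fun f hf => ?_⟩
    have hcau : ∀ {k l : ℕ}, k ≤ l →
        f (d * k) ≡ f (d * l) [SMOD (I ^ k • ⊤ : Submodule R M)] := by
      intro k l hkl
      exact (hf (Nat.mul_le_mul_left d hkl)).mono (hJI k)
    obtain ⟨L, hL⟩ := h.toIsPrecomplete.prec' (fun k => f (d * k)) hcau
    refine ⟨L, fun n => ?_⟩
    have h1 : f n ≡ f (d * (c * n)) [SMOD (J ^ n • ⊤ : Submodule R M)] := by
      apply hf
      calc n = 1 * (1 * n) := by ring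
        _ ≤ d * (c * n) := Nat.mul_le_mul hd (Nat.mul_le_mul hc le_rfl)
    have h2 : f (d * (c * n)) ≡ L [SMOD (J ^ n • ⊤ : Submodule R M)] :=
      (hL (c * n)).mono (hIJ n)
    exact h1.trans h2
  exact ⟨⟩

/-- Let R be a ring and I, J ideals of R with I^c ⊆ J and J^d ⊆ I for some integers c, d > 0. Then for
an R-module, being complete in the I-adic topology is equivalent to being complete in the J-adic
topology. -/
theorem result {R : Type u} [CommRing R] (I J : Ideal R) (c d : ℕ) (hc : 0 < c) (hd : 0 < d) (hI : I ^ c ≤ J) (hJ : J ^ d ≤ I) (M : Type u) [AddCommGroup M] [Module R M] :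
    IsAdicComplete I M ↔ IsAdicComplete J M :=
  ⟨one_dir I J c d hc hd hI hJ M, one_dir J I d c hd hc hJ hI M⟩

end Groth.Agent.S9604
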