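import Groth.Statements.S9605
import Mathlib.RingTheory.AdicCompletion.Exactness

set_option autoImplicit false
universe u
open CAlg

namespace Groth.Agent.S9605

theorem smul_top_quot {R : Type u} [CommRing R] (J : Ideal R) (M : Type u) [AddCommGroup M]
    [Module R M] (K : Submodule R M) :
    (J • ⊤ : Submodule R (M ⧸ K)) = Submodule.map K.mkQ (J • ⊤ : Submodule R M) := by
  rw [Submodule.map_smul'', Submodule.map_top, Submodule.range_mkQ]

theorem mk_mem_iff {R : Type u} [CommRing R] (J : Ideal R) (M : Type u) [AddCommGroup M]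
    [Module R M] (K : Submodule R M) (x : M) :
    (Submodule.Quotient.mk x : M ⧸ K) ∈ (J • ⊤ : Submodule R (M ⧸ K)) ↔
      x ∈ K ⊔ (J • ⊤ : Submodule R M) := by
  rw [smul_top_quot]
  constructor
  · rintro ⟨y, hy, hxy⟩
    have : x - y ∈ K := by
      rw [← Submodule.Quotient.mk_eq_zero, Submodule.Quotient.mk_sub, sub_eq_zero]
      exact hxy.symm
    have hx : x = (x - y) + y := by abel
    rw [hx]
    exact Submodule.add_mem_sup this hy
  · intro hx
    obtain ⟨k, hk, y, hy, rfl⟩ := Submodule.mem_sup.mp hx
    refine ⟨y, hy, ?_⟩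
    rw [Submodule.mkQ_apply, Submodule.Quotient.mk_add,
      (Submodule.Quotient.mk_eq_zero K).mpr hk, zero_add]

/-- For a ring R, an ideal I of R, an I-adically complete R-module M and a submodule K of M, the
quotient M/K is I-adically complete if and only if K = ⋂ₙ (K + IⁿM). -/
theorem result {R : Type u} [CommRing R] (I : Ideal R) (M : Type u) [AddCommGroup M] [Module R M] [IsAdicComplete I M] (K : Submodule R M) :
    IsAdicComplete I (M ⧸ K) ↔ K = ⨅ n : ℕ, K ⊔ I ^ n • (⊤ : Submodule R M) := by
  have hprec : IsPrecomplete I (M ⧸ K) := by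
    rw [← AdicCompletion.of_surjective_iff]
    intro z
    obtain ⟨w, rfl⟩ := AdicCompletion.map_surjective I (Submodule.mkQ_surjective K) z
    obtain ⟨m, rfl⟩ := AdicCompletion.of_surjective I M w
    exact ⟨K.mkQ m, (AdicCompletion.map_of I K.mkQ m).symm⟩
  constructor
  · intro h
    apply le_antisymm
    · exact le_iInf (fun n => le_sup_left)
    · intro x hx
      rw [Submodule.mem_iInf] at hx
      rw [← Submodule.Quotient.mk_eq_zero]
      apply h.toIsHausdorff.haus'
      intro n
      rw [SModEq.zero, mk_mem_iff]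
      exact hx n
  · intro h
    haveI : IsHausdorff I (M ⧸ K) := by
      refine ⟨fun q hq => ?_⟩
      obtain ⟨x, rfl⟩ := Submodule.Quotient.mk_surjective _ q
      rw [Submodule.Quotient.mk_eq_zero, h, Submodule.mem_iInf]
      intro n
      have := hq n
      rw [SModEq.zero, mk_mem_iff] at this
      exact this
    exact ⟨⟩

end Groth.Agent.S9605
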