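import Groth.Statements.S9606
import Mathlib

set_option autoImplicit false
universe u
open CAlg

namespace Groth.Agent.S9606

theorem key {R S : Type u} [CommRing R] [CommRing S] [Algebra R S]
    (hgen : Algebra.adjoin R {x : S | x ^ 2 ∈ Set.range (algebraMap R S) ∧
      x ^ 3 ∈ Set.range (algebraMap R S)} = ⊤)
    (p : Ideal R) [hp : p.IsPrime] (J : Ideal S)
    (hJ : ∀ a : R, a ∈ p → ∀ x : S, x ^ 2 = algebraMap R S a → x ∈ J) (s : S) :
    ∃ r : R, r ∉ p ∧ ∃ r' : R, algebraMap R S r * s - algebraMap R S r' ∈ J := by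
  have h1p : (1 : R) ∉ p := fun h => hp.ne_top ((Ideal.eq_top_iff_one _).2 h)
  have hs : s ∈ Algebra.adjoin R {x : S | x ^ 2 ∈ Set.range (algebraMap R S) ∧
      x ^ 3 ∈ Set.range (algebraMap R S)} := by rw [hgen]; trivial
  induction hs using Algebra.adjoin_induction with
  | mem x hx =>
    obtain ⟨⟨a, ha⟩, ⟨b, hb⟩⟩ := hx
    by_cases hap : a ∈ p
    · refine ⟨1, h1p, 0, ?_⟩
      rw [map_one, one_mul, map_zero, sub_zero]
      exact hJ a hap x ha.symm
    · refine ⟨a, hap, b, ?_⟩
      have h0 : algebraMap R S a * x - algebraMap R S b = 0 := by rw [ha, hb]; ring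
      rw [h0]
      exact J.zero_mem
  | algebraMap r0 =>
    refine ⟨1, h1p, r0, ?_⟩
    rw [map_one, one_mul, sub_self]
    exact J.zero_mem
  | add s t _ _ hs ht =>
    obtain ⟨r1, hr1, r1', h1⟩ := hs
    obtain ⟨r2, hr2, r2', h2⟩ := ht
    refine ⟨r1 * r2, fun h => (hp.mem_or_mem h).elim hr1 hr2, r2 * r1' + r1 * r2', ?_⟩
    have h0 : algebraMap R S (r1 * r2) * (s + t) - algebraMap R S (r2 * r1' + r1 * r2') =
        algebraMap R S r2 * (algebraMap R S r1 * s - algebraMap R S r1') +
          algebraMap R S r1 * (algebraMap R S r2 * t - algebraMap R S r2') := by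
      simp only [map_mul, map_add]; ring
    rw [h0]
    exact J.add_mem (J.mul_mem_left _ h1) (J.mul_mem_left _ h2)
  | mul s t _ _ hs ht =>
    obtain ⟨r1, hr1, r1', h1⟩ := hs
    obtain ⟨r2, hr2, r2', h2⟩ := ht
    refine ⟨r1 * r2, fun h => (hp.mem_or_mem h).elim hr1 hr2, r1' * r2', ?_⟩
    have h0 : algebraMap R S (r1 * r2) * (s * t) - algebraMap R S (r1' * r2') =
        (algebraMap R S r2 * t) * (algebraMap R S r1 * s - algebraMap R S r1') +
          algebraMap R S r1' * (algebraMap R S r2 * t - algebraMap R S r2') := by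
      simp only [map_mul]; ring
    rw [h0]
    exact J.add_mem (J.mul_mem_left _ h1) (J.mul_mem_left _ h2)

/-- Let R → S be a ring map with locally nilpotent kernel such that S is generated over R by elements x
with x² and x³ in the image of R. Then the induced map on spectra is a homeomorphism and every
residue field map κ(p) → κ(q), for q a prime of S with inverse image p, is bijective. -/
theorem result {R S : Type u} [CommRing R] [CommRing S] [Algebra R S]
    (hgen : Algebra.adjoin R {x : S | x ^ 2 ∈ Set.range (algebraMap R S) ∧ x ^ 3 ∈ Set.range (algebraMap R S)} = ⊤)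
    (hker : ∀ r : R, algebraMap R S r = 0 → IsNilpotent r) :
    IsHomeomorph (PrimeSpectrum.comap (algebraMap R S)) ∧
      ∀ (q : Ideal S) [q.IsPrime], Function.Bijective (Ideal.ResidueField.map (q.comap (algebraMap R S)) q (algebraMap R S) rfl) := by
  have hG : ∀ x ∈ {x : S | x ^ 2 ∈ Set.range (algebraMap R S) ∧
      x ^ 3 ∈ Set.range (algebraMap R S)}, IsIntegral R x := by
    rintro x ⟨⟨a, ha⟩, -⟩
    refine ⟨Polynomial.X ^ 2 - Polynomial.C a,
      Polynomial.monic_X_pow_sub_C a (by norm_num), ?_⟩
    simp [ha]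
  haveI hint : Algebra.IsIntegral R S := by
    refine ⟨fun s => ?_⟩
    have hle : Algebra.adjoin R {x : S | x ^ 2 ∈ Set.range (algebraMap R S) ∧
        x ^ 3 ∈ Set.range (algebraMap R S)} ≤ integralClosure R S := Algebra.adjoin_le hG
    rw [hgen] at hle
    exact hle trivial
  have hprime_mem : ∀ (q : Ideal S) [q.IsPrime], ∀ a : R, a ∈ q.comap (algebraMap R S) →
      ∀ x : S, x ^ 2 = algebraMap R S a → x ∈ q := by
    intro q _ a ha x hx
    have h2 : x ^ 2 ∈ q := by rw [hx]; exact ha
    exact Ideal.IsPrime.mem_of_pow_mem inferInstance 2 h2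
  have hsub : ∀ (q1 q2 : PrimeSpectrum S),
      q1.asIdeal.comap (algebraMap R S) = q2.asIdeal.comap (algebraMap R S) →
      q1.asIdeal ≤ q2.asIdeal := by
    intro q1 q2 h12 s hs
    obtain ⟨r, hr, r', hmem⟩ := key hgen (q1.asIdeal.comap (algebraMap R S))
      (q1.asIdeal ⊓ q2.asIdeal) (fun a ha x hx =>
        ⟨hprime_mem q1.asIdeal a ha x hx, hprime_mem q2.asIdeal a (h12 ▸ ha) x hx⟩) s
    have hr'1 : algebraMap R S r' ∈ q1.asIdeal := by
      have h3 := q1.asIdeal.sub_mem (q1.asIdeal.mul_mem_left (algebraMap R S r) hs) hmem.1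
      simpa using h3
    have hr'2 : algebraMap R S r' ∈ q2.asIdeal := by
      have h4 : r' ∈ q2.asIdeal.comap (algebraMap R S) := h12 ▸ hr'1
      exact h4
    have h3 : algebraMap R S r * s ∈ q2.asIdeal := by
      have h4 := q2.asIdeal.add_mem hmem.2 hr'2
      simpa using h4
    rcases q2.isPrime.mem_or_mem h3 with h4 | h4
    · exact absurd (show r ∈ q1.asIdeal.comap (algebraMap R S) from h12 ▸ h4) hr
    · exact h4
  have hinj : Function.Injective (PrimeSpectrum.comap (algebraMap R S)) := by
    intro q q' h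
    have hpq : q.asIdeal.comap (algebraMap R S) = q'.asIdeal.comap (algebraMap R S) :=
      congrArg PrimeSpectrum.asIdeal h
    exact PrimeSpectrum.ext (le_antisymm (hsub q q' hpq) (hsub q' q hpq.symm))
  have hker' : RingHom.ker (algebraMap R S) ≤ nilradical R :=
    fun r hr => mem_nilradical.2 (hker r hr)
  have hsurj : Function.Surjective (PrimeSpectrum.comap (algebraMap R S)) := by
    have hc : (algebraMap R S).kerLift.comp (Ideal.Quotient.mk _) = algebraMap R S :=
      RingHom.ext fun r => rfl
    have hint' : (algebraMap R S).kerLift.IsIntegral := by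
      refine RingHom.IsIntegral.tower_top (Ideal.Quotient.mk _) _ ?_
      rw [hc]
      exact algebraMap_isIntegral_iff.2 hint
    exact (PrimeSpectrum.comap_quotientMk_bijective_of_le_nilradical hker').2.comp
      (hint'.comap_surjective (algebraMap R S).kerLift_injective)
  refine ⟨isHomeomorph_iff_continuous_isClosedMap_bijective.2
    ⟨PrimeSpectrum.continuous_comap _,
      PrimeSpectrum.isClosedMap_comap_of_isIntegral _ (algebraMap_isIntegral_iff.2 hint),
      hinj, hsurj⟩, fun q _ => ?_⟩
  refine ⟨(Ideal.ResidueField.map (q.comap (algebraMap R S)) q (algebraMap R S) rfl).injective, ?_⟩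
  intro z
  obtain ⟨x, y, hy, rfl⟩ := IsFractionRing.div_surjective (A := S ⧸ q) z
  obtain ⟨s, rfl⟩ := Ideal.Quotient.mk_surjective x
  obtain ⟨t, rfl⟩ := Ideal.Quotient.mk_surjective y
  have ht : t ∉ q := by
    intro h
    rw [mem_nonZeroDivisors_iff_ne_zero] at hy
    exact hy (Ideal.Quotient.eq_zero_iff_mem.2 h)
  obtain ⟨r1, hr1, r1', h1⟩ := key hgen (q.comap (algebraMap R S)) q (hprime_mem q) s
  obtain ⟨r2, hr2, r2', h2⟩ := key hgen (q.comap (algebraMap R S)) q (hprime_mem q) t
  have hφ0 : ∀ w : S, algebraMap S q.ResidueField w = 0 ↔ w ∈ q :=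
    fun w => Ideal.algebraMap_residueField_eq_zero
  have E1 : algebraMap S q.ResidueField (algebraMap R S r1) * algebraMap S q.ResidueField s =
      algebraMap S q.ResidueField (algebraMap R S r1') := by
    have h3 := (hφ0 _).2 h1
    rw [map_sub, map_mul, sub_eq_zero] at h3
    exact h3
  have E2 : algebraMap S q.ResidueField (algebraMap R S r2) * algebraMap S q.ResidueField t =
      algebraMap S q.ResidueField (algebraMap R S r2') := by
    have h3 := (hφ0 _).2 h2
    rw [map_sub, map_mul, sub_eq_zero] at h3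
    exact h3
  have n1 : algebraMap S q.ResidueField (algebraMap R S r1) ≠ 0 := fun h => hr1 ((hφ0 _).1 h)
  have n2 : algebraMap S q.ResidueField (algebraMap R S r2) ≠ 0 := fun h => hr2 ((hφ0 _).1 h)
  have nt : algebraMap S q.ResidueField t ≠ 0 := fun h => ht ((hφ0 _).1 h)
  have e1 : algebraMap S q.ResidueField s = algebraMap S q.ResidueField (algebraMap R S r1') /
      algebraMap S q.ResidueField (algebraMap R S r1) := by
    rw [eq_div_iff n1, mul_comm]; exact E1
  have e2 : algebraMap S q.ResidueField t = algebraMap S q.ResidueField (algebraMap R S r2') /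
      algebraMap S q.ResidueField (algebraMap R S r2) := by
    rw [eq_div_iff n2, mul_comm]; exact E2
  refine ⟨(algebraMap R (q.comap (algebraMap R S)).ResidueField r1' /
      algebraMap R (q.comap (algebraMap R S)).ResidueField r1) /
    (algebraMap R (q.comap (algebraMap R S)).ResidueField r2' /
      algebraMap R (q.comap (algebraMap R S)).ResidueField r2), ?_⟩
  rw [map_div₀, map_div₀, map_div₀, Ideal.ResidueField.map_algebraMap,
    Ideal.ResidueField.map_algebraMap, Ideal.ResidueField.map_algebraMap,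
    Ideal.ResidueField.map_algebraMap, ← e1, ← e2,
    IsScalarTower.algebraMap_apply S (S ⧸ q) q.ResidueField s,
    IsScalarTower.algebraMap_apply S (S ⧸ q) q.ResidueField t]
  rfl

end Groth.Agent.S9606
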