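import Groth.Statements.S9607
import Mathlib.Data.Nat.Factorization.Basic
import Mathlib.Data.Nat.Choose.Sum
import Mathlib.Tactic

set_option autoImplicit false
universe u
open CAlg

namespace Groth.Agent.S9607


theorem choose_dvd (p : ℕ) (hp : p.Prime) (a j k : ℕ) (hk : ¬ p ^ j ∣ k) :
    p ^ (a - j) ∣ (p ^ a).choose k := by
  rcases Nat.lt_or_ge j a with hja | hja
  swap
  · rw [Nat.sub_eq_zero_of_le hja, pow_zero]; exact one_dvd _
  have hk0 : k ≠ 0 := by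
    rintro rfl
    exact hk (dvd_zero _)
  obtain ⟨v, k', hk', hkv⟩ := Nat.exists_eq_pow_mul_and_not_dvd hk0 p hp.ne_one
  have hvj : v < j := by
    by_contra hcon
    push_neg at hcon
    apply hk
    rw [hkv]
    exact Dvd.dvd.mul_right (pow_dvd_pow p hcon) k'
  have hpos : 0 < p ^ a := Nat.pos_of_ne_zero (pow_ne_zero _ hp.ne_zero)
  have hdvd : p ^ a ∣ (p ^ a).choose k * k := by
    obtain ⟨N', hN'⟩ : ∃ N', p ^ a = N' + 1 := ⟨p ^ a - 1, by omega⟩
    obtain ⟨k₁, hk₁⟩ : ∃ k₁, k = k₁ + 1 := ⟨k - 1, by omega⟩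
    rw [hN', hk₁, ← Nat.add_one_mul_choose_eq N' k₁]
    exact Dvd.intro _ rfl
  have hav : p ^ a = p ^ v * p ^ (a - v) := by
    rw [← pow_add]; congr 1; omega
  have h3 : p ^ v * p ^ (a - v) ∣ p ^ v * ((p ^ a).choose k * k') := by
    have e : p ^ v * ((p ^ a).choose k * k') = (p ^ a).choose k * (p ^ v * k') := by ring
    rw [← hav, e, ← hkv]
    exact hdvd
  have h2 : p ^ (a - v) ∣ (p ^ a).choose k * k' :=
    Nat.dvd_of_mul_dvd_mul_left (Nat.pos_of_ne_zero (pow_ne_zero _ hp.ne_zero)) h3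
  have hcop : Nat.Coprime (p ^ (a - v)) k' :=
    Nat.Coprime.pow_left _ ((Nat.Prime.coprime_iff_not_dvd hp).2 hk')
  have h4 : p ^ (a - v) ∣ (p ^ a).choose k := hcop.dvd_of_dvd_mul_right h2
  exact dvd_trans (pow_dvd_pow p (by omega)) h4

theorem pow_mem_aux {R : Type*} [CommRing R] (B : Subalgebra ℤ R) (x : R) (p n : ℕ) (hp : 0 < p)
    (h1 : x ^ (p ^ n) ∈ B) (h2 : (p : R) ^ n * x ∈ B) (k : ℕ) :
    (p : R) ^ (n * p ^ n) * x ^ k ∈ B ∧ (p ^ n ∣ k → x ^ k ∈ B) := by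
  have hP : (p : R) ∈ B := natCast_mem B p
  have hpn : 0 < p ^ n := Nat.pos_of_ne_zero (pow_ne_zero _ (Nat.pos_iff_ne_zero.1 hp))
  constructor
  · have hk : k = p ^ n * (k / p ^ n) + k % p ^ n := (Nat.div_add_mod k (p ^ n)).symm
    have hr : k % p ^ n < p ^ n := Nat.mod_lt _ hpn
    obtain ⟨q, hq⟩ : ∃ q, q = k / p ^ n := ⟨_, rfl⟩
    obtain ⟨r, hr'⟩ : ∃ r, r = k % p ^ n := ⟨_, rfl⟩
    rw [← hq, ← hr'] at hk
    rw [← hr'] at hr
    have e : (p : R) ^ (n * p ^ n) * x ^ k =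
        (x ^ (p ^ n)) ^ q * ((p : R) ^ n * x) ^ r * (p : R) ^ (n * (p ^ n - r)) := by
      have e1 : n * p ^ n = n * r + n * (p ^ n - r) := by
        rw [← Nat.mul_add]; congr 1; omega
      rw [hk, e1, pow_add, pow_add, mul_pow, ← pow_mul, ← pow_mul]
      ring
    rw [e]
    exact B.mul_mem (B.mul_mem (B.pow_mem h1 _) (B.pow_mem h2 _)) (B.pow_mem hP _)
  · rintro ⟨q, rfl⟩
    rw [pow_mul]
    exact B.pow_mem h1 _

/-- For a prime number p and integers n, m > 0 there exists an integer a such that (x + y)^(p^a) and p^a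
(x + y) both belong to the subring ℤ[x^(p^n), p^n x, y^(p^m), p^m y] of the polynomial ring ℤ[x, y]. -/
theorem result (p : ℕ) (hp : p.Prime) (n m : ℕ) (hn : 0 < n) (hm : 0 < m) :
    ∃ a : ℕ, ((MvPolynomial.X 0 + MvPolynomial.X 1 : MvPolynomial (Fin 2) ℤ) ^ (p ^ a) ∈ Algebra.adjoin ℤ ({MvPolynomial.X 0 ^ (p ^ n), (p : MvPolynomial (Fin 2) ℤ) ^ n * MvPolynomial.X 0, MvPolynomial.X 1 ^ (p ^ m), (p : MvPolynomial (Fin 2) ℤ) ^ m * MvPolynomial.X 1} : Set (MvPolynomial (Fin 2) ℤ)) ∧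
      (p : MvPolynomial (Fin 2) ℤ) ^ a * (MvPolynomial.X 0 + MvPolynomial.X 1) ∈ Algebra.adjoin ℤ ({MvPolynomial.X 0 ^ (p ^ n), (p : MvPolynomial (Fin 2) ℤ) ^ n * MvPolynomial.X 0, MvPolynomial.X 1 ^ (p ^ m), (p : MvPolynomial (Fin 2) ℤ) ^ m * MvPolynomial.X 1} : Set (MvPolynomial (Fin 2) ℤ))) := by
  obtain ⟨B, hB⟩ : ∃ B : Subalgebra ℤ (MvPolynomial (Fin 2) ℤ), B = Algebra.adjoin ℤ ({MvPolynomial.X 0 ^ (p ^ n), (p : MvPolynomial (Fin 2) ℤ) ^ n * MvPolynomial.X 0, MvPolynomial.X 1 ^ (p ^ m), (p : MvPolynomial (Fin 2) ℤ) ^ m * MvPolynomial.X 1} : Set (MvPolynomial (Fin 2) ℤ)) := ⟨_, rfl⟩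
  rw [← hB]
  have hx1 : (MvPolynomial.X 0 : MvPolynomial (Fin 2) ℤ) ^ (p ^ n) ∈ B := by
    rw [hB]; exact Algebra.subset_adjoin (Set.mem_insert _ _)
  have hx2 : (p : MvPolynomial (Fin 2) ℤ) ^ n * MvPolynomial.X 0 ∈ B := by
    rw [hB]; exact Algebra.subset_adjoin (Set.mem_insert_of_mem _ (Set.mem_insert _ _))
  have hy1 : (MvPolynomial.X 1 : MvPolynomial (Fin 2) ℤ) ^ (p ^ m) ∈ B := by
    rw [hB]
    exact Algebra.subset_adjoin (Set.mem_insert_of_mem _ (Set.mem_insert_of_mem _ (Set.mem_insert _ _)))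
  have hy2 : (p : MvPolynomial (Fin 2) ℤ) ^ m * MvPolynomial.X 1 ∈ B := by
    rw [hB]
    exact Algebra.subset_adjoin (Set.mem_insert_of_mem _ (Set.mem_insert_of_mem _
      (Set.mem_insert_of_mem _ (Set.mem_singleton _))))
  have hP : (p : MvPolynomial (Fin 2) ℤ) ∈ B := natCast_mem B p
  have hX := pow_mem_aux B (MvPolynomial.X 0) p n hp.pos hx1 hx2
  have hY := pow_mem_aux B (MvPolynomial.X 1) p m hp.pos hy1 hy2
  refine ⟨max n m + (n * p ^ n + m * p ^ m), ?_, ?_⟩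
  · rw [add_pow]
    refine B.sum_mem ?_
    intro k hk
    have hk' : k ≤ p ^ (max n m + (n * p ^ n + m * p ^ m)) := by
      have := Finset.mem_range.1 hk
      omega
    by_cases hcase : p ^ n ∣ k ∧ p ^ m ∣ (p ^ (max n m + (n * p ^ n + m * p ^ m)) - k)
    · exact B.mul_mem (B.mul_mem ((hX k).2 hcase.1) ((hY _).2 hcase.2)) (natCast_mem B _)
    · have hdiv : p ^ (n * p ^ n + m * p ^ m) ∣ (p ^ (max n m + (n * p ^ n + m * p ^ m))).choose k := by
        have hsub : max n m + (n * p ^ n + m * p ^ m) - max n m = n * p ^ n + m * p ^ m := by omega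
        by_cases h1 : p ^ n ∣ k
        · have h2 : ¬ p ^ m ∣ (p ^ (max n m + (n * p ^ n + m * p ^ m)) - k) := fun h => hcase ⟨h1, h⟩
          have h3 : ¬ p ^ (max n m) ∣ (p ^ (max n m + (n * p ^ n + m * p ^ m)) - k) := fun h =>
            h2 (dvd_trans (pow_dvd_pow p (le_max_right n m)) h)
          have := choose_dvd p hp (max n m + (n * p ^ n + m * p ^ m)) (max n m) _ h3
          rw [hsub, Nat.choose_symm hk'] at this
          exact this
        · have h3 : ¬ p ^ (max n m) ∣ k := fun h =>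
            h1 (dvd_trans (pow_dvd_pow p (le_max_left n m)) h)
          have := choose_dvd p hp (max n m + (n * p ^ n + m * p ^ m)) (max n m) _ h3
          rw [hsub] at this
          exact this
      obtain ⟨c, hc⟩ := hdiv
      rw [hc]
      have e : (MvPolynomial.X 0 : MvPolynomial (Fin 2) ℤ) ^ k *
          MvPolynomial.X 1 ^ (p ^ (max n m + (n * p ^ n + m * p ^ m)) - k) *
          ((p ^ (n * p ^ n + m * p ^ m) * c : ℕ) : MvPolynomial (Fin 2) ℤ) =
          ((p : MvPolynomial (Fin 2) ℤ) ^ (n * p ^ n) * MvPolynomial.X 0 ^ k) *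
          ((p : MvPolynomial (Fin 2) ℤ) ^ (m * p ^ m) *
            MvPolynomial.X 1 ^ (p ^ (max n m + (n * p ^ n + m * p ^ m)) - k)) *
          (c : MvPolynomial (Fin 2) ℤ) := by
        push_cast
        rw [pow_add]
        ring
      rw [e]
      exact B.mul_mem (B.mul_mem (hX k).1 (hY _).1) (natCast_mem B c)
  · have hna : n ≤ max n m + (n * p ^ n + m * p ^ m) := le_trans (le_max_left n m) (Nat.le_add_right _ _)
    have hma : m ≤ max n m + (n * p ^ n + m * p ^ m) := le_trans (le_max_right n m) (Nat.le_add_right _ _)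
    have e1 : (p : MvPolynomial (Fin 2) ℤ) ^ (max n m + (n * p ^ n + m * p ^ m)) *
        (MvPolynomial.X 0 + MvPolynomial.X 1) =
        (p : MvPolynomial (Fin 2) ℤ) ^ (max n m + (n * p ^ n + m * p ^ m) - n) *
          ((p : MvPolynomial (Fin 2) ℤ) ^ n * MvPolynomial.X 0) +
        (p : MvPolynomial (Fin 2) ℤ) ^ (max n m + (n * p ^ n + m * p ^ m) - m) *
          ((p : MvPolynomial (Fin 2) ℤ) ^ m * MvPolynomial.X 1) := by
      rw [mul_add, ← mul_assoc, ← mul_assoc, pow_sub_mul_pow _ hna, pow_sub_mul_pow _ hma]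
    rw [e1]
    exact B.add_mem (B.mul_mem (B.pow_mem hP _) hx2) (B.mul_mem (B.pow_mem hP _) hy2)

end Groth.Agent.S9607
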