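import Groth.Statements.S9608
import Mathlib.FieldTheory.PurelyInseparable.PerfectClosure
import Mathlib.Tactic

set_option autoImplicit false
universe u
open CAlg

namespace Groth.Agent.S9608

/-- Let k'/k be a field extension and p a prime number. Then k' is generated over k by elements x for
which some n > 0 has x^(p^n) ∈ k and p^n x ∈ k, if and only if either k' = k, or k has
characteristic p and k'/k is purely inseparable. -/
theorem result {k k' : Type u} [Field k] [Field k'] [Algebra k k'] (p : ℕ) (hp : p.Prime) :
    IntermediateField.adjoin k {x : k' | ∃ n : ℕ, 0 < n ∧ x ^ (p ^ n) ∈ Set.range (algebraMap k k') ∧ (p : k') ^ n * x ∈ Set.range (algebraMap k k')} = ⊤ ↔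
      (Function.Surjective (algebraMap k k') ∨ (CharP k p ∧ IsPurelyInseparable k k')) := by
  constructor
  · intro htop
    by_cases hp0 : (p : k) = 0
    · right
      haveI hchar : CharP k p := (CharP.charP_iff_prime_eq_zero hp).2 hp0
      haveI : ExpChar k p := ExpChar.prime hp
      refine ⟨hchar, ?_⟩
      rw [isPurelyInseparable_iff_pow_mem k p]
      intro x
      have hle : IntermediateField.adjoin k {x : k' | ∃ n : ℕ, 0 < n ∧ x ^ (p ^ n) ∈ Set.range (algebraMap k k') ∧ (p : k') ^ n * x ∈ Set.range (algebraMap k k')} ≤ perfectClosure k k' := by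
        rw [IntermediateField.adjoin_le_iff]
        rintro y ⟨n, _, ⟨c, hc⟩, _⟩
        exact (mem_perfectClosure_iff_pow_mem p).2 ⟨n, ⟨c, hc⟩⟩
      rw [htop] at hle
      exact (mem_perfectClosure_iff_pow_mem p).1 (hle IntermediateField.mem_top)
    · left
      intro y
      have hle : IntermediateField.adjoin k {x : k' | ∃ n : ℕ, 0 < n ∧ x ^ (p ^ n) ∈ Set.range (algebraMap k k') ∧ (p : k') ^ n * x ∈ Set.range (algebraMap k k')} ≤ ⊥ := by
        rw [IntermediateField.adjoin_le_iff]
        rintro x ⟨n, _, _, ⟨c, hc⟩⟩
        rw [SetLike.mem_coe, IntermediateField.mem_bot]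
        refine ⟨c / (p : k) ^ n, ?_⟩
        have hpn : ((p : k) ^ n) ≠ 0 := pow_ne_zero _ hp0
        have hmap : algebraMap k k' ((p : k) ^ n) = (p : k') ^ n := by
          rw [map_pow, map_natCast]
        have hpn' : ((p : k') ^ n) ≠ 0 := by
          rw [← hmap]; exact (map_ne_zero _).2 hpn
        rw [map_div₀, hc, hmap]
        field_simp
      rw [htop] at hle
      have hy := hle (IntermediateField.mem_top : y ∈ (⊤ : IntermediateField k k'))
      rw [IntermediateField.mem_bot] at hy
      obtain ⟨c, hc⟩ := hy
      exact ⟨c, hc⟩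
  · rintro (hs | ⟨hchar, hpi⟩)
    · rw [eq_top_iff]
      intro y _
      obtain ⟨c, rfl⟩ := hs y
      exact IntermediateField.algebraMap_mem _ c
    · haveI := hchar
      haveI := hpi
      haveI : ExpChar k p := ExpChar.prime hp
      rw [eq_top_iff]
      intro y _
      apply IntermediateField.subset_adjoin
      obtain ⟨n, c, hc⟩ := IsPurelyInseparable.pow_mem k p y
      refine ⟨n + 1, Nat.succ_pos n, ⟨c ^ p, ?_⟩, ⟨0, ?_⟩⟩
      · rw [map_pow, hc, pow_succ, pow_mul]
      · haveI : CharP k' p := charP_of_injective_algebraMap (algebraMap k k').injective p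
        rw [map_zero, CharP.cast_eq_zero k' p, zero_pow (Nat.succ_ne_zero n), zero_mul]

end Groth.Agent.S9608
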