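import Groth.Statements.S9609
-- import your own Groth.Agent.* helpers here
import Mathlib

set_option autoImplicit false
universe u
open CAlg

namespace Groth.Agent.S9609

open TensorProduct in
theorem add_pow_mod {Q : Type*} [CommRing Q] (ℓ : ℕ) (h : ℓ = 1 ∨ (ℓ.Prime ∧ ((ℓ : ℕ) : Q) = 0))
    (x y : Q) (n : ℕ) : (x + y) ^ ℓ ^ n = x ^ ℓ ^ n + y ^ ℓ ^ n := by
  rcases h with rfl | ⟨hp, h0⟩
  · simp
  · rw [add_pow_prime_pow_eq hp x y n, h0, zero_mul, zero_mul, zero_mul, add_zero]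

theorem aux_add {Q : Type*} [CommRing Q] (ℓ n1 n2 : ℕ)
    (hadd : ∀ x y : Q, (x + y) ^ ℓ ^ (n1 + n2) = x ^ ℓ ^ (n1 + n2) + y ^ ℓ ^ (n1 + n2))
    (B1 B2 Z1 Z2 W1 W2 : Q) (h1 : B1 * Z1 ^ ℓ ^ n1 = W1) (h2 : B2 * Z2 ^ ℓ ^ n2 = W2) :
    (B1 ^ ℓ ^ n2 * B2 ^ ℓ ^ n1) * (Z1 + Z2) ^ ℓ ^ (n1 + n2) =
      B2 ^ ℓ ^ n1 * W1 ^ ℓ ^ n2 + B1 ^ ℓ ^ n2 * W2 ^ ℓ ^ n1 := by
  rw [hadd, ← h1, ← h2, pow_add]
  generalize ℓ ^ n1 = N1
  generalize ℓ ^ n2 = N2
  ring

theorem expChar_cases (K : Type*) [Field K] :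
    ringExpChar K = 1 ∨ ((ringExpChar K).Prime ∧ ((ringExpChar K : ℕ) : K) = 0) := by
  have h : ExpChar K (ringExpChar K) := inferInstance
  generalize ringExpChar K = ℓ at h
  cases h with
  | zero => exact Or.inl rfl
  | prime hp => exact Or.inr ⟨hp, CharP.cast_eq_zero K ℓ⟩

theorem exists_frac {R : Type*} [CommRing R] (I : Ideal R) [I.IsPrime] (x : I.ResidueField) :
    ∃ a s : R, s ∉ I ∧ algebraMap R I.ResidueField s * x = algebraMap R I.ResidueField a := by
  obtain ⟨⟨a, ⟨s, hs⟩⟩, h⟩ := IsLocalization.surj (nonZeroDivisors (R ⧸ I)) x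
  obtain ⟨a, rfl⟩ := Ideal.Quotient.mk_surjective a
  obtain ⟨s, rfl⟩ := Ideal.Quotient.mk_surjective s
  refine ⟨a, s, fun hsI => ?_, ?_⟩
  · exact nonZeroDivisors.ne_zero hs (Ideal.Quotient.eq_zero_iff_mem.mpr hsI)
  · rw [mul_comm]; exact h

theorem field_aux {K L : Type*} [Field K] [Field L] (μ : K →+* L) (ℓ n1 n2 : ℕ)
    (x φz φy : L) (β1 ω1 β2 ω2 : K) (hβ1 : β1 ≠ 0) (hβ2 : β2 ≠ 0) (hφy : φy ≠ 0)
    (hxy : φy * x = φz) (h1 : μ β1 * φz ^ ℓ ^ n1 = μ ω1) (h2 : μ β2 * φy ^ ℓ ^ n2 = μ ω2) :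
    x ^ ℓ ^ (n1 + n2) ∈ Set.range μ := by
  have hμ1 : μ β1 ≠ 0 := (map_ne_zero μ).mpr hβ1
  have hμ2 : μ β2 ≠ 0 := (map_ne_zero μ).mpr hβ2
  have hz : φz ^ ℓ ^ n1 = μ (ω1 / β1) := by
    rw [map_div₀, eq_div_iff hμ1, mul_comm]; exact h1
  have hy : φy ^ ℓ ^ n2 = μ (ω2 / β2) := by
    rw [map_div₀, eq_div_iff hμ2, mul_comm]; exact h2
  refine ⟨(ω1 / β1) ^ ℓ ^ n2 / (ω2 / β2) ^ ℓ ^ n1, ?_⟩
  have hy0 : φy ^ (ℓ ^ n1 * ℓ ^ n2) ≠ 0 := pow_ne_zero _ hφy
  rw [map_div₀, map_pow, map_pow, ← hz, ← hy, ← hxy, pow_add, ← pow_mul, ← pow_mul,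
    mul_comm (ℓ ^ n2) (ℓ ^ n1), mul_pow, mul_div_cancel_left₀ _ hy0]

open TensorProduct in
theorem key {R S R' : Type u} [CommRing R] [CommRing S] [CommRing R'] [Algebra R S] [Algebra R R']
    (q : Ideal S) [q.IsPrime]
    (hpi : ∀ (x : q.ResidueField), ∃ n : ℕ,
      x ^ (ringExpChar (q.comap (algebraMap R S)).ResidueField) ^ n ∈
        Set.range (Ideal.ResidueField.map (q.comap (algebraMap R S)) q (algebraMap R S) rfl))
    (z : R' ⊗[R] S) :
    ∃ (n : ℕ) (b : R) (w : R'), b ∉ q.comap (algebraMap R S) ∧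
      algebraMap R (R' ⊗[R] S) b * z ^ (ringExpChar (q.comap (algebraMap R S)).ResidueField) ^ n
        - algebraMap R' (R' ⊗[R] S) w ∈
        q.map (Algebra.TensorProduct.includeRight : S →ₐ[R] R' ⊗[R] S) := by
  set p := q.comap (algebraMap R S) with hp
  set ℓ := ringExpChar p.ResidueField with hℓ
  set J := q.map (Algebra.TensorProduct.includeRight : S →ₐ[R] R' ⊗[R] S) with hJ
  have hℓ' : ℓ = 1 ∨ (ℓ.Prime ∧ ((ℓ : ℕ) : (R' ⊗[R] S) ⧸ J) = 0) := by
    rcases expChar_cases p.ResidueField with h1 | ⟨hprime, h0⟩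
    · exact Or.inl h1
    · refine Or.inr ⟨hprime, ?_⟩
      have h2 : ((ℓ : ℕ) : R) ∈ p := by
        rw [← Ideal.algebraMap_residueField_eq_zero, map_natCast]; exact h0
      have h3 : ((ℓ : ℕ) : S) ∈ q := by
        have : algebraMap R S ((ℓ : ℕ) : R) ∈ q := h2
        rwa [map_natCast] at this
      have h4 : ((ℓ : ℕ) : R' ⊗[R] S) ∈ J := by
        have := Ideal.mem_map_of_mem (Algebra.TensorProduct.includeRight : S →ₐ[R] R' ⊗[R] S) h3
        rwa [map_natCast] at this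
      rw [← map_natCast (Ideal.Quotient.mk J), Ideal.Quotient.eq_zero_iff_mem]
      exact h4
  induction z using TensorProduct.induction_on with
  | zero =>
    refine ⟨0, 1, 0, ?_, ?_⟩
    · exact (Ideal.ne_top_iff_one p).mp (Ideal.IsPrime.ne_top inferInstance)
    · simp
  | tmul r' s =>
    obtain ⟨n, y, hy⟩ := hpi (algebraMap S q.ResidueField s)
    obtain ⟨a, b, hb, hab⟩ := exists_frac p y
    have hc : algebraMap R S b * s ^ ℓ ^ n - algebraMap R S a ∈ q := by
      rw [← Ideal.algebraMap_residueField_eq_zero, map_sub, map_mul, map_pow, ← hy,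
        ← Ideal.ResidueField.map_algebraMap p q (algebraMap R S) rfl b,
        ← Ideal.ResidueField.map_algebraMap p q (algebraMap R S) rfl a, ← map_mul, hab, sub_self]
    refine ⟨n, b, algebraMap R R' a * r' ^ ℓ ^ n, hb, ?_⟩
    have e1 : algebraMap R (R' ⊗[R] S) b * (r' ⊗ₜ[R] s) ^ ℓ ^ n =
        (r' ^ ℓ ^ n) ⊗ₜ[R] (algebraMap R S b * s ^ ℓ ^ n) := by
      rw [Algebra.TensorProduct.tmul_pow, ← Algebra.smul_def, ← Algebra.smul_def,
        TensorProduct.tmul_smul]
    have e2 : algebraMap R' (R' ⊗[R] S) (algebraMap R R' a * r' ^ ℓ ^ n) =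
        (r' ^ ℓ ^ n) ⊗ₜ[R] (algebraMap R S a) := by
      rw [Algebra.TensorProduct.algebraMap_apply, Algebra.algebraMap_self, RingHom.id_apply,
        ← Algebra.smul_def, TensorProduct.smul_tmul, Algebra.algebraMap_eq_smul_one]
    have e3 : algebraMap R (R' ⊗[R] S) b * (r' ⊗ₜ[R] s) ^ ℓ ^ n -
        algebraMap R' (R' ⊗[R] S) (algebraMap R R' a * r' ^ ℓ ^ n) =
        ((r' ^ ℓ ^ n) ⊗ₜ[R] (1 : S)) * (Algebra.TensorProduct.includeRight : S →ₐ[R] R' ⊗[R] S)
          (algebraMap R S b * s ^ ℓ ^ n - algebraMap R S a) := by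
      rw [e1, e2, ← TensorProduct.tmul_sub, Algebra.TensorProduct.includeRight_apply,
        Algebra.TensorProduct.tmul_mul_tmul, mul_one, one_mul]
    rw [e3]
    exact Ideal.mul_mem_left _ _ (Ideal.mem_map_of_mem _ hc)
  | add z1 z2 ih1 ih2 =>
    obtain ⟨n1, b1, w1, hb1, h1⟩ := ih1
    obtain ⟨n2, b2, w2, hb2, h2⟩ := ih2
    refine ⟨n1 + n2, b1 ^ ℓ ^ n2 * b2 ^ ℓ ^ n1,
      algebraMap R R' (b2 ^ ℓ ^ n1) * w1 ^ ℓ ^ n2 + algebraMap R R' (b1 ^ ℓ ^ n2) * w2 ^ ℓ ^ n1,
      ?_, ?_⟩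
    · intro h
      rcases Ideal.IsPrime.mem_or_mem inferInstance h with h | h
      · exact hb1 (Ideal.IsPrime.mem_of_pow_mem inferInstance _ h)
      · exact hb2 (Ideal.IsPrime.mem_of_pow_mem inferInstance _ h)
    · rw [← Ideal.Quotient.mk_eq_mk_iff_sub_mem] at h1 h2 ⊢
      rw [map_mul, map_pow] at h1 h2
      have := aux_add ℓ n1 n2 (fun x y => add_pow_mod ℓ hℓ' x y _) _ _ _ _ _ _ h1 h2
      simp only [map_mul, map_pow, map_add, ← IsScalarTower.algebraMap_apply R R' (R' ⊗[R] S)]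
      exact this

open TensorProduct in
/-- Let R → S be a ring map which is injective on spectra and whose residue field extensions κ(p) → κ(q)
(q a prime of S with inverse image p) are purely inseparable: every element of κ(q) has a power with
exponent a power of the characteristic exponent lying in the image of κ(p). Then, given an arbitrary
R-algebra R', the induced map R' → R' ⊗_R S is likewise injective on spectra and has purely
inseparable residue field extensions. -/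
theorem result {R S R' : Type u} [CommRing R] [CommRing S] [CommRing R'] [Algebra R S] [Algebra R R']
    (hinj : Function.Injective (PrimeSpectrum.comap (algebraMap R S)))
    (hpi : ∀ (q : Ideal S) [q.IsPrime] (x : q.ResidueField), ∃ n : ℕ, x ^ (ringExpChar (q.comap (algebraMap R S)).ResidueField) ^ n ∈ Set.range (Ideal.ResidueField.map (q.comap (algebraMap R S)) q (algebraMap R S) rfl)) :
    Function.Injective (PrimeSpectrum.comap (algebraMap R' (R' ⊗[R] S))) ∧
      ∀ (q' : Ideal (R' ⊗[R] S)) [q'.IsPrime] (x : q'.ResidueField), ∃ n : ℕ, x ^ (ringExpChar (q'.comap (algebraMap R' (R' ⊗[R] S))).ResidueField) ^ n ∈ Set.range (Ideal.ResidueField.map (q'.comap (algebraMap R' (R' ⊗[R] S))) q' (algebraMap R' (R' ⊗[R] S)) rfl) := by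
  have hcomap : ∀ (q' : Ideal (R' ⊗[R] S)),
      ((q'.comap (Algebra.TensorProduct.includeRight : S →ₐ[R] R' ⊗[R] S)).comap
        (algebraMap R S)) = (q'.comap (algebraMap R' (R' ⊗[R] S))).comap (algebraMap R R') := by
    intro q'
    ext r
    simp only [Ideal.mem_comap]
    rw [AlgHom.commutes, IsScalarTower.algebraMap_apply R R' (R' ⊗[R] S)]
  have hle : ∀ (P1 P2 : Ideal (R' ⊗[R] S)) [P1.IsPrime] [P2.IsPrime],
      P1.comap (algebraMap R' (R' ⊗[R] S)) = P2.comap (algebraMap R' (R' ⊗[R] S)) →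
      P1.comap (Algebra.TensorProduct.includeRight : S →ₐ[R] R' ⊗[R] S) =
        P2.comap (Algebra.TensorProduct.includeRight : S →ₐ[R] R' ⊗[R] S) → P1 ≤ P2 := by
    intro P1 P2 _ _ h' hQ z hz
    obtain ⟨n, b, w, hb, hmem⟩ := key (R' := R')
      (P1.comap (Algebra.TensorProduct.includeRight : S →ₐ[R] R' ⊗[R] S)) (hpi _) z
    have hJ1 : (P1.comap (Algebra.TensorProduct.includeRight : S →ₐ[R] R' ⊗[R] S)).map
        (Algebra.TensorProduct.includeRight : S →ₐ[R] R' ⊗[R] S) ≤ P1 := Ideal.map_comap_le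
    have hJ2 : (P1.comap (Algebra.TensorProduct.includeRight : S →ₐ[R] R' ⊗[R] S)).map
        (Algebra.TensorProduct.includeRight : S →ₐ[R] R' ⊗[R] S) ≤ P2 := by
      rw [hQ]; exact Ideal.map_comap_le
    have hpos : 0 < (ringExpChar ((P1.comap (Algebra.TensorProduct.includeRight :
        S →ₐ[R] R' ⊗[R] S)).comap (algebraMap R S)).ResidueField) ^ n :=
      pow_pos (expChar_pos ((P1.comap (Algebra.TensorProduct.includeRight :
        S →ₐ[R] R' ⊗[R] S)).comap (algebraMap R S)).ResidueField _) n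
    have hw1 : algebraMap R' (R' ⊗[R] S) w ∈ P1 := by
      have := P1.sub_mem (Ideal.mul_mem_left P1 (algebraMap R (R' ⊗[R] S) b)
        (Ideal.pow_mem_of_mem P1 hz _ hpos)) (hJ1 hmem)
      rwa [sub_sub_cancel] at this
    have hw2 : algebraMap R' (R' ⊗[R] S) w ∈ P2 := by
      have : w ∈ P1.comap (algebraMap R' (R' ⊗[R] S)) := hw1
      rw [h'] at this
      exact this
    have hbz := P2.add_mem (hJ2 hmem) hw2
    rw [sub_add_cancel] at hbz
    rcases Ideal.IsPrime.mem_or_mem inferInstance hbz with h | h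
    · exfalso
      apply hb
      rw [hQ]
      show (Algebra.TensorProduct.includeRight : S →ₐ[R] R' ⊗[R] S) (algebraMap R S b) ∈ P2
      rw [AlgHom.commutes]
      exact h
    · exact Ideal.IsPrime.mem_of_pow_mem inferInstance _ h
  constructor
  · intro P1 P2 h
    have h' : P1.asIdeal.comap (algebraMap R' (R' ⊗[R] S)) =
        P2.asIdeal.comap (algebraMap R' (R' ⊗[R] S)) := congrArg PrimeSpectrum.asIdeal h
    have hQ : P1.asIdeal.comap (Algebra.TensorProduct.includeRight : S →ₐ[R] R' ⊗[R] S) =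
        P2.asIdeal.comap (Algebra.TensorProduct.includeRight : S →ₐ[R] R' ⊗[R] S) := by
      have := @hinj
        ⟨P1.asIdeal.comap (Algebra.TensorProduct.includeRight : S →ₐ[R] R' ⊗[R] S), inferInstance⟩
        ⟨P2.asIdeal.comap (Algebra.TensorProduct.includeRight : S →ₐ[R] R' ⊗[R] S), inferInstance⟩
        (by
          apply PrimeSpectrum.ext
          show (P1.asIdeal.comap (Algebra.TensorProduct.includeRight :
              S →ₐ[R] R' ⊗[R] S)).comap (algebraMap R S) =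
            (P2.asIdeal.comap (Algebra.TensorProduct.includeRight :
              S →ₐ[R] R' ⊗[R] S)).comap (algebraMap R S)
          rw [hcomap P1.asIdeal, hcomap P2.asIdeal, h'])
      exact congrArg PrimeSpectrum.asIdeal this
    apply PrimeSpectrum.ext
    exact le_antisymm (hle _ _ h' hQ) (hle _ _ h'.symm hQ.symm)
  · intro q' _ x
    have hpp' := hcomap q'
    have hℓ : ringExpChar (q'.comap (algebraMap R' (R' ⊗[R] S))).ResidueField =
        ringExpChar ((q'.comap (Algebra.TensorProduct.includeRight :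
          S →ₐ[R] R' ⊗[R] S)).comap (algebraMap R S)).ResidueField := by
      haveI := expChar_of_injective_ringHom
        (Ideal.ResidueField.map _ _ (algebraMap R R') hpp').injective
        (ringExpChar ((q'.comap (Algebra.TensorProduct.includeRight :
          S →ₐ[R] R' ⊗[R] S)).comap (algebraMap R S)).ResidueField)
      exact ringExpChar.eq _ _
    rw [hℓ]
    obtain ⟨z, y, hy, hxy⟩ := exists_frac q' x
    obtain ⟨n1, b1, w1, hb1, h1⟩ := key (R' := R')
      (q'.comap (Algebra.TensorProduct.includeRight : S →ₐ[R] R' ⊗[R] S)) (hpi _) z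
    obtain ⟨n2, b2, w2, hb2, h2⟩ := key (R' := R')
      (q'.comap (Algebra.TensorProduct.includeRight : S →ₐ[R] R' ⊗[R] S)) (hpi _) y
    have hJ : (q'.comap (Algebra.TensorProduct.includeRight : S →ₐ[R] R' ⊗[R] S)).map
        (Algebra.TensorProduct.includeRight : S →ₐ[R] R' ⊗[R] S) ≤ q' := Ideal.map_comap_le
    have h1' := (Ideal.algebraMap_residueField_eq_zero (I := q')).mpr (hJ h1)
    have h2' := (Ideal.algebraMap_residueField_eq_zero (I := q')).mpr (hJ h2)
    rw [map_sub, sub_eq_zero, map_mul, map_pow, IsScalarTower.algebraMap_apply R R' (R' ⊗[R] S),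
      ← Ideal.ResidueField.map_algebraMap (q'.comap (algebraMap R' (R' ⊗[R] S))) q'
        (algebraMap R' (R' ⊗[R] S)) rfl,
      ← Ideal.ResidueField.map_algebraMap (q'.comap (algebraMap R' (R' ⊗[R] S))) q'
        (algebraMap R' (R' ⊗[R] S)) rfl] at h1' h2'
    have hβ : ∀ b : R, b ∉ (q'.comap (Algebra.TensorProduct.includeRight :
        S →ₐ[R] R' ⊗[R] S)).comap (algebraMap R S) →
        algebraMap R' (q'.comap (algebraMap R' (R' ⊗[R] S))).ResidueField (algebraMap R R' b) ≠ 0 := by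
      intro b hb h0
      rw [Ideal.algebraMap_residueField_eq_zero] at h0
      apply hb
      rw [hpp']
      exact h0
    have hφy : algebraMap (R' ⊗[R] S) q'.ResidueField y ≠ 0 := by
      rw [Ne, Ideal.algebraMap_residueField_eq_zero]; exact hy
    exact ⟨n1 + n2, field_aux _ _ n1 n2 x _ _ _ _ _ _ (hβ b1 hb1) (hβ b2 hb2) hφy hxy h1' h2'⟩

end Groth.Agent.S9609
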