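import Groth.Statements.S9610
-- import your own Groth.Agent.* helpers here

set_option autoImplicit false
universe u
open CAlg

namespace Groth.Agent.S9610

/-- Let k be a field and V a nonzero k-vector space with dim_k V < #k as cardinals. Then every k-linear
endomorphism T of V admits a monic polynomial P over k for which P(T) is not invertible. -/
theorem result {k V : Type u} [Field k] [AddCommGroup V] [Module k V] [Nontrivial V] (hV : Module.rank k V < Cardinal.mk k) (T : Module.End k V) :
    ∃ P : Polynomial k, P.Monic ∧ ¬ IsUnit (Polynomial.aeval T P) := by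
  classical
  by_contra hcon
  push Not at hcon
  have hunit : ∀ P : Polynomial k, P ≠ 0 → IsUnit (Polynomial.aeval T P) := by
    intro P hP
    have hlc : P.leadingCoeff ≠ 0 := Polynomial.leadingCoeff_ne_zero.mpr hP
    have hm : (Polynomial.C P.leadingCoeff⁻¹ * P).Monic :=
      Polynomial.monic_C_mul_of_mul_leadingCoeff_eq_one (inv_mul_cancel₀ hlc)
    have h1 := hcon _ hm
    rw [map_mul, Polynomial.aeval_C] at h1
    have h2 : IsUnit (algebraMap k (Module.End k V) P.leadingCoeff⁻¹) :=
      (IsUnit.mk0 _ (inv_ne_zero hlc)).map _
    exact (Units.isUnit_units_mul h2.unit _).mp h1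
  obtain ⟨v, hv⟩ := exists_ne (0 : V)
  have hex : ∀ a : k, ∃ w : V, Polynomial.aeval T (Polynomial.X - Polynomial.C a) w = v := by
    intro a
    have hu := hunit (Polynomial.X - Polynomial.C a) (Polynomial.X_sub_C_ne_zero a)
    exact ((Module.End.isUnit_iff _).mp hu).2 v
  choose w hw using hex
  have hli : LinearIndependent k w := by
    refine linearIndependent_iff'.2 fun s m hm i hi => ?_
    have h1 : ∀ j ∈ s, Polynomial.aeval T (s.prod fun l => Polynomial.X - Polynomial.C l) (w j) =
        Polynomial.aeval T ((s.erase j).prod fun l => Polynomial.X - Polynomial.C l) v := by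
      intro j hj
      rw [← s.prod_erase_mul _ hj, map_mul, Module.End.mul_apply, hw j]
    have hm' := congrArg (Polynomial.aeval T (s.prod fun l => Polynomial.X - Polynomial.C l)) hm
    rw [map_sum, map_zero] at hm'
    have h3 : ∑ j ∈ s, Polynomial.aeval T (s.prod fun l => Polynomial.X - Polynomial.C l)
        (m j • w j) = Polynomial.aeval T (∑ j ∈ s, Polynomial.C (m j) *
          (s.erase j).prod fun l => Polynomial.X - Polynomial.C l) v := by
      rw [map_sum, LinearMap.sum_apply]
      refine Finset.sum_congr rfl fun j hj => ?_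
      rw [map_smul, h1 j hj, map_mul, Polynomial.aeval_C, Module.End.mul_apply,
        Module.algebraMap_end_apply]
    rw [h3] at hm'
    have hp : (∑ j ∈ s, Polynomial.C (m j) *
        (s.erase j).prod fun l => Polynomial.X - Polynomial.C l) = 0 := by
      by_contra hp
      have hu := hunit _ hp
      have hinj := ((Module.End.isUnit_iff _).mp hu).1
      exact hv (hinj (by rw [hm', map_zero]))
    have hm2 := congrArg (Polynomial.eval i) hp
    have h2 : ∀ j ∈ s.erase i, m j * ((s.erase j).prod fun x => i - x) = 0 := fun j hj => by
      have := Finset.mem_erase_of_ne_of_mem (Finset.ne_of_mem_erase hj).symm hi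
      simp_rw [← (s.erase j).prod_erase_mul _ this, sub_self, mul_zero]
    simp_rw [Polynomial.eval_finsetSum, Polynomial.eval_mul, Polynomial.eval_prod,
      Polynomial.eval_sub, Polynomial.eval_X, Polynomial.eval_C, Polynomial.eval_zero,
      ← s.sum_erase_add _ hi, Finset.sum_eq_zero h2, zero_add] at hm2
    exact eq_zero_of_ne_zero_of_mul_right_eq_zero (Finset.prod_ne_zero_iff.2 fun j hj =>
      sub_ne_zero.2 (Finset.ne_of_mem_erase hj).symm) hm2
  exact absurd hV (not_lt.mpr hli.cardinal_le_rank)

end Groth.Agent.S9610
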