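import Groth.Statements.S9611

set_option autoImplicit false
universe u
open CAlg

namespace Groth.Agent.S9611

/-- Let R be a Jacobson ring, p a prime ideal of R which is not maximal, and f an element of R not in p.
Then the set of primes of R containing p and not containing f is infinite. -/
theorem result {R : Type u} [CommRing R] [IsJacobsonRing R] (p : Ideal R) [p.IsPrime] (hp : ¬ p.IsMaximal) (f : R) (hf : f ∉ p) :
    {q : PrimeSpectrum R | p ≤ q.asIdeal ∧ f ∉ q.asIdeal}.Infinite := by
  intro hfin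
  classical
  let P : PrimeSpectrum R := ⟨p, inferInstance⟩
  let T' : Finset (PrimeSpectrum R) := hfin.toFinset.erase P
  have hT' : ∀ q ∈ T', ∃ x ∈ q.asIdeal, x ∉ p := by
    intro q hq
    rw [Finset.mem_erase, Set.Finite.mem_toFinset] at hq
    obtain ⟨hne, hpq, -⟩ := hq
    have hlt : p < q.asIdeal := lt_of_le_of_ne hpq (fun h => hne (PrimeSpectrum.ext h.symm))
    exact SetLike.exists_of_lt hlt
  choose! x hx1 hx2 using hT'
  let g : R := f * ∏ q ∈ T', x q
  have hg : g ∉ p := by
    intro h
    rcases (Ideal.IsPrime.mem_or_mem inferInstance h) with h | h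
    · exact hf h
    · rw [Ideal.IsPrime.prod_mem_iff] at h
      obtain ⟨q, hq, hxq⟩ := h
      exact hx2 q hq hxq
  have hj : p.jacobson = p := IsJacobsonRing.out inferInstance (Ideal.IsPrime.isRadical inferInstance)
  rw [← hj, Ideal.jacobson, Ideal.mem_sInf] at hg
  push Not at hg
  obtain ⟨m, ⟨hpm, hm⟩, hgm⟩ := hg
  have hfm : f ∉ m := fun h => hgm (Ideal.mul_mem_right _ _ h)
  let Q : PrimeSpectrum R := ⟨m, hm.isPrime⟩
  have hQ : Q ∈ T' := by
    rw [Finset.mem_erase, Set.Finite.mem_toFinset]
    refine ⟨?_, hpm, hfm⟩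
    intro h
    apply hp
    have : m = p := congrArg PrimeSpectrum.asIdeal h
    exact this ▸ hm
  apply hgm
  apply Ideal.mul_mem_left
  obtain ⟨c, hc⟩ := Finset.dvd_prod_of_mem x hQ
  rw [hc]
  exact Ideal.mul_mem_right _ _ (hx1 Q hQ)

end Groth.Agent.S9611
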