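import Groth.Statements.S9613
import Mathlib.RingTheory.Jacobson.Ring
import Mathlib.RingTheory.Localization.Integral
import Mathlib.RingTheory.Localization.FractionRing

set_option autoImplicit false
universe u
open CAlg

namespace Groth.Agent.S9613

/-- Let R → K be an injective ring map into a field K which makes K an R-algebra of finite type. Then
for some nonzero f ∈ R the localization R_f is a field over which K is finite; here R_f is realised
as the R-subalgebra of K that is a localization of R away from f. -/
theorem result {R K : Type u} [CommRing R] [Field K] [Algebra R K] (hinj : Function.Injective (algebraMap R K)) [Algebra.FiniteType R K] :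
    ∃ f : R, f ≠ 0 ∧ ∃ Rf : Subalgebra R K, IsLocalization.Away f Rf ∧ IsField Rf ∧ Module.Finite Rf K := by
  classical
  haveI : IsDomain R := Function.Injective.isDomain (algebraMap R K) hinj
  let L := FractionRing R
  letI : Algebra L K := (IsFractionRing.lift hinj).toAlgebra
  haveI : IsScalarTower R L K :=
    IsScalarTower.of_algebraMap_eq (fun x => (IsFractionRing.lift_algebraMap hinj x).symm)
  haveI : Algebra.FiniteType L K := Algebra.FiniteType.of_restrictScalars_finiteType R L K
  haveI : Module.Finite L K := finite_of_finite_type_of_isJacobsonRing L K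
  obtain ⟨s, hs⟩ := (inferInstance : Algebra.FiniteType R K).out
  have hex : ∀ x : K, ∃ m : nonZeroDivisors R, IsIntegral R (m • x) := fun x =>
    IsIntegral.exists_multiple_integral_of_isLocalization (nonZeroDivisors R) x
      (Algebra.IsIntegral.isIntegral (R := L) x)
  choose m hm using hex
  let f : R := ∏ x ∈ s, (m x : R)
  have hf0 : f ≠ 0 := Finset.prod_ne_zero_iff.mpr (fun x _ => nonZeroDivisors.ne_zero (m x).2)
  have hfK : algebraMap R K f ≠ 0 := fun h => hf0 (hinj (by rw [h, map_zero]))
  have hunit : ∀ y : Submonoid.powers f, IsUnit ((Algebra.ofId R K) y) := by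
    rintro ⟨_, n, rfl⟩
    change IsUnit (algebraMap R K (f ^ n))
    rw [map_pow]
    exact (IsUnit.mk0 _ hfK).pow n
  let g : Localization.Away f →ₐ[R] K := IsLocalization.liftAlgHom hunit
  have hg : Function.Injective g := by
    change Function.Injective (IsLocalization.lift hunit)
    rw [IsLocalization.lift_injective_iff]
    intro x y
    have h1 : Function.Injective (algebraMap R (Localization.Away f)) :=
      IsLocalization.injective _ (powers_le_nonZeroDivisors_of_noZeroDivisors hf0)
    exact ⟨fun h => by rw [h1 h], fun h => by rw [hinj h]⟩
  let Rf : Subalgebra R K := g.range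
  let e : Localization.Away f ≃ₐ[R] Rf := AlgEquiv.ofInjective g hg
  have hloc : IsLocalization.Away f Rf :=
    IsLocalization.isLocalization_of_algEquiv (Submonoid.powers f) e
  -- the inverse of f lies in Rf
  have hinv : (algebraMap R K f)⁻¹ ∈ Rf := by
    refine ⟨IsLocalization.Away.invSelf f, ?_⟩
    apply eq_inv_of_mul_eq_one_left
    have h1 : g (algebraMap R (Localization.Away f) f) = algebraMap R K f := g.commutes f
    have : g (IsLocalization.Away.invSelf f) * algebraMap R K f = 1 := by
      rw [← h1, ← map_mul, mul_comm, IsLocalization.Away.mul_invSelf, map_one]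
    exact this
  have hminv : ∀ x ∈ s, (algebraMap R K (m x))⁻¹ ∈ Rf := by
    intro x hx
    obtain ⟨c, hc⟩ := Finset.dvd_prod_of_mem (fun x => (m x : R)) hx
    have hmx : algebraMap R K (m x) ≠ 0 := fun h =>
      nonZeroDivisors.ne_zero (m x).2 (hinj (by rw [h, map_zero]))
    have : (algebraMap R K (m x))⁻¹ = algebraMap R K c * (algebraMap R K f)⁻¹ := by
      have hfc : algebraMap R K f = algebraMap R K (m x) * algebraMap R K c := by
        rw [← map_mul]; exact congrArg _ hc
      rw [hfc]
      have hcK : algebraMap R K c ≠ 0 := by
        intro h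
        rw [hfc, h, mul_zero] at hfK
        exact hfK rfl
      field_simp
    rw [this]
    exact Rf.mul_mem (Rf.algebraMap_mem c) hinv
  -- K is integral over Rf
  have hint : Algebra.IsIntegral Rf K := by
    refine ⟨fun z => ?_⟩
    have hz : z ∈ (integralClosure Rf K).restrictScalars R := by
      have htop : z ∈ Algebra.adjoin R (s : Set K) := by rw [hs]; trivial
      refine Algebra.adjoin_le ?_ htop
      intro x hx
      have hmx : algebraMap R K (m x) ≠ 0 := fun h =>
        nonZeroDivisors.ne_zero (m x).2 (hinj (by rw [h, map_zero]))
      have hx' : x = (m x • x) * (algebraMap R K (m x))⁻¹ := by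
        rw [Submonoid.smul_def, Algebra.smul_def]
        field_simp
      change IsIntegral Rf x
      rw [hx']
      refine IsIntegral.mul ((hm x).tower_top) ?_
      have : (algebraMap R K (m x))⁻¹ = algebraMap Rf K ⟨_, hminv x hx⟩ := rfl
      rw [this]
      exact isIntegral_algebraMap
    exact hz
  refine ⟨f, hf0, Rf, hloc, ?_, ?_⟩
  · exact isField_of_isIntegral_of_isField (R := Rf) (S := K) Subtype.val_injective
      (Field.toIsField K)
  · haveI : Algebra.FiniteType Rf K := Algebra.FiniteType.of_restrictScalars_finiteType R Rf K
    exact Algebra.IsIntegral.finite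

end Groth.Agent.S9613
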