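import Groth.Statements.S9614
-- import your own Groth.Agent.* helpers here

set_option autoImplicit false
universe u
open CAlg

namespace Groth.Agent.S9614

/-- Let S be an ℕ-graded ring and M a finitely generated graded S-module, graded in nonnegative degrees
(the source allows all integer degrees). If x_1, …, x_n are homogeneous elements of M which generate
M modulo S₊ M (S₊ the irrelevant ideal), then x_1, …, x_n generate M. -/
theorem result {R S : Type u} [CommRing R] [CommRing S] [Algebra R S] (𝒜 : ℕ → Submodule R S) [GradedAlgebra 𝒜]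
    (M : Type u) [AddCommGroup M] [Module R M] [Module S M] [IsScalarTower R S M] [Module.Finite S M] (ℳ : ℕ → Submodule R M) [DirectSum.Decomposition ℳ] [SetLike.GradedSMul 𝒜 ℳ]
    {n : ℕ} (x : Fin n → M) (hx : ∀ i, SetLike.IsHomogeneousElem ℳ (x i))
    (h : Submodule.span S (Set.range x) ⊔ (HomogeneousIdeal.irrelevant 𝒜).toIdeal • (⊤ : Submodule S M) = ⊤) :
    Submodule.span S (Set.range x) = ⊤ := by
  classical
  set N := Submodule.span S (Set.range x) with hNdef
  obtain ⟨π, hπ⟩ : ∃ π : ℕ → M → M, ∀ d m, π d m = ((DirectSum.decompose ℳ m) d : M) :=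
    ⟨_, fun _ _ => rfl⟩
  have π_add : ∀ d y z, π d (y + z) = π d y + π d z := by
    intro d y z
    simp only [hπ, DirectSum.decompose_add, DirectSum.add_apply, Submodule.coe_add]
  have π_zero : ∀ d, π d 0 = 0 := by
    intro d
    simp only [hπ, DirectSum.decompose_zero, DirectSum.zero_apply, ZeroMemClass.coe_zero]
  have π_same : ∀ d m, m ∈ ℳ d → π d m = m := fun d m hm => by
    rw [hπ]; exact DirectSum.decompose_of_mem_same ℳ hm
  have π_ne : ∀ d e m, m ∈ ℳ e → e ≠ d → π d m = 0 := fun d e m hm hne => by
    rw [hπ]; exact DirectSum.decompose_of_mem_ne ℳ hm hne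
  have π_sum : ∀ d (c : Fin n → M), π d (∑ i, c i) = ∑ i, π d (c i) := by
    intro d c
    exact map_sum (AddMonoidHom.mk' (π d) (π_add d)) c Finset.univ
  have main : ∀ d, ∀ m ∈ ℳ d, m ∈ N := by
    intro d
    induction d using Nat.strong_induction_on with
    | _ d IH =>
      intro m hm
      have C2 : ∀ (i : Fin n) (s : S), π d (s • x i) ∈ N := by
        intro i s
        obtain ⟨e, he⟩ := hx i
        induction s using DirectSum.Decomposition.inductionOn 𝒜 with
        | zero => rw [zero_smul, π_zero]; exact N.zero_mem
        | @homogeneous a s =>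
          have hmem : (s : S) • x i ∈ ℳ (a + e) := SetLike.GradedSMul.smul_mem s.2 he
          by_cases hd : a + e = d
          · rw [π_same d _ (hd ▸ hmem)]
            exact N.smul_mem _ (Submodule.subset_span ⟨i, rfl⟩)
          · rw [π_ne d _ _ hmem hd]; exact N.zero_mem
        | add s s' hs hs' => rw [add_smul, π_add]; exact N.add_mem hs hs'
      have C1 : ∀ (a : ℕ), 0 < a → ∀ t ∈ 𝒜 a, ∀ y : M, π d (t • y) ∈ N := by
        intro a ha t ht y
        induction y using DirectSum.Decomposition.inductionOn ℳ with
        | zero => rw [smul_zero, π_zero]; exact N.zero_mem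
        | @homogeneous b y =>
          have hmem : t • (y : M) ∈ ℳ (a + b) := SetLike.GradedSMul.smul_mem ht y.2
          by_cases hd : a + b = d
          · rw [π_same d _ (hd ▸ hmem)]
            exact N.smul_mem _ (IH b (by omega) y y.2)
          · rw [π_ne d _ _ hmem hd]; exact N.zero_mem
        | add y y' hy hy' => rw [smul_add, π_add]; exact N.add_mem hy hy'
      have C1' : ∀ t ∈ (HomogeneousIdeal.irrelevant 𝒜).toIdeal, ∀ y : M, π d (t • y) ∈ N := by
        intro t ht
        have ht' : t ∈ (HomogeneousIdeal.irrelevant 𝒜).toAddSubmonoid := ht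
        rw [HomogeneousIdeal.irrelevant_eq_closure] at ht'
        clear ht
        induction ht' using AddSubmonoid.closure_induction with
        | mem t ht =>
          simp only [Set.mem_iUnion] at ht
          obtain ⟨a, ha, hta⟩ := ht
          exact C1 a ha t hta
        | zero => intro y; rw [zero_smul, π_zero]; exact N.zero_mem
        | add t t' _ _ ht ht' => intro y; rw [add_smul, π_add]; exact N.add_mem (ht y) (ht' y)
      have hmtop : m ∈ N ⊔ (HomogeneousIdeal.irrelevant 𝒜).toIdeal • (⊤ : Submodule S M) := by
        rw [h]; trivial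
      obtain ⟨y, hy, z, hz, hyz⟩ := Submodule.mem_sup.mp hmtop
      rw [← π_same d m hm, ← hyz, π_add]
      refine N.add_mem ?_ ?_
      · obtain ⟨c, rfl⟩ := (Submodule.mem_span_range_iff_exists_fun S).mp hy
        rw [π_sum]
        exact N.sum_mem fun i _ => C2 i (c i)
      · refine Submodule.smul_induction_on hz (fun t ht y _ => C1' t ht y)
          (fun y z hy hz => ?_)
        rw [π_add]; exact N.add_mem hy hz
  have all : ∀ m : M, m ∈ N := by
    intro m
    induction m using DirectSum.Decomposition.inductionOn ℳ with
    | zero => exact N.zero_mem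
    | @homogeneous d m => exact main d m m.2
    | add m m' hm hm' => exact N.add_mem hm hm'
  exact eq_top_iff.mpr fun m _ => all m

end Groth.Agent.S9614
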