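import Groth.Statements.S9615
import Mathlib.RingTheory.Polynomial.IsIntegral
import Mathlib.RingTheory.PolynomialAlgebra

set_option autoImplicit false
universe u
open CAlg

namespace Groth.Agent.S9615

open Polynomial

attribute [local instance] Polynomial.algebra

/-- The ring homomorphism `A → A[X]`, `a ↦ ∑ aᵢ Xⁱ` attached to an ℕ-grading. -/
private noncomputable def Φ {A : Type u} [CommRing A] (𝒜 : ℕ → AddSubgroup A) [GradedRing 𝒜] :
    A →+* A[X] :=
  (DirectSum.toSemiring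
    (fun i => (Polynomial.monomial i : A →ₗ[A] A[X]).toAddMonoidHom.comp (𝒜 i).subtype)
    (by simp [SetLike.coe_gOne])
    (by intro i j ai aj; simp [SetLike.coe_gMul, Polynomial.monomial_mul_monomial])).comp
  (DirectSum.decomposeRingEquiv 𝒜).toRingHom

private theorem Φ_of_mem {A : Type u} [CommRing A] (𝒜 : ℕ → AddSubgroup A) [GradedRing 𝒜]
    {i : ℕ} {x : A} (hx : x ∈ 𝒜 i) : Φ 𝒜 x = Polynomial.monomial i x := by
  lift x to 𝒜 i using hx
  unfold Φ
  rw [RingHom.comp_apply]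
  have h0 : (DirectSum.decomposeRingEquiv 𝒜).toRingHom (x : A) = DirectSum.of _ i x :=
    DirectSum.decompose_coe 𝒜 x
  rw [h0, DirectSum.toSemiring_of]
  rfl

private theorem Φ_coeff {A : Type u} [CommRing A] (𝒜 : ℕ → AddSubgroup A) [GradedRing 𝒜]
    (s : A) (i : ℕ) : (Φ 𝒜 s).coeff i = ((DirectSum.decompose 𝒜 s i : 𝒜 i) : A) := by
  classical
  conv_lhs => rw [← DirectSum.sum_support_decompose 𝒜 s]
  rw [map_sum, Polynomial.finsetSum_coeff]
  have h1 : ∀ j ∈ (DirectSum.decompose 𝒜 s).support,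
      (Φ 𝒜 ((DirectSum.decompose 𝒜 s j : 𝒜 j) : A)).coeff i =
        if j = i then ((DirectSum.decompose 𝒜 s j : 𝒜 j) : A) else 0 := by
    intro j _
    rw [Φ_of_mem 𝒜 (SetLike.coe_mem _), Polynomial.coeff_monomial]
  rw [Finset.sum_congr rfl h1, Finset.sum_ite_eq']
  split_ifs with h
  · rfl
  · rw [DFinsupp.notMem_support_iff.mp h]
    rfl

private theorem compat {R S : Type u} [CommRing R] [CommRing S] [Algebra R S]
    (ℛ : ℕ → AddSubgroup R) [GradedRing ℛ] (𝒮 : ℕ → AddSubgroup S) [GradedRing 𝒮]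
    (hmap : ∀ i : ℕ, ∀ r ∈ ℛ i, algebraMap R S r ∈ 𝒮 i) :
    (algebraMap R[X] S[X]).comp (Φ ℛ) = (Φ 𝒮).comp (algebraMap R S) := by
  classical
  refine RingHom.ext (fun r => ?_)
  simp only [RingHom.comp_apply]
  conv_lhs => rw [← DirectSum.sum_support_decompose ℛ r]
  conv_rhs => rw [← DirectSum.sum_support_decompose ℛ r]
  simp only [map_sum]
  apply Finset.sum_congr rfl
  intro j _
  rw [Φ_of_mem ℛ (SetLike.coe_mem _), Φ_of_mem 𝒮 (hmap j _ (SetLike.coe_mem _)),
    Polynomial.algebraMap_def, Polynomial.coe_mapRingHom, Polynomial.map_monomial]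

/-- Let R → S be a homomorphism of ℕ-graded rings, i.e. the structure map carries each graded piece R_i
into S_i. If an element s of S is integral over R, then each homogeneous component of s is integral
over R; so the integral closure of R in S is a graded subring of S. -/
theorem result {R S : Type u} [CommRing R] [CommRing S] [Algebra R S] (ℛ : ℕ → AddSubgroup R) [GradedRing ℛ] (𝒮 : ℕ → AddSubgroup S) [GradedRing 𝒮]
    (hmap : ∀ i : ℕ, ∀ r ∈ ℛ i, algebraMap R S r ∈ 𝒮 i) (s : S) (hs : IsIntegral R s) (i : ℕ) :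
    IsIntegral R ((DirectSum.decompose 𝒮 s i : 𝒮 i) : S) := by
  have h1 : IsIntegral R[X] (Φ 𝒮 s) := hs.map_of_comp_eq (Φ ℛ) (Φ 𝒮) (compat ℛ 𝒮 hmap)
  have h2 := (Polynomial.isIntegral_iff_isIntegral_coeff.mp h1) i
  rwa [Φ_coeff] at h2

end Groth.Agent.S9615
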