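import Groth.Statements.S9616
import Mathlib

set_option autoImplicit false
universe u
open CAlg

namespace Groth.Agent.S9616

section aux
variable {R S : Type u} [CommRing R] [CommRing S] [Algebra R S] (𝒜 : ℕ → Submodule R S)
  [GradedAlgebra 𝒜]

open Classical in
/-- A homogeneous ideal not contained in another contains a homogeneous element outside it. -/
theorem exists_homogeneous_not_mem (J K : HomogeneousIdeal 𝒜) (h : ¬ J ≤ K) :
    ∃ (x : S) (d : ℕ), x ∈ 𝒜 d ∧ x ∈ J.toIdeal ∧ x ∉ K.toIdeal := by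
  by_contra hcon
  push Not at hcon
  apply h
  intro y hy
  have hy' : y ∈ J.toIdeal := hy
  show y ∈ K.toIdeal
  rw [← DirectSum.sum_support_decompose 𝒜 y]
  refine Ideal.sum_mem _ (fun i _ => ?_)
  exact hcon _ i (SetLike.coe_mem _) (J.isHomogeneous i hy')

theorem eq_zero_of_mem_zero (I : HomogeneousIdeal 𝒜) (hI : I ≤ HomogeneousIdeal.irrelevant 𝒜)
    (x : S) (hx0 : x ∈ 𝒜 0) (hx : x ∈ I.toIdeal) : x = 0 := by
  have h1 : x ∈ HomogeneousIdeal.irrelevant 𝒜 := hI hx
  have h2 : (DirectSum.decompose 𝒜 x 0 : S) = 0 := h1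
  rw [DirectSum.decompose_of_mem_same 𝒜 hx0] at h2
  exact h2

open Classical in
theorem exists_prod_avoid (q₀ : HomogeneousIdeal 𝒜) (hq₀ : q₀.toIdeal.IsPrime)
    (t : Finset (HomogeneousIdeal 𝒜)) (ht : ∀ q' ∈ t, ¬ q' ≤ q₀) :
    ∃ (z : S) (e : ℕ), z ∈ 𝒜 e ∧ (∀ q' ∈ t, z ∈ q'.toIdeal) ∧ z ∉ q₀.toIdeal := by
  induction t using Finset.induction_on with
  | empty =>
    exact ⟨1, 0, SetLike.one_mem_graded 𝒜, by simp, (Ideal.ne_top_iff_one _).mp hq₀.ne_top⟩
  | insert q' t hq't ih =>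
    obtain ⟨z, e, hz, hzt, hzq⟩ := ih (fun q hq => ht q (Finset.mem_insert_of_mem hq))
    obtain ⟨z', e', hz', hz'q', hz'q⟩ :=
      exists_homogeneous_not_mem 𝒜 q' q₀ (ht q' (Finset.mem_insert_self _ _))
    refine ⟨z' * z, e' + e, SetLike.mul_mem_graded hz' hz, ?_, ?_⟩
    · intro q hq
      rcases Finset.mem_insert.mp hq with rfl | hq
      · exact Ideal.mul_mem_right _ _ hz'q'
      · exact Ideal.mul_mem_left _ _ (hzt q hq)
    · intro hmem
      rcases hq₀.mem_or_mem hmem with h1 | h1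
      · exact hz'q h1
      · exact hzq h1

open Classical in
theorem main (I : HomogeneousIdeal 𝒜) (hI : I ≤ HomogeneousIdeal.irrelevant 𝒜)
    (s : Finset (HomogeneousIdeal 𝒜)) (hs : ∀ q ∈ s, q.toIdeal.IsPrime) (h : ∀ q ∈ s, ¬ I ≤ q) :
    ∃ (x : S) (d : ℕ), 0 < d ∧ x ∈ 𝒜 d ∧ x ∈ I.toIdeal ∧ ∀ q ∈ s, x ∉ q.toIdeal := by
  induction s using Finset.strongInduction with
  | H s ih =>
    by_cases hcase : ∃ q ∈ s, ∃ q' ∈ s, q' ≠ q ∧ q' ≤ q
    · obtain ⟨q, hq, q', hq', hne, hle⟩ := hcase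
      obtain ⟨x, d, hd, hxd, hxI, hx⟩ := ih (s.erase q') (Finset.erase_ssubset hq')
        (fun a ha => hs a (Finset.mem_of_mem_erase ha))
        (fun a ha => h a (Finset.mem_of_mem_erase ha))
      refine ⟨x, d, hd, hxd, hxI, ?_⟩
      intro a ha
      by_cases haq : a = q'
      · subst haq
        intro hxa
        exact hx q (Finset.mem_erase.mpr ⟨hne.symm, hq⟩) (hle hxa)
      · exact hx a (Finset.mem_erase.mpr ⟨haq, ha⟩)
    · push Not at hcase
      by_cases hemp : s = ∅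
      · subst hemp
        exact ⟨0, 1, Nat.one_pos, Submodule.zero_mem _, Ideal.zero_mem _, by simp⟩
      obtain ⟨q₀, hq₀⟩ := Finset.nonempty_iff_ne_empty.mpr hemp
      have hq₀p : q₀.toIdeal.IsPrime := hs q₀ hq₀
      obtain ⟨x₁, d₁, hd₁, hx₁d, hx₁I, hx₁⟩ := ih (s.erase q₀) (Finset.erase_ssubset hq₀)
        (fun a ha => hs a (Finset.mem_of_mem_erase ha))
        (fun a ha => h a (Finset.mem_of_mem_erase ha))
      by_cases hx₁q₀ : x₁ ∉ q₀.toIdeal
      · refine ⟨x₁, d₁, hd₁, hx₁d, hx₁I, ?_⟩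
        intro a ha
        by_cases haq : a = q₀
        · subst haq; exact hx₁q₀
        · exact hx₁ a (Finset.mem_erase.mpr ⟨haq, ha⟩)
      · rw [not_not] at hx₁q₀
        obtain ⟨w, ew, hw, hwI, hwq⟩ := exists_homogeneous_not_mem 𝒜 I q₀ (h q₀ hq₀)
        have hew : 0 < ew := by
          rcases Nat.eq_zero_or_pos ew with h0 | h0
          · exfalso
            subst h0
            have := eq_zero_of_mem_zero 𝒜 I hI w hw hwI
            rw [this] at hwq
            exact hwq (Ideal.zero_mem _)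
          · exact h0
        obtain ⟨z, ez, hz, hzt, hzq⟩ := exists_prod_avoid 𝒜 q₀ hq₀p (s.erase q₀) (by
          intro q' hq' hle
          have := hcase q₀ hq₀ q' (Finset.mem_of_mem_erase hq')
          exact this (Finset.ne_of_mem_erase hq') hle)
        have hyd : w * z ∈ 𝒜 (ew + ez) := SetLike.mul_mem_graded hw hz
        have hyI : w * z ∈ I.toIdeal := Ideal.mul_mem_right _ _ hwI
        have hyq : w * z ∉ q₀.toIdeal := by
          intro hmem
          rcases hq₀p.mem_or_mem hmem with h1 | h1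
          · exact hwq h1
          · exact hzq h1
        have he : 0 < ew + ez := Nat.add_pos_left hew ez
        refine ⟨x₁ ^ (ew + ez) + (w * z) ^ d₁, (ew + ez) * d₁, Nat.mul_pos he hd₁, ?_, ?_, ?_⟩
        · refine Submodule.add_mem _ ?_ ?_
          · have := SetLike.pow_mem_graded (ew + ez) hx₁d
            rwa [smul_eq_mul] at this
          · have := SetLike.pow_mem_graded d₁ hyd
            rwa [smul_eq_mul, mul_comm] at this
        · exact Ideal.add_mem _ (Ideal.pow_mem_of_mem _ hx₁I _ he)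
            (Ideal.pow_mem_of_mem _ hyI _ hd₁)
        · intro a ha
          by_cases haq : a = q₀
          · subst haq
            intro hmem
            have h1 : x₁ ^ (ew + ez) ∈ a.toIdeal := Ideal.pow_mem_of_mem _ hx₁q₀ _ he
            have h2 : (w * z) ^ d₁ ∈ a.toIdeal := (Ideal.add_mem_iff_right _ h1).mp hmem
            exact hyq (hq₀p.mem_of_pow_mem _ h2)
          · have ha' : a ∈ s.erase q₀ := Finset.mem_erase.mpr ⟨haq, ha⟩
            intro hmem
            have h1 : (w * z) ^ d₁ ∈ a.toIdeal :=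
              Ideal.pow_mem_of_mem _ (Ideal.mul_mem_left _ _ (hzt a ha')) _ hd₁
            have h2 : x₁ ^ (ew + ez) ∈ a.toIdeal := (Ideal.add_mem_iff_left _ h1).mp hmem
            exact hx₁ a ha' ((hs a ha).mem_of_pow_mem _ h2)

end aux

open Classical in
/-- Let S be an ℕ-graded ring, p_1, …, p_r homogeneous prime ideals of S and I ⊆ S₊ a homogeneous ideal
not contained in any p_i. Then there is a homogeneous element x ∈ I of positive degree with x ∉ p_i
for all i. -/
theorem result {R S : Type u} [CommRing R] [CommRing S] [Algebra R S] (𝒜 : ℕ → Submodule R S) [GradedAlgebra 𝒜]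
    {r : ℕ} (p : Fin r → HomogeneousIdeal 𝒜) (hp : ∀ i, (p i).toIdeal.IsPrime) (I : HomogeneousIdeal 𝒜) (hI : I ≤ HomogeneousIdeal.irrelevant 𝒜) (h : ∀ i, ¬ I ≤ p i) :
    ∃ x : S, ∃ d : ℕ, 0 < d ∧ x ∈ 𝒜 d ∧ x ∈ I ∧ ∀ i, x ∉ p i := by
  obtain ⟨x, d, hd, hxd, hxI, hx⟩ := main 𝒜 I hI (Finset.univ.image p)
    (by intro q hq; obtain ⟨i, -, rfl⟩ := Finset.mem_image.mp hq; exact hp i)
    (by intro q hq; obtain ⟨i, -, rfl⟩ := Finset.mem_image.mp hq; exact h i)
  exact ⟨x, d, hd, hxd, hxI, fun i hxi => hx (p i) (Finset.mem_image_of_mem p (Finset.mem_univ i)) hxi⟩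

end Groth.Agent.S9616
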