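import Groth.Statements.S9617
import Mathlib

set_option autoImplicit false
universe u
open CAlg

namespace Groth.Agent.S9617

section helpers

variable {A S : Type u} [CommRing A] [CommRing S] [Algebra A S]
  {M : Type u} [AddCommGroup M] [Module A M] [Module S M] [IsScalarTower A S M]

/-- multiplication by `h : S` as an `A`-linear endomorphism of `M`. -/
noncomputable def mulBy (h : S) : M →ₗ[A] M := (LinearMap.lsmul S M h).restrictScalars A

lemma mulBy_apply (h : S) (x : M) : mulBy (A := A) h x = h • x := rfl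

/-- the `n`-th homogeneous component as an `A`-linear endomorphism of `M`. -/
noncomputable def proj (ℳ : ℕ → Submodule A M) [DirectSum.Decomposition ℳ] (n : ℕ) : M →ₗ[A] M :=
  (ℳ n).subtype ∘ₗ (DirectSum.component A ℕ (fun i => ℳ i) n) ∘ₗ
    (DirectSum.decomposeLinearEquiv ℳ).toLinearMap

lemma proj_apply (ℳ : ℕ → Submodule A M) [DirectSum.Decomposition ℳ] (n : ℕ) (x : M) :
    proj ℳ n x = ((DirectSum.decompose ℳ x) n : M) := rfl

lemma proj_of_mem_same (ℳ : ℕ → Submodule A M) [DirectSum.Decomposition ℳ] {n : ℕ} {x : M}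
    (hx : x ∈ ℳ n) : proj ℳ n x = x := by
  rw [proj_apply]; exact DirectSum.decompose_of_mem_same ℳ hx

lemma proj_of_mem_ne (ℳ : ℕ → Submodule A M) [DirectSum.Decomposition ℳ] {k n : ℕ} {x : M}
    (hx : x ∈ ℳ k) (h : k ≠ n) : proj ℳ n x = 0 := by
  rw [proj_apply]; exact DirectSum.decompose_of_mem_ne ℳ hx h

lemma proj_mem (ℳ : ℕ → Submodule A M) [DirectSum.Decomposition ℳ] (n : ℕ) (x : M) :
    proj ℳ n x ∈ ℳ n := by
  rw [proj_apply]; exact SetLike.coe_mem _

/-- The candidate finitely generated description of the `n`-th graded piece. -/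
noncomputable def T (𝒜 : ℕ → Submodule A S) [GradedAlgebra 𝒜]
    (ℳ : ℕ → Submodule A M) [DirectSum.Decomposition ℳ] (t : Finset S) (G : Finset M) (n : ℕ) :
    Submodule A M :=
  Submodule.span A ((proj ℳ n) '' (G : Set M)) ⊔
    ⨆ s ∈ t, ⨆ d ∈ Finset.Icc 1 n,
      (ℳ (n - d)).map (mulBy (A := A) (M := M) ((DirectSum.decompose 𝒜 s d : S)))

lemma proj_smul_mem (𝒜 : ℕ → Submodule A S) [GradedAlgebra 𝒜]
    (ℳ : ℕ → Submodule A M) [DirectSum.Decomposition ℳ] [SetLike.GradedSMul 𝒜 ℳ]
    (t : Finset S) (G : Finset M) {s : S} (hs : s ∈ t) {d : ℕ} (hd : 1 ≤ d) (n : ℕ) (x : M) :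
    proj ℳ n ((DirectSum.decompose 𝒜 s d : S) • x) ∈ T 𝒜 ℳ t G n := by
  refine DirectSum.Decomposition.inductionOn ℳ ?_ ?_ ?_ x
  · rw [smul_zero, map_zero]; exact zero_mem _
  · intro k m
    have hmem : (DirectSum.decompose 𝒜 s d : S) • (m : M) ∈ ℳ (d + k) := by
      have := SetLike.GradedSMul.smul_mem (A := 𝒜) (B := ℳ)
        (SetLike.coe_mem (DirectSum.decompose 𝒜 s d)) (SetLike.coe_mem m)
      simpa [vadd_eq_add] using this
    by_cases hk : d + k = n
    · subst hk
      rw [proj_of_mem_same ℳ hmem]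
      refine Submodule.mem_sup_right ?_
      refine Submodule.mem_iSup_of_mem s (Submodule.mem_iSup_of_mem hs
        (Submodule.mem_iSup_of_mem d (Submodule.mem_iSup_of_mem
          (Finset.mem_Icc.mpr ⟨hd, Nat.le_add_right d k⟩) ?_)))
      rw [Nat.add_sub_cancel_left]
      exact ⟨(m : M), SetLike.coe_mem m, rfl⟩
    · rw [proj_of_mem_ne ℳ hmem hk]; exact zero_mem _
  · intro m m' hm hm'
    rw [smul_add, map_add]; exact add_mem hm hm'

/-- elements all of whose components lie in the `T n`. -/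
noncomputable def N (𝒜 : ℕ → Submodule A S) [GradedAlgebra 𝒜]
    (ℳ : ℕ → Submodule A M) [DirectSum.Decomposition ℳ] (t : Finset S) (G : Finset M) :
    Submodule A M where
  carrier := {x | ∀ n, proj ℳ n x ∈ T 𝒜 ℳ t G n}
  add_mem' := fun {a b} ha hb n => by rw [map_add]; exact add_mem (ha n) (hb n)
  zero_mem' := fun n => by rw [map_zero]; exact zero_mem _
  smul_mem' := fun c x hx n => by rw [map_smul]; exact Submodule.smul_mem _ c (hx n)

lemma mem_N (𝒜 : ℕ → Submodule A S) [GradedAlgebra 𝒜]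
    (ℳ : ℕ → Submodule A M) [DirectSum.Decomposition ℳ] (t : Finset S) (G : Finset M) (x : M) :
    x ∈ N 𝒜 ℳ t G ↔ ∀ n, proj ℳ n x ∈ T 𝒜 ℳ t G n := Iff.rfl

lemma smul_mem_N (𝒜 : ℕ → Submodule A S) [GradedAlgebra 𝒜]
    (ℳ : ℕ → Submodule A M) [DirectSum.Decomposition ℳ] [SetLike.GradedSMul 𝒜 ℳ]
    (t : Finset S) (G : Finset M)
    (h0 : ∀ s ∈ 𝒜 0, s ∈ Set.range (algebraMap A S))
    (ht : Algebra.adjoin A (t : Set S) = ⊤) (s : S) :
    ∀ x ∈ N 𝒜 ℳ t G, s • x ∈ N 𝒜 ℳ t G := by
  classical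
  have hs : s ∈ Algebra.adjoin A (t : Set S) := ht ▸ Algebra.mem_top
  induction hs using Algebra.adjoin_induction with
  | mem s hs =>
    intro x hx
    have hsum : s • x = ∑ k ∈ (DirectSum.decompose 𝒜 s).support,
        ((DirectSum.decompose 𝒜 s k : S)) • x := by
      rw [← Finset.sum_smul, DirectSum.sum_support_decompose]
    rw [hsum]
    refine Submodule.sum_mem _ (fun k _ => ?_)
    rcases Nat.eq_zero_or_pos k with rfl | hk
    · obtain ⟨a, ha⟩ := h0 _ (SetLike.coe_mem (DirectSum.decompose 𝒜 s 0))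
      rw [← ha, algebraMap_smul]
      exact Submodule.smul_mem _ a hx
    · intro n
      exact proj_smul_mem 𝒜 ℳ t G hs hk n x
  | algebraMap a =>
    intro x hx
    rw [algebraMap_smul]
    exact Submodule.smul_mem _ a hx
  | add s s' _ _ ih ih' =>
    intro x hx
    rw [add_smul]
    exact add_mem (ih x hx) (ih' x hx)
  | mul s s' _ _ ih ih' =>
    intro x hx
    rw [mul_smul]
    exact ih _ (ih' x hx)

end helpers

/-- Let S be an ℕ-graded ring, presented as a graded algebra over a ring A mapping onto S₀, such that S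
is of finite type over A, i.e. over S₀. If M is a finitely generated graded S-module, graded in
nonnegative degrees (the source allows all integer degrees), then each graded piece M_n is a finite
module over A, i.e. over S₀. -/
theorem result {A S : Type u} [CommRing A] [CommRing S] [Algebra A S] (𝒜 : ℕ → Submodule A S) [GradedAlgebra 𝒜]
    (h0 : ∀ s ∈ 𝒜 0, s ∈ Set.range (algebraMap A S)) [Algebra.FiniteType A S]
    (M : Type u) [AddCommGroup M] [Module A M] [Module S M] [IsScalarTower A S M] [Module.Finite S M] (ℳ : ℕ → Submodule A M) [DirectSum.Decomposition ℳ] [SetLike.GradedSMul 𝒜 ℳ] (n : ℕ) :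
    Module.Finite A (ℳ n) := by
  classical
  obtain ⟨t, ht⟩ := (Algebra.FiniteType.out : (⊤ : Subalgebra A S).FG)
  obtain ⟨G, hG⟩ := (Module.Finite.fg_top : (⊤ : Submodule S M).FG)
  have hN : ∀ x : M, x ∈ N 𝒜 ℳ t G := by
    intro x
    have hx : x ∈ Submodule.span S (G : Set M) := hG ▸ Submodule.mem_top
    induction hx using Submodule.span_induction with
    | mem g hg =>
      intro n
      exact Submodule.mem_sup_left (Submodule.subset_span ⟨g, hg, rfl⟩)
    | zero => exact zero_mem _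
    | add x y _ _ hx hy => exact add_mem hx hy
    | smul s x _ hx => exact smul_mem_N 𝒜 ℳ t G h0 ht s x hx
  have hle : ∀ n, ℳ n ≤ T 𝒜 ℳ t G n := by
    intro n x hx
    have := hN x n
    rwa [proj_of_mem_same ℳ hx] at this
  have hge : ∀ n, T 𝒜 ℳ t G n ≤ ℳ n := by
    intro n
    unfold T
    refine sup_le (Submodule.span_le.mpr ?_) (iSup₂_le fun s _ => iSup₂_le fun d hd => ?_)
    · rintro _ ⟨g, _, rfl⟩
      exact proj_mem ℳ n g
    · rintro _ ⟨m, hm, rfl⟩
      have hd' := Finset.mem_Icc.mp hd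
      have h1 := SetLike.GradedSMul.smul_mem (A := 𝒜) (B := ℳ)
        (SetLike.coe_mem (DirectSum.decompose 𝒜 s d)) hm
      rw [vadd_eq_add, Nat.add_sub_cancel' hd'.2] at h1
      exact h1
  induction n using Nat.strong_induction_on with
  | _ n ih =>
    rw [Module.Finite.iff_fg]
    have hT : ℳ n = T 𝒜 ℳ t G n := le_antisymm (hle n) (hge n)
    rw [hT]
    unfold T
    refine Submodule.FG.sup (Submodule.fg_span ((Finset.finite_toSet G).image _)) ?_
    refine Submodule.fg_biSup t _ (fun s _ => Submodule.fg_biSup (Finset.Icc 1 n) _ (fun d hd => ?_))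
    have hd' := Finset.mem_Icc.mp hd
    have hfin : Module.Finite A (ℳ (n - d)) := ih (n - d) (by omega)
    exact (Module.Finite.iff_fg.mp hfin).map _

end Groth.Agent.S9617
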