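import Groth.Statements.S9618
import Mathlib
import Groth.Agent.H4.SpectralProd

set_option autoImplicit false
universe u
open CAlg

namespace Groth.Agent.S9618

/-- For a ring R and a subset T of Spec R the following are equivalent: (1) T is closed and contains the
connected component of each of its points; (2) T can be written as an intersection of subsets of
Spec R that are both open and closed; (3) T is the common zero locus of some set of idempotent
elements of R (equivalently, of the ideal they generate). -/
theorem result {R : Type u} [CommRing R] (T : Set (PrimeSpectrum R)) :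
    [IsClosed T ∧ ∀ x ∈ T, connectedComponent x ⊆ T,
      ∃ U : Set (Set (PrimeSpectrum R)), (∀ u ∈ U, IsClopen u) ∧ T = ⋂₀ U,
      ∃ E : Set R, (∀ e ∈ E, IsIdempotentElem e) ∧ T = PrimeSpectrum.zeroLocus E].TFAE := by
  haveI : T2Space (_root_.ConnectedComponents (PrimeSpectrum R)) :=
    Groth.Agent.H4.connectedComponents_t2_of_spectral
  tfae_have 1 → 2 := by
    rintro ⟨hT, hsat⟩
    refine ⟨{u | IsClopen u ∧ T ⊆ u}, fun u hu => hu.1, ?_⟩
    apply Set.Subset.antisymm
    · intro x hx u hu
      exact hu.2 hx
    · intro y hy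
      by_contra hyT
      have hcomp : IsCompact (_root_.ConnectedComponents.mk '' T) :=
        hT.isCompact.image _root_.ConnectedComponents.continuous_coe
      have hclosed : IsClosed (_root_.ConnectedComponents.mk '' T) := hcomp.isClosed
      have hy' : (_root_.ConnectedComponents.mk y :
          _root_.ConnectedComponents (PrimeSpectrum R)) ∈
          (_root_.ConnectedComponents.mk '' T)ᶜ := by
        rintro ⟨x, hxT, hxy⟩
        have : y ∈ connectedComponent x := by
          rw [← connectedComponent_eq_iff_mem]
          exact (_root_.ConnectedComponents.coe_eq_coe.1 hxy).symm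
        exact hyT (hsat x hxT this)
      obtain ⟨V, hV, hyV, hVT⟩ := compact_exists_isClopen_in_isOpen hclosed.isOpen_compl hy'
      have hu : IsClopen (_root_.ConnectedComponents.mk ⁻¹' Vᶜ : Set (PrimeSpectrum R)) :=
        hV.compl.preimage _root_.ConnectedComponents.continuous_coe
      have hTu : T ⊆ (_root_.ConnectedComponents.mk ⁻¹' Vᶜ : Set (PrimeSpectrum R)) := by
        intro x hx hxV
        exact hVT hxV ⟨x, hx, rfl⟩
      exact hy _ ⟨hu, hTu⟩ hyV
  tfae_have 2 → 3 := by
    rintro ⟨U, hU, rfl⟩
    refine ⟨{e | IsIdempotentElem e ∧ ∃ u ∈ U, u = PrimeSpectrum.zeroLocus {e}},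
      fun e he => he.1, ?_⟩
    ext q
    rw [Set.mem_sInter, PrimeSpectrum.mem_zeroLocus]
    constructor
    · rintro h e ⟨he, u, hu, rfl⟩
      have := h _ hu
      rw [PrimeSpectrum.mem_zeroLocus] at this
      exact this rfl
    · intro h u hu
      obtain ⟨e, he, rfl⟩ := PrimeSpectrum.isClopen_iff_zeroLocus.1 (hU u hu)
      rw [PrimeSpectrum.mem_zeroLocus]
      rintro _ rfl
      exact h ⟨he, _, hu, rfl⟩
  tfae_have 3 → 1 := by
    rintro ⟨E, hE, rfl⟩
    refine ⟨PrimeSpectrum.isClosed_zeroLocus _, ?_⟩
    intro x hx y hy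
    rw [PrimeSpectrum.mem_zeroLocus] at hx ⊢
    intro e he
    have hcl : IsClopen (PrimeSpectrum.zeroLocus {e} : Set (PrimeSpectrum R)) :=
      PrimeSpectrum.isClopen_iff_zeroLocus.2 ⟨e, hE e he, rfl⟩
    have hxe : x ∈ (PrimeSpectrum.zeroLocus {e} : Set (PrimeSpectrum R)) := by
      rw [PrimeSpectrum.mem_zeroLocus]
      rintro _ rfl
      exact hx he
    have := hcl.connectedComponent_subset hxe hy
    rw [PrimeSpectrum.mem_zeroLocus] at this
    exact this rfl
  tfae_finish

end Groth.Agent.S9618
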