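import Groth.Statements.S9619

set_option autoImplicit false
universe u
open CAlg

namespace Groth.Agent.S9619

theorem span_le_of_zeroLocus {R : Type u} [CommRing R] (E E' : Set R)
    (hE : ∀ e ∈ E, IsIdempotentElem e)
    (h : PrimeSpectrum.zeroLocus E = PrimeSpectrum.zeroLocus E') :
    Ideal.span E ≤ Ideal.span E' := by
  rw [Ideal.span_le]
  intro e he
  have h1 : e ∈ PrimeSpectrum.vanishingIdeal (PrimeSpectrum.zeroLocus E) :=
    PrimeSpectrum.subset_vanishingIdeal_zeroLocus E he
  rw [h, ← PrimeSpectrum.zeroLocus_span, PrimeSpectrum.vanishingIdeal_zeroLocus_eq_radical] at h1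
  obtain ⟨n, hn⟩ := h1
  rcases n with _ | n
  · rw [pow_zero] at hn
    rw [(Ideal.eq_top_iff_one _).mpr hn]
    trivial
  · rwa [(hE e he).pow_succ_eq] at hn

/-- For a ring R and two sets E, E' of idempotent elements of R with the same zero locus in Spec R, the
ideals generated by E and by E' are equal. -/
theorem result {R : Type u} [CommRing R] (E E' : Set R) (hE : ∀ e ∈ E, IsIdempotentElem e) (hE' : ∀ e ∈ E', IsIdempotentElem e) (h : PrimeSpectrum.zeroLocus E = PrimeSpectrum.zeroLocus E') :
    Ideal.span E = Ideal.span E' :=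
  le_antisymm (span_le_of_zeroLocus E E' hE h) (span_le_of_zeroLocus E' E hE' h.symm)

end Groth.Agent.S9619
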