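import Groth.Statements.S9620
import Mathlib
import Groth.Agent.H4.SpectralProd

set_option autoImplicit false
universe u
open CAlg

namespace Groth.Agent.S9620

/-- For a ring R and a point p of Spec R, the connected component of p is the zero locus of the ideal I
generated by the idempotents of R contained in p, and every idempotent e of R satisfies e ∈ I or 1 -
e ∈ I (e maps to 0 or 1 in R/I). -/
theorem result {R : Type u} [CommRing R] (p : PrimeSpectrum R) :
    connectedComponent p = PrimeSpectrum.zeroLocus {e : R | IsIdempotentElem e ∧ e ∈ p.asIdeal} ∧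
      ∀ e : R, IsIdempotentElem e → (e ∈ Ideal.span {e : R | IsIdempotentElem e ∧ e ∈ p.asIdeal} ∨ 1 - e ∈ Ideal.span {e : R | IsIdempotentElem e ∧ e ∈ p.asIdeal}) := by
  have key : ∀ (P : Ideal R) [P.IsPrime] (e : R), IsIdempotentElem e → e ∈ P ∨ 1 - e ∈ P := by
    intro P hP e he
    have h0 : e * (1 - e) = 0 := by rw [mul_sub, mul_one, he.eq, sub_self]
    exact hP.mem_or_mem (h0 ▸ P.zero_mem)
  have key2 : ∀ (P : Ideal R) [P.IsPrime] (e : R), e ∈ P → 1 - e ∉ P := by
    intro P hP e h1 h2
    refine hP.ne_top ((Ideal.eq_top_iff_one _).2 ?_)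
    have := P.add_mem h1 h2
    simpa using this
  constructor
  · rw [Groth.Agent.H4.connectedComponent_eq_iInter_isClopen_of_spectral p]
    ext q
    rw [Set.mem_iInter, PrimeSpectrum.mem_zeroLocus]
    constructor
    · rintro h e ⟨he, hep⟩
      have hcl : IsClopen (PrimeSpectrum.basicOpen (1 - e) : Set (PrimeSpectrum R)) :=
        PrimeSpectrum.isClopen_iff.2 ⟨1 - e, he.one_sub, rfl⟩
      have hp : p ∈ (PrimeSpectrum.basicOpen (1 - e) : Set (PrimeSpectrum R)) :=
        key2 p.asIdeal e hep
      have hq : q ∈ (PrimeSpectrum.basicOpen (1 - e) : Set (PrimeSpectrum R)) :=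
        h ⟨_, hcl, hp⟩
      exact (key q.asIdeal e he).resolve_right hq
    · rintro hq ⟨s, hs, hps⟩
      obtain ⟨e, he, rfl⟩ := PrimeSpectrum.isClopen_iff.1 hs
      have hep : e ∉ p.asIdeal := hps
      have h1 : 1 - e ∈ p.asIdeal := (key p.asIdeal e he).resolve_left hep
      have h2 : 1 - e ∈ q.asIdeal := hq ⟨he.one_sub, h1⟩
      show e ∉ q.asIdeal
      intro h3
      exact key2 q.asIdeal e h3 h2
  · intro e he
    rcases key p.asIdeal e he with h | h
    · exact Or.inl (Ideal.subset_span ⟨he, h⟩)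
    · exact Or.inr (Ideal.subset_span ⟨he.one_sub, h⟩)

end Groth.Agent.S9620
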