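import Groth.Statements.S9621
import Groth.Agent.H48.WeakAss

set_option autoImplicit false
universe u
open CAlg

namespace Groth.Agent.S9621

/-- Let R be a ring, p a minimal prime of R and W a quasi-compact open subset of Spec R not containing
p. Then there is an f ∈ R, f ∉ p, whose basic open D(f) is disjoint from W. -/
theorem result {R : Type u} [CommRing R] (p : PrimeSpectrum R) (hp : p.asIdeal ∈ minimalPrimes R) (W : Set (PrimeSpectrum R)) (hWo : IsOpen W) (hWc : IsCompact W) (hpW : p ∉ W) :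
    ∃ f : R, f ∉ p.asIdeal ∧ Disjoint (PrimeSpectrum.basicOpen f : Set (PrimeSpectrum R)) W := by
  obtain ⟨t, rfl⟩ := PrimeSpectrum.isCompact_isOpen_iff.mp ⟨hWc, hWo⟩
  have htp : ∀ g ∈ t, g ∈ p.asIdeal := by
    intro g hg
    have : p ∈ PrimeSpectrum.zeroLocus (t : Set R) := by
      by_contra h
      exact hpW h
    exact this hg
  have hex : ∀ g ∈ t, ∃ s ∉ p.asIdeal, ∃ n : ℕ, s * g ^ n = 0 := by
    intro g hg
    obtain ⟨s, hs, n, hsn⟩ :=
      Groth.Agent.H48.exists_mul_pow_mem_of_mem_minimalPrimes (I := ⊥) hp (htp g hg)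
    exact ⟨s, hs, n, hsn⟩
  classical
  choose! s hs1 hs2 using hex
  refine ⟨∏ g ∈ t, s g, ?_, ?_⟩
  · intro h
    rw [Ideal.IsPrime.prod_mem_iff] at h
    obtain ⟨g, hg, hsg⟩ := h
    exact hs1 g hg hsg
  · rw [Set.disjoint_left]
    intro q hq hqW
    rw [SetLike.mem_coe, PrimeSpectrum.mem_basicOpen] at hq
    rw [Set.mem_compl_iff, PrimeSpectrum.mem_zeroLocus, Set.not_subset] at hqW
    obtain ⟨g, hg, hgq⟩ := hqW
    obtain ⟨n, hn⟩ := hs2 g hg
    have h0 : s g * g ^ n ∈ q.asIdeal := by rw [hn]; exact q.asIdeal.zero_mem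
    rcases q.2.mem_or_mem h0 with h | h
    · apply hq
      obtain ⟨c, hc⟩ := Finset.dvd_prod_of_mem s hg
      rw [hc]
      exact Ideal.mul_mem_right _ _ h
    · exact hgq (q.2.mem_of_pow_mem n h)

end Groth.Agent.S9621
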