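import Groth.Statements.S9624
import Mathlib
import Groth.Agent.H25.GeomConn
import Groth.Agent.H25.GeomIrr

set_option autoImplicit false
universe u
open CAlg

namespace Groth.Agent.S9624

set_option linter.style.haveILetI false
set_option linter.unusedVariables false
open TensorProduct
open Groth.Agent.H25.GeomConn Groth.Agent.H25.GeomIrr


open TensorProduct in
/-- Let k be a field, S a geometrically connected k-algebra (the spectrum of k' ⊗_k S is connected for
every field extension k'/k) and R any k-algebra. Then the map R → R ⊗_k S induces a bijection on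
idempotents: each idempotent of R ⊗_k S comes from exactly one idempotent of R. Here the test fields
range over field extensions in the universe of k; this is equivalent to the unrestricted notion,
since an algebraic closure of k suffices as a test. -/
theorem result {k R S : Type u} [Field k] [CommRing R] [CommRing S] [Algebra k R] [Algebra k S]
    (hS : ∀ (k' : Type u) [Field k'] [Algebra k k'], ConnectedSpace (PrimeSpectrum (k' ⊗[k] S)))
    (x : R ⊗[k] S) (hx : IsIdempotentElem x) :
    ∃! e : R, IsIdempotentElem e ∧ algebraMap R (R ⊗[k] S) e = x := by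
  classical
  have hkS : ConnIdem (k ⊗[k] S) := (connectedSpace_iff (k ⊗[k] S)).mp (hS k)
  haveI : Nontrivial S := by
    haveI := hkS.1
    exact (Algebra.TensorProduct.lid k S).injective.nontrivial
  have hinj : Function.Injective (algebraMap R (R ⊗[k] S)) :=
    Algebra.TensorProduct.includeLeft_injective (R := k) (S := k) (A := R) (B := S)
      (algebraMap k S).injective
  let π : PrimeSpectrum (R ⊗[k] S) → PrimeSpectrum R :=
    PrimeSpectrum.comap (algebraMap R (R ⊗[k] S))
  have hπopen : IsOpenMap π := PrimeSpectrum.isOpenMap_comap_algebraMap_tensorProduct_of_field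
  have hπsurj : Function.Surjective π :=
    PrimeSpectrum.comap_surjective_of_faithfullyFlat (A := R) (B := R ⊗[k] S)
  have hM1 : ∀ (p : PrimeSpectrum R) (y : R ⊗[k] S),
      Algebra.TensorProduct.map (Ideal.Quotient.mkₐ k p.asIdeal) (AlgHom.id k S) y = 0 →
      ∀ P : PrimeSpectrum (R ⊗[k] S), π P = p → y ∈ P.asIdeal := by
    intro p y hy P hP
    have hker : y ∈ RingHom.ker
        (Algebra.TensorProduct.map (Ideal.Quotient.mkₐ k p.asIdeal) (AlgHom.id k S)) := hy
    have hk : RingHom.ker (Ideal.Quotient.mkₐ k p.asIdeal) = p.asIdeal := by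
      ext z; exact Ideal.Quotient.eq_zero_iff_mem
    rw [Algebra.TensorProduct.rTensor_ker (S := k) _ (Ideal.Quotient.mkₐ_surjective k p.asIdeal),
      hk] at hker
    have hle : Ideal.map (Algebra.TensorProduct.includeLeft : R →ₐ[k] R ⊗[k] S) p.asIdeal ≤
        P.asIdeal := by
      rw [Ideal.map_le_iff_le_comap]
      intro r hr
      have : r ∈ (π P).asIdeal := by rw [hP]; exact hr
      exact this
    exact hle hker
  have hfib : ∀ (p : PrimeSpectrum R) (ε : (R ⧸ p.asIdeal) ⊗[k] S),
      IsIdempotentElem ε → ε = 0 ∨ ε = 1 := by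
    intro p ε hε
    have hF : ConnIdem (FractionRing (R ⧸ p.asIdeal) ⊗[k] S) :=
      (connectedSpace_iff (FractionRing (R ⧸ p.asIdeal) ⊗[k] S)).mp
        (hS (FractionRing (R ⧸ p.asIdeal)))
    let θ := Algebra.TensorProduct.map
      (IsScalarTower.toAlgHom k (R ⧸ p.asIdeal) (FractionRing (R ⧸ p.asIdeal))) (AlgHom.id k S)
    have hθ : Function.Injective θ := tensor_map_injective (k := k) (R := S)
      (IsScalarTower.toAlgHom k (R ⧸ p.asIdeal) (FractionRing (R ⧸ p.asIdeal)))
      (fun a b hab => IsFractionRing.injective (R ⧸ p.asIdeal) (FractionRing (R ⧸ p.asIdeal)) hab)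
    rcases hF.2 (θ ε) (hε.map θ) with h0 | h1
    · left; exact hθ (by rw [h0, map_zero])
    · right; exact hθ (by rw [h1, map_one])
  let E1 : Set (PrimeSpectrum R) := π '' (PrimeSpectrum.basicOpen x : Set _)
  let E0 : Set (PrimeSpectrum R) := π '' (PrimeSpectrum.basicOpen (1 - x) : Set _)
  have hE1 : IsOpen E1 := hπopen _ (PrimeSpectrum.basicOpen x).isOpen
  have hE0 : IsOpen E0 := hπopen _ (PrimeSpectrum.basicOpen (1 - x)).isOpen
  have hone : ∀ P : PrimeSpectrum (R ⊗[k] S), x ∈ P.asIdeal → (1 - x) ∉ P.asIdeal := by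
    intro P h h'
    exact P.isPrime.ne_top ((Ideal.eq_top_iff_one _).mpr
      (by have := add_mem h h'; rwa [add_sub_cancel] at this))
  have hcover : ∀ p, p ∈ E1 ∪ E0 := by
    intro p
    obtain ⟨P, rfl⟩ := hπsurj p
    by_cases h : x ∈ P.asIdeal
    · right
      exact ⟨P, hone P h, rfl⟩
    · left; exact ⟨P, h, rfl⟩
  have hdisj : ∀ p, p ∈ E1 → p ∈ E0 → False := by
    intro p hp1 hp0
    obtain ⟨P1, hP1, hP1p⟩ := hp1
    obtain ⟨P0, hP0, hP0p⟩ := hp0
    let ρ := Algebra.TensorProduct.map (Ideal.Quotient.mkₐ k p.asIdeal) (AlgHom.id k S)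
    rcases hfib p (ρ x) (hx.map ρ) with h | h
    · exact hP1 (hM1 p x h P1 hP1p)
    · have : ρ (1 - x) = 0 := by rw [map_sub, map_one, h, sub_self]
      exact hP0 (hM1 p (1 - x) this P0 hP0p)
  have hclopen : IsClopen E1 := by
    refine ⟨?_, hE1⟩
    have : E1 = E0ᶜ := by
      ext p
      constructor
      · intro h1 h0
        exact hdisj p h1 h0
      · intro h0
        rcases hcover p with h | h
        · exact h
        · exact absurd h h0
    rw [this]
    exact hE0.isClosed_compl
  obtain ⟨e, he, hEe⟩ := PrimeSpectrum.exists_idempotent_basicOpen_eq_of_isClopen hclopen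
  have hmem : ∀ P : PrimeSpectrum (R ⊗[k] S),
      algebraMap R (R ⊗[k] S) e ∉ P.asIdeal ↔ π P ∈ E1 := by
    intro P
    rw [hEe]
    exact Iff.rfl
  have hkey : algebraMap R (R ⊗[k] S) e = x := by
    apply PrimeSpectrum.basicOpen_injOn_isIdempotentElem (he.map (algebraMap R (R ⊗[k] S))) hx
    apply TopologicalSpace.Opens.ext
    ext P
    show algebraMap R (R ⊗[k] S) e ∉ P.asIdeal ↔ x ∉ P.asIdeal
    rw [hmem P]
    constructor
    · intro hP hxP
      exact hdisj (π P) hP ⟨P, hone P hxP, rfl⟩
    · intro hP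
      exact ⟨P, hP, rfl⟩
  exact ⟨e, ⟨he, hkey⟩, fun e' he' => hinj (he'.2.trans hkey.symm)⟩

end Groth.Agent.S9624
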