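import Mathlib
import Groth.Agent.H13.GeomIrr
import Groth.Statements.S9626
-- import your own Groth.Agent.* helpers here

set_option autoImplicit false
universe u
open CAlg

namespace Groth.Agent.S9626

open TensorProduct Groth.Agent.H13.GeomIrr

/-- going down for a flat algebra -/
theorem goingDown {A B : Type*} [CommRing A] [CommRing B] [Algebra A B] [Module.Flat A B]
    (Q : Ideal B) [Q.IsPrime] (p : Ideal A) [p.IsPrime]
    (hle : p ≤ Q.comap (algebraMap A B)) :
    ∃ P : Ideal B, P ≤ Q ∧ P.IsPrime ∧ P.comap (algebraMap A B) = p := by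
  haveI : Q.LiesOver (Q.comap (algebraMap A B)) := ⟨rfl⟩
  obtain ⟨P, hPQ, hP, hPl⟩ :=
    Ideal.exists_ideal_le_liesOver_of_le (p := p) (q := Q.comap (algebraMap A B)) Q hle
  exact ⟨P, hPQ, hP, hPl.over.symm⟩

/-- the least prime over `p` when the fibre has prime nilradical -/
theorem exists_least_prime_over {R T : Type*} [CommRing R] [CommRing T] [Algebra R T]
    (p : Ideal R) [p.IsPrime] (h : (nilradical (p.Fiber T)).IsPrime) :
    ∃ Q : Ideal T, Q.IsPrime ∧ Q.comap (algebraMap R T) = p ∧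
      ∀ Q' : Ideal T, Q'.IsPrime → Q'.comap (algebraMap R T) = p → Q ≤ Q' := by
  let e := PrimeSpectrum.primesOverOrderIsoFiber R T p
  let B : PrimeSpectrum (p.Fiber T) := ⟨nilradical (p.Fiber T), h⟩
  refine ⟨(e.symm B).1, (e.symm B).2.1, (e.symm B).2.2.over.symm, ?_⟩
  intro Q' hQ' hQ'p
  have hB : B ≤ e ⟨Q', hQ', ⟨hQ'p.symm⟩⟩ := by
    haveI := (e ⟨Q', hQ', ⟨hQ'p.symm⟩⟩).2
    exact nilradical_le_prime _
  have h2 : e.symm B ≤ ⟨Q', hQ', ⟨hQ'p.symm⟩⟩ := (e.symm_apply_le).2 hB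
  exact h2

open TensorProduct in
/-- Let k be a field, S a k-algebra with Spec(k' ⊗_k S) irreducible for every field extension k'/k, and
R any k-algebra. Then Spec(R ⊗_k S) → Spec(R) induces a bijection on irreducible components: taking
inverse images along R → R ⊗_k S maps the set of minimal primes of R ⊗_k S bijectively onto the set
of minimal primes of R. Here the test fields range over field extensions in the universe of k; this
is equivalent to the unrestricted notion, since an algebraic closure of k suffices as a test. -/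
theorem result {k R S : Type u} [Field k] [CommRing R] [CommRing S] [Algebra k R] [Algebra k S]
    (hS : ∀ (k' : Type u) [Field k'] [Algebra k k'], IrreducibleSpace (PrimeSpectrum (k' ⊗[k] S))) :
    Set.BijOn (Ideal.comap (algebraMap R (R ⊗[k] S))) (minimalPrimes (R ⊗[k] S)) (minimalPrimes R) := by
  haveI hflat : Module.Flat R (R ⊗[k] S) := inferInstance
  have key : ∀ (p : Ideal R) [p.IsPrime], ∃ Q : Ideal (R ⊗[k] S), Q.IsPrime ∧
      Q.comap (algebraMap R (R ⊗[k] S)) = p ∧
      ∀ Q' : Ideal (R ⊗[k] S), Q'.IsPrime → Q'.comap (algebraMap R (R ⊗[k] S)) = p → Q ≤ Q' := by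
    intro p _
    apply exists_least_prime_over
    have h1 : (nilradical (p.ResidueField ⊗[k] S)).IsPrime :=
      PrimeSpectrum.irreducibleSpace_iff_isPrime_nilradical.1 (hS p.ResidueField)
    exact nilradical_isPrime_of_injective
      (Algebra.TensorProduct.cancelBaseChange k R R p.ResidueField S).toRingEquiv.toRingHom
      (AlgEquiv.injective _) h1
  refine ⟨?_, ?_, ?_⟩
  · -- MapsTo
    intro Q hQ
    haveI hQprime : Q.IsPrime := hQ.1.1
    refine ⟨⟨Ideal.comap_isPrime _ Q, bot_le⟩, ?_⟩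
    rintro q ⟨hqprime, -⟩ hqle
    haveI := hqprime
    obtain ⟨P, hPQ, hPprime, hPq⟩ := goingDown Q q hqle
    have hQP : Q ≤ P := hQ.2 ⟨hPprime, bot_le⟩ hPQ
    have : Q = P := le_antisymm hQP hPQ
    show Q.comap (algebraMap R (R ⊗[k] S)) ≤ q
    rw [this, hPq]
  · -- InjOn
    intro Q1 hQ1 Q2 hQ2 heq
    haveI hQ1prime : Q1.IsPrime := hQ1.1.1
    haveI hQ2prime : Q2.IsPrime := hQ2.1.1
    haveI : (Q1.comap (algebraMap R (R ⊗[k] S))).IsPrime := Ideal.comap_isPrime _ Q1
    obtain ⟨Q, hQprime, hQp, hQle⟩ := key (Q1.comap (algebraMap R (R ⊗[k] S)))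
    have h1 : Q ≤ Q1 := hQle Q1 hQ1prime rfl
    have h2 : Q ≤ Q2 := hQle Q2 hQ2prime heq.symm
    have h1' : Q1 ≤ Q := hQ1.2 ⟨hQprime, bot_le⟩ h1
    have h2' : Q2 ≤ Q := hQ2.2 ⟨hQprime, bot_le⟩ h2
    exact le_antisymm (h1'.trans h2) (h2'.trans h1)
  · -- SurjOn
    intro p hp
    haveI hpprime : p.IsPrime := hp.1.1
    obtain ⟨Qp, hQpprime, hQpp, -⟩ := key p
    obtain ⟨Q, hQ, hQle⟩ := Ideal.exists_minimalPrimes_le (I := (⊥ : Ideal (R ⊗[k] S)))
      (J := Qp) bot_le
    haveI hQprime : Q.IsPrime := hQ.1.1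
    refine ⟨Q, hQ, ?_⟩
    have hle : Q.comap (algebraMap R (R ⊗[k] S)) ≤ p := by
      rw [← hQpp]
      exact Ideal.comap_mono hQle
    exact le_antisymm hle (hp.2 ⟨Ideal.comap_isPrime _ Q, bot_le⟩ hle)

end Groth.Agent.S9626
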