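import Mathlib
import Groth.Agent.H13.GeomIrr
import Groth.Statements.S9627
-- import your own Groth.Agent.* helpers here

set_option autoImplicit false
universe u
open CAlg

namespace Groth.Agent.S9627

open TensorProduct Groth.Agent.H13.GeomIrr

theorem nilradical_isPrime_of_ker_le_of_isPrime {T T' : Type*} [CommRing T] [CommRing T']
    (φ : T →+* T') (h : RingHom.ker φ ≤ nilradical T) (h' : (nilradical T').IsPrime) :
    (nilradical T).IsPrime := by
  have heq : nilradical T = Ideal.comap φ (nilradical T') := by
    ext x
    rw [Ideal.mem_comap, mem_nilradical, mem_nilradical]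
    constructor
    · intro hx
      exact hx.map φ
    · rintro ⟨n, hn⟩
      have hxn : x ^ n ∈ RingHom.ker φ := by rw [RingHom.mem_ker, map_pow, hn]
      obtain ⟨m, hm⟩ := mem_nilradical.1 (h hxn)
      exact ⟨n * m, by rw [pow_mul, hm]⟩
  rw [heq]
  haveI := h'
  exact Ideal.comap_isPrime φ _

theorem map_id_injective_of_injective {k A B M : Type*} [Field k] [CommRing A] [CommRing B]
    [CommRing M] [Algebra k A] [Algebra k B] [Algebra k M]
    (f : A →ₐ[k] B) (hf : Function.Injective f) :
    Function.Injective (Algebra.TensorProduct.map (AlgHom.id k M) f) := by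
  have h1 : Function.Injective (LinearMap.lTensor M f.toLinearMap) :=
    Module.Flat.lTensor_preserves_injective_linearMap f.toLinearMap hf
  have h2 : ⇑(Algebra.TensorProduct.map (AlgHom.id k M) f) =
      ⇑(LinearMap.lTensor M f.toLinearMap) := by
    ext z
    induction z using TensorProduct.induction_on with
    | zero => simp
    | tmul a b => simp
    | add a b ha hb => rw [map_add, map_add, ha, hb]
  rw [h2]
  exact h1

theorem nilradical_isPrime_tensor_of_geomIrr {K S T' : Type u} [Field K] [CommRing S] [Algebra K S]
    [CommRing T'] [Algebra K T']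
    (hS : ∀ (K' : Type u) [Field K'] [Algebra K K'], (nilradical (K' ⊗[K] S)).IsPrime)
    (hT' : (nilradical T').IsPrime) : (nilradical (S ⊗[K] T')).IsPrime := by
  haveI := hT'
  have hL := hS (FractionRing (T' ⧸ nilradical T'))
  have hL' : (nilradical (S ⊗[K] FractionRing (T' ⧸ nilradical T'))).IsPrime :=
    nilradical_isPrime_of_injective
      (Algebra.TensorProduct.comm K S (FractionRing (T' ⧸ nilradical T'))).toRingEquiv.toRingHom
      (Algebra.TensorProduct.comm K S (FractionRing (T' ⧸ nilradical T'))).injective hL
  have hπ : Function.Surjective (Ideal.Quotient.mkₐ K (nilradical T')) :=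
    Ideal.Quotient.mkₐ_surjective K _
  have hι : Function.Injective (IsScalarTower.toAlgHom K (T' ⧸ nilradical T')
      (FractionRing (T' ⧸ nilradical T'))) := by
    intro x y hxy
    exact IsFractionRing.injective (T' ⧸ nilradical T') (FractionRing (T' ⧸ nilradical T')) hxy
  have hf2 := map_id_injective_of_injective (M := S) _ hι
  have hker : RingHom.ker (Algebra.TensorProduct.map (AlgHom.id K S)
      (Ideal.Quotient.mkₐ K (nilradical T'))) ≤ nilradical (S ⊗[K] T') := by
    rw [Algebra.TensorProduct.lTensor_ker _ hπ, Ideal.map_le_iff_le_comap]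
    intro x hx
    rw [Ideal.mem_comap, mem_nilradical]
    have hx' : x ∈ nilradical T' := by
      have h0 := hx
      rw [RingHom.mem_ker, Ideal.Quotient.mkₐ_eq_mk, Ideal.Quotient.eq_zero_iff_mem] at h0
      exact h0
    exact (mem_nilradical.1 hx').map _
  refine nilradical_isPrime_of_ker_le_of_isPrime
    (((Algebra.TensorProduct.map (AlgHom.id K S) (IsScalarTower.toAlgHom K (T' ⧸ nilradical T')
      (FractionRing (T' ⧸ nilradical T')))).comp
      (Algebra.TensorProduct.map (AlgHom.id K S)
        (Ideal.Quotient.mkₐ K (nilradical T')))).toRingHom) ?_ hL'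
  intro z hz
  apply hker
  rw [RingHom.mem_ker] at hz ⊢
  exact hf2 (by rw [map_zero]; exact hz)

open TensorProduct in
/-- Let K/k be a field extension such that Spec(k' ⊗_k K) is irreducible for every field extension k'/k,
and let S be a K-algebra such that Spec(K' ⊗_K S) is irreducible for every field extension K'/K.
Then Spec(k' ⊗_k S) is irreducible for every field extension k'/k: S is geometrically irreducible
over k. Here the test fields k'/k and K'/K range over field extensions in the common universe of k
and K; this is equivalent to the unrestricted notions, since an algebraic closure of the base field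
suffices as a test. -/
theorem result {k K S : Type u} [Field k] [Field K] [Algebra k K] [CommRing S] [Algebra K S] [Algebra k S] [IsScalarTower k K S]
    (hK : ∀ (k' : Type u) [Field k'] [Algebra k k'], IrreducibleSpace (PrimeSpectrum (k' ⊗[k] K)))
    (hS : ∀ (K' : Type u) [Field K'] [Algebra K K'], IrreducibleSpace (PrimeSpectrum (K' ⊗[K] S))) :
    ∀ (k' : Type u) [Field k'] [Algebra k k'], IrreducibleSpace (PrimeSpectrum (k' ⊗[k] S)) := by
  intro k' _ _
  rw [PrimeSpectrum.irreducibleSpace_iff_isPrime_nilradical]
  have hT' : (nilradical (K ⊗[k] k')).IsPrime :=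
    nilradical_isPrime_of_injective (Algebra.TensorProduct.comm k K k').toRingEquiv.toRingHom
      (Algebra.TensorProduct.comm k K k').injective
      (PrimeSpectrum.irreducibleSpace_iff_isPrime_nilradical.1 (hK k'))
  have hS' : ∀ (K' : Type u) [Field K'] [Algebra K K'], (nilradical (K' ⊗[K] S)).IsPrime :=
    fun K' _ _ => PrimeSpectrum.irreducibleSpace_iff_isPrime_nilradical.1 (hS K')
  have h1 := nilradical_isPrime_tensor_of_geomIrr hS' hT'
  have h2 : (nilradical (S ⊗[k] k')).IsPrime :=
    nilradical_isPrime_of_injective
      (Algebra.TensorProduct.cancelBaseChange k K K S k').symm.toRingEquiv.toRingHom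
      (AlgEquiv.injective _) h1
  exact nilradical_isPrime_of_injective (Algebra.TensorProduct.comm k k' S).toRingEquiv.toRingHom
    (Algebra.TensorProduct.comm k k' S).injective h2

end Groth.Agent.S9627
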