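import Groth.Statements.S9633
-- import your own Groth.Agent.* helpers here
import Mathlib.Tactic.TFAE
import Mathlib.Topology.Connected.Separation

set_option autoImplicit false
universe u
open CAlg

namespace Groth.Agent.S9633

/-- For a ring R with spectrum X the following are equivalent: (1) X is profinite, i.e. compact,
Hausdorff and totally disconnected; (2) X is Hausdorff; (3) X is totally disconnected; (4) every
quasi-compact open subset of X is closed; (5) there are no nontrivial inclusions among prime ideals
of R; (6) every prime ideal of R is maximal; (7) every prime ideal of R is a minimal prime; (8)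
every standard open D(f) is closed. -/
theorem result {R : Type u} [CommRing R] :
    [CompactSpace (PrimeSpectrum R) ∧ T2Space (PrimeSpectrum R) ∧ TotallyDisconnectedSpace (PrimeSpectrum R),
      T2Space (PrimeSpectrum R),
      TotallyDisconnectedSpace (PrimeSpectrum R),
      ∀ W : Set (PrimeSpectrum R), IsOpen W → IsCompact W → IsClosed W,
      ∀ p q : PrimeSpectrum R, p ≤ q → p = q,
      ∀ p : Ideal R, p.IsPrime → p.IsMaximal,
      ∀ p : Ideal R, p.IsPrime → p ∈ minimalPrimes R,
      ∀ f : R, IsClosed (PrimeSpectrum.basicOpen f : Set (PrimeSpectrum R))].TFAE := by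
  tfae_have 1 → 2 := fun h => h.2.1
  tfae_have 1 → 3 := fun h => h.2.2
  tfae_have 2 → 5 := by
    intro h p q hpq
    rw [PrimeSpectrum.le_iff_specializes] at hpq
    exact specializes_iff_eq.mp hpq
  tfae_have 3 → 5 := by
    intro h p q hpq
    rw [PrimeSpectrum.le_iff_specializes, specializes_iff_mem_closure] at hpq
    have hpre : IsPreconnected (closure ({p} : Set (PrimeSpectrum R))) :=
      isPreconnected_singleton.closure
    exact hpre.subsingleton (subset_closure rfl) hpq
  tfae_have 5 → 6 := by
    intro h p hp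
    obtain ⟨m, hm, hpm⟩ := Ideal.exists_le_maximal p hp.ne_top
    have := h ⟨p, hp⟩ ⟨m, hm.isPrime⟩ hpm
    have hpm' : p = m := congrArg PrimeSpectrum.asIdeal this
    rw [hpm']; exact hm
  tfae_have 6 → 7 := by
    intro h p hp
    rw [minimalPrimes_eq_minimals]
    refine ⟨hp, fun q hq hqp => ?_⟩
    have := (h q hq).eq_of_le hp.ne_top hqp
    exact this.ge
  tfae_have 7 → 5 := by
    intro h p q hpq
    have hq := h q.asIdeal q.isPrime
    rw [minimalPrimes_eq_minimals] at hq
    have : q.asIdeal ≤ p.asIdeal := hq.2 p.isPrime hpq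
    exact le_antisymm hpq this
  tfae_have 5 → 8 := by
    intro h f
    rw [← PrimeSpectrum.localization_away_comap_range (Localization.Away f) f]
    apply PrimeSpectrum.isClosed_range_of_stableUnderSpecialization
    intro x y hxy hx
    rw [← PrimeSpectrum.le_iff_specializes] at hxy
    rw [← h x y hxy]; exact hx
  tfae_have 8 → 4 := by
    intro h W hWo hWc
    obtain ⟨t, rfl⟩ := PrimeSpectrum.isCompact_isOpen_iff.mp ⟨hWc, hWo⟩
    have : (PrimeSpectrum.zeroLocus (t : Set R))ᶜ =
        ⋃ f ∈ t, (PrimeSpectrum.basicOpen f : Set (PrimeSpectrum R)) := by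
      ext x
      simp [PrimeSpectrum.mem_zeroLocus, Set.subset_def]
    rw [this]
    exact isClosed_biUnion_finset fun f _ => h f
  tfae_have 4 → 8 := fun h f =>
    h _ (PrimeSpectrum.basicOpen f).isOpen (PrimeSpectrum.isCompact_basicOpen f)
  tfae_have 8 → 1 := by
    intro h
    have hTS : TotallySeparatedSpace (PrimeSpectrum R) := by
      rw [totallySeparatedSpace_iff_exists_isClopen]
      intro x y hxy
      by_cases hle : x.asIdeal ≤ y.asIdeal
      · have hnle : ¬ y.asIdeal ≤ x.asIdeal := fun h' => hxy (le_antisymm hle h')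
        obtain ⟨f, hfy, hfx⟩ := SetLike.not_le_iff_exists.mp hnle
        refine ⟨PrimeSpectrum.basicOpen f, ⟨h f, (PrimeSpectrum.basicOpen f).isOpen⟩,
          (PrimeSpectrum.mem_basicOpen f x).mpr hfx, ?_⟩
        exact fun hy => ((PrimeSpectrum.mem_basicOpen f y).mp hy) hfy
      · obtain ⟨f, hfx, hfy⟩ := SetLike.not_le_iff_exists.mp hle
        refine ⟨(PrimeSpectrum.basicOpen f : Set _)ᶜ,
          ⟨(PrimeSpectrum.basicOpen f).isOpen.isClosed_compl, (h f).isOpen_compl⟩, ?_, ?_⟩
        · exact fun hx => ((PrimeSpectrum.mem_basicOpen f x).mp hx) hfx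
        · rw [compl_compl]; exact (PrimeSpectrum.mem_basicOpen f y).mpr hfy
    exact ⟨inferInstance, inferInstance, inferInstance⟩
  tfae_finish

end Groth.Agent.S9633
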