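import Groth.Statements.S9636
import Mathlib.RingTheory.Unramified.Field
import Mathlib.RingTheory.Ideal.IdempotentFG
import Mathlib.Tactic

set_option autoImplicit false
universe u
open CAlg

namespace Groth.Agent.S9636


open TensorProduct

/-- compatibility of the multiplication maps with the inclusion of an intermediate field -/
theorem lmul_map {k k' : Type u} [Field k] [Field k'] [Algebra k k'] (F : IntermediateField k k')
    (z : F ⊗[k] F) :
    Algebra.TensorProduct.lmul' (S := k') k (Algebra.TensorProduct.map F.val F.val z) =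
      F.val (Algebra.TensorProduct.lmul' (S := F) k z) := by
  induction z using TensorProduct.induction_on with
  | zero => simp
  | tmul a b => simp
  | add a b ha hb => rw [map_add, map_add, ha, hb, map_add, map_add]

theorem range_mono {k k' : Type u} [Field k] [Field k'] [Algebra k k']
    {F F' : IntermediateField k k'} (h : F ≤ F') (z : F ⊗[k] F) :
    ∃ z' : F' ⊗[k] F', Algebra.TensorProduct.map F'.val F'.val z' =
      Algebra.TensorProduct.map F.val F.val z := by
  induction z using TensorProduct.induction_on with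
  | zero => exact ⟨0, by simp⟩
  | tmul a b =>
    refine ⟨(IntermediateField.inclusion h a) ⊗ₜ (IntermediateField.inclusion h b), ?_⟩
    simp
  | add a b ha hb =>
    obtain ⟨a', ha'⟩ := ha
    obtain ⟨b', hb'⟩ := hb
    exact ⟨a' + b', by rw [map_add, map_add, ha', hb']⟩

theorem exists_finite {k k' : Type u} [Field k] [Field k'] [Algebra k k']
    [Algebra.IsSeparable k k'] (x : k' ⊗[k] k') :
    ∃ F : IntermediateField k k', FiniteDimensional k F ∧
      ∃ z : F ⊗[k] F, Algebra.TensorProduct.map F.val F.val z = x := by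
  induction x using TensorProduct.induction_on with
  | zero => exact ⟨⊥, inferInstance, 0, by simp⟩
  | tmul a b =>
    have hfin : FiniteDimensional k (IntermediateField.adjoin k ({a, b} : Set k')) := by
      apply IntermediateField.finiteDimensional_adjoin
      intro y _
      exact (Algebra.IsSeparable.isSeparable k y).isIntegral
    refine ⟨IntermediateField.adjoin k ({a, b} : Set k'), hfin,
      (⟨a, IntermediateField.subset_adjoin k _ (Set.mem_insert a _)⟩ :
        IntermediateField.adjoin k ({a, b} : Set k')) ⊗ₜ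
      (⟨b, IntermediateField.subset_adjoin k _ (Set.mem_insert_of_mem a (Set.mem_singleton b))⟩ :
        IntermediateField.adjoin k ({a, b} : Set k')), ?_⟩
    simp
  | add a b ha hb =>
    obtain ⟨F₁, h₁, z₁, hz₁⟩ := ha
    obtain ⟨F₂, h₂, z₂, hz₂⟩ := hb
    obtain ⟨w₁, hw₁⟩ := range_mono (le_sup_left : F₁ ≤ F₁ ⊔ F₂) z₁
    obtain ⟨w₂, hw₂⟩ := range_mono (le_sup_right : F₂ ≤ F₁ ⊔ F₂) z₂
    exact ⟨F₁ ⊔ F₂, inferInstance, w₁ + w₂, by rw [map_add, hw₁, hw₂, hz₁, hz₂]⟩

theorem key {k k' : Type u} [Field k] [Field k'] [Algebra k k']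
    [Algebra.IsSeparable k k'] (x : k' ⊗[k] k')
    (hx : Algebra.TensorProduct.lmul' (S := k') k x = 0) :
    ∃ t : k' ⊗[k] k', Algebra.TensorProduct.lmul' (S := k') k t = 1 ∧ t * x = 0 := by
  obtain ⟨F, hF, z, rfl⟩ := exists_finite x
  haveI : Algebra.IsSeparable k F := Algebra.isSeparable_tower_bot_of_isSeparable k F k'
  haveI : Algebra.FormallyUnramified k F := Algebra.FormallyUnramified.of_isSeparable k F
  obtain ⟨e, he, hsp⟩ : ∃ e, IsIdempotentElem e ∧
      KaehlerDifferential.ideal k F = Ideal.span {e} :=
    (Ideal.isIdempotentElem_iff_of_fg _ (KaehlerDifferential.ideal_fg k F)).mp <|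
      (Ideal.cotangent_subsingleton_iff _).mp <| inferInstanceAs <| Subsingleton Ω[F⁄k]
  have hz : Algebra.TensorProduct.lmul' (S := F) k z = 0 := by
    rw [lmul_map] at hx
    have h0 : ((Algebra.TensorProduct.lmul' (S := F) k z : F) : k') = 0 := hx
    exact_mod_cast h0
  have hzI : z ∈ KaehlerDifferential.ideal k F := (RingHom.mem_ker).2 hz
  have heI : e ∈ KaehlerDifferential.ideal k F := by
    rw [hsp]; exact Ideal.subset_span (Set.mem_singleton e)
  have he0 : Algebra.TensorProduct.lmul' (S := F) k e = 0 := (RingHom.mem_ker).1 heI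
  rw [hsp, Ideal.mem_span_singleton'] at hzI
  obtain ⟨c, hc⟩ := hzI
  have hez : (1 - e) * z = 0 := by
    rw [← hc]
    have : (1 - e) * (c * e) = c * (e - e * e) := by ring
    rw [this, he.eq, sub_self, mul_zero]
  refine ⟨Algebra.TensorProduct.map F.val F.val (1 - e), ?_, ?_⟩
  · rw [lmul_map, map_sub, map_one, he0, sub_zero, map_one]
  · rw [← map_mul, hez, map_zero]

open TensorProduct in
/-- Let k'/k be a separable algebraic field extension. Then for some multiplicative subset S of k' ⊗_k
k' the multiplication map k' ⊗_k k' → k' is a localization at S: there is a ring isomorphism S⁻¹(k'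
⊗_k k') ≅ k' carrying the localization map to the multiplication map. -/
theorem result {k k' : Type u} [Field k] [Field k'] [Algebra k k'] [Algebra.IsSeparable k k'] :
    ∃ (S : Submonoid (k' ⊗[k] k')) (e : Localization S ≃+* k'), ∀ x : k' ⊗[k] k', e (algebraMap (k' ⊗[k] k') (Localization S) x) = Algebra.TensorProduct.lmul' (S := k') k x := by
  classical
  let μ : k' ⊗[k] k' →ₐ[k] k' := Algebra.TensorProduct.lmul' (S := k') k
  let S : Submonoid (k' ⊗[k] k') := Submonoid.comap (μ : k' ⊗[k] k' →* k') (nonZeroDivisors k')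
  have hS : ∀ y : S, IsUnit (μ.toRingHom y) := by
    intro y
    have hy : μ y ∈ nonZeroDivisors k' := y.2
    exact IsUnit.mk0 _ (nonZeroDivisors.ne_zero hy)
  let L : Localization S →+* k' := IsLocalization.lift (M := S) (g := μ.toRingHom) hS
  have hL : ∀ x : k' ⊗[k] k', L (algebraMap (k' ⊗[k] k') (Localization S) x) = μ x := by
    intro x
    exact IsLocalization.lift_eq hS x
  have hsurj : Function.Surjective L := by
    intro c
    refine ⟨algebraMap (k' ⊗[k] k') (Localization S) (c ⊗ₜ 1), ?_⟩
    rw [hL]
    simp [μ]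
  have hinj : Function.Injective L := by
    rw [injective_iff_map_eq_zero]
    intro w hw
    obtain ⟨⟨x, s⟩, rfl⟩ := IsLocalization.mk'_surjective S w
    have h1 : IsLocalization.mk' (Localization S) x s *
        algebraMap (k' ⊗[k] k') (Localization S) s =
        algebraMap (k' ⊗[k] k') (Localization S) x := IsLocalization.mk'_spec _ x s
    have h2 := congrArg L h1
    rw [map_mul, hw, zero_mul, hL] at h2
    obtain ⟨t, ht1, ht0⟩ := key x h2.symm
    have htS : t ∈ S := by
      show μ t ∈ nonZeroDivisors k'
      rw [show μ t = 1 from ht1]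
      exact one_mem _
    have h3 : algebraMap (k' ⊗[k] k') (Localization S) x = 0 := by
      rw [IsLocalization.map_eq_zero_iff S]
      exact ⟨⟨t, htS⟩, ht0⟩
    rw [IsLocalization.mk'_eq_iff_eq_mul, h3, zero_mul]
  exact ⟨S, RingEquiv.ofBijective L ⟨hinj, hsurj⟩, fun x => hL x⟩

end Groth.Agent.S9636
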