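import Groth.Statements.S9638
import Mathlib.RingTheory.Flat.TorsionFree
import Mathlib.RingTheory.Localization.Ideal
import Mathlib.Algebra.Module.LocalizedModule.Basic

set_option autoImplicit false
universe u
open CAlg

namespace Groth.Agent.S9638

section
variable {R S : Type u} [CommRing R] [IsDomain R] [CommRing S] [Algebra R S] (N : Type u)
  [AddCommGroup N] [Module S N] [Module R N] [IsScalarTower R S N] [Module.Flat R N]

theorem smul_eq_zero_of_mem {t : S}
    (ht : t ∈ Algebra.algebraMapSubmonoid S (nonZeroDivisors R)) {n : N}
    (h : t • n = 0) : n = 0 := by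
  obtain ⟨r, hr, rfl⟩ := Submonoid.mem_map.1 ht
  rw [algebraMap_smul] at h
  have hreg : IsSMulRegular N r :=
    Module.IsTorsionFree.isSMulRegular (IsRegular.of_ne_zero (nonZeroDivisors.ne_zero hr))
  apply hreg
  show r • n = r • (0 : N)
  rw [h, smul_zero]

theorem mk_eq_zero_iff' (n : N) (t : Algebra.algebraMapSubmonoid S (nonZeroDivisors R)) :
    (LocalizedModule.mk n t :
      LocalizedModule (Algebra.algebraMapSubmonoid S (nonZeroDivisors R)) N) = 0 ↔ n = 0 := by
  constructor
  · intro h
    rw [← LocalizedModule.zero_mk t, LocalizedModule.mk_eq] at h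
    obtain ⟨u, hu⟩ := h
    rw [smul_zero, smul_zero, Submonoid.smul_def, Submonoid.smul_def] at hu
    exact smul_eq_zero_of_mem N t.2 (smul_eq_zero_of_mem N u.2 hu)
  · rintro rfl
    exact LocalizedModule.zero_mk t

theorem smul_mk_eq_zero_iff (s : S) (n : N)
    (t : Algebra.algebraMapSubmonoid S (nonZeroDivisors R)) :
    s • (LocalizedModule.mk n t :
      LocalizedModule (Algebra.algebraMapSubmonoid S (nonZeroDivisors R)) N) = 0 ↔ s • n = 0 := by
  rw [LocalizedModule.smul'_mk, mk_eq_zero_iff']

theorem locmk_smul_mk_eq_zero_iff (s : S)
    (t' : Algebra.algebraMapSubmonoid S (nonZeroDivisors R)) (n : N)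
    (t : Algebra.algebraMapSubmonoid S (nonZeroDivisors R)) :
    (Localization.mk s t') • (LocalizedModule.mk n t :
      LocalizedModule (Algebra.algebraMapSubmonoid S (nonZeroDivisors R)) N) = 0 ↔ s • n = 0 := by
  rw [LocalizedModule.mk_smul_mk, mk_eq_zero_iff']

theorem ann_span_mk (n : N) (t : Algebra.algebraMapSubmonoid S (nonZeroDivisors R)) :
    (Submodule.span S {(LocalizedModule.mk n t :
      LocalizedModule (Algebra.algebraMapSubmonoid S (nonZeroDivisors R)) N)}).annihilator
      = (Submodule.span S {n}).annihilator := by
  ext s
  rw [Submodule.mem_annihilator_span_singleton, Submodule.mem_annihilator_span_singleton,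
    smul_mk_eq_zero_iff]

end

/-- Let R → S be a ring map with R a domain with fraction field K, and N an S-module flat over R.
Writing T for the image in S of the nonzero elements of R, so that T⁻¹S = S ⊗_R K and T⁻¹N = N ⊗_R
K, the associated primes of N over S (primes equal to the annihilator of an element) coincide with
those of T⁻¹N over S, and these are exactly the inverse images in S of the associated primes of T⁻¹N
over T⁻¹S. -/
theorem result {R S : Type u} [CommRing R] [IsDomain R] [CommRing S] [Algebra R S] (N : Type u) [AddCommGroup N] [Module S N] [Module R N] [IsScalarTower R S N] [Module.Flat R N] :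
    FlatCA.ass S N = FlatCA.ass S (LocalizedModule (Algebra.algebraMapSubmonoid S (nonZeroDivisors R)) N) ∧
      FlatCA.ass S N = Ideal.comap (algebraMap S (Localization (Algebra.algebraMapSubmonoid S (nonZeroDivisors R)))) '' FlatCA.ass (Localization (Algebra.algebraMapSubmonoid S (nonZeroDivisors R))) (LocalizedModule (Algebra.algebraMapSubmonoid S (nonZeroDivisors R)) N) := by
  constructor
  · ext p
    constructor
    · rintro ⟨hp, n, hpn⟩
      exact ⟨hp, LocalizedModule.mk n 1, by rw [ann_span_mk]; exact hpn⟩
    · rintro ⟨hp, m, hpm⟩
      induction m using LocalizedModule.induction_on with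
      | h n t => exact ⟨hp, n, by rw [← ann_span_mk N n t]; exact hpm⟩
  · ext p
    constructor
    · rintro ⟨hp, n, hpn⟩
      have hn : n ≠ 0 := by
        rintro rfl
        apply hp.ne_top
        rw [hpn, Ideal.eq_top_iff_one, Submodule.mem_annihilator_span_singleton, smul_zero]
      have hdisj : Disjoint
          ((Algebra.algebraMapSubmonoid S (nonZeroDivisors R) : Submonoid S) : Set S)
          (p : Set S) := by
        rw [Set.disjoint_left]
        intro t ht htp
        rw [SetLike.mem_coe, hpn, Submodule.mem_annihilator_span_singleton] at htp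
        exact hn (smul_eq_zero_of_mem N ht htp)
      refine ⟨Ideal.map (algebraMap S
        (Localization (Algebra.algebraMapSubmonoid S (nonZeroDivisors R)))) p,
        ⟨?_, LocalizedModule.mk n 1, ?_⟩, ?_⟩
      · exact IsLocalization.isPrime_of_isPrime_disjoint
          (Algebra.algebraMapSubmonoid S (nonZeroDivisors R)) _ p hp hdisj
      · ext a
        obtain ⟨s, t, rfl⟩ := IsLocalization.mk'_surjective
          (Algebra.algebraMapSubmonoid S (nonZeroDivisors R)) a
        rw [IsLocalization.mk'_mem_map_algebraMap_iff, Submodule.mem_annihilator_span_singleton,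
          ← Localization.mk_eq_mk', locmk_smul_mk_eq_zero_iff]
        constructor
        · rintro ⟨t', ht', h⟩
          rcases hp.mem_or_mem h with h2 | h2
          · exact absurd h2 (Set.disjoint_left.1 hdisj ht')
          · rw [hpn, Submodule.mem_annihilator_span_singleton] at h2
            exact h2
        · intro h
          refine ⟨1, Submonoid.one_mem _, ?_⟩
          rw [one_mul, hpn, Submodule.mem_annihilator_span_singleton]
          exact h
      · exact IsLocalization.under_map_of_isPrime_disjoint
          (Algebra.algebraMapSubmonoid S (nonZeroDivisors R)) _ hp hdisj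
    · rintro ⟨P, ⟨hP, m, hPm⟩, rfl⟩
      induction m using LocalizedModule.induction_on with
      | h n t =>
        refine ⟨Ideal.IsPrime.comap _, n, ?_⟩
        ext s
        rw [Ideal.mem_comap, hPm, Submodule.mem_annihilator_span_singleton,
          Submodule.mem_annihilator_span_singleton, algebraMap_smul, smul_mk_eq_zero_iff]

end Groth.Agent.S9638
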