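import Groth.Statements.S9639
import Mathlib.RingTheory.Flat.Basic
import Mathlib.RingTheory.Flat.FaithfullyFlat.Basic
import Mathlib.Tactic

set_option autoImplicit false
universe u
open CAlg

namespace Groth.Agent.S9639

open TensorProduct in
theorem map_injective {k S : Type u} [Field k] [CommRing S] [Algebra k S] (S' : Subalgebra k S)
    (k' : Type u) [Field k'] [Algebra k k'] :
    Function.Injective (Algebra.TensorProduct.map (AlgHom.id k' k') S'.val :
      (k' ⊗[k] S') →ₐ[k'] (k' ⊗[k] S)) := by
  have h1 : Function.Injective (LinearMap.lTensor k' S'.val.toLinearMap) :=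
    Module.Flat.lTensor_preserves_injective_linearMap _ Subtype.val_injective
  have hcoe : ∀ x, (Algebra.TensorProduct.map (AlgHom.id k' k') S'.val :
      (k' ⊗[k] S') →ₐ[k'] (k' ⊗[k] S)) x = (LinearMap.lTensor k' S'.val.toLinearMap) x := by
    intro x
    induction x using TensorProduct.induction_on with
    | zero => simp
    | tmul a b => simp
    | add a b ha hb => simp only [map_add, ha, hb]
  intro x y hxy
  apply h1
  rw [← hcoe, ← hcoe, hxy]

open TensorProduct in
theorem denseRange_comap {k S : Type u} [Field k] [CommRing S] [Algebra k S] (S' : Subalgebra k S)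
    (k' : Type u) [Field k'] [Algebra k k'] :
    DenseRange (PrimeSpectrum.comap (Algebra.TensorProduct.map (AlgHom.id k' k') S'.val :
      (k' ⊗[k] S') →ₐ[k'] (k' ⊗[k] S)).toRingHom) := by
  rw [PrimeSpectrum.denseRange_comap_iff_ker_le_nilRadical]
  intro x hx
  rw [RingHom.mem_ker] at hx
  have : x = 0 := map_injective S' k' (by simpa using hx)
  rw [this]
  exact zero_mem _


open TensorProduct in
/-- Let k be a field and S a k-algebra such that Spec(k' ⊗_k S) is connected for every field extension
k'/k. Then every k-subalgebra of S has the same property. Here the test fields range over field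
extensions in the universe of k; this is equivalent to the unrestricted notion, since an algebraic
closure of k suffices as a test. -/
theorem result {k S : Type u} [Field k] [CommRing S] [Algebra k S]
    (hS : ∀ (k' : Type u) [Field k'] [Algebra k k'], ConnectedSpace (PrimeSpectrum (k' ⊗[k] S))) (S' : Subalgebra k S) :
    ∀ (k' : Type u) [Field k'] [Algebra k k'], ConnectedSpace (PrimeSpectrum (k' ⊗[k] S')) := by
  intro k' _ _
  have hS' := hS k'
  have hd := denseRange_comap S' k'
  have hc := PrimeSpectrum.continuous_comap (Algebra.TensorProduct.map (AlgHom.id k' k') S'.val :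
      (k' ⊗[k] S') →ₐ[k'] (k' ⊗[k] S)).toRingHom
  have hne : Nonempty (PrimeSpectrum (k' ⊗[k] S')) :=
    (inferInstance : Nonempty (PrimeSpectrum (k' ⊗[k] S))).map
      (PrimeSpectrum.comap (Algebra.TensorProduct.map (AlgHom.id k' k') S'.val :
      (k' ⊗[k] S') →ₐ[k'] (k' ⊗[k] S)).toRingHom)
  exact { toPreconnectedSpace := hd.preconnectedSpace hc, toNonempty := hne }

end Groth.Agent.S9639
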