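import Groth.Statements.S9641
import Mathlib.RingTheory.Flat.Basic
import Mathlib.LinearAlgebra.TensorProduct.Finiteness
import Mathlib.RingTheory.Nilpotent.Basic
import Mathlib.LinearAlgebra.FreeModule.Basic
import Mathlib.LinearAlgebra.Basis.VectorSpace

set_option autoImplicit false
universe u
open CAlg

namespace Groth.Agent.S9641

open TensorProduct in
/-- Let k be a field and R, S two k-algebras. If R ⊗_k S is not reduced then there are finitely
generated k-subalgebras R' ⊆ R and S' ⊆ S such that R' ⊗_k S' is not reduced. -/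
theorem result {k R S : Type u} [Field k] [CommRing R] [CommRing S] [Algebra k R] [Algebra k S] (h : ¬ IsReduced (R ⊗[k] S)) :
    ∃ (R' : Subalgebra k R) (S' : Subalgebra k S), R'.FG ∧ S'.FG ∧ ¬ IsReduced (R' ⊗[k] S') := by
  classical
  have hex : ∃ z : R ⊗[k] S, IsNilpotent z ∧ z ≠ 0 := by
    by_contra hcon
    push Not at hcon
    exact h ⟨fun z hz => hcon z hz⟩
  obtain ⟨z, ⟨n, hn⟩, hz0⟩ := hex
  obtain ⟨T, hT⟩ := TensorProduct.exists_finset z
  let R' : Subalgebra k R := Algebra.adjoin k (T.image Prod.fst : Set R)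
  let S' : Subalgebra k S := Algebra.adjoin k (T.image Prod.snd : Set S)
  have hR' : ∀ i ∈ T, i.1 ∈ R' := fun i hi =>
    Algebra.subset_adjoin (by simpa using ⟨i.2, hi⟩)
  have hS' : ∀ i ∈ T, i.2 ∈ S' := fun i hi =>
    Algebra.subset_adjoin (by simpa using ⟨i.1, hi⟩)
  let φ : R' ⊗[k] S' →ₐ[k] R ⊗[k] S := Algebra.TensorProduct.map R'.val S'.val
  have hφ : Function.Injective φ := by
    have : Function.Injective (TensorProduct.map R'.val.toLinearMap S'.val.toLinearMap) :=
      TensorProduct.map_injective_of_flat_flat _ _ Subtype.val_injective Subtype.val_injective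
    exact this
  let z' : R' ⊗[k] S' := ∑ i ∈ T.attach, (⟨i.1.1, hR' i.1 i.2⟩ : R') ⊗ₜ[k] (⟨i.1.2, hS' i.1 i.2⟩ : S')
  have hz' : φ z' = z := by
    rw [hT, map_sum, ← Finset.sum_attach T]
    apply Finset.sum_congr rfl
    intro i _
    rfl
  refine ⟨R', S', ⟨T.image Prod.fst, by simp [R']⟩, ⟨T.image Prod.snd, by simp [S']⟩, ?_⟩
  intro hred
  have hnil : IsNilpotent z' := by
    refine ⟨n, hφ ?_⟩
    rw [map_pow, hz', hn, map_zero]
  have : z' = 0 := hnil.eq_zero
  rw [this, map_zero] at hz'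
  exact hz0 hz'.symm

end Groth.Agent.S9641
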