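import Groth.Statements.S9642
import Mathlib.Tactic

set_option autoImplicit false
universe u
open CAlg

namespace Groth.Agent.S9642

/-- In the general form stated there: let R → S be a ring map inducing an open map Spec(S) → Spec(R),
with Spec(R) irreducible, such that for a dense set of primes p of R the fibre ring κ(p) ⊗_R S has
irreducible spectrum. Then Spec(S) is irreducible. The flat and finitely presented case is the
special case in which the map on spectra is open by fppf-openness. -/
theorem result {R S : Type u} [CommRing R] [CommRing S] [Algebra R S]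
    (hopen : IsOpenMap (PrimeSpectrum.comap (algebraMap R S))) [IrreducibleSpace (PrimeSpectrum R)]
    (D : Set (PrimeSpectrum R)) (hD : Dense D) (hfib : ∀ p ∈ D, IrreducibleSpace (PrimeSpectrum (p.asIdeal.Fiber S))) :
    IrreducibleSpace (PrimeSpectrum S) := by
  have hF : ∀ p ∈ D, IsIrreducible (PrimeSpectrum.comap (algebraMap R S) ⁻¹' {p}) := by
    intro p hp
    rw [isIrreducible_iff_irreducibleSpace]
    have := hfib p hp
    exact (PrimeSpectrum.preimageHomeomorphFiber R S p).irreducibleSpace_iff.mpr inferInstance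
  have hne : Nonempty (PrimeSpectrum S) := by
    obtain ⟨p, hp⟩ := hD.nonempty
    obtain ⟨x, hx⟩ := (hF p hp).nonempty
    exact ⟨x⟩
  refine { toNonempty := hne, isPreirreducible_univ := ?_ }
  intro U V hU hV hUne hVne
  rw [Set.univ_inter] at hUne hVne ⊢
  have hfU : IsOpen (PrimeSpectrum.comap (algebraMap R S) '' U) := hopen U hU
  have hfV : IsOpen (PrimeSpectrum.comap (algebraMap R S) '' V) := hopen V hV
  have hY : (PrimeSpectrum.comap (algebraMap R S) '' U ∩
      PrimeSpectrum.comap (algebraMap R S) '' V).Nonempty :=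
    nonempty_preirreducible_inter hfU hfV (hUne.image _) (hVne.image _)
  obtain ⟨p, ⟨hpU, hpV⟩, hpD⟩ := hD.inter_open_nonempty _ (hfU.inter hfV) hY
  obtain ⟨x, hxU, hxp⟩ := hpU
  obtain ⟨y, hyV, hyp⟩ := hpV
  obtain ⟨z, _, hz⟩ := (hF p hpD).isPreirreducible U V hU hV
    ⟨x, Set.mem_inter (show PrimeSpectrum.comap (algebraMap R S) x ∈ ({p} : Set _) from hxp) hxU⟩
    ⟨y, Set.mem_inter (show PrimeSpectrum.comap (algebraMap R S) y ∈ ({p} : Set _) from hyp) hyV⟩
  exact ⟨z, hz⟩

end Groth.Agent.S9642
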