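import Groth.Statements.S9643
import Mathlib.RingTheory.Support
import Mathlib.Tactic

set_option autoImplicit false
universe u
open CAlg

namespace Groth.Agent.S9643


theorem support_quot (R : Type*) [CommRing R] (I : Ideal R) :
    Module.support R (R ⧸ I) = PrimeSpectrum.zeroLocus (I : Set R) := by
  rw [Module.support_of_algebra (A := R ⧸ I), Ideal.Quotient.algebraMap_eq, Ideal.mk_ker]

/-- Let R be a Noetherian ring, M a finite R-module and 0 = M_0 ⊆ M_1 ⊆ ⋯ ⊆ M_n = M a chain of
submodules whose successive quotients M_i/M_{i-1} are isomorphic to R/p_i for prime ideals p_i. Then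
the primes minimal among p_1, …, p_n are exactly the primes minimal in the support of M. -/
theorem result {R : Type u} [CommRing R] [IsNoetherianRing R] (M : Type u) [AddCommGroup M] [Module R M] [Module.Finite R M]
    {n : ℕ} (N : Fin (n + 1) → Submodule R M) (hN : Monotone N) (h0 : N 0 = ⊥) (hlast : N (Fin.last n) = ⊤)
    (p : Fin n → PrimeSpectrum R)
    (hquot : ∀ i : Fin n, Nonempty ((↥(N i.succ) ⧸ Submodule.comap (N i.succ).subtype (N i.castSucc)) ≃ₗ[R] (R ⧸ (p i).asIdeal))) :
    {q : PrimeSpectrum R | Minimal (fun x => x ∈ Set.range p) q} = {q : PrimeSpectrum R | Minimal (fun x => x ∈ Module.support R M) q} := by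
  have key : ∀ j : Fin (n + 1),
      Module.support R (N j) = {q | ∃ i : Fin n, i.castSucc < j ∧ p i ≤ q} := by
    intro j
    induction j using Fin.induction with
    | zero =>
      rw [h0, Module.support_eq_empty]
      ext q
      simp
    | succ i ih =>
      have hlt : i.castSucc < i.succ := by
        rw [Fin.lt_def]; simp
      have hle : N i.castSucc ≤ N i.succ := hN hlt.le
      have hex : Function.Exact (Submodule.inclusion hle)
          (Submodule.mkQ (Submodule.comap (N i.succ).subtype (N i.castSucc))) := by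
        rw [LinearMap.exact_iff, Submodule.ker_mkQ, Submodule.range_inclusion]
      have hsupp := Module.support_of_exact hex (Submodule.inclusion_injective hle)
        (Submodule.mkQ_surjective _)
      obtain ⟨e⟩ := hquot i
      rw [hsupp, ih, e.support_eq, support_quot]
      ext q
      simp only [Set.mem_union, Set.mem_setOf_eq, PrimeSpectrum.mem_zeroLocus,
        SetLike.coe_subset_coe]
      constructor
      · rintro (⟨i', hi', hq⟩ | hq)
        · exact ⟨i', lt_trans hi' hlt, hq⟩
        · exact ⟨i, hlt, hq⟩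
      · rintro ⟨i', hi', hq⟩
        by_cases h : i' = i
        · right
          rw [← h]
          exact hq
        · left
          refine ⟨i', ?_, hq⟩
          have h1 : (i' : ℕ) < (i : ℕ) + 1 := by simpa [Fin.lt_def] using hi'
          have h2 : (i' : ℕ) ≠ (i : ℕ) := fun hh => h (Fin.ext hh)
          rw [Fin.lt_def]
          simp only [Fin.coe_castSucc]
          omega
  have hM : Module.support R M = {q | ∃ i : Fin n, p i ≤ q} := by
    have h1 := key (Fin.last n)
    rw [hlast] at h1
    rw [← (Submodule.topEquiv (R := R) (M := M)).support_eq, h1]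
    ext q
    simp only [Set.mem_setOf_eq]
    constructor
    · rintro ⟨i, _, hq⟩
      exact ⟨i, hq⟩
    · rintro ⟨i, hq⟩
      exact ⟨i, Fin.castSucc_lt_last i, hq⟩
  ext q
  simp only [Set.mem_setOf_eq]
  rw [hM]
  constructor
  · intro hq
    obtain ⟨⟨i, rfl⟩, hmin⟩ := hq
    refine ⟨⟨i, le_refl _⟩, ?_⟩
    rintro q' ⟨j, hj⟩ hq'
    have h3 : p i ≤ p j := hmin ⟨j, rfl⟩ (le_trans hj hq')
    exact le_trans h3 hj
  · intro hq
    obtain ⟨⟨i, hi⟩, hmin⟩ := hq
    have hqi : q ≤ p i := hmin ⟨i, le_refl _⟩ hi
    have hqe : q = p i := le_antisymm hqi hi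
    refine ⟨⟨i, hqe.symm⟩, ?_⟩
    rintro q' ⟨j, rfl⟩ hq'
    exact hmin ⟨j, le_refl _⟩ hq'

end Groth.Agent.S9643
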