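import Groth.Statements.S9644
import Mathlib

set_option autoImplicit false
universe u
open CAlg

namespace Groth.Agent.S9644

section helpers
variable {R : Type u} [CommRing R] [IsNoetherianRing R] (M : Type u) [AddCommGroup M] [Module R M]
  [Module.Finite R M]

/-- Elements killed, at every minimal prime of the support, by something outside that prime. -/
def Ksub : Submodule R M where
  carrier := {m | ∀ p ∈ (Module.annihilator R M).minimalPrimes, ∃ r : R, r ∉ p ∧ r • m = 0}
  zero_mem' := fun p hp => ⟨1, (Ideal.ne_top_iff_one p).mp hp.1.1.ne_top, smul_zero 1⟩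
  add_mem' := by
    intro a b ha hb p hp
    obtain ⟨r, hr, hra⟩ := ha p hp
    obtain ⟨s, hs, hsb⟩ := hb p hp
    refine ⟨r * s, fun h => (hp.1.1.mem_or_mem h).elim hr hs, ?_⟩
    have h1 : (r * s) • a = 0 := by rw [mul_comm, mul_smul, hra, smul_zero]
    have h2 : (r * s) • b = 0 := by rw [mul_smul, hsb, smul_zero]
    rw [smul_add, h1, h2, add_zero]
  smul_mem' := by
    intro c m hm p hp
    obtain ⟨r, hr, hrm⟩ := hm p hp
    exact ⟨r, hr, by rw [smul_comm, hrm, smul_zero]⟩

theorem exists_min_le (x : PrimeSpectrum R) (hx : x ∈ Module.support R M) :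
    ∃ p ∈ (Module.annihilator R M).minimalPrimes, p ≤ x.asIdeal := by
  have h : Module.annihilator R M ≤ x.asIdeal := Module.annihilator_le_of_mem_support hx
  exact Ideal.exists_minimalPrimes_le h

theorem minPrime_mem_support (p : Ideal R) (hp : p ∈ (Module.annihilator R M).minimalPrimes) :
    (⟨p, hp.1.1⟩ : PrimeSpectrum R) ∈ Module.support R M :=
  Module.mem_support_iff_of_finite.mpr hp.1.2

theorem minPrime_notMem_support_K (p : Ideal R)
    (hp : p ∈ (Module.annihilator R M).minimalPrimes) :
    (⟨p, hp.1.1⟩ : PrimeSpectrum R) ∉ Module.support R ↥(Ksub (R := R) M) := by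
  rw [Module.notMem_support_iff']
  intro k
  obtain ⟨r, hr, hrk⟩ := k.2 p hp
  refine ⟨r, hr, Subtype.ext ?_⟩
  rw [Submodule.coe_smul, hrk]
  rfl

theorem K_mem : ∀ U : Set (PrimeSpectrum R), IsOpen U →
    U ∩ Module.support R M ⊆ closure (Module.support R ↥(Ksub (R := R) M)) →
    U ∩ Module.support R M = ∅ := by
  intro U hU hsub
  rw [Set.eq_empty_iff_forall_notMem]
  rintro x ⟨hxU, hxM⟩
  obtain ⟨p, hp, hpx⟩ := exists_min_le M x hxM
  have hpU : (⟨p, hp.1.1⟩ : PrimeSpectrum R) ∈ U := by
    have hspec : (⟨p, hp.1.1⟩ : PrimeSpectrum R) ⤳ x :=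
      (PrimeSpectrum.le_iff_specializes ⟨p, hp.1.1⟩ x).mp hpx
    exact hspec.mem_open hU hxU
  have hpM := minPrime_mem_support M p hp
  have hcl : closure (Module.support R ↥(Ksub (R := R) M)) = Module.support R ↥(Ksub (R := R) M) := by
    rw [Module.support_eq_zeroLocus]
    exact (PrimeSpectrum.isClosed_zeroLocus _).closure_eq
  have h1 := hsub ⟨hpU, hpM⟩
  rw [hcl] at h1
  exact minPrime_notMem_support_K M p hp h1

theorem le_K (K' : Submodule R M)
    (hK' : ∀ U : Set (PrimeSpectrum R), IsOpen U →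
      U ∩ Module.support R M ⊆ closure (Module.support R ↥K') → U ∩ Module.support R M = ∅) :
    K' ≤ Ksub (R := R) M := by
  intro m hm p hp
  have hnot : (⟨p, hp.1.1⟩ : PrimeSpectrum R) ∉ Module.support R ↥K' := by
    intro hin
    have hfin : (Module.annihilator R M).minimalPrimes.Finite :=
      Ideal.finite_minimalPrimes_of_isNoetherianRing R _
    obtain ⟨U, hUdef⟩ : ∃ U : Set (PrimeSpectrum R), U =
        (⋃ q ∈ {q | q ∈ (Module.annihilator R M).minimalPrimes ∧ q ≠ p},
          PrimeSpectrum.zeroLocus (q : Set R))ᶜ := ⟨_, rfl⟩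
    have hUopen : IsOpen U := by
      rw [hUdef, isOpen_compl_iff]
      apply Set.Finite.isClosed_biUnion (hfin.subset (fun q hq => hq.1))
      intro q _
      exact PrimeSpectrum.isClosed_zeroLocus _
    have hsub : U ∩ Module.support R M ⊆ closure (Module.support R ↥K') := by
      rintro x ⟨hxU, hxM⟩
      apply subset_closure
      obtain ⟨q, hq, hqx⟩ := exists_min_le M x hxM
      have hqp : q = p := by
        by_contra hne
        rw [hUdef] at hxU
        apply hxU
        rw [Set.mem_iUnion₂]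
        exact ⟨q, ⟨hq, hne⟩, (PrimeSpectrum.mem_zeroLocus _ _).mpr (SetLike.coe_subset_coe.mpr hqx)⟩
      rw [hqp] at hqx
      exact Module.mem_support_mono (p := ⟨p, hp.1.1⟩) (q := x) hqx hin
    have hempty := hK' U hUopen hsub
    have hpU : (⟨p, hp.1.1⟩ : PrimeSpectrum R) ∈ U := by
      rw [hUdef]
      intro hmem
      rw [Set.mem_iUnion₂] at hmem
      obtain ⟨q, ⟨hq, hne⟩, hqp⟩ := hmem
      have hqle : q ≤ p := SetLike.coe_subset_coe.mp ((PrimeSpectrum.mem_zeroLocus _ _).mp hqp)
      exact hne (le_antisymm hqle (hp.2 hq.1 hqle))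
    have h2 : (⟨p, hp.1.1⟩ : PrimeSpectrum R) ∈ U ∩ Module.support R M :=
      ⟨hpU, minPrime_mem_support M p hp⟩
    rw [hempty] at h2
    exact h2
  obtain ⟨r, hr, hrm⟩ := Module.notMem_support_iff'.mp hnot ⟨m, hm⟩
  exact ⟨r, hr, by simpa using congrArg Subtype.val hrm⟩

theorem support_quot : Module.support R (M ⧸ Ksub (R := R) M) = Module.support R M := by
  apply Set.Subset.antisymm
  · exact Module.support_subset_of_surjective (Ksub (R := R) M).mkQ (Submodule.mkQ_surjective _)
  · intro x hx
    obtain ⟨p, hp, hpx⟩ := exists_min_le M x hx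
    refine Module.mem_support_mono (p := ⟨p, hp.1.1⟩) (q := x) hpx ?_
    obtain ⟨m, hm⟩ := Module.mem_support_iff'.mp (minPrime_mem_support M p hp)
    rw [Module.mem_support_iff']
    refine ⟨Submodule.Quotient.mk m, fun r hr h0 => ?_⟩
    rw [← Submodule.Quotient.mk_smul, Submodule.Quotient.mk_eq_zero] at h0
    obtain ⟨r', hr', h1⟩ := h0 p hp
    refine hm (r' * r) (fun h => (hp.1.1.mem_or_mem h).elim hr' hr) ?_
    rw [mul_smul]
    exact h1

theorem ass_quot_subset (q : Ideal R) (hq : q ∈ associatedPrimes R (M ⧸ Ksub (R := R) M)) :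
    q ∈ (Module.annihilator R M).minimalPrimes := by
  obtain ⟨hqprime, mbar, hqeq⟩ := isAssociatedPrime_iff.mp (AssociatedPrimes.mem_iff.mp hq)
  obtain ⟨m, rfl⟩ := Submodule.Quotient.mk_surjective _ mbar
  have hmem : ∀ s : R, s ∈ q ↔ s • m ∈ Ksub (R := R) M := by
    intro s
    rw [hqeq, Submodule.mem_colon_singleton, Submodule.mem_bot, ← Submodule.Quotient.mk_smul,
      Submodule.Quotient.mk_eq_zero]
  have hann : Module.annihilator R M ≤ q := by
    intro s hs
    rw [hmem]
    have h0 : s • m = 0 := Module.mem_annihilator.mp hs m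
    rw [h0]
    exact Submodule.zero_mem _
  have := hqprime
  obtain ⟨p0, hp0, hp0q⟩ := Ideal.exists_minimalPrimes_le hann
  by_contra hqP
  have hfin := Ideal.finite_minimalPrimes_of_isNoetherianRing R (Module.annihilator R M)
  have hnotle : ∀ p ∈ (Module.annihilator R M).minimalPrimes, ¬ q ≤ p := by
    intro p hp hqp
    have h1 : p ≤ p0 := hp.2 hp0.1 (hp0q.trans hqp)
    have hqp' : q = p := le_antisymm hqp (h1.trans hp0q)
    apply hqP
    rw [hqp']
    exact hp
  have havoid : ¬ ((q : Set R) ⊆ ⋃ p ∈ (↑hfin.toFinset : Set (Ideal R)), ((p : Ideal R) : Set R)) := by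
    intro hsub
    obtain ⟨p, hp, hqp⟩ := (Ideal.subset_union_prime (s := hfin.toFinset) (f := fun p => p) ⊥ ⊥
      (fun p hp _ _ => ((hfin.mem_toFinset).mp hp).1.1)).mp hsub
    exact hnotle p ((hfin.mem_toFinset).mp hp) hqp
  rw [Set.not_subset] at havoid
  obtain ⟨s, hsq, hsP⟩ := havoid
  have hsK := (hmem s).mp hsq
  have hmK : m ∈ Ksub (R := R) M := by
    intro p hp
    obtain ⟨r, hr, hrs⟩ := hsK p hp
    refine ⟨r * s, fun h => (hp.1.1.mem_or_mem h).elim hr (fun hs => hsP ?_), ?_⟩
    · rw [Set.mem_iUnion₂]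
      exact ⟨p, Finset.mem_coe.mpr ((hfin.mem_toFinset).mpr hp), hs⟩
    · rw [mul_smul]
      exact hrs
  apply hqprime.ne_top
  rw [Ideal.eq_top_iff_one, hmem, one_smul]
  exact hmK

theorem K_torsion (f : R)
    (hf : ∀ p ∈ associatedPrimes R M, ¬ Minimal (fun x => x ∈ associatedPrimes R M) p → f ∈ p)
    (k : M) (hk : k ∈ Ksub (R := R) M) : ∃ b : ℕ, f ^ b • k = 0 := by
  have hJmem : ∀ r : R, r ∈ (Submodule.span R ({k} : Set M)).annihilator ↔ r • k = 0 :=
    fun r => Submodule.mem_annihilator_span_singleton k r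
  suffices hrad : f ∈ ((Submodule.span R ({k} : Set M)).annihilator).radical by
    obtain ⟨b, hb⟩ := hrad
    exact ⟨b, (hJmem _).mp hb⟩
  rw [← Ideal.sInf_minimalPrimes, Ideal.mem_sInf]
  intro q hq
  have hqAssN : q ∈ associatedPrimes R ↥(Submodule.span R ({k} : Set M)) :=
    Module.associatedPrimes.minimalPrimes_annihilator_subset_associatedPrimes R
      ↥(Submodule.span R ({k} : Set M)) hq
  have hqAssM : q ∈ associatedPrimes R M :=
    associatedPrimes.subset_of_injective (f := (Submodule.span R ({k} : Set M)).subtype)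
      (Submodule.injective_subtype _) hqAssN
  by_cases hmin : Minimal (fun x => x ∈ associatedPrimes R M) q
  · exfalso
    have hann : Module.annihilator R M ≤ q :=
      fun s hs => hq.1.2 ((hJmem s).mpr (Module.mem_annihilator.mp hs k))
    have := hq.1.1
    obtain ⟨p, hp, hpq⟩ := Ideal.exists_minimalPrimes_le hann
    have hpAss : p ∈ associatedPrimes R M :=
      Module.associatedPrimes.minimalPrimes_annihilator_subset_associatedPrimes R M hp
    have hqp : q ≤ p := hmin.2 hpAss hpq
    have hqeq : q = p := le_antisymm hqp hpq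
    obtain ⟨r, hr, hrk⟩ := hk p hp
    apply hr
    rw [← hqeq]
    exact hq.1.2 ((hJmem r).mpr hrk)
  · exact hf q hqAssM hmin

theorem part4 (f : R)
    (hf : ∀ p ∈ associatedPrimes R M, ¬ Minimal (fun x => x ∈ associatedPrimes R M) p → f ∈ p) :
    Function.Bijective (LocalizedModule.map (Submonoid.powers f) (Ksub (R := R) M).mkQ) := by
  constructor
  · rw [injective_iff_map_eq_zero]
    intro x hx
    induction x using LocalizedModule.induction_on with
    | h m s =>
      rw [LocalizedModule.map_mk, ← LocalizedModule.zero_mk s, LocalizedModule.mk_eq] at hx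
      obtain ⟨u, hu⟩ := hx
      have h1 : ((u : R) * (s : R)) • m ∈ Ksub (R := R) M := by
        rw [← Submodule.Quotient.mk_eq_zero, Submodule.Quotient.mk_smul, mul_smul]
        simpa [Submonoid.smul_def] using hu
      obtain ⟨b, hb⟩ := K_torsion M f hf _ h1
      rw [← LocalizedModule.zero_mk s, LocalizedModule.mk_eq]
      refine ⟨⟨f ^ b, ⟨b, rfl⟩⟩ * u, ?_⟩
      have key : ((⟨f ^ b, ⟨b, rfl⟩⟩ * u : Submonoid.powers f)) • s • m =
          f ^ b • (((u : R) * (s : R)) • m) := by
        simp only [Submonoid.smul_def, Submonoid.coe_mul, mul_smul]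
      rw [key, hb, smul_zero, smul_zero]
  · exact LocalizedModule.map_surjective _ _ (Submodule.mkQ_surjective _)

end helpers

/-- Let R be a Noetherian ring and M a finite R-module. Among the submodules K' of M whose support is
nowhere dense inside Supp(M) there is a largest one, K. The quotient M' = M/K then satisfies
Supp(M') = Supp(M), its associated primes are pairwise incomparable (no embedded ones), and whenever
f ∈ R belongs to every embedded associated prime of M the localized map M_f → M'_f is bijective. -/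
theorem result {R : Type u} [CommRing R] [IsNoetherianRing R] (M : Type u) [AddCommGroup M] [Module R M] [Module.Finite R M] :
    ∃ K : Submodule R M,
      IsGreatest {K' : Submodule R M | ∀ U : Set (PrimeSpectrum R), IsOpen U → U ∩ Module.support R M ⊆ closure (Module.support R ↥K') → U ∩ Module.support R M = ∅} K ∧
      Module.support R (M ⧸ K) = Module.support R M ∧
      (∀ p ∈ associatedPrimes R (M ⧸ K), ∀ q ∈ associatedPrimes R (M ⧸ K), p ≤ q → p = q) ∧
      ∀ f : R, (∀ p ∈ associatedPrimes R M, ¬ Minimal (fun x => x ∈ associatedPrimes R M) p → f ∈ p) →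
        Function.Bijective (LocalizedModule.map (Submonoid.powers f) K.mkQ) := by
  refine ⟨Ksub (R := R) M, ⟨K_mem M, fun K' hK' => le_K M K' hK'⟩, support_quot M, ?_,
    fun f hf => part4 M f hf⟩
  intro p hp q hq hpq
  have hpP := ass_quot_subset M p hp
  have hqP := ass_quot_subset M q hq
  exact le_antisymm hpq (hqP.2 hpP.1 hpq)

end Groth.Agent.S9644
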