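import Groth.Statements.S9645
import Mathlib.RingTheory.Localization.Integral

set_option autoImplicit false
universe u
open CAlg

namespace Groth.Agent.S9645

/-- Integral closure commutes with localization. Let A → B be a ring map, S a multiplicative subset of
A, and A_S, B_S the localizations of A at S and of B at the image of S. Then an element x of B_S is
integral over A_S if and only if x·s = b for some s ∈ S and some b ∈ B integral over A (images taken
in B_S); that is, the integral closure of A_S in B_S is S⁻¹B' for B' the integral closure of A in B. -/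
theorem result {A B As Bs : Type u} [CommRing A] [CommRing B] [CommRing As] [CommRing Bs] [Algebra A B] [Algebra A As] [Algebra B Bs] [Algebra As Bs] [Algebra A Bs] [IsScalarTower A B Bs] [IsScalarTower A As Bs]
    (S : Submonoid A) [IsLocalization S As] [IsLocalization (Algebra.algebraMapSubmonoid B S) Bs] (x : Bs) :
    IsIntegral As x ↔ ∃ b : B, IsIntegral A b ∧ ∃ s ∈ S, x * algebraMap A Bs s = algebraMap B Bs b := by
  constructor
  · intro hs
    obtain ⟨⟨b0, _, m₁, hm₁, rfl⟩, e⟩ := IsLocalization.surj (Algebra.algebraMapSubmonoid B S) x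
    simp only [← IsScalarTower.algebraMap_apply] at e
    obtain ⟨⟨m₂, hm₂⟩, hm₂s⟩ := IsIntegral.exists_multiple_integral_of_isLocalization S _ hs
    simp only [Submonoid.smul_def, Algebra.smul_def] at hm₂s
    obtain ⟨m₃, hm₃, hm₃s⟩ := IsLocalization.exists_isIntegral_smul_of_isIntegral_map (Sₘ := Bs)
      S (x := m₂ • b0) <| by
        simp only [Algebra.smul_def, map_mul, ← IsScalarTower.algebraMap_apply, ← e, ← mul_assoc]
        exact hm₂s.mul (.algebraMap (Algebra.IsIntegral.isIntegral _))
    refine ⟨m₃ • m₂ • b0, hm₃s, m₁ * m₂ * m₃, mul_mem (mul_mem hm₁ hm₂) hm₃, ?_⟩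
    simp only [Algebra.smul_def, map_mul, ← IsScalarTower.algebraMap_apply, ← e]
    ring
  · rintro ⟨b, hb, s, hs, e⟩
    obtain ⟨v', hv'⟩ := isUnit_iff_exists_inv'.1 (IsLocalization.map_units As ⟨s, hs⟩)
    refine IsIntegral.of_mul_unit (r := v') (y := algebraMap A Bs s) ?_ ?_
    · rw [IsScalarTower.algebraMap_apply A As Bs, ← map_mul, hv', map_one]
    · rw [e]
      exact (hb.map (IsScalarTower.toAlgHom A B Bs)).tower_top

end Groth.Agent.S9645
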