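import Groth.Statements.S9646
-- import your own Groth.Agent.* helpers here
import Mathlib.RingTheory.Localization.Integral

set_option autoImplicit false
universe u
open CAlg

namespace Groth.Agent.S9646

/-- (2) ⇒ (1): let R → S be a ring map and x ∈ S. If for every prime ideal p of R the image of x in S_p
(the localization of S at the image of R ∖ p) is integral over R_p, then x is integral over R. Here
R_p and S_p are any rings satisfying the localization universal properties. -/
theorem result {R S : Type u} [CommRing R] [CommRing S] [Algebra R S] (x : S)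
    (h : ∀ (p : Ideal R) [p.IsPrime] (Rp Sp : Type u) [CommRing Rp] [CommRing Sp] [Algebra R Rp] [Algebra S Sp] [Algebra Rp Sp] [Algebra R Sp] [IsScalarTower R S Sp] [IsScalarTower R Rp Sp] [IsLocalization.AtPrime Rp p] [IsLocalization (Algebra.algebraMapSubmonoid S p.primeCompl) Sp], IsIntegral Rp (algebraMap S Sp x)) :
    IsIntegral R x := by
  classical
  let I : Ideal R :=
    { carrier := {r | IsIntegral R (r • x)}
      add_mem' := by
        intro a b ha hb
        show IsIntegral R ((a + b) • x)
        rw [add_smul]
        exact IsIntegral.add ha hb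
      zero_mem' := by
        show IsIntegral R ((0 : R) • x)
        rw [zero_smul]
        exact isIntegral_zero
      smul_mem' := by
        intro c a ha
        show IsIntegral R ((c • a) • x)
        rw [smul_assoc]
        exact IsIntegral.smul c ha }
  by_contra hx
  have hI : I ≠ ⊤ := by
    intro htop
    have h1 : (1 : R) ∈ I := htop ▸ Submodule.mem_top
    have h1' : IsIntegral R ((1 : R) • x) := h1
    rw [one_smul] at h1'
    exact hx h1'
  obtain ⟨p, hp, hIp⟩ := Ideal.exists_le_maximal I hI
  haveI := hp.isPrime
  have hint := h p (Localization.AtPrime p)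
    (Localization (Algebra.algebraMapSubmonoid S p.primeCompl))
  obtain ⟨m₁, hm₁⟩ := IsIntegral.exists_multiple_integral_of_isLocalization p.primeCompl _ hint
  have hm₁' : IsIntegral R (algebraMap S
      (Localization (Algebra.algebraMapSubmonoid S p.primeCompl)) ((m₁ : R) • x)) := by
    rw [Submonoid.smul_def] at hm₁
    rw [Algebra.smul_def, map_mul, ← IsScalarTower.algebraMap_apply, ← Algebra.smul_def]
    exact hm₁
  obtain ⟨m₂, hm₂, hm₂'⟩ := IsLocalization.exists_isIntegral_smul_of_isIntegral_map
    (Sₘ := Localization (Algebra.algebraMapSubmonoid S p.primeCompl)) p.primeCompl hm₁'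
  have hmem : m₂ * (m₁ : R) ∈ I := by
    show IsIntegral R ((m₂ * (m₁ : R)) • x)
    rw [mul_smul]
    exact hm₂'
  have hmemp : m₂ * (m₁ : R) ∈ p := hIp hmem
  rcases hp.isPrime.mem_or_mem hmemp with h2 | h1
  · exact hm₂ h2
  · exact m₁.2 h1

end Groth.Agent.S9646
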