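import Groth.Statements.S9649
import Groth.Agent.H80.SepGen

set_option autoImplicit false
universe u
open CAlg

namespace Groth.Agent.S9649

/-- A separably generated field extension is separable. Precisely: let K/k be a field extension
admitting a transcendence basis x over whose generated subfield k(x) the field K is separable
algebraic; then every finitely generated subextension K' of K/k also admits such a transcendence
basis. -/
theorem result {k K : Type u} [Field k] [Field K] [Algebra k K]
    (h : ∃ (ι : Type u) (x : ι → K), IsTranscendenceBasis k x ∧ Algebra.IsSeparable (IntermediateField.adjoin k (Set.range x)) K)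
    (K' : IntermediateField k K) (hK' : ∃ s : Finset K, IntermediateField.adjoin k (s : Set K) = K') :
    ∃ (ι : Type u) (x : ι → K'), IsTranscendenceBasis k x ∧ Algebra.IsSeparable (IntermediateField.adjoin k (Set.range x)) K' := by
  classical
  obtain ⟨ι, x, hx, hsep⟩ := h
  obtain ⟨t, ht⟩ := hK'
  have : Algebra.EssFiniteType k K' := IntermediateField.essFiniteType_iff.mpr ⟨t, ht⟩
  obtain hchar | ⟨p, hp, hpk⟩ := CharP.exists' k
  · have := hchar
    obtain ⟨s, hs1, hs2⟩ := exists_isTranscendenceBasis_and_isSeparable_of_perfectField k K'
    have hgen : ∀ S : Set K', S = (s : Set K') →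
        Algebra.IsSeparable (IntermediateField.adjoin k S) K' := by
      rintro S rfl; exact hs2
    exact ⟨s, ((↑) : s → K'), hs1, hgen _ (by ext y; simp)⟩
  · haveI := hp
    haveI := hpk
    haveI : ExpChar k p := ExpChar.prime hp.out
    have H : ∀ s : Finset K', LinearIndepOn k id (s : Set K') →
        LinearIndepOn k (· ^ p) (s : Set K') := by
      intro s hs
      have h1 : LinearIndependent k (fun i : ↥(s : Set K') => ((i : K') : K)) :=
        LinearIndependent.map' hs K'.val.toLinearMap
          (LinearMap.ker_eq_bot_of_injective K'.val.injective)
      have h2 := Groth.Agent.H80.SepGen.linearIndependent_pow p x hx.1 _ h1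
      exact LinearIndependent.of_comp K'.val.toLinearMap h2
    obtain ⟨s, hs1, hs2⟩ :=
      exists_isTranscendenceBasis_and_isSeparable_of_linearIndepOn_pow_of_essFiniteType
        p hp.out H
    have hgen : ∀ S : Set K', S = (s : Set K') →
        Algebra.IsSeparable (IntermediateField.adjoin k S) K' := by
      rintro S rfl; exact hs2
    exact ⟨s, ((↑) : s → K'), hs1, hgen _ (by ext y; simp)⟩

end Groth.Agent.S9649
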