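import Groth.Statements.S9650
import Groth.Agent.H80.SepGen

set_option autoImplicit false
universe u
open CAlg

namespace Groth.Agent.S9650

/-- Let K/k be a finitely generated field extension that is separably generated, i.e. admits a
transcendence basis over whose generated subfield K is separable algebraic. Then K is generated over
k by finitely many elements x_1, …, x_r, y such that the x_i form a transcendence basis of K/k and y
is separable over the subfield k(x_1, …, x_r). -/
theorem result {k K : Type u} [Field k] [Field K] [Algebra k K]
    (hfg : ∃ s : Finset K, IntermediateField.adjoin k (s : Set K) = ⊤)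
    (hsep : ∃ (ι : Type u) (x : ι → K), IsTranscendenceBasis k x ∧ Algebra.IsSeparable (IntermediateField.adjoin k (Set.range x)) K) :
    ∃ (r : ℕ) (x : Fin r → K) (y : K), IsTranscendenceBasis k x ∧ IntermediateField.adjoin k (insert y (Set.range x)) = ⊤ ∧ IsSeparable (IntermediateField.adjoin k (Set.range x)) y := by
  classical
  have hess : Algebra.EssFiniteType k K := IntermediateField.fg_top_iff.mp hfg
  obtain ⟨s, hs1, hs2⟩ := Groth.Agent.H80.SepGen.exists_finset_sepBasis hsep
  set F := IntermediateField.adjoin k (s : Set K) with hF
  have halg : Algebra.IsAlgebraic F K := Algebra.IsSeparable.isAlgebraic F K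
  have hessF : Algebra.EssFiniteType F K := Algebra.EssFiniteType.of_comp k F K
  have hfin : Module.Finite F K := Algebra.finite_of_essFiniteType_of_isAlgebraic
  obtain ⟨y, hy⟩ := Field.exists_primitive_element F K
  have hrange : Set.range (fun i : Fin s.card => ((s.equivFin.symm i : ↥s) : K)) = (s : Set K) := by
    ext z
    constructor
    · rintro ⟨i, rfl⟩; exact (s.equivFin.symm i).2
    · intro hz; exact ⟨s.equivFin ⟨z, hz⟩, by simp⟩
  have hgen : ∀ S : Set K, S = (s : Set K) →
      IsSeparable (IntermediateField.adjoin k S) y ∧
      IntermediateField.adjoin k (insert y S) = ⊤ := by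
    rintro S rfl
    refine ⟨Algebra.IsSeparable.isSeparable F y, ?_⟩
    have h1 := IntermediateField.adjoin_adjoin_left k (s : Set K) {y}
    rw [hy, IntermediateField.restrictScalars_top] at h1
    rw [Set.insert_eq, Set.union_comm]
    exact h1.symm
  refine ⟨s.card, fun i => ((s.equivFin.symm i : ↥s) : K), y, ?_, (hgen _ hrange).2,
    (hgen _ hrange).1⟩
  exact hs1.comp_equiv s.equivFin.symm

end Groth.Agent.S9650
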