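import Groth.Statements.S9651
import Groth.Agent.H23.GenericImage

set_option autoImplicit false
universe u
open CAlg

namespace Groth.Agent.S9651


/-- Let R → S be a ring map of finite type, f : Spec(S) → Spec(R) the induced map and E ⊆ Spec(S) a
constructible subset. If ξ ∈ f(E) then f(E) ∩ cl{ξ} contains an open dense subset of the closure
cl{ξ}: some open U of Spec(R) has U ∩ cl{ξ} dense in cl{ξ} and contained in f(E). -/
theorem result {R S : Type u} [CommRing R] [CommRing S] [Algebra R S] [Algebra.FiniteType R S]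
    (E : Set (PrimeSpectrum S)) (hE : Topology.IsConstructible E) (ξ : PrimeSpectrum R) (hξ : ξ ∈ PrimeSpectrum.comap (algebraMap R S) '' E) :
    ∃ U : Set (PrimeSpectrum R), IsOpen U ∧ closure ({ξ} : Set (PrimeSpectrum R)) ⊆ closure (U ∩ closure {ξ}) ∧ U ∩ closure {ξ} ⊆ PrimeSpectrum.comap (algebraMap R S) '' E := by
  classical
  obtain ⟨y, hyE, hyξ⟩ := hξ
  subst hyξ
  obtain ⟨D, hD⟩ := PrimeSpectrum.exists_constructibleSetData_iff.mpr hE
  have hyD : y ∈ D.toSet := by rw [hD]; exact hyE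
  simp only [PrimeSpectrum.ConstructibleSetData.toSet, Set.mem_iUnion] at hyD
  obtain ⟨C, hCD, hyC⟩ := hyD
  have hCE : C.toSet ⊆ E := by
    rw [← hD]
    exact Set.subset_biUnion_of_mem
      (u := fun C : PrimeSpectrum.BasicConstructibleSetData S => C.toSet) hCD
  obtain ⟨hyg, hyf⟩ := hyC
  have hf : C.f ∉ y.asIdeal := by
    intro h
    apply hyf
    rw [PrimeSpectrum.mem_zeroLocus, Set.singleton_subset_iff]
    exact h
  rw [PrimeSpectrum.mem_zeroLocus] at hyg
  have hsbar0 : (Ideal.Quotient.mk y.asIdeal C.f) ≠ 0 := by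
    rw [Ne, Ideal.Quotient.eq_zero_iff_mem]; exact hf
  have hM : Submonoid.powers (Ideal.Quotient.mk y.asIdeal C.f) ≤
      nonZeroDivisors (S ⧸ y.asIdeal) :=
    powers_le_nonZeroDivisors_of_noZeroDivisors hsbar0
  have hdom : IsDomain (Localization.Away (Ideal.Quotient.mk y.asIdeal C.f)) :=
    IsLocalization.isDomain_localization hM
  let φ₁ : (R ⧸ y.asIdeal.comap (algebraMap R S)) →+* (S ⧸ y.asIdeal) :=
    Ideal.quotientMap y.asIdeal (algebraMap R S) le_rfl
  let φ : (R ⧸ y.asIdeal.comap (algebraMap R S)) →+*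
      Localization.Away (Ideal.Quotient.mk y.asIdeal C.f) :=
    (algebraMap (S ⧸ y.asIdeal) (Localization.Away (Ideal.Quotient.mk y.asIdeal C.f))).comp φ₁
  have hφinj : Function.Injective φ :=
    (IsLocalization.injective (Localization.Away (Ideal.Quotient.mk y.asIdeal C.f)) hM).comp
      Ideal.quotientMap_injective
  have hRS : (algebraMap R S).FiniteType := RingHom.finiteType_algebraMap.mpr inferInstance
  have h1 : φ₁.FiniteType := by
    refine RingHom.FiniteType.of_comp_finiteType
      (f := Ideal.Quotient.mk (y.asIdeal.comap (algebraMap R S))) ?_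
    rw [Ideal.quotientMap_comp_mk]
    exact (RingHom.FiniteType.of_surjective _ Ideal.Quotient.mk_surjective).comp hRS
  have h2 : (algebraMap (S ⧸ y.asIdeal)
      (Localization.Away (Ideal.Quotient.mk y.asIdeal C.f))).FiniteType :=
    RingHom.finiteType_algebraMap.mpr inferInstance
  have hφ : φ.FiniteType := h2.comp h1
  obtain ⟨gbar, hg0, hgim⟩ := Groth.Agent.H23.genericImage φ hφ ⟨⊥, Ideal.isPrime_bot⟩ (by
    intro p'
    change Ideal.comap φ ⊥ ≤ p'.asIdeal
    rw [Ideal.comap_bot_of_injective φ hφinj]; exact bot_le)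
  obtain ⟨g, rfl⟩ := Ideal.Quotient.mk_surjective gbar
  have hgξ : g ∉ y.asIdeal.comap (algebraMap R S) := by
    intro h
    apply hg0
    change Ideal.Quotient.mk _ g ∈ Ideal.comap φ ⊥
    rw [Ideal.comap_bot_of_injective φ hφinj, Ideal.mem_bot, Ideal.Quotient.eq_zero_iff_mem]
    exact h
  refine ⟨PrimeSpectrum.basicOpen g, (PrimeSpectrum.basicOpen g).isOpen, ?_, ?_⟩
  · apply closure_mono
    rw [Set.singleton_subset_iff]
    exact ⟨hgξ, subset_closure (Set.mem_singleton _)⟩
  · rintro p ⟨hpg, hpξ⟩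
    rw [PrimeSpectrum.closure_singleton, PrimeSpectrum.mem_zeroLocus] at hpξ
    have hp_range : p ∈ Set.range (PrimeSpectrum.comap
        (Ideal.Quotient.mk (y.asIdeal.comap (algebraMap R S)))) := by
      rw [range_comap_of_surjective _ _ Ideal.Quotient.mk_surjective, Ideal.mk_ker,
        PrimeSpectrum.mem_zeroLocus]
      exact hpξ
    obtain ⟨pbar, rfl⟩ := hp_range
    have hgp : Ideal.Quotient.mk _ g ∉ pbar.asIdeal := hpg
    obtain ⟨Q, hQ⟩ := hgim pbar hgp
    let ψ : S →+* Localization.Away (Ideal.Quotient.mk y.asIdeal C.f) :=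
      (algebraMap (S ⧸ y.asIdeal) _).comp (Ideal.Quotient.mk y.asIdeal)
    refine ⟨PrimeSpectrum.comap ψ Q, hCE ⟨?_, ?_⟩, ?_⟩
    · rw [PrimeSpectrum.mem_zeroLocus]
      intro x hx
      have hxy : x ∈ y.asIdeal := hyg hx
      change ψ x ∈ Q.asIdeal
      have h0 : ψ x = 0 := by
        change algebraMap _ _ (Ideal.Quotient.mk y.asIdeal x) = 0
        rw [Ideal.Quotient.eq_zero_iff_mem.mpr hxy, map_zero]
      rw [h0]; exact Q.asIdeal.zero_mem
    · rw [PrimeSpectrum.mem_zeroLocus, Set.singleton_subset_iff]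
      intro h
      have h' : ψ C.f ∈ Q.asIdeal := h
      have hu : IsUnit (ψ C.f) :=
        IsLocalization.Away.algebraMap_isUnit (Ideal.Quotient.mk y.asIdeal C.f)
      exact Q.isPrime.ne_top (Ideal.eq_top_of_isUnit_mem _ h' hu)
    · rw [← hQ]
      apply PrimeSpectrum.ext
      change Ideal.comap (algebraMap R S) (Ideal.comap ψ Q.asIdeal) =
        Ideal.comap (Ideal.Quotient.mk _) (Ideal.comap φ Q.asIdeal)
      rw [Ideal.comap_comap, Ideal.comap_comap]
      rfl

end Groth.Agent.S9651
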