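import Groth.Statements.S9652
import Mathlib.RingTheory.Spectrum.Prime.ConstructibleSet
import Mathlib.RingTheory.Spectrum.Prime.Jacobson
import Mathlib.RingTheory.Jacobson.Ring
import Mathlib.Tactic

set_option autoImplicit false
universe u
open CAlg

namespace Groth.Agent.S9652

section Aux

theorem exists_max {S : Type u} [CommRing S] [IsJacobsonRing S] (y : Ideal S) [hy : y.IsPrime]
    (s : S) (hs : s ∉ y) : ∃ m : Ideal S, m.IsMaximal ∧ y ≤ m ∧ s ∉ m := by
  by_contra h
  push_neg at h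
  apply hs
  have hyj : y.jacobson = y := IsJacobsonRing.out inferInstance hy.isRadical
  rw [← hyj, Ideal.jacobson, Ideal.mem_sInf]
  rintro m ⟨hym, hm⟩
  exact h m hm hym

theorem comap_isMaximal {R S : Type u} [CommRing R] [CommRing S] [Algebra R S] [IsJacobsonRing R]
    [Algebra.FiniteType R S] (y : Ideal S) [hy : y.IsMaximal] :
    (y.comap (algebraMap R S)).IsMaximal := by
  let _ : Field (S ⧸ y) := Ideal.Quotient.field y
  have hft : Algebra.FiniteType R (S ⧸ y) :=
    Algebra.FiniteType.of_surjective (Ideal.Quotient.mkₐ R y) (Ideal.Quotient.mkₐ_surjective R y)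
  have hfin : Module.Finite R (S ⧸ y) := finite_of_finite_type_of_isJacobsonRing R (S ⧸ y)
  have hint : Algebra.IsIntegral R (S ⧸ y) := Algebra.IsIntegral.of_finite R _
  have h := Ideal.isMaximal_comap_of_isIntegral_of_isMaximal (R := R) (⊥ : Ideal (S ⧸ y))
  convert h using 1
  ext r
  rw [Ideal.mem_comap, Ideal.mem_comap, Ideal.mem_bot, IsScalarTower.algebraMap_apply R S (S ⧸ y),
    Ideal.Quotient.algebraMap_eq, Ideal.Quotient.eq_zero_iff_mem]

theorem mem_closure_singleton_iff {S : Type u} [CommRing S] (x p : PrimeSpectrum S) :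
    p ∈ closure ({x} : Set (PrimeSpectrum S)) ↔ x.asIdeal ≤ p.asIdeal := by
  rw [PrimeSpectrum.closure_singleton, PrimeSpectrum.mem_zeroLocus]
  exact Iff.rfl

/-- Any point of a constructible subset of the spectrum of a Jacobson ring specialises to a
closed point inside the subset. -/
theorem exists_max_in {S : Type u} [CommRing S] [IsJacobsonRing S] (E : Set (PrimeSpectrum S))
    (hE : Topology.IsConstructible E) (y : PrimeSpectrum S) (hyE : y ∈ E) :
    ∃ m : PrimeSpectrum S, m ∈ E ∧ m.asIdeal.IsMaximal ∧ y.asIdeal ≤ m.asIdeal := by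
  classical
  obtain ⟨D, hD⟩ := PrimeSpectrum.exists_constructibleSetData_iff.mpr hE
  have hyD : y ∈ D.toSet := by rw [hD]; exact hyE
  simp only [PrimeSpectrum.ConstructibleSetData.toSet, Set.mem_iUnion] at hyD
  obtain ⟨C, hCD, hyC⟩ := hyD
  have hCE : C.toSet ⊆ E := by
    rw [← hD]
    exact Set.subset_biUnion_of_mem
      (u := fun C : PrimeSpectrum.BasicConstructibleSetData S => C.toSet) hCD
  obtain ⟨hyg, hyf⟩ := hyC
  have hf : C.f ∉ y.asIdeal := by
    intro h
    apply hyf
    rw [PrimeSpectrum.mem_zeroLocus, Set.singleton_subset_iff]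
    exact h
  rw [PrimeSpectrum.mem_zeroLocus] at hyg
  obtain ⟨m, hm, hym, hfm⟩ := exists_max y.asIdeal C.f hf
  refine ⟨⟨m, hm.isPrime⟩, hCE ⟨?_, ?_⟩, hm, hym⟩
  · rw [PrimeSpectrum.mem_zeroLocus]
    exact hyg.trans hym
  · rw [PrimeSpectrum.mem_zeroLocus, Set.singleton_subset_iff]
    exact hfm

theorem isMaximal_of_closed_in {S : Type u} [CommRing S] [IsJacobsonRing S]
    (E : Set (PrimeSpectrum S)) (hE : Topology.IsConstructible E) (y : PrimeSpectrum S)
    (hyE : y ∈ E) (hcl : closure {y} ∩ E = {y}) : y.asIdeal.IsMaximal := by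
  obtain ⟨m, hmE, hm, hym⟩ := exists_max_in E hE y hyE
  have hmem : m ∈ closure {y} ∩ E := ⟨(mem_closure_singleton_iff y m).mpr hym, hmE⟩
  rw [hcl, Set.mem_singleton_iff] at hmem
  rw [← hmem]; exact hm

theorem closed_in_of_isMaximal {S : Type u} [CommRing S]
    (E : Set (PrimeSpectrum S)) (y : PrimeSpectrum S)
    (hyE : y ∈ E) (hm : y.asIdeal.IsMaximal) : closure {y} ∩ E = {y} := by
  have hc : IsClosed ({y} : Set (PrimeSpectrum S)) :=
    (PrimeSpectrum.isClosed_singleton_iff_isMaximal y).mpr hm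
  rw [hc.closure_eq]
  exact Set.inter_eq_left.mpr (Set.singleton_subset_iff.mpr hyE)

theorem part2 {R S : Type u} [CommRing R] [CommRing S] [Algebra R S] [IsJacobsonRing R]
    [IsJacobsonRing S] [Algebra.FiniteType R S]
    (E : Set (PrimeSpectrum S)) (hE : Topology.IsConstructible E) :
    PrimeSpectrum.comap (algebraMap R S) '' {y | y ∈ E ∧ closure {y} ∩ E = {y}} =
        {x | IsClosed ({x} : Set (PrimeSpectrum R))} ∩ PrimeSpectrum.comap (algebraMap R S) '' E := by
  ext x
  constructor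
  · rintro ⟨y, ⟨hyE, hycl⟩, rfl⟩
    have hym : y.asIdeal.IsMaximal := isMaximal_of_closed_in E hE y hyE hycl
    refine ⟨?_, ⟨y, hyE, rfl⟩⟩
    change IsClosed _
    rw [PrimeSpectrum.isClosed_singleton_iff_isMaximal]
    exact comap_isMaximal (R := R) y.asIdeal
  · rintro ⟨hxcl, y₀, hy₀E, rfl⟩
    obtain ⟨m, hmE, hm, hym⟩ := exists_max_in E hE y₀ hy₀E
    refine ⟨m, ⟨hmE, closed_in_of_isMaximal E m hmE hm⟩, ?_⟩
    have hxm : (PrimeSpectrum.comap (algebraMap R S) y₀).asIdeal.IsMaximal :=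
      (PrimeSpectrum.isClosed_singleton_iff_isMaximal _).mp hxcl
    apply PrimeSpectrum.ext
    symm
    exact hxm.eq_of_le (PrimeSpectrum.comap (algebraMap R S) m).isPrime.ne_top
      (Ideal.comap_mono hym)

end Aux

/-- Let R and S be Jacobson rings, R → S a ring map of finite type with induced map f : Spec(S) →
Spec(R), and E ⊆ Spec(S) a constructible subset. Writing T₀ for the set of points of a subspace T
which are closed in T, one has f(E)₀ = f(E₀) = (Spec R)₀ ∩ f(E). -/
theorem result {R S : Type u} [CommRing R] [CommRing S] [Algebra R S] [IsJacobsonRing R] [IsJacobsonRing S] [Algebra.FiniteType R S]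
    (E : Set (PrimeSpectrum S)) (hE : Topology.IsConstructible E) :
    {x | x ∈ PrimeSpectrum.comap (algebraMap R S) '' E ∧ closure {x} ∩ PrimeSpectrum.comap (algebraMap R S) '' E = {x}} =
        PrimeSpectrum.comap (algebraMap R S) '' {y | y ∈ E ∧ closure {y} ∩ E = {y}} ∧
      PrimeSpectrum.comap (algebraMap R S) '' {y | y ∈ E ∧ closure {y} ∩ E = {y}} =
        {x | IsClosed ({x} : Set (PrimeSpectrum R))} ∩ PrimeSpectrum.comap (algebraMap R S) '' E := by
  refine ⟨?_, part2 E hE⟩
  ext x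
  constructor
  · rintro ⟨⟨y₀, hy₀E, rfl⟩, hcl⟩
    obtain ⟨m, hmE, hm, hym⟩ := exists_max_in E hE y₀ hy₀E
    refine ⟨m, ⟨hmE, closed_in_of_isMaximal E m hmE hm⟩, ?_⟩
    have hmem : PrimeSpectrum.comap (algebraMap R S) m ∈
        closure {PrimeSpectrum.comap (algebraMap R S) y₀} ∩
          PrimeSpectrum.comap (algebraMap R S) '' E :=
      ⟨(mem_closure_singleton_iff _ _).mpr (Ideal.comap_mono hym), ⟨m, hmE, rfl⟩⟩
    rw [hcl, Set.mem_singleton_iff] at hmem
    exact hmem
  · rintro ⟨y, ⟨hyE, hycl⟩, rfl⟩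
    have hym : y.asIdeal.IsMaximal := isMaximal_of_closed_in E hE y hyE hycl
    have hxm : (PrimeSpectrum.comap (algebraMap R S) y).asIdeal.IsMaximal :=
      comap_isMaximal (R := R) y.asIdeal
    exact ⟨⟨y, hyE, rfl⟩, closed_in_of_isMaximal _ _ ⟨y, hyE, rfl⟩ hxm⟩

end Groth.Agent.S9652
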