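import Groth.Statements.S9653
import Groth.Agent.S9651
import Groth.Agent.S9652

set_option autoImplicit false
universe u
open CAlg

namespace Groth.Agent.S9653

section Aux

open Groth.Agent.S9652 in
/-- If `ξ` is not in the image of a basic piece, some `h ∉ ξ` vanishes on all image points of the
piece lying in the closure of `ξ`. -/
theorem exists_sep {R S : Type u} [CommRing R] [CommRing S] [Algebra R S]
    (C : PrimeSpectrum.BasicConstructibleSetData S) (ξ : PrimeSpectrum R)
    (hξ : ξ ∉ PrimeSpectrum.comap (algebraMap R S) '' C.toSet) :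
    ∃ h : R, h ∉ ξ.asIdeal ∧ ∀ y' ∈ C.toSet,
      ξ.asIdeal ≤ (PrimeSpectrum.comap (algebraMap R S) y').asIdeal →
      h ∈ (PrimeSpectrum.comap (algebraMap R S) y').asIdeal := by
  classical
  let I : Ideal S := Ideal.span (Set.range C.g) ⊔ ξ.asIdeal.map (algebraMap R S)
  let M : Submonoid S := Submonoid.map (algebraMap R S) ξ.asIdeal.primeCompl ⊔ Submonoid.powers C.f
  by_cases hdisj : Disjoint (I : Set S) (M : Set S)
  · exfalso
    obtain ⟨y', hy'prime, hIy', hy'M⟩ := Ideal.exists_le_prime_disjoint I M hdisj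
    rw [Set.disjoint_left] at hy'M
    apply hξ
    refine ⟨⟨y', hy'prime⟩, ⟨?_, ?_⟩, ?_⟩
    · rw [PrimeSpectrum.mem_zeroLocus]
      intro x hx
      exact hIy' (Ideal.mem_sup_left (Ideal.subset_span hx))
    · rw [PrimeSpectrum.mem_zeroLocus, Set.singleton_subset_iff]
      intro hf
      exact hy'M hf (Submonoid.mem_sup_right (Submonoid.mem_powers C.f))
    · apply PrimeSpectrum.ext
      apply le_antisymm
      · intro r hr
        by_contra hrξ
        have hrM : algebraMap R S r ∈ M :=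
          Submonoid.mem_sup_left (Submonoid.mem_map_of_mem (algebraMap R S) hrξ)
        exact hy'M hr hrM
      · intro r hr
        exact hIy' (Ideal.mem_sup_right (Ideal.mem_map_of_mem _ hr))
  · rw [Set.not_disjoint_iff] at hdisj
    obtain ⟨x, hxI, hxM⟩ := hdisj
    obtain ⟨a, ha, b, hb, rfl⟩ := Submonoid.mem_sup.mp hxM
    obtain ⟨h, hh, rfl⟩ := ha
    obtain ⟨N, rfl⟩ := hb
    refine ⟨h, hh, ?_⟩
    rintro y' ⟨hy'g, hy'f⟩ hξy'
    rw [PrimeSpectrum.mem_zeroLocus] at hy'g
    have hf : C.f ∉ y'.asIdeal := by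
      intro hf
      apply hy'f
      rw [PrimeSpectrum.mem_zeroLocus, Set.singleton_subset_iff]
      exact hf
    have hIy' : I ≤ y'.asIdeal := by
      apply sup_le
      · exact Ideal.span_le.mpr hy'g
      · exact Ideal.map_le_iff_le_comap.mpr hξy'
    have hmem : algebraMap R S h * C.f ^ N ∈ y'.asIdeal := hIy' hxI
    rcases y'.isPrime.mem_or_mem hmem with h1 | h1
    · exact h1
    · exact absurd (y'.isPrime.mem_of_pow_mem N h1) hf

end Aux

/-- Let R and S be Jacobson rings, R → S a ring map of finite type with induced map f : Spec(S) →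
Spec(R), E ⊆ Spec(S) constructible and E₀ the set of points of E closed in E. Then a point ξ of
Spec(R) lies in f(E) if and only if cl{ξ} ∩ f(E₀) is dense in the closure cl{ξ}. -/
theorem result {R S : Type u} [CommRing R] [CommRing S] [Algebra R S] [IsJacobsonRing R] [IsJacobsonRing S] [Algebra.FiniteType R S]
    (E : Set (PrimeSpectrum S)) (hE : Topology.IsConstructible E) (ξ : PrimeSpectrum R) :
    ξ ∈ PrimeSpectrum.comap (algebraMap R S) '' E ↔
      closure ({ξ} : Set (PrimeSpectrum R)) ⊆ closure (closure {ξ} ∩ PrimeSpectrum.comap (algebraMap R S) '' {y | y ∈ E ∧ closure {y} ∩ E = {y}}) := by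
  classical
  constructor
  · intro hξ
    obtain ⟨U, hUo, hUd, hUsub⟩ := Groth.Agent.S9651.result E hE ξ hξ
    have hclosed : IsClosed (closure (closure ({ξ} : Set (PrimeSpectrum R)) ∩
        PrimeSpectrum.comap (algebraMap R S) '' {y | y ∈ E ∧ closure {y} ∩ E = {y}})) :=
      isClosed_closure
    refine hclosed.closure_subset_iff.mpr ?_
    rw [Set.singleton_subset_iff, mem_closure_iff]
    intro W hWo hξW
    -- ξ ∈ U
    have hξU : ξ ∈ U := by
      have h1 : ξ ∈ closure (U ∩ closure ({ξ} : Set (PrimeSpectrum R))) :=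
        hUd (subset_closure (Set.mem_singleton ξ))
      obtain ⟨p, -, hpU, hpξ⟩ := mem_closure_iff.mp h1 Set.univ isOpen_univ (Set.mem_univ _)
      exact (specializes_iff_mem_closure.mpr hpξ).mem_open hUo hpU
    obtain ⟨_, ⟨h, rfl⟩, hξh, hsub⟩ :=
      (PrimeSpectrum.isTopologicalBasis_basic_opens (R := R)).exists_subset_of_mem_open
        (⟨hξU, hξW⟩ : ξ ∈ U ∩ W) (hUo.inter hWo)
    have hξh' : h ∉ ξ.asIdeal := hξh
    obtain ⟨m, hm, hξm, hhm⟩ := Groth.Agent.S9652.exists_max ξ.asIdeal h hξh'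
    have hmUW : (⟨m, hm.isPrime⟩ : PrimeSpectrum R) ∈ U ∩ W := hsub hhm
    have hmcl : (⟨m, hm.isPrime⟩ : PrimeSpectrum R) ∈ closure ({ξ} : Set (PrimeSpectrum R)) :=
      (Groth.Agent.S9652.mem_closure_singleton_iff ξ _).mpr hξm
    have hmE : (⟨m, hm.isPrime⟩ : PrimeSpectrum R) ∈ PrimeSpectrum.comap (algebraMap R S) '' E :=
      hUsub ⟨hmUW.1, hmcl⟩
    have hmclosed : IsClosed ({⟨m, hm.isPrime⟩} : Set (PrimeSpectrum R)) :=
      (PrimeSpectrum.isClosed_singleton_iff_isMaximal _).mpr hm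
    have hmE₀ : (⟨m, hm.isPrime⟩ : PrimeSpectrum R) ∈ PrimeSpectrum.comap (algebraMap R S) ''
        {y | y ∈ E ∧ closure {y} ∩ E = {y}} := by
      rw [Groth.Agent.S9652.part2 E hE]
      exact ⟨hmclosed, hmE⟩
    exact ⟨_, hmUW.2, hmcl, hmE₀⟩
  · intro hd
    by_contra hξ
    obtain ⟨D, hD⟩ := PrimeSpectrum.exists_constructibleSetData_iff.mpr hE
    have hsep : ∀ C : PrimeSpectrum.BasicConstructibleSetData S, C ∈ D →
        ∃ h : R, h ∉ ξ.asIdeal ∧ ∀ y' ∈ C.toSet,
          ξ.asIdeal ≤ (PrimeSpectrum.comap (algebraMap R S) y').asIdeal →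
          h ∈ (PrimeSpectrum.comap (algebraMap R S) y').asIdeal := by
      intro C hCD
      apply exists_sep C ξ
      rintro ⟨y', hy'C, hy'ξ⟩
      apply hξ
      refine ⟨y', ?_, hy'ξ⟩
      rw [← hD]
      exact Set.subset_biUnion_of_mem
        (u := fun C : PrimeSpectrum.BasicConstructibleSetData S => C.toSet) hCD hy'C
    choose! hfun hfun1 hfun2 using hsep
    have hprod : (∏ C ∈ D, hfun C) ∉ ξ.asIdeal := by
      intro hmem
      obtain ⟨C, hCD, hC⟩ := (Ideal.IsPrime.prod_mem_iff (hp := ξ.isPrime)).mp hmem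
      exact hfun1 C hCD hC
    have hT : closure ({ξ} : Set (PrimeSpectrum R)) ∩ PrimeSpectrum.comap (algebraMap R S) ''
        {y | y ∈ E ∧ closure {y} ∩ E = {y}} ⊆ PrimeSpectrum.zeroLocus {∏ C ∈ D, hfun C} := by
      rintro x ⟨hxcl, y', ⟨hy'E, -⟩, rfl⟩
      rw [Groth.Agent.S9652.mem_closure_singleton_iff] at hxcl
      have hy'D : y' ∈ D.toSet := by rw [hD]; exact hy'E
      simp only [PrimeSpectrum.ConstructibleSetData.toSet, Set.mem_iUnion] at hy'D
      obtain ⟨C, hCD, hy'C⟩ := hy'D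
      rw [PrimeSpectrum.mem_zeroLocus, Set.singleton_subset_iff]
      exact Ideal.mem_of_dvd _ (Finset.dvd_prod_of_mem _ hCD) (hfun2 C hCD y' hy'C hxcl)
    have hξmem : ξ ∈ PrimeSpectrum.zeroLocus ({∏ C ∈ D, hfun C} : Set R) :=
      (closure_minimal hT (PrimeSpectrum.isClosed_zeroLocus _))
        (hd (subset_closure (Set.mem_singleton ξ)))
    rw [PrimeSpectrum.mem_zeroLocus, Set.singleton_subset_iff] at hξmem
    exact hprod hξmem

end Groth.Agent.S9653
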