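import Groth.Statements.S9654
import Mathlib
-- import your own Groth.Agent.* helpers here

set_option autoImplicit false
universe u
open CAlg

namespace Groth.Agent.S9654

open Polynomial in
theorem isIntegral_of_mem_adjoin_inv {R A : Type*} [CommRing R] [CommRing A] [Algebra R A]
    (a b : A) (hab : a * b = 1) (z : A) (hza : z ∈ Algebra.adjoin R {a})
    (hzb : z ∈ Algebra.adjoin R {b}) : IsIntegral R z := by
  classical
  rw [Algebra.adjoin_singleton_eq_range_aeval] at hza hzb
  obtain ⟨p, hp⟩ := hza
  obtain ⟨q, hq⟩ := hzb
  have hp' : z = ∑ j ∈ Finset.range (p.natDegree + 1), p.coeff j • a ^ j := by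
    rw [← hp]; exact Polynomial.aeval_eq_sum_range a
  have hq' : z = ∑ j ∈ Finset.range (q.natDegree + 1), q.coeff j • b ^ j := by
    rw [← hq]; exact Polynomial.aeval_eq_sum_range b
  set n := p.natDegree + 1 with hn
  set m := q.natDegree + 1 with hm
  set M : Submodule R A := Submodule.span R (Set.range fun i : Fin (n + m) => a ^ (i : ℕ)) with hM
  have hpow : ∀ i, i < n + m → a ^ i ∈ M := fun i hi =>
    Submodule.subset_span ⟨⟨i, hi⟩, rfl⟩
  have hM1 : (1 : A) ∈ M := by
    have := hpow 0 (by omega)
    rwa [pow_zero] at this
  have hstab : ∀ w ∈ M, (LinearMap.mulLeft R z) w ∈ M := by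
    intro w hw
    change z * w ∈ M
    refine Submodule.span_induction ?_ ?_ ?_ ?_ hw
    · rintro _ ⟨⟨i, hi⟩, rfl⟩
      change z * a ^ i ∈ M
      by_cases him : i < m
      · rw [hp', Finset.sum_mul]
        refine Submodule.sum_mem _ fun j hj => ?_
        rw [Finset.mem_range] at hj
        rw [smul_mul_assoc, ← pow_add]
        exact Submodule.smul_mem _ _ (hpow _ (by omega))
      · rw [hq', Finset.sum_mul]
        refine Submodule.sum_mem _ fun j hj => ?_
        rw [Finset.mem_range] at hj
        rw [smul_mul_assoc]
        have : b ^ j * a ^ i = a ^ (i - j) := by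
          have e1 : i = (i - j) + j := by omega
          conv_lhs => rw [e1, pow_add]
          rw [mul_comm, mul_assoc, ← mul_pow, hab, one_pow, mul_one]
        rw [this]
        exact Submodule.smul_mem _ _ (hpow _ (by omega))
    · rw [mul_zero]; exact Submodule.zero_mem _
    · intro u v _ _ hu hv
      rw [mul_add]; exact Submodule.add_mem _ hu hv
    · intro r u _ hu
      rw [mul_smul_comm]; exact Submodule.smul_mem _ _ hu
  haveI : Module.Finite R M := Module.Finite.span_of_finite R (Set.finite_range _)
  set f : M →ₗ[R] M := (LinearMap.mulLeft R z).restrict hstab with hf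
  have hfapp : ∀ w : M, ((f w : M) : A) = z * (w : A) := fun w => rfl
  have hfpow : ∀ (k : ℕ) (w : M), (((f ^ k) w : M) : A) = z ^ k * (w : A) := by
    intro k
    induction k with
    | zero => intro w; rw [pow_zero, pow_zero, one_mul]; rfl
    | succ k ih =>
      intro w
      rw [pow_succ, Module.End.mul_apply, ih, hfapp, pow_succ, mul_assoc]
  haveI hEnd : Algebra.IsIntegral R (Module.End R M) := Module.End.isIntegral
  have hfint : IsIntegral R (f : Module.End R M) := hEnd.isIntegral f
  obtain ⟨P, hPmonic, hP⟩ := hfint
  have key : ∀ Q : R[X], ∀ w : M,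
      (((Polynomial.eval₂ (algebraMap R (Module.End R M)) f Q) w : M) : A)
        = (Polynomial.aeval z Q) * (w : A) := by
    intro Q
    induction Q using Polynomial.induction_on' with
    | add Q1 Q2 h1 h2 =>
      intro w
      rw [Polynomial.eval₂_add, LinearMap.add_apply, Submodule.coe_add, h1, h2, map_add, add_mul]
    | monomial k r =>
      intro w
      rw [Polynomial.eval₂_monomial, Module.End.mul_apply, Module.algebraMap_end_apply,
        Submodule.coe_smul, hfpow, Polynomial.aeval_monomial, Algebra.smul_def, mul_assoc]
  refine ⟨P, hPmonic, ?_⟩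
  have h1 := key P ⟨1, hM1⟩
  rw [hP] at h1
  change (0 : A) = _ at h1
  rw [mul_one] at h1
  rw [← Polynomial.aeval_def]
  exact h1.symm

theorem inf_le_bot_of_inv {R A B : Type*} [CommRing R] [CommRing A] [CommRing B] [Algebra R A]
    [Algebra R B] (φ : B →ₐ[R] A) (hφ : Function.Injective φ) (hB : IsIntegrallyClosedIn R B)
    (a b : A) (hab : a * b = 1) (hb : b ∈ φ.range) :
    (Algebra.adjoin R {a}).toSubmodule ⊓ (Algebra.adjoin R {b}).toSubmodule ≤
      (⊥ : Subalgebra R A).toSubmodule := by
  intro z hz
  obtain ⟨hza, hzb⟩ := hz
  have hza' : z ∈ Algebra.adjoin R {a} := hza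
  have hzb' : z ∈ Algebra.adjoin R {b} := hzb
  have hint := isIntegral_of_mem_adjoin_inv a b hab z hza' hzb'
  have hle : Algebra.adjoin R {b} ≤ φ.range :=
    Algebra.adjoin_le (Set.singleton_subset_iff.mpr hb)
  obtain ⟨z', rfl⟩ := hle hzb'
  have hint' : IsIntegral R z' := (isIntegral_algHom_iff φ hφ).mp hint
  obtain ⟨y, rfl⟩ := (isIntegrallyClosedIn_iff.mp hB).2 hint'
  change φ (algebraMap R B y) ∈ (⊥ : Subalgebra R A)
  rw [AlgHom.commutes]
  exact Subalgebra.algebraMap_mem _ _

theorem sup_eq_of_inv {R A : Type*} [CommRing R] [CommRing A] [Algebra R A]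
    (a b : A) (hab : a * b = 1) :
    (Algebra.adjoin R {a}).toSubmodule ⊔ (Algebra.adjoin R {b}).toSubmodule =
      (Algebra.adjoin R {a, b}).toSubmodule := by
  apply le_antisymm
  · refine sup_le ?_ ?_
    · intro w hw
      exact Algebra.adjoin_mono (by simp) (show w ∈ Algebra.adjoin R {a} from hw)
    · intro w hw
      exact Algebra.adjoin_mono (by simp) (show w ∈ Algebra.adjoin R {b} from hw)
  · rw [Algebra.adjoin_eq_span, Submodule.span_le]
    intro w hw
    obtain ⟨i, j, rfl⟩ := (Submonoid.mem_closure_pair a b w).mp hw
    by_cases hij : j ≤ i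
    · have : a ^ i * b ^ j = a ^ (i - j) := by
        have e1 : i = (i - j) + j := by omega
        conv_lhs => rw [e1, pow_add]
        rw [mul_assoc, ← mul_pow, hab, one_pow, mul_one]
      rw [this]
      refine Submodule.mem_sup_left ?_
      exact Subalgebra.pow_mem _ (Algebra.subset_adjoin (Set.mem_singleton a)) _
    · have : a ^ i * b ^ j = b ^ (j - i) := by
        have e1 : j = (j - i) + i := by omega
        conv_lhs => rw [e1, pow_add]
        rw [mul_comm, mul_assoc, ← mul_pow, mul_comm b a, hab, one_pow, mul_one]
      rw [this]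
      refine Submodule.mem_sup_right ?_
      exact Subalgebra.pow_mem _ (Algebra.subset_adjoin (Set.mem_singleton b)) _

theorem exists_phi {R : Type*} [CommRing R] (s c t : R) (h : t = s * c)
    (ht : t ∈ nonZeroDivisors R) :
    ∃ φ : Localization.Away s →ₐ[R] Localization.Away t, Function.Injective φ ∧
      algebraMap R (Localization.Away t) (c * c) * IsLocalization.Away.invSelf t ∈ φ.range := by
  have hs : s ∈ nonZeroDivisors R := by
    rw [h] at ht
    exact (mul_mem_nonZeroDivisors.mp ht).1
  have hunit_s : IsUnit (algebraMap R (Localization.Away t) s) := by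
    have h1 : algebraMap R (Localization.Away t) s *
        (algebraMap R (Localization.Away t) c * IsLocalization.Away.invSelf t) = 1 := by
      rw [← mul_assoc, ← map_mul, ← h]
      exact IsLocalization.Away.mul_invSelf t
    exact IsUnit.of_mul_eq_one _ h1
  have hunits : ∀ u : Submonoid.powers s,
      IsUnit ((Algebra.ofId R (Localization.Away t)) (u : R)) := by
    rintro ⟨_, k, rfl⟩
    change IsUnit (algebraMap R (Localization.Away t) (s ^ k))
    rw [map_pow]
    exact hunit_s.pow k
  let φ : Localization.Away s →ₐ[R] Localization.Away t :=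
    IsLocalization.liftAlgHom (M := Submonoid.powers s) (f := Algebra.ofId R (Localization.Away t))
      hunits
  have hinj_s : Function.Injective (algebraMap R (Localization.Away s)) :=
    IsLocalization.injective (Localization.Away s) (Submonoid.powers_le.mpr hs)
  have hinj_t : Function.Injective (algebraMap R (Localization.Away t)) :=
    IsLocalization.injective (Localization.Away t) (Submonoid.powers_le.mpr ht)
  refine ⟨φ, ?_, ?_⟩
  · change Function.Injective (IsLocalization.lift hunits)
    rw [IsLocalization.lift_injective_iff]
    intro u v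
    constructor
    · intro huv
      rw [hinj_s huv]
    · intro huv
      have : algebraMap R (Localization.Away t) u = algebraMap R (Localization.Away t) v := huv
      rw [hinj_t this]
  · refine ⟨algebraMap R (Localization.Away s) c * IsLocalization.Away.invSelf s, ?_⟩
    have hφinv : φ (IsLocalization.Away.invSelf s) =
        algebraMap R (Localization.Away t) c * IsLocalization.Away.invSelf t := by
      have h1 : algebraMap R (Localization.Away t) s * φ (IsLocalization.Away.invSelf s) = 1 := by
        rw [← AlgHom.commutes φ s, ← map_mul, IsLocalization.Away.mul_invSelf, map_one]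
      have h2 : algebraMap R (Localization.Away t) s *
          (algebraMap R (Localization.Away t) c * IsLocalization.Away.invSelf t) = 1 := by
        rw [← mul_assoc, ← map_mul, ← h]
        exact IsLocalization.Away.mul_invSelf t
      exact hunit_s.mul_left_cancel (h1.trans h2.symm)
    change φ (algebraMap R (Localization.Away s) c * IsLocalization.Away.invSelf s) = _
    rw [map_mul, AlgHom.commutes, hφinv, ← mul_assoc, ← map_mul]


/-- Let R be a ring and x, y ∈ R nonzerodivisors. In the localization R_{xy} let a = x/y and b = y/x,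
and let R[a], R[b], R[a, b] be the R-subalgebras they generate. If R is integrally closed in R_x or
in R_y, then the sequence 0 → R → R[a] ⊕ R[b] → R[a, b] → 0 (difference map, then sum map) is short
exact; equivalently R[a] ∩ R[b] is the image of R and R[a] + R[b] = R[a, b] inside R_{xy}. -/
theorem result {R : Type u} [CommRing R] (x y : R) (hx : x ∈ nonZeroDivisors R) (hy : y ∈ nonZeroDivisors R)
    (hint : IsIntegrallyClosedIn R (Localization.Away x) ∨ IsIntegrallyClosedIn R (Localization.Away y)) :
    (Algebra.adjoin R {algebraMap R (Localization.Away (x * y)) (x * x) * IsLocalization.Away.invSelf (x * y)}).toSubmodule ⊓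
        (Algebra.adjoin R {algebraMap R (Localization.Away (x * y)) (y * y) * IsLocalization.Away.invSelf (x * y)}).toSubmodule =
        (⊥ : Subalgebra R (Localization.Away (x * y))).toSubmodule ∧
      (Algebra.adjoin R {algebraMap R (Localization.Away (x * y)) (x * x) * IsLocalization.Away.invSelf (x * y)}).toSubmodule ⊔
        (Algebra.adjoin R {algebraMap R (Localization.Away (x * y)) (y * y) * IsLocalization.Away.invSelf (x * y)}).toSubmodule =
        (Algebra.adjoin R {algebraMap R (Localization.Away (x * y)) (x * x) * IsLocalization.Away.invSelf (x * y), algebraMap R (Localization.Away (x * y)) (y * y) * IsLocalization.Away.invSelf (x * y)}).toSubmodule := by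
  classical
  set A := Localization.Away (x * y) with hA
  set a : A := algebraMap R A (x * x) * IsLocalization.Away.invSelf (x * y) with ha
  set b : A := algebraMap R A (y * y) * IsLocalization.Away.invSelf (x * y) with hb
  have hxy : x * y ∈ nonZeroDivisors R := mul_mem hx hy
  have hab : a * b = 1 := by
    have h1 : algebraMap R A (x * y) * IsLocalization.Away.invSelf (x * y) = 1 :=
      IsLocalization.Away.mul_invSelf (x * y)
    have : a * b = (algebraMap R A (x * y) * IsLocalization.Away.invSelf (x * y)) ^ 2 := by
      rw [ha, hb, map_mul, map_mul, map_mul]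
      ring
    rw [this, h1, one_pow]
  refine ⟨?_, sup_eq_of_inv a b hab⟩
  apply le_antisymm
  · rcases hint with hint | hint
    · obtain ⟨φ, hφ, hmem⟩ := exists_phi x y (x * y) rfl hxy
      exact inf_le_bot_of_inv φ hφ hint a b hab hmem
    · obtain ⟨φ, hφ, hmem⟩ := exists_phi y x (x * y) (mul_comm x y) hxy
      have hba : b * a = 1 := by rw [mul_comm]; exact hab
      rw [inf_comm]
      exact inf_le_bot_of_inv φ hφ hint b a hba hmem
  · refine le_inf ?_ ?_
    · intro w hw
      exact (bot_le : (⊥ : Subalgebra R A) ≤ Algebra.adjoin R {a}) hw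
    · intro w hw
      exact (bot_le : (⊥ : Subalgebra R A) ≤ Algebra.adjoin R {b}) hw


end Groth.Agent.S9654
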