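import Groth.Statements.S9655
import Mathlib.RingTheory.EssentialFiniteness
import Mathlib.RingTheory.Valuation.LocalSubring
import Mathlib.RingTheory.Localization.AtPrime.Basic
import Mathlib.RingTheory.LocalRing.ResidueField.Basic
import Mathlib.Tactic

set_option autoImplicit false
universe u
open CAlg

namespace Groth.Agent.S9655

section Aux

theorem ess_change {R S : Type u} [CommRing R] [CommRing S] [Algebra R S]
    (σ : Set S) (A₁ : Subalgebra R S)
    (h1 : ∀ x ∈ σ, ∃ u ∈ A₁, IsUnit u ∧ x * u ∈ A₁)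
    (hσ : ∀ s : S, ∃ t ∈ Algebra.adjoin R σ, IsUnit t ∧ s * t ∈ Algebra.adjoin R σ) :
    ∀ s : S, ∃ t ∈ A₁, IsUnit t ∧ s * t ∈ A₁ := by
  have key : ∀ x ∈ Algebra.adjoin R σ, ∃ u ∈ A₁, IsUnit u ∧ x * u ∈ A₁ := by
    intro x hx
    induction hx using Algebra.adjoin_induction with
    | mem x hx => exact h1 x hx
    | algebraMap r =>
      exact ⟨1, A₁.one_mem, isUnit_one, by rw [mul_one]; exact A₁.algebraMap_mem r⟩
    | add x y _ _ hx hy =>
      obtain ⟨u, hu, huu, hxu⟩ := hx
      obtain ⟨v, hv, hvu, hyv⟩ := hy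
      refine ⟨u * v, A₁.mul_mem hu hv, huu.mul hvu, ?_⟩
      have e : (x + y) * (u * v) = (x * u) * v + (y * v) * u := by ring
      rw [e]
      exact A₁.add_mem (A₁.mul_mem hxu hv) (A₁.mul_mem hyv hu)
    | mul x y _ _ hx hy =>
      obtain ⟨u, hu, huu, hxu⟩ := hx
      obtain ⟨v, hv, hvu, hyv⟩ := hy
      refine ⟨u * v, A₁.mul_mem hu hv, huu.mul hvu, ?_⟩
      have e : (x * y) * (u * v) = (x * u) * (y * v) := by ring
      rw [e]
      exact A₁.mul_mem hxu hyv
  intro s
  obtain ⟨t₀, ht₀, ht₀u, hst₀⟩ := hσ s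
  obtain ⟨u₁, hu₁, hu₁u, h1'⟩ := key t₀ ht₀
  obtain ⟨u₂, hu₂, hu₂u, h2'⟩ := key (s * t₀) hst₀
  refine ⟨t₀ * u₁ * u₂, A₁.mul_mem h1' hu₂, (ht₀u.mul hu₁u).mul hu₂u, ?_⟩
  have e : s * (t₀ * u₁ * u₂) = (s * t₀ * u₂) * u₁ := by ring
  rw [e]
  exact A₁.mul_mem h2' hu₁

end Aux

/-- Let R and S be local rings and R → S a ring map, not necessarily local, that is essentially of
finite type. Then for some n there is a maximal ideal m of the polynomial ring R[x_1, …, x_n] lying
over the maximal ideal of R, together with an R-algebra map φ : R[x_1, …, x_n]_m → S making S a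
localization of the image of φ; thus S arises from R[x_1, …, x_n]_m by passing to a quotient and
then localizing. -/
theorem result {R S : Type u} [CommRing R] [CommRing S] [Algebra R S] [IsLocalRing R] [IsLocalRing S] [Algebra.EssFiniteType R S] :
    ∃ (n : ℕ) (m : Ideal (MvPolynomial (Fin n) R)) (_ : m.IsMaximal), m.under R = IsLocalRing.maximalIdeal R ∧
      ∃ (φ : Localization.AtPrime m →ₐ[R] S) (T : Submonoid φ.range), IsLocalization T S := by
  classical
  obtain ⟨σ, hσ⟩ := (Algebra.essFiniteType_iff R S).mp inferInstance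
  let f : R →+* IsLocalRing.ResidueField S := (IsLocalRing.residue S).comp (algebraMap R S)
  obtain ⟨V, hfV, hloc⟩ := IsLocalRing.exists_factor_valuationRing f
  let mod : S → S := fun s => if IsLocalRing.residue S s ∈ V then s else Ring.inverse s
  have hunit_of : ∀ s, IsLocalRing.residue S s ∉ V → IsUnit s := by
    intro s h
    have hne : IsLocalRing.residue S s ≠ 0 := fun h0 => h (by rw [h0]; exact zero_mem V)
    exact (IsLocalRing.residue_ne_zero_iff_isUnit s).mp hne
  have hmodV : ∀ s, IsLocalRing.residue S (mod s) ∈ V := by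
    intro s
    by_cases h : IsLocalRing.residue S s ∈ V
    · simp only [mod, if_pos h]; exact h
    · simp only [mod, if_neg h]
      have hu : IsUnit s := hunit_of s h
      have hinv : IsLocalRing.residue S (Ring.inverse s) = (IsLocalRing.residue S s)⁻¹ := by
        apply eq_inv_of_mul_eq_one_left
        rw [← map_mul, Ring.inverse_mul_cancel s hu, map_one]
      rw [hinv]
      exact (V.mem_or_inv_mem _).resolve_left h
  let n := σ.card
  let e : σ ≃ Fin n := σ.equivFin
  let gen : Fin n → S := fun i => mod (e.symm i).1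
  let A₁ : Subalgebra R S := Algebra.adjoin R (Set.range gen)
  have hgenA : ∀ i, gen i ∈ A₁ := fun i => Algebra.subset_adjoin ⟨i, rfl⟩
  have h1 : ∀ x ∈ (σ : Set S), ∃ u ∈ A₁, IsUnit u ∧ x * u ∈ A₁ := by
    intro x hx
    have hgx : gen (e ⟨x, Finset.mem_coe.mp hx⟩) = mod x := by
      simp only [gen, Equiv.symm_apply_apply]
    have hmx : mod x ∈ A₁ := hgx ▸ hgenA _
    by_cases h : IsLocalRing.residue S x ∈ V
    · refine ⟨1, A₁.one_mem, isUnit_one, ?_⟩
      rw [mul_one]
      have hm : mod x = x := by simp only [mod, if_pos h]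
      rw [← hm]; exact hmx
    · have hu : IsUnit x := hunit_of x h
      have hm : mod x = Ring.inverse x := by simp only [mod, if_neg h]
      refine ⟨Ring.inverse x, hm ▸ hmx, hu.ringInverse, ?_⟩
      rw [Ring.mul_inverse_cancel x hu]; exact A₁.one_mem
  have hA₁ := ess_change (σ : Set S) A₁ h1 hσ
  let φ₀ : MvPolynomial (Fin n) R →ₐ[R] S := MvPolynomial.aeval gen
  have hA₁range : A₁ = φ₀.range := Algebra.adjoin_range_eq_range_aeval R gen
  letI : IsLocalRing ↥V.toSubring := inferInstanceAs (IsLocalRing ↥V)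
  let fV : R →+* ↥V.toSubring := f.codRestrict V.toSubring hfV
  let ρV : MvPolynomial (Fin n) R →+* ↥V.toSubring :=
    MvPolynomial.eval₂Hom fV (fun i => ⟨IsLocalRing.residue S (gen i), hmodV _⟩)
  have hcompat : ∀ p, ((ρV p : ↥V.toSubring) : IsLocalRing.ResidueField S) =
      IsLocalRing.residue S (φ₀ p) := by
    intro p
    have hh : V.toSubring.subtype.comp ρV =
        (IsLocalRing.residue S).comp (φ₀ : MvPolynomial (Fin n) R →+* S) := by
      apply MvPolynomial.ringHom_ext
      · intro r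
        simp [ρV, fV, φ₀, f]
      · intro i
        simp [ρV, φ₀]
    exact RingHom.congr_fun hh p
  let m₀ : Ideal (MvPolynomial (Fin n) R) :=
    Ideal.comap ρV (IsLocalRing.maximalIdeal ↥V.toSubring)
  have hm₀prime : m₀.IsPrime := Ideal.comap_isPrime ρV _
  have hRm₀ : ∀ r ∈ IsLocalRing.maximalIdeal R,
      (MvPolynomial.C r : MvPolynomial (Fin n) R) ∈ m₀ := by
    intro r hr
    change ρV (MvPolynomial.C r) ∈ IsLocalRing.maximalIdeal _
    have hC : ρV (MvPolynomial.C r) = fV r := by simp [ρV]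
    rw [hC, IsLocalRing.mem_maximalIdeal, mem_nonunits_iff]
    intro hu
    have hr' : ¬ IsUnit r := (IsLocalRing.mem_maximalIdeal r).mp hr
    exact hr' (hloc.map_nonunit r hu)
  have hker : ∀ p, IsLocalRing.residue S (φ₀ p) = 0 → p ∈ m₀ := by
    intro p hp
    change ρV p ∈ IsLocalRing.maximalIdeal _
    have h0 : ρV p = 0 := by
      apply Subtype.ext
      rw [hcompat p, hp]; rfl
    rw [h0]; exact Ideal.zero_mem _
  obtain ⟨m, hm, hm₀m⟩ := Ideal.exists_le_maximal m₀ hm₀prime.ne_top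
  have hunder : m.under R = IsLocalRing.maximalIdeal R := by
    symm
    apply (IsLocalRing.maximalIdeal.isMaximal R).eq_of_le
    · exact Ideal.comap_ne_top _ hm.ne_top
    · intro r hr
      exact hm₀m (hRm₀ r hr)
  haveI := hm
  have hunit : ∀ y : m.primeCompl, IsUnit (φ₀ y) := by
    intro y
    rw [← IsLocalRing.residue_ne_zero_iff_isUnit]
    intro h0
    exact y.2 (hm₀m (hker y.1 h0))
  let φ : Localization.AtPrime m →ₐ[R] S :=
    IsLocalization.liftAlgHom (M := m.primeCompl) (f := φ₀) hunit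
  have hφ : ∀ p, φ (algebraMap _ _ p) = φ₀ p := fun p => IsLocalization.lift_eq _ p
  have hA₁φ : ∀ a ∈ A₁, a ∈ φ.range := by
    intro a ha
    rw [hA₁range] at ha
    obtain ⟨p, rfl⟩ := ha
    exact ⟨algebraMap _ _ p, hφ p⟩
  refine ⟨n, m, hm, hunder, φ, (IsUnit.submonoid S).comap (algebraMap φ.range S), ?_⟩
  rw [isLocalization_iff]
  refine ⟨fun y => (IsUnit.mem_submonoid_iff _).mp y.2, ?_, ?_⟩
  · intro z
    obtain ⟨t, ht, htu, hzt⟩ := hA₁ z
    exact ⟨(⟨z * t, hA₁φ _ hzt⟩, ⟨⟨t, hA₁φ _ ht⟩, (IsUnit.mem_submonoid_iff _).mpr htu⟩), rfl⟩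
  · intro x y hxy
    exact ⟨1, by rw [Subtype.ext hxy]⟩

end Groth.Agent.S9655
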