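import Groth.Statements.S9656
import Mathlib.Algebra.Polynomial.Monic
import Mathlib.Algebra.Polynomial.Eval.Algebra

set_option autoImplicit false
universe u
open CAlg

namespace Groth.Agent.S9656

open Polynomial

theorem eval₂_pi_apply {ι : Type u} {R S : ι → Type u} [∀ i, CommRing (R i)]
    [∀ i, CommRing (S i)] (f : ∀ i, R i →+* S i) (s : ∀ i, S i) (P : (∀ i, R i)[X]) (i : ι) :
    (eval₂ (RingHom.pi fun i => (f i).comp (Pi.evalRingHom R i)) s P) i =
      eval₂ (f i) (s i) (P.map (Pi.evalRingHom R i)) := by
  have h1 : (eval₂ (RingHom.pi fun i => (f i).comp (Pi.evalRingHom R i)) s P) i =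
      Pi.evalRingHom S i (eval₂ (RingHom.pi fun i => (f i).comp (Pi.evalRingHom R i)) s P) := rfl
  rw [h1, hom_eval₂, eval₂_map]
  rfl

/-- Let R_i → S_i be ring maps indexed by a finite type ι, with product map R = Π R_i → S = Π S_i. Then
an element (s_i) of S is integral over R exactly when s_i is integral over R_i for every i; so
integral closure in a finite product is computed factor by factor. -/
theorem result {ι : Type u} [Fintype ι] {R S : ι → Type u} [∀ i, CommRing (R i)] [∀ i, CommRing (S i)] (f : ∀ i, R i →+* S i) (s : ∀ i, S i) :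
    (RingHom.pi fun i => (f i).comp (Pi.evalRingHom R i)).IsIntegralElem s ↔ ∀ i, (f i).IsIntegralElem (s i) := by
  constructor
  · rintro ⟨P, hP, h0⟩ i
    refine ⟨P.map (Pi.evalRingHom R i), hP.map _, ?_⟩
    rw [← eval₂_pi_apply, h0]
    rfl
  · intro h
    choose p hp1 hp2 using h
    let N : ℕ := ∑ i, (p i).natDegree
    let q : ∀ i, (R i)[X] := fun i => p i * X ^ (N - (p i).natDegree)
    have hq1 : ∀ i, (q i).Monic := fun i => (hp1 i).mul (monic_X_pow _)
    have hle : ∀ i, (p i).natDegree ≤ N := fun i =>
      Finset.single_le_sum (f := fun i => (p i).natDegree) (fun _ _ => Nat.zero_le _)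
        (Finset.mem_univ i)
    have hqN : ∀ i, Nontrivial (R i) → (q i).natDegree = N := by
      intro i _
      rw [(hp1 i).natDegree_mul (monic_X_pow _), natDegree_X_pow]
      have := hle i
      omega
    have hq2 : ∀ i, eval₂ (f i) (s i) (q i) = 0 := by
      intro i
      rw [eval₂_mul, hp2 i, zero_mul]
    let T : (∀ i, R i)[X] := ∑ j ∈ Finset.range N, C (fun i => (q i).coeff j) * X ^ j
    have hT : degree T < N := by
      rw [degree_lt_iff_coeff_zero]
      intro m hm
      rw [finsetSum_coeff]
      apply Finset.sum_eq_zero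
      intro j hj
      rw [Finset.mem_range] at hj
      rw [coeff_C_mul, coeff_X_pow, if_neg (by omega), mul_zero]
    refine ⟨X ^ N + T, monic_X_pow_add hT, ?_⟩
    funext i
    rw [eval₂_pi_apply]
    have : (X ^ N + T).map (Pi.evalRingHom R i) = q i := by
      rcases subsingleton_or_nontrivial (R i) with hsub | hnon
      · exact Subsingleton.elim _ _
      · conv_rhs => rw [(hq1 i).as_sum, hqN i hnon]
        simp only [T, Polynomial.map_add, Polynomial.map_pow, map_X, Polynomial.map_sum,
          Polynomial.map_mul, map_C]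
        rfl
    rw [this, hq2 i]
    rfl

end Groth.Agent.S9656
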