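import Groth.Statements.S9658
-- import your own Groth.Agent.* helpers here
import Mathlib.RingTheory.Ideal.Operations
import Mathlib.Algebra.Module.BigOperators

set_option autoImplicit false
universe u
open CAlg

namespace Groth.Agent.S9658

/-- Let R be a ring, f_1, …, f_n ∈ R generating the unit ideal and M an R-module. With M_i = M_{f_i},
M_ij = M_{f_i f_j} (any localizations, with the canonical compatible maps M → M_i → M_ij), the
sequence 0 → M → ⊕ M_i → ⊕ M_ij is exact: an element of M whose image vanishes in every M_i is zero,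
and every family (m_i ∈ M_i) such that m_i and m_j have the same image in M_ij for all i, j is the
image of an element of M. -/
theorem result {R : Type u} [CommRing R] {ι : Type u} [Fintype ι] (f : ι → R) (hf : Ideal.span (Set.range f) = ⊤)
    (M : Type u) [AddCommGroup M] [Module R M]
    (Mi : ι → Type u) [∀ i, AddCommGroup (Mi i)] [∀ i, Module R (Mi i)] (g : ∀ i, M →ₗ[R] Mi i) [∀ i, IsLocalizedModule (Submonoid.powers (f i)) (g i)]
    (Mij : ι → ι → Type u) [∀ i j, AddCommGroup (Mij i j)] [∀ i j, Module R (Mij i j)] (gij : ∀ i j, M →ₗ[R] Mij i j) [∀ i j, IsLocalizedModule (Submonoid.powers (f i * f j)) (gij i j)]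
    (ρ₁ : ∀ i j, Mi i →ₗ[R] Mij i j) (hρ₁ : ∀ i j, ρ₁ i j ∘ₗ g i = gij i j) (ρ₂ : ∀ i j, Mi j →ₗ[R] Mij i j) (hρ₂ : ∀ i j, ρ₂ i j ∘ₗ g j = gij i j) :
    (∀ m : M, (∀ i, g i m = 0) → m = 0) ∧
      ∀ s : ∀ i, Mi i, (∀ i j, ρ₁ i j (s i) = ρ₂ i j (s j)) → ∃ m : M, ∀ i, g i m = s i := by
  classical
  have hspan : ∀ L : ℕ, Ideal.span (Set.range fun i => f i ^ L) = ⊤ := by
    intro L
    have := Ideal.span_pow_eq_top (Set.range f) hf L
    rwa [← Set.range_comp] at this
  have hone : ∀ L : ℕ, ∃ c : ι → R, ∑ i, c i * f i ^ L = 1 := by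
    intro L
    have h1 : (1 : R) ∈ Ideal.span (Set.range fun i => f i ^ L) := by rw [hspan L]; trivial
    exact Ideal.mem_span_range_iff_exists_fun.mp h1
  constructor
  · intro m hm
    have hex : ∀ i, ∃ n : ℕ, f i ^ n • m = 0 := by
      intro i
      obtain ⟨⟨_, n, rfl⟩, hc⟩ :=
        (IsLocalizedModule.eq_zero_iff (Submonoid.powers (f i)) (g i)).mp (hm i)
      exact ⟨n, hc⟩
    choose n hn using hex
    have hN' : ∀ i, f i ^ (Finset.univ.sup n) • m = 0 := by
      intro i
      have hle : n i ≤ Finset.univ.sup n := Finset.le_sup (Finset.mem_univ i)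
      rw [← Nat.sub_add_cancel hle, pow_add, mul_smul, hn i, smul_zero]
    obtain ⟨c, hc⟩ := hone (Finset.univ.sup n)
    calc m = (1 : R) • m := (one_smul R m).symm
      _ = (∑ i, c i * f i ^ (Finset.univ.sup n)) • m := by rw [hc]
      _ = ∑ i, (c i * f i ^ (Finset.univ.sup n)) • m := Finset.sum_smul
      _ = 0 := Finset.sum_eq_zero fun i _ => by rw [mul_smul, hN' i, smul_zero]
  · intro s hs
    have hex : ∀ i, ∃ (a : M) (n : ℕ), f i ^ n • s i = g i a := by
      intro i
      obtain ⟨⟨a, ⟨_, n, rfl⟩⟩, h⟩ :=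
        IsLocalizedModule.surj (Submonoid.powers (f i)) (g i) (s i)
      exact ⟨a, n, h⟩
    choose a₀ n hn using hex
    obtain ⟨N, hN⟩ : ∃ N : ℕ, ∀ i, n i ≤ N :=
      ⟨Finset.univ.sup n, fun i => Finset.le_sup (Finset.mem_univ i)⟩
    obtain ⟨a, ha⟩ : ∃ a : ι → M, ∀ i, f i ^ N • s i = g i (a i) := by
      refine ⟨fun i => f i ^ (N - n i) • a₀ i, fun i => ?_⟩
      rw [map_smul, ← hn i, ← mul_smul, ← pow_add, Nat.sub_add_cancel (hN i)]
    have hcompat : ∀ i j, gij i j (f j ^ N • a i - f i ^ N • a j) = 0 := by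
      intro i j
      have e1 : gij i j (a i) = ρ₁ i j (g i (a i)) := by rw [← hρ₁ i j]; rfl
      have e2 : gij i j (a j) = ρ₂ i j (g j (a j)) := by rw [← hρ₂ i j]; rfl
      rw [map_sub, sub_eq_zero, map_smul, map_smul, e1, e2, ← ha i, ← ha j, map_smul, map_smul,
        hs i j, smul_comm]
    have hex2 : ∀ i j, ∃ k : ℕ, (f i * f j) ^ k • (f j ^ N • a i - f i ^ N • a j) = 0 := by
      intro i j
      obtain ⟨⟨_, k, rfl⟩, hc⟩ :=
        (IsLocalizedModule.eq_zero_iff (Submonoid.powers (f i * f j)) (gij i j)).mp (hcompat i j)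
      exact ⟨k, hc⟩
    choose k hk using hex2
    obtain ⟨K, hK⟩ : ∃ K : ℕ, ∀ i j, k i j ≤ K :=
      ⟨Finset.univ.sup (fun i => Finset.univ.sup (k i)), fun i j =>
        le_trans (Finset.le_sup (f := k i) (Finset.mem_univ j))
          (Finset.le_sup (f := fun i => Finset.univ.sup (k i)) (Finset.mem_univ i))⟩
    have hK' : ∀ i j, (f i * f j) ^ K • (f j ^ N • a i - f i ^ N • a j) = 0 := by
      intro i j
      rw [← Nat.sub_add_cancel (hK i j), pow_add, mul_smul, hk i j, smul_zero]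
    obtain ⟨b, hbdef⟩ : ∃ b : ι → M, ∀ i, b i = f i ^ K • a i := ⟨fun i => f i ^ K • a i, fun _ => rfl⟩
    have hb : ∀ i j, f j ^ (N + K) • b i = f i ^ (N + K) • b j := by
      intro i j
      have := hK' i j
      rw [smul_sub, sub_eq_zero] at this
      rw [hbdef i, hbdef j]
      rw [← mul_smul, ← mul_smul] at this ⊢
      have e1 : f j ^ (N + K) * f i ^ K = (f i * f j) ^ K * f j ^ N := by ring
      have e2 : f i ^ (N + K) * f j ^ K = (f i * f j) ^ K * f i ^ N := by ring
      rw [e1, e2]; exact this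
    have hbs : ∀ i, f i ^ (N + K) • s i = g i (b i) := by
      intro i
      rw [hbdef i, map_smul, ← ha i, ← mul_smul, ← pow_add, add_comm]
    obtain ⟨c, hc⟩ := hone (N + K)
    refine ⟨∑ j, c j • b j, fun i => ?_⟩
    apply IsLocalizedModule.smul_injective (g i)
      (⟨f i ^ (N + K), ⟨N + K, rfl⟩⟩ : Submonoid.powers (f i))
    show f i ^ (N + K) • g i (∑ j, c j • b j) = f i ^ (N + K) • s i
    rw [hbs i, ← map_smul]
    congr 1
    rw [Finset.smul_sum]
    calc ∑ j, f i ^ (N + K) • c j • b j = ∑ j, (c j * f j ^ (N + K)) • b i := by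
          refine Finset.sum_congr rfl fun j _ => ?_
          rw [smul_comm, ← hb i j, ← mul_smul]
      _ = (∑ j, c j * f j ^ (N + K)) • b i := Finset.sum_smul.symm
      _ = b i := by rw [hc, one_smul]

end Groth.Agent.S9658
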