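import Groth.Statements.S9659
import Mathlib.RingTheory.GradedAlgebra.Radical
import Mathlib.RingTheory.GradedAlgebra.Homogeneous.Ideal
import Mathlib.RingTheory.Spectrum.Prime.Topology
import Mathlib.Topology.Bases
import Mathlib.Tactic

set_option autoImplicit false
universe u
open CAlg

namespace Groth.Agent.S9659

section Aux

open DirectSum

variable {R S : Type u} [CommRing R] [CommRing S] [Algebra R S]
  (𝒜 : ℤ → Submodule R S) [GradedAlgebra 𝒜]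

local notation "S₀" => SetLike.GradeZero.subring 𝒜

theorem coe_decompose_add' (x y : S) (i : ℤ) :
    ((decompose 𝒜 (x + y) i : 𝒜 i) : S) = (decompose 𝒜 x i : S) + (decompose 𝒜 y i : S) := by
  rw [DirectSum.decompose_add, DirectSum.add_apply]
  rfl

theorem inv_mem' {f u : S} {d : ℤ} (hf : f ∈ 𝒜 d) (hfu : f * u = 1) : u ∈ 𝒜 (-d) := by
  have h1 : ((decompose 𝒜 (f * u) (d + (-d)) : 𝒜 (d + -d)) : S) =
      f * (decompose 𝒜 u (-d) : S) :=
    DirectSum.coe_decompose_mul_add_of_left_mem 𝒜 hf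
  rw [hfu] at h1
  have h2 : ((decompose 𝒜 (1 : S) (d + (-d)) : 𝒜 (d + -d)) : S) = 1 := by
    have h0 : d + -d = 0 := add_neg_cancel d
    rw [h0]
    exact DirectSum.decompose_of_mem_same 𝒜 (SetLike.one_mem_graded 𝒜)
  rw [h2] at h1
  have h3 : u = (decompose 𝒜 u (-d) : S) := by
    calc u = u * 1 := (mul_one u).symm
      _ = u * (f * (decompose 𝒜 u (-d) : S)) := by rw [← h1]
      _ = (f * u) * (decompose 𝒜 u (-d) : S) := by ring
      _ = (decompose 𝒜 u (-d) : S) := by rw [hfu, one_mul]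
  rw [h3]; exact SetLike.coe_mem _

theorem exists_unit_deg {f : S} {d : ℤ} (hf : f ∈ 𝒜 d) (hu : IsUnit f) (e : ℤ) :
    ∃ w : S, IsUnit w ∧ w ∈ 𝒜 (-(d * e)) := by
  obtain ⟨u, hfu⟩ := hu.exists_right_inv
  have hu' : u ∈ 𝒜 (-d) := inv_mem' 𝒜 hf hfu
  have huu : IsUnit u := IsUnit.of_mul_eq_one f (by rw [mul_comm]; exact hfu)
  refine ⟨u ^ e.toNat * f ^ (-e).toNat, (huu.pow _).mul (hu.pow _), ?_⟩
  have h1 : u ^ e.toNat ∈ 𝒜 (e.toNat • (-d)) := SetLike.pow_mem_graded _ hu'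
  have h2 : f ^ (-e).toNat ∈ 𝒜 ((-e).toNat • d) := SetLike.pow_mem_graded _ hf
  have h3 := SetLike.mul_mem_graded h1 h2
  have hdeg : e.toNat • (-d) + (-e).toNat • d = -(d * e) := by
    have he : (e.toNat : ℤ) - ((-e).toNat : ℤ) = e := Int.toNat_sub_toNat_neg e
    simp only [nsmul_eq_mul]
    linear_combination (-d) * he
  rw [hdeg] at h3; exact h3

theorem mem_prime_iff (p : Ideal S) [hp : p.IsPrime] (a w : S) (hw : IsUnit w) (D : ℕ)
    (hD : 0 < D) : a ^ D * w ∈ p ↔ a ∈ p := by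
  constructor
  · intro h
    rcases hp.mem_or_mem h with h1 | h1
    · exact hp.mem_of_pow_mem D h1
    · exact absurd (Ideal.eq_top_of_isUnit_mem _ h1 hw) hp.ne_top
  · intro h
    exact Ideal.mul_mem_right _ _ (Ideal.pow_mem_of_mem _ h D hD)

/-- degree zero component as an element of the degree-zero subring. -/
def z0 (x : S) : S₀ := ⟨(decompose 𝒜 x 0 : S), SetLike.coe_mem (decompose 𝒜 x 0)⟩

theorem z0_of_mem {x : S} (hx : x ∈ 𝒜 0) : z0 𝒜 x = ⟨x, hx⟩ :=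
  Subtype.ext (DirectSum.decompose_of_mem_same 𝒜 hx)

theorem claimA (p₀ : Ideal S₀) (x : S) (hx : x ∈ Ideal.map (S₀).subtype p₀) :
    z0 𝒜 x ∈ p₀ := by
  have hx' : x ∈ p₀ • (⊤ : Submodule S₀ S) := by
    rw [Ideal.smul_top_eq_map]; exact hx
  refine Submodule.smul_induction_on (p := fun x => z0 𝒜 x ∈ p₀) hx' ?_ ?_
  · intro c hc s _
    have h1 : ((decompose 𝒜 (c • s) 0 : 𝒜 0) : S) = (c : S) * (decompose 𝒜 s 0 : S) := by
      rw [Algebra.smul_def]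
      exact DirectSum.coe_decompose_mul_of_left_mem_zero 𝒜 c.2
    have e : z0 𝒜 (c • s) = c * z0 𝒜 s := Subtype.ext h1
    rw [e]; exact Ideal.mul_mem_right _ _ hc
  · intro x y hx hy
    have e : z0 𝒜 (x + y) = z0 𝒜 x + z0 𝒜 y := Subtype.ext (coe_decompose_add' 𝒜 x y 0)
    rw [e]; exact Ideal.add_mem _ hx hy

theorem key (p₀ : Ideal S₀) [hp₀ : p₀.IsPrime] (a w : S) (hw : IsUnit w) (D : ℕ) (hD : 0 < D)
    (h0 : a ^ D * w ∈ 𝒜 0) :
    a ∈ (Ideal.map (S₀).subtype p₀).radical ↔ (⟨a ^ D * w, h0⟩ : S₀) ∈ p₀ := by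
  constructor
  · rintro ⟨n, hn⟩
    have hn0 : n ≠ 0 ∨ n = 0 := (ne_or_eq n 0)
    have h1 : (a ^ D * w) ^ n ∈ Ideal.map (S₀).subtype p₀ := by
      have e : (a ^ D * w) ^ n = (a ^ n) ^ D * w ^ n := by ring
      rw [e]
      exact Ideal.mul_mem_right _ _ (Ideal.pow_mem_of_mem _ hn D hD)
    have h2 : (a ^ D * w) ^ n ∈ 𝒜 0 := (S₀).pow_mem h0 n
    have h3 := claimA 𝒜 p₀ _ h1
    rw [z0_of_mem 𝒜 h2] at h3
    have e : (⟨(a ^ D * w) ^ n, h2⟩ : S₀) = (⟨a ^ D * w, h0⟩ : S₀) ^ n := Subtype.ext rfl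
    rw [e] at h3
    exact hp₀.mem_of_pow_mem n h3
  · intro h
    have h1 : a ^ D * w ∈ Ideal.map (S₀).subtype p₀ :=
      Ideal.mem_map_of_mem (S₀).subtype h
    obtain ⟨v, hv⟩ := hw.exists_right_inv
    refine ⟨D, ?_⟩
    have e : a ^ D = (a ^ D * w) * v := by rw [mul_assoc, hv, mul_one]
    rw [e]
    exact Ideal.mul_mem_right _ _ h1

theorem deg0 {d : ℤ} (hd : 0 < d) {e : ℤ} {a w : S} (ha : a ∈ 𝒜 e) (hw : w ∈ 𝒜 (-(d * e))) :
    a ^ d.toNat * w ∈ 𝒜 0 := by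
  have h1 : a ^ d.toNat ∈ 𝒜 (d.toNat • e) := SetLike.pow_mem_graded _ ha
  have h2 := SetLike.mul_mem_graded h1 hw
  have hdeg : d.toNat • e + -(d * e) = 0 := by
    have hD : (d.toNat : ℤ) = d := Int.toNat_of_nonneg hd.le
    simp only [nsmul_eq_mul, hD]
    ring
  rw [hdeg] at h2; exact h2

theorem surj {f : S} {d : ℤ} (hd : 0 < d) (hf : f ∈ 𝒜 d) (hu : IsUnit f)
    (p₀ : PrimeSpectrum S₀) :
    ∃ P : PrimeSpectrum S, P.asIdeal.IsHomogeneous 𝒜 ∧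
      PrimeSpectrum.comap (S₀).subtype P = p₀ := by
  have hD : 0 < d.toNat := by
    have : (d.toNat : ℤ) = d := Int.toNat_of_nonneg hd.le
    omega
  have hJhom : (Ideal.map (S₀).subtype p₀.asIdeal).IsHomogeneous 𝒜 := by
    apply Ideal.homogeneous_span
    rintro _ ⟨c, -, rfl⟩
    exact ⟨0, c.2⟩
  have hhom : (Ideal.map (S₀).subtype p₀.asIdeal).radical.IsHomogeneous 𝒜 := hJhom.radical
  have hne : (Ideal.map (S₀).subtype p₀.asIdeal).radical ≠ ⊤ := by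
    intro h
    rw [Ideal.radical_eq_top] at h
    have h1 : (1 : S) ∈ Ideal.map (S₀).subtype p₀.asIdeal := by rw [h]; trivial
    have h2 := claimA 𝒜 p₀.asIdeal 1 h1
    rw [z0_of_mem 𝒜 (SetLike.one_mem_graded 𝒜)] at h2
    have h3 : (1 : S₀) ∈ p₀.asIdeal := h2
    exact p₀.isPrime.ne_top ((Ideal.eq_top_iff_one _).mpr h3)
  have hprime : (Ideal.map (S₀).subtype p₀.asIdeal).radical.IsPrime := by
    apply hhom.isPrime_of_homogeneous_mem_or_mem hne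
    rintro x y ⟨i, hx⟩ ⟨j, hy⟩ hxy
    obtain ⟨wi, hwiu, hwi⟩ := exists_unit_deg 𝒜 hf hu i
    obtain ⟨wj, hwju, hwj⟩ := exists_unit_deg 𝒜 hf hu j
    have h0x := deg0 𝒜 hd hx hwi
    have h0y := deg0 𝒜 hd hy hwj
    have e : (x * y) ^ d.toNat * (wi * wj) = (x ^ d.toNat * wi) * (y ^ d.toNat * wj) := by ring
    have h0xy : (x * y) ^ d.toNat * (wi * wj) ∈ 𝒜 0 := by
      rw [e]; exact (S₀).mul_mem h0x h0y
    have h1 := (key 𝒜 p₀.asIdeal (x * y) (wi * wj) (hwiu.mul hwju) d.toNat hD h0xy).mp hxy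
    have e' : (⟨(x * y) ^ d.toNat * (wi * wj), h0xy⟩ : S₀) =
        (⟨x ^ d.toNat * wi, h0x⟩ : S₀) * ⟨y ^ d.toNat * wj, h0y⟩ := Subtype.ext e
    rw [e'] at h1
    rcases p₀.isPrime.mem_or_mem h1 with h2 | h2
    · exact Or.inl ((key 𝒜 p₀.asIdeal x wi hwiu d.toNat hD h0x).mpr h2)
    · exact Or.inr ((key 𝒜 p₀.asIdeal y wj hwju d.toNat hD h0y).mpr h2)
  refine ⟨⟨_, hprime⟩, hhom, ?_⟩
  apply PrimeSpectrum.ext
  ext c
  change (c : S) ∈ (Ideal.map (S₀).subtype p₀.asIdeal).radical ↔ c ∈ p₀.asIdeal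
  have h0 : (c : S) ^ d.toNat * 1 ∈ 𝒜 0 := by
    rw [mul_one]; exact (S₀).pow_mem c.2 _
  rw [key 𝒜 p₀.asIdeal (c : S) 1 isUnit_one d.toNat hD h0]
  have e : (⟨(c : S) ^ d.toNat * 1, h0⟩ : S₀) = c ^ d.toNat := Subtype.ext (mul_one _)
  rw [e]
  exact ⟨fun h => p₀.isPrime.mem_of_pow_mem _ h, fun h => Ideal.pow_mem_of_mem _ h _ hD⟩

theorem inj {f : S} {d : ℤ} (hd : 0 < d) (hf : f ∈ 𝒜 d) (hu : IsUnit f)
    (p q : PrimeSpectrum S) (hp : p.asIdeal.IsHomogeneous 𝒜) (hq : q.asIdeal.IsHomogeneous 𝒜)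
    (h : PrimeSpectrum.comap (S₀).subtype p = PrimeSpectrum.comap (S₀).subtype q) : p = q := by
  have hD : 0 < d.toNat := by
    have : (d.toNat : ℤ) = d := Int.toNat_of_nonneg hd.le
    omega
  have hhom : ∀ (e : ℤ) (a : S), a ∈ 𝒜 e → (a ∈ p.asIdeal ↔ a ∈ q.asIdeal) := by
    intro e a ha
    obtain ⟨w, hwu, hw⟩ := exists_unit_deg 𝒜 hf hu e
    have h0 := deg0 𝒜 hd ha hw
    rw [← mem_prime_iff p.asIdeal a w hwu d.toNat hD, ← mem_prime_iff q.asIdeal a w hwu d.toNat hD]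
    have h1 : (⟨a ^ d.toNat * w, h0⟩ : S₀) ∈ (PrimeSpectrum.comap (S₀).subtype p).asIdeal ↔
        (⟨a ^ d.toNat * w, h0⟩ : S₀) ∈ (PrimeSpectrum.comap (S₀).subtype q).asIdeal := by
      rw [h]
    exact h1
  apply PrimeSpectrum.ext
  ext x
  rw [hp.mem_iff, hq.mem_iff]
  exact forall_congr' fun i => hhom i _ (SetLike.coe_mem _)

theorem image_basic {f : S} {d : ℤ} (hd : 0 < d) (hf : f ∈ 𝒜 d) (hu : IsUnit f) (g : S) :
    IsOpen ((fun p : {p : PrimeSpectrum S // p.asIdeal.IsHomogeneous 𝒜} =>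
      PrimeSpectrum.comap (S₀).subtype p.1) ''
        (Subtype.val ⁻¹' (PrimeSpectrum.basicOpen g : Set (PrimeSpectrum S)))) := by
  have hD : 0 < d.toNat := by
    have : (d.toNat : ℤ) = d := Int.toNat_of_nonneg hd.le
    omega
  choose w hwu hw using exists_unit_deg 𝒜 hf hu
  have h0 : ∀ i : ℤ, (decompose 𝒜 g i : S) ^ d.toNat * w i ∈ 𝒜 0 :=
    fun i => deg0 𝒜 hd (SetLike.coe_mem _) (hw i)
  have himg : ((fun p : {p : PrimeSpectrum S // p.asIdeal.IsHomogeneous 𝒜} =>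
      PrimeSpectrum.comap (S₀).subtype p.1) ''
        (Subtype.val ⁻¹' (PrimeSpectrum.basicOpen g : Set (PrimeSpectrum S)))) =
      ⋃ i : ℤ, (PrimeSpectrum.basicOpen
        (⟨(decompose 𝒜 g i : S) ^ d.toNat * w i, h0 i⟩ : S₀) : Set (PrimeSpectrum S₀)) := by
    ext p₀
    simp only [Set.mem_image, Set.mem_preimage, Set.mem_iUnion]
    constructor
    · rintro ⟨⟨p, hp⟩, hgp, rfl⟩
      have hgp' : g ∉ p.asIdeal := hgp
      rw [hp.mem_iff] at hgp'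
      push Not at hgp'
      obtain ⟨i, hi⟩ := hgp'
      refine ⟨i, ?_⟩
      change (⟨(decompose 𝒜 g i : S) ^ d.toNat * w i, h0 i⟩ : S₀) ∉
        (PrimeSpectrum.comap (S₀).subtype p).asIdeal
      intro hmem
      exact hi ((mem_prime_iff p.asIdeal _ (w i) (hwu i) d.toNat hD).mp hmem)
    · rintro ⟨i, hi⟩
      obtain ⟨P, hP, rfl⟩ := surj 𝒜 hd hf hu p₀
      refine ⟨⟨P, hP⟩, ?_, rfl⟩
      change g ∉ P.asIdeal
      intro hg
      have hgi : (decompose 𝒜 g i : S) ∈ P.asIdeal := hP.mem_iff.mp hg i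
      apply hi
      change (decompose 𝒜 g i : S) ^ d.toNat * w i ∈ P.asIdeal
      exact (mem_prime_iff P.asIdeal _ (w i) (hwu i) d.toNat hD).mpr hgi
  rw [himg]
  exact isOpen_iUnion fun i => (PrimeSpectrum.basicOpen _).isOpen

end Aux

/-- Let S be a ℤ-graded ring which contains an invertible homogeneous element of positive degree. Then
the set of homogeneous prime ideals of S, with the topology induced from Spec(S), maps
homeomorphically onto Spec(S₀) by p ↦ p ∩ S₀. -/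
theorem result {R S : Type u} [CommRing R] [CommRing S] [Algebra R S] (𝒜 : ℤ → Submodule R S) [GradedAlgebra 𝒜]
    (f : S) (d : ℤ) (hd : 0 < d) (hf : f ∈ 𝒜 d) (hu : IsUnit f) :
    IsHomeomorph (fun p : {p : PrimeSpectrum S // p.asIdeal.IsHomogeneous 𝒜} => PrimeSpectrum.comap (SetLike.GradeZero.subring 𝒜).subtype p.1) := by
  refine ⟨(PrimeSpectrum.continuous_comap _).comp continuous_subtype_val, ?_, ⟨?_, ?_⟩⟩
  · rw [(isTopologicalBasis_subtype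
      (PrimeSpectrum.isTopologicalBasis_basic_opens (R := S)) _).isOpenMap_iff]
    rintro _ ⟨_, ⟨g, rfl⟩, rfl⟩
    exact image_basic 𝒜 hd hf hu g
  · intro p q h
    exact Subtype.ext (inj 𝒜 hd hf hu p.1 q.1 p.2 q.2 h)
  · intro p₀
    obtain ⟨P, hP, h⟩ := surj 𝒜 hd hf hu p₀
    exact ⟨⟨P, hP⟩, h⟩

end Groth.Agent.S9659
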