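import Groth.Statements.S9661
import Groth.Agent.H21.HilbFilt

set_option autoImplicit false
universe u
attribute [local instance] MvPolynomial.gradedAlgebra
open CAlg

namespace Groth.Agent.S9661

/-- Let k be a field, d ≥ 1, and I a nonzero homogeneous ideal of the standard-graded polynomial ring
k[X_1, …, X_d]; put M = k[X_1, …, X_d]/I. Then the function n ↦ dim_k M_n (equal to dim_k of the
degree-n part of the polynomial ring minus dim_k of the degree-n part of I) coincides for all large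
n with a polynomial of degree < d - 1, the zero polynomial if d = 1. -/
theorem result {k : Type u} [Field k] (d : ℕ) (hd : 0 < d)
    (I : HomogeneousIdeal (MvPolynomial.homogeneousSubmodule (Fin d) k)) (hI : I ≠ ⊥) :
    ∃ P : Polynomial ℚ, P.degree < ((d - 1 : ℕ) : WithBot ℕ) ∧ ∃ N : ℕ, ∀ n : ℕ, N ≤ n →
      ((Module.finrank k ↥(MvPolynomial.homogeneousSubmodule (Fin d) k n) : ℚ) -
        (Module.finrank k ↥(I.toIdeal.restrictScalars k ⊓ MvPolynomial.homogeneousSubmodule (Fin d) k n) : ℚ)) = P.eval (n : ℚ) := by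
  classical
  obtain ⟨n, rfl⟩ : ∃ n, d = n + 1 := ⟨d - 1, by omega⟩
  have hIh : I.toIdeal.IsHomogeneous (CohB1.polyGrading n k) := I.isHomogeneous
  obtain ⟨L, hL, hdata, hpos, hS⟩ := Groth.Agent.H21.HilbFilt.exists_filt_data I.toIdeal hIh
  obtain ⟨P, hPdef⟩ : ∃ P : Polynomial ℚ, P = Groth.Agent.H21.HilbFilt.sumSh
      (L.map fun x => (Groth.Agent.H21.HilbFilt.hpoly k n x.1, x.2)) := ⟨_, rfl⟩
  rw [← hPdef] at hS
  refine ⟨P, ?_, ?_⟩
  · by_cases hP0 : P = 0
    · rw [hP0, Polynomial.degree_zero]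
      exact WithBot.bot_lt_coe _
    · have h1 := Groth.Agent.H21.HilbFilt.ringKrullDim_eq_natDegree_add_one I.toIdeal hIh P hP0 hS
      have hIne : I.toIdeal ≠ ⊥ := by
        intro h
        apply hI
        apply HomogeneousIdeal.toIdeal_injective
        rw [h]
        rfl
      obtain ⟨r, hrI, hr0⟩ := Submodule.exists_mem_ne_zero_of_ne_bot hIne
      have hr : r ∈ nonZeroDivisors (MvPolynomial (Fin (n + 1)) k) :=
        mem_nonZeroDivisors_of_ne_zero hr0
      have h2 := ringKrullDim_quotient_succ_le_of_nonZeroDivisor hr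
      have h3 : ringKrullDim (MvPolynomial (Fin (n + 1)) k ⧸ I.toIdeal) ≤
          ringKrullDim (MvPolynomial (Fin (n + 1)) k ⧸ Ideal.span {r}) :=
        Groth.Agent.H21.HilbFilt.dim_le_of_le ((Ideal.span_singleton_le_iff_mem _).mpr hrI)
      rw [Groth.Agent.H21.ProjDim.ringKrullDim_poly] at h2
      rw [h1] at h3
      have h4 : ((P.natDegree : WithBot ℕ∞) + 1) + 1 ≤ ((n + 1 : ℕ) : WithBot ℕ∞) :=
        (add_le_add h3 le_rfl).trans h2
      have h5 : P.natDegree + 1 + 1 ≤ n + 1 := by exact_mod_cast h4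
      rw [Polynomial.degree_eq_natDegree hP0]
      have h6 : P.natDegree < n + 1 - 1 := by omega
      exact_mod_cast h6
  · obtain ⟨m₀, hm₀⟩ := hS
    exact ⟨m₀, fun m hm => (hm₀ m hm).symm⟩

end Groth.Agent.S9661
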