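import Groth.Statements.S9663
-- import your own Groth.Agent.* helpers here

set_option autoImplicit false
universe u
open CAlg

namespace Groth.Agent.S9663

theorem smul_pow_cancel {R X : Type*} [CommRing R] [AddCommGroup X] [Module R X] {a : R}
    (h : IsUnit (algebraMap R (Module.End R X) a)) (n : ℕ) {x y : X}
    (hxy : a ^ n • x = a ^ n • y) : x = y := by
  have h' : IsUnit (algebraMap R (Module.End R X) (a ^ n)) := by
    rw [map_pow]; exact h.pow n
  have hinj := ((Module.End.isUnit_iff _).mp h').1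
  have e : ∀ z : X, (algebraMap R (Module.End R X) (a ^ n)) z = a ^ n • z :=
    fun z => rfl
  apply hinj
  rw [e, e]; exact hxy

theorem loc_surj_pow {R X X' : Type*} [CommRing R] [AddCommGroup X] [Module R X]
    [AddCommGroup X'] [Module R X'] (a : R) (g : X →ₗ[R] X')
    [IsLocalizedModule (Submonoid.powers a) g] (y : X') :
    ∃ (x : X) (n : ℕ), a ^ n • y = g x := by
  obtain ⟨⟨x, ⟨_, n, rfl⟩⟩, hx⟩ := IsLocalizedModule.surj (Submonoid.powers a) g y
  exact ⟨x, n, hx⟩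

theorem loc_eq_pow {R X X' : Type*} [CommRing R] [AddCommGroup X] [Module R X]
    [AddCommGroup X'] [Module R X'] (a : R) (g : X →ₗ[R] X')
    [IsLocalizedModule (Submonoid.powers a) g] {x₁ x₂ : X} (h : g x₁ = g x₂) :
    ∃ n : ℕ, a ^ n • x₁ = a ^ n • x₂ := by
  obtain ⟨⟨_, n, rfl⟩, hc⟩ := IsLocalizedModule.exists_of_eq (S := Submonoid.powers a) h
  exact ⟨n, hc⟩

theorem loc_unit {R X X' : Type*} [CommRing R] [AddCommGroup X] [Module R X]
    [AddCommGroup X'] [Module R X'] (a : R) (g : X →ₗ[R] X')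
    [IsLocalizedModule (Submonoid.powers a) g] :
    IsUnit (algebraMap R (Module.End R X') a) :=
  IsLocalizedModule.map_units g ⟨a, Submonoid.mem_powers a⟩

theorem v_inj_torsion {R X Xa Xab : Type*} [CommRing R] [AddCommGroup X] [Module R X]
    [AddCommGroup Xa] [Module R Xa] [AddCommGroup Xab] [Module R Xab] (a b : R)
    (g : X →ₗ[R] Xa) [IsLocalizedModule (Submonoid.powers a) g]
    (t : X →ₗ[R] Xab) [IsLocalizedModule (Submonoid.powers (b * a)) t]
    (v : Xa →ₗ[R] Xab) (hv : ∀ x, v (g x) = t x) {y y' : Xa} (h : v y = v y') :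
    ∃ q : ℕ, b ^ q • y = b ^ q • y' := by
  obtain ⟨x, n, hx⟩ := loc_surj_pow a g (y - y')
  have h1 : t x = t 0 := by
    rw [← hv, ← hx, map_smul, map_sub, h, sub_self, smul_zero, map_zero]
  obtain ⟨q, hq⟩ := loc_eq_pow (b * a) t h1
  rw [smul_zero] at hq
  refine ⟨q, ?_⟩
  have h2 : a ^ (q + n) • (b ^ q • (y - y')) = a ^ (q + n) • (0 : Xa) := by
    rw [smul_zero]
    have h3 : g ((b * a) ^ q • x) = 0 := by rw [hq, map_zero]
    rw [map_smul, ← hx, smul_smul] at h3
    rw [smul_smul]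
    convert h3 using 2
    ring
  have h3 := smul_pow_cancel (loc_unit a g) (q + n) h2
  rw [smul_sub] at h3
  exact sub_eq_zero.mp h3

/-- Let R be a ring and f_i, i in a finite index set, elements of R (no condition on the ideal they
generate). Suppose given for each i an R-module M_i on which f_i acts invertibly, for each pair (i,
j) an R-linear isomorphism ψ_ij : (M_i)_{f_j} → (M_j)_{f_i}, and suppose the cocycle condition ψ_jk
∘ ψ_ij = ψ_ik holds as maps (M_i)_{f_j f_k} → (M_k)_{f_i f_j} for all triples (i, j, k). All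
localizations are given through their universal properties: (M_i)_{f_j} with its map g from M_i;
(M_i)_{f_j f_k} with its map t from M_i and the compatible maps u from (M_i)_{f_j} and v from
(M_i)_{f_k}; and the three localized isomorphisms Ψ₁ (ψ_ij on (M_i)_{f_j f_k}), Ψ₂ (ψ_jk on
(M_j)_{f_i f_k}) and Ψ₃ (ψ_ik on (M_i)_{f_j f_k}) are given as maps compatible with the ψ's. Let M ⊆
Π_i M_i be the submodule of families (m_i) with m_i/1 = ψ_ji(m_j/1) in (M_i)_{f_j} for all i, j.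
Then for each i the projection M → M_i exhibits M_i as the localization of M at f_i. -/
theorem result {R : Type u} [CommRing R] {ι : Type u} [Finite ι] (f : ι → R)
    (Mi : ι → Type u) [∀ i, AddCommGroup (Mi i)] [∀ i, Module R (Mi i)]
    (hMi : ∀ i, IsUnit (algebraMap R (Module.End R (Mi i)) (f i)))
    (Mij : ι → ι → Type u) [∀ i j, AddCommGroup (Mij i j)] [∀ i j, Module R (Mij i j)]
    (g : ∀ i j, Mi i →ₗ[R] Mij i j) [∀ i j, IsLocalizedModule (Submonoid.powers (f j)) (g i j)]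
    (ψ : ∀ i j, Mij i j ≃ₗ[R] Mij j i)
    (T : ι → ι → ι → Type u) [∀ i j k, AddCommGroup (T i j k)] [∀ i j k, Module R (T i j k)]
    (t : ∀ i j k, Mi i →ₗ[R] T i j k) [∀ i j k, IsLocalizedModule (Submonoid.powers (f j * f k)) (t i j k)]
    (u : ∀ i j k, Mij i j →ₗ[R] T i j k) (hu : ∀ i j k, u i j k ∘ₗ g i j = t i j k)
    (v : ∀ i j k, Mij i k →ₗ[R] T i j k) (hv : ∀ i j k, v i j k ∘ₗ g i k = t i j k)
    (Ψ₁ : ∀ i j k, T i j k →ₗ[R] T j i k) (hΨ₁ : ∀ i j k, Ψ₁ i j k ∘ₗ u i j k = u j i k ∘ₗ (ψ i j).toLinearMap)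
    (Ψ₂ : ∀ i j k, T j i k →ₗ[R] T k i j) (hΨ₂ : ∀ i j k, Ψ₂ i j k ∘ₗ v j i k = v k i j ∘ₗ (ψ j k).toLinearMap)
    (Ψ₃ : ∀ i j k, T i j k →ₗ[R] T k i j) (hΨ₃ : ∀ i j k, Ψ₃ i j k ∘ₗ v i j k = u k i j ∘ₗ (ψ i k).toLinearMap)
    (hcoc : ∀ i j k, Ψ₂ i j k ∘ₗ Ψ₁ i j k = Ψ₃ i j k)
    (M : Submodule R (∀ i, Mi i)) (hM : ∀ m : ∀ i, Mi i, m ∈ M ↔ ∀ i j, g i j (m i) = ψ j i (g j i (m j))) (i : ι) :
    IsLocalizedModule (Submonoid.powers (f i)) ((LinearMap.proj i).comp M.subtype : ↥M →ₗ[R] Mi i) := by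
  classical
  cases nonempty_fintype ι
  have hu' : ∀ i j k x, u i j k (g i j x) = t i j k x :=
    fun i j k x => LinearMap.congr_fun (hu i j k) x
  have hv' : ∀ i j k x, v i j k (g i k x) = t i j k x :=
    fun i j k x => LinearMap.congr_fun (hv i j k) x
  have h1' : ∀ i j k x, Ψ₁ i j k (u i j k x) = u j i k (ψ i j x) :=
    fun i j k x => LinearMap.congr_fun (hΨ₁ i j k) x
  have h2' : ∀ i j k x, Ψ₂ i j k (v j i k x) = v k i j (ψ j k x) :=
    fun i j k x => LinearMap.congr_fun (hΨ₂ i j k) x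
  have h3' : ∀ i j k x, Ψ₃ i j k (v i j k x) = u k i j (ψ i k x) :=
    fun i j k x => LinearMap.congr_fun (hΨ₃ i j k) x
  have hc' : ∀ i j k x, Ψ₂ i j k (Ψ₁ i j k x) = Ψ₃ i j k x :=
    fun i j k x => LinearMap.congr_fun (hcoc i j k) x
  refine ⟨?_, ?_, ?_⟩
  · rintro ⟨_, n, rfl⟩
    show IsUnit (algebraMap R (Module.End R (Mi i)) (f i ^ n))
    rw [map_pow]; exact (hMi i).pow n
  · intro y
    have s1 : ∀ j, ∃ (x : Mi j) (n : ℕ), f i ^ n • ψ i j (g i j y) = g j i x :=
      fun j => loc_surj_pow (f i) (g j i) _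
    choose x n hx using s1
    have hn : ∀ j, n j ≤ ∑ j, n j :=
      fun j => Finset.single_le_sum (fun _ _ => Nat.zero_le _) (Finset.mem_univ j)
    have hx' : ∀ j, g j i (f i ^ ((∑ j, n j) - n j) • x j) =
        f i ^ (∑ j, n j) • ψ i j (g i j y) := by
      intro j
      rw [map_smul, ← hx j, smul_smul, ← pow_add, Nat.sub_add_cancel (hn j)]
    generalize hN₁ : ∑ j, n j = N₁ at hx' hn
    generalize hxd : (fun j => f i ^ (N₁ - n j) • x j) = x' at *
    have hx'' : ∀ j, g j i (x' j) = f i ^ N₁ • ψ i j (g i j y) := by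
      intro j
      rw [← hxd]; exact hx' j
    have s2 : ∀ j k, ∃ q : ℕ, f i ^ q • g j k (x' j) = f i ^ q • ψ k j (g k j (x' k)) := by
      intro j k
      apply v_inj_torsion (f k) (f i) (g j k) (t j i k) (v j i k) (hv' j i k)
      rw [hv' j i k, ← hu' j i k, hx'' j, ← h2' i k j, hv' k i j, ← hu' k i j, hx'' k]
      simp only [map_smul]
      rw [← h1' i k j, hc' i k j, hu' i k j, ← hv' i k j, h3' i k j]
    choose q hq using s2
    have hqN : ∀ j k, q j k ≤ ∑ j, ∑ k, q j k := fun j k =>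
      (Finset.single_le_sum (f := fun k => q j k) (fun _ _ => Nat.zero_le _)
        (Finset.mem_univ k)).trans
        (Finset.single_le_sum (f := fun j => ∑ k, q j k) (fun _ _ => Nat.zero_le _)
          (Finset.mem_univ j))
    generalize (∑ j, ∑ k, q j k) = N₂ at hqN
    have hmM : (fun j => f i ^ N₂ • x' j) ∈ M := by
      rw [hM]
      intro j k
      simp only [map_smul]
      rw [← Nat.sub_add_cancel (hqN j k), pow_add, mul_smul, mul_smul, hq j k]
    have hii := (hM _).mp hmM i i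
    have hgm : g i i (f i ^ N₂ • x' i) = f i ^ (N₂ + N₁) • ψ i i (g i i y) := by
      rw [map_smul, hx'' i, smul_smul, ← pow_add]
    have hunit : IsUnit (algebraMap R (Module.End R (Mij i i)) (f i)) := loc_unit (f i) (g i i)
    have hz : ψ i i (g i i y) = g i i y := by
      beta_reduce at hii
      rw [hgm, map_smul] at hii
      have h4 := smul_pow_cancel hunit _ hii
      exact ((ψ i i).injective h4).symm
    have hmi : f i ^ N₂ • x' i = f i ^ (N₂ + N₁) • y := by
      have h5 : g i i (f i ^ N₂ • x' i) = g i i (f i ^ (N₂ + N₁) • y) := by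
        rw [hgm, hz, map_smul]
      obtain ⟨p, hp⟩ := loc_eq_pow (f i) (g i i) h5
      exact smul_pow_cancel (hMi i) p hp
    refine ⟨(⟨fun j => f i ^ N₂ • x' j, hmM⟩, ⟨f i ^ (N₂ + N₁), N₂ + N₁, rfl⟩), ?_⟩
    exact hmi.symm
  · intro m m' h
    have h' : (m : ∀ j, Mi j) i = (m' : ∀ j, Mi j) i := h
    have s : ∀ j, ∃ p : ℕ, f i ^ p • (m : ∀ j, Mi j) j = f i ^ p • (m' : ∀ j, Mi j) j := by
      intro j
      apply loc_eq_pow (f i) (g j i)
      rw [(hM _).mp m.2 j i, (hM _).mp m'.2 j i, h']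
    choose p hp using s
    have hpN : ∀ j, p j ≤ ∑ j, p j :=
      fun j => Finset.single_le_sum (fun _ _ => Nat.zero_le _) (Finset.mem_univ j)
    refine ⟨⟨f i ^ (∑ j, p j), ∑ j, p j, rfl⟩, ?_⟩
    apply Subtype.ext
    funext j
    show f i ^ (∑ j, p j) • (m : ∀ j, Mi j) j = f i ^ (∑ j, p j) • (m' : ∀ j, Mi j) j
    rw [← Nat.sub_add_cancel (hpN j), pow_add, mul_smul, mul_smul, hp j]

end Groth.Agent.S9663
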