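import Mathlib
import Groth.Statements.S9667
-- import your own Groth.Agent.* helpers here

set_option autoImplicit false
universe u
open CAlg

namespace Groth.Agent.S9667

open TensorProduct

theorem rTensor_comm_eq {R N A B : Type*} [CommRing R] [AddCommGroup N] [Module R N]
    [AddCommGroup A] [Module R A] [AddCommGroup B] [Module R B] (f : A →ₗ[R] B) (x : N ⊗[R] A) :
    f.rTensor N (TensorProduct.comm R N A x) = TensorProduct.comm R N B (f.lTensor N x) := by
  induction x using TensorProduct.induction_on with
  | zero => simp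
  | tmul n a => simp
  | add x y hx hy => simp only [map_add, hx, hy]

theorem exists_fg_of_lTensor_eq_zero {R N M : Type*} [CommRing R] [AddCommGroup N] [Module R N]
    [AddCommGroup M] [Module R M] (P : Submodule R M) (hP : P.FG) (t : N ⊗[R] P)
    (h : P.subtype.lTensor N t = 0) :
    ∃ (Q : Submodule R M) (hPQ : P ≤ Q), Q.FG ∧ (Submodule.inclusion hPQ).lTensor N t = 0 := by
  have h1 : (P.subtype.rTensor N) (TensorProduct.comm R N P t) = 0 := by
    rw [rTensor_comm_eq, h, map_zero]
  obtain ⟨Q, hPQ, hQ, h2⟩ := TensorProduct.eq_zero_of_fg_of_subtype_eq_zero hP h1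
  refine ⟨Q, hPQ, hQ, ?_⟩
  rw [rTensor_comm_eq] at h2
  exact (TensorProduct.comm R N Q).injective (by rw [h2, map_zero])

open TensorProduct in
/-- Part (3): (B = B_fin): let R → S be a ring map with S Noetherian, N an S-module, M an R-module and q
a prime of S; an associated prime of a module is a prime ideal equal to the annihilator of some
element. If q is an associated prime of the S-module N ⊗_R M, then there is a finitely generated
R-submodule M' ⊆ M such that q is an associated prime of the S-module N ⊗_R M'. -/
theorem result {R S : Type u} [CommRing R] [CommRing S] [Algebra R S] (N : Type u) [AddCommGroup N] [Module S N] [Module R N] [IsScalarTower R S N] [IsNoetherianRing S]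
    (M : Type u) [AddCommGroup M] [Module R M] (q : Ideal S) [q.IsPrime] (h : q ∈ FlatCA.ass S (N ⊗[R] M)) :
    ∃ M' : Submodule R M, M'.FG ∧ q ∈ FlatCA.ass S (N ⊗[R] ↥M') := by
  classical
  obtain ⟨hqprime, z, hz⟩ := h
  obtain ⟨T, hT⟩ := (isNoetherianRing_iff_ideal_fg S).1 inferInstance q
  have smul_lTensor : ∀ {A B : Type u} [AddCommGroup A] [Module R A] [AddCommGroup B] [Module R B]
      (f : A →ₗ[R] B) (s : S) (x : N ⊗[R] A), f.lTensor N (s • x) = s • f.lTensor N x := by
    intro A B _ _ _ _ f s x
    exact (TensorProduct.AlgebraTensorModule.lTensor S N f).map_smul s x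
  have key : ∀ T' : Finset S, (∀ s ∈ T', s • z = 0) →
      ∃ (Q : Submodule R M) (zQ : N ⊗[R] Q), Q.FG ∧ Q.subtype.lTensor N zQ = z ∧
        ∀ s ∈ T', s • zQ = 0 := by
    intro T'
    induction T' using Finset.induction_on with
    | empty =>
      intro _
      obtain ⟨M', hM'fin, hzM'⟩ := TensorProduct.exists_finite_submodule_right_of_setFinite
        ({z} : Set (N ⊗[R] M)) (Set.finite_singleton z)
      obtain ⟨z', hz'⟩ := hzM' (Set.mem_singleton z)
      exact ⟨M', z', Module.Finite.iff_fg.1 hM'fin, hz',
        fun s hs => absurd hs (Finset.notMem_empty s)⟩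
    | insert a T' ha ih =>
      intro hall
      obtain ⟨Q, zQ, hQ, hzQ, hkill⟩ := ih (fun s hs => hall s (Finset.mem_insert_of_mem hs))
      have h0 : Q.subtype.lTensor N (a • zQ) = 0 := by
        rw [smul_lTensor, hzQ]
        exact hall a (Finset.mem_insert_self a T')
      obtain ⟨Q', hQQ', hQ', h1⟩ := exists_fg_of_lTensor_eq_zero Q hQ (a • zQ) h0
      refine ⟨Q', (Submodule.inclusion hQQ').lTensor N zQ, hQ', ?_, ?_⟩
      · rw [← LinearMap.comp_apply, ← LinearMap.lTensor_comp, Submodule.subtype_comp_inclusion]
        exact hzQ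
      · intro s hs
        rw [← smul_lTensor]
        rcases Finset.mem_insert.1 hs with rfl | hs'
        · exact h1
        · rw [hkill s hs', map_zero]
  have hTz : ∀ s ∈ T, s • z = 0 := by
    intro s hs
    have hsq : s ∈ q := by
      rw [← hT]
      exact Submodule.subset_span hs
    rw [hz, Submodule.mem_annihilator_span_singleton] at hsq
    exact hsq
  obtain ⟨Q, zQ, hQ, hzQ, hkill⟩ := key T hTz
  refine ⟨Q, hQ, ⟨hqprime, zQ, ?_⟩⟩
  apply le_antisymm
  · rw [← hT]
    exact Submodule.span_le.2 (fun s hs => (Submodule.mem_annihilator_span_singleton _ _).2 (hkill s hs))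
  · intro s hs
    rw [Submodule.mem_annihilator_span_singleton] at hs
    rw [hz, Submodule.mem_annihilator_span_singleton, ← hzQ, ← smul_lTensor, hs, map_zero]

end Groth.Agent.S9667
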