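import Mathlib
import Groth.Statements.S9668
-- import your own Groth.Agent.* helpers here

set_option autoImplicit false
universe u
open CAlg

namespace Groth.Agent.S9668

open TensorProduct in
/-- Part (4): (B = B_fin): let R → S be a ring map, N an S-module flat over R, M an R-module and q a
prime of S; an associated prime of a module is a prime ideal equal to the annihilator of some
element. If q is an associated prime of the S-module N ⊗_R M, then there is a finitely generated
R-submodule M' ⊆ M such that q is an associated prime of the S-module N ⊗_R M'. -/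
theorem result {R S : Type u} [CommRing R] [CommRing S] [Algebra R S] (N : Type u) [AddCommGroup N] [Module S N] [Module R N] [IsScalarTower R S N] [Module.Flat R N]
    (M : Type u) [AddCommGroup M] [Module R M] (q : Ideal S) [q.IsPrime] (h : q ∈ FlatCA.ass S (N ⊗[R] M)) :
    ∃ M' : Submodule R M, M'.FG ∧ q ∈ FlatCA.ass S (N ⊗[R] ↥M') := by
  obtain ⟨hqprime, z, hz⟩ := h
  obtain ⟨M', hM'fin, hzM'⟩ := TensorProduct.exists_finite_submodule_right_of_setFinite
    ({z} : Set (N ⊗[R] M)) (Set.finite_singleton z)
  obtain ⟨z', hz'⟩ := hzM' (Set.mem_singleton z)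
  refine ⟨M', Module.Finite.iff_fg.1 hM'fin, ⟨hqprime, z', ?_⟩⟩
  have hinj : Function.Injective (M'.subtype.lTensor N) :=
    Module.Flat.lTensor_preserves_injective_linearMap (M := N) M'.subtype
      (Submodule.subtype_injective M')
  have hJ : ∀ (s : S) (x : N ⊗[R] M'),
      M'.subtype.lTensor N (s • x) = s • M'.subtype.lTensor N x := by
    intro s x
    exact (TensorProduct.AlgebraTensorModule.lTensor S N M'.subtype).map_smul s x
  ext s
  rw [hz, Submodule.mem_annihilator_span_singleton, Submodule.mem_annihilator_span_singleton]
  constructor
  · intro hs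
    apply hinj
    rw [hJ, hz', hs, map_zero]
  · intro hs
    rw [← hz', ← hJ, hs, map_zero]

end Groth.Agent.S9668
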