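import Groth.Statements.S9671
import Mathlib
import Groth.Agent.H22.GradedQuot

set_option autoImplicit false
universe u
open CAlg

namespace Groth.Agent.S9671

open MvPolynomial

attribute [local instance] MvPolynomial.gradedAlgebra

section Construction

variable {R R' : Type u} [CommRing R] [CommRing R'] [Algebra R R'] {n : ℕ}
  (φ : MvPolynomial (Fin n) R →ₐ[R] R')

/-- Dehomogenization: `X none ↦ 1`, `X (some i) ↦ φ (X i)`. -/
noncomputable def dehomMap : MvPolynomial (Option (Fin n)) R →ₐ[R] R' :=
  MvPolynomial.aeval (fun o : Option (Fin n) => o.elim 1 (fun i => φ (X i)))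

theorem dehomMap_none : dehomMap φ (X none) = 1 := by
  simp [dehomMap]

theorem dehomMap_some (i : Fin n) : dehomMap φ (X (some i)) = φ (X i) := by
  simp [dehomMap]

theorem dehomMap_C (r : R) : dehomMap φ (C r) = algebraMap R R' r := by
  rw [dehomMap, MvPolynomial.aeval_C]

/-- The homogeneous ideal generated by the forms of positive degree killed by dehomogenization. -/
noncomputable def homIdeal : Ideal (MvPolynomial (Option (Fin n)) R) :=
  Ideal.span {F | (∃ d : ℕ, 1 ≤ d ∧ F.IsHomogeneous d) ∧ dehomMap φ F = 0}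

theorem homIdeal_isHomogeneous :
    (homIdeal φ).IsHomogeneous (MvPolynomial.homogeneousSubmodule (Option (Fin n)) R) := by
  apply Ideal.homogeneous_span
  rintro F ⟨⟨d, -, hF⟩, -⟩
  exact ⟨d, hF⟩

theorem homIdeal_le_ker :
    homIdeal φ ≤ RingHom.ker (dehomMap φ : MvPolynomial (Option (Fin n)) R →+* R') := by
  apply Ideal.span_le.mpr
  rintro F ⟨-, hF⟩
  exact hF

theorem constantCoeff_eq_zero_of_mem {p : MvPolynomial (Option (Fin n)) R}
    (hp : p ∈ homIdeal φ) : MvPolynomial.constantCoeff p = 0 := by
  have hle : homIdeal φ ≤ RingHom.ker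
      (MvPolynomial.constantCoeff : MvPolynomial (Option (Fin n)) R →+* R) := by
    apply Ideal.span_le.mpr
    rintro F ⟨⟨d, hd, hF⟩, -⟩
    show MvPolynomial.coeff 0 F = 0
    apply hF.coeff_eq_zero
    simp only [map_zero]
    omega
  exact hle hp

theorem mul_mem_homIdeal {G : MvPolynomial (Option (Fin n)) R} {D : ℕ} (hG : G.IsHomogeneous D)
    (h0 : dehomMap φ G = 0) : X none * G ∈ homIdeal φ :=
  Ideal.subset_span ⟨⟨1 + D, by omega, (MvPolynomial.isHomogeneous_X R none).mul hG⟩,
    by rw [map_mul, h0, mul_zero]⟩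

noncomputable instance instGr : GradedAlgebra
    (Groth.Agent.H22.quotGrading (MvPolynomial.homogeneousSubmodule (Option (Fin n)) R)
      (homIdeal φ)) :=
  Groth.Agent.H22.quotGradedAlgebra _ _ (homIdeal_isHomogeneous φ)

/-- The map induced by dehomogenization on the quotient. -/
noncomputable def quotDehom : (MvPolynomial (Option (Fin n)) R ⧸ homIdeal φ) →+* R' :=
  Ideal.Quotient.lift (homIdeal φ) (dehomMap φ : MvPolynomial (Option (Fin n)) R →+* R')
    (fun a ha => homIdeal_le_ker φ ha)

theorem quotDehom_mk (a : MvPolynomial (Option (Fin n)) R) :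
    quotDehom φ (Ideal.Quotient.mk _ a) = dehomMap φ a := rfl

/-- The class of `X none`. -/
noncomputable def fElt : MvPolynomial (Option (Fin n)) R ⧸ homIdeal φ :=
  Ideal.Quotient.mk _ (X none)

theorem fElt_mem : fElt φ ∈ Groth.Agent.H22.quotGrading
    (MvPolynomial.homogeneousSubmodule (Option (Fin n)) R) (homIdeal φ) 1 :=
  Groth.Agent.H22.mk_mem_quotGrading _ _ (MvPolynomial.isHomogeneous_X R none)

theorem quotDehom_fElt : quotDehom φ (fElt φ) = 1 := by
  rw [fElt, quotDehom_mk, dehomMap_none]

/-- The induced map on the localization away from `f`. -/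
noncomputable def locMap : Localization.Away (fElt φ) →+* R' :=
  IsLocalization.Away.lift (fElt φ) (g := quotDehom φ)
    (by rw [quotDehom_fElt]; exact isUnit_one)

theorem locMap_mk (a : MvPolynomial (Option (Fin n)) R ⧸ homIdeal φ) (k : ℕ)
    (hk : fElt φ ^ k ∈ Submonoid.powers (fElt φ)) :
    locMap φ (Localization.mk a ⟨fElt φ ^ k, hk⟩) = quotDehom φ a := by
  have h1 := IsLocalization.mk'_spec (Localization.Away (fElt φ)) a
    (⟨fElt φ ^ k, hk⟩ : Submonoid.powers (fElt φ))
  have h2 := congrArg (locMap φ) h1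
  rw [map_mul, locMap, IsLocalization.Away.lift_eq, IsLocalization.Away.lift_eq] at h2
  rw [Localization.mk_eq_mk'_apply, locMap]
  simpa [map_pow, quotDehom_fElt] using h2

/-- The comparison map from the homogeneous localization to `R'`. -/
noncomputable def eps : HomogeneousLocalization.Away (Groth.Agent.H22.quotGrading
    (MvPolynomial.homogeneousSubmodule (Option (Fin n)) R) (homIdeal φ)) (fElt φ) →+* R' :=
  (locMap φ).comp (algebraMap _ (Localization.Away (fElt φ)))

theorem eps_mk (k : ℕ) (a : MvPolynomial (Option (Fin n)) R ⧸ homIdeal φ)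
    (ha : a ∈ Groth.Agent.H22.quotGrading
      (MvPolynomial.homogeneousSubmodule (Option (Fin n)) R) (homIdeal φ) (k • 1)) :
    eps φ (HomogeneousLocalization.Away.mk _ (fElt_mem φ) k a ha) = quotDehom φ a := by
  rw [eps, RingHom.comp_apply, HomogeneousLocalization.algebraMap_apply,
    HomogeneousLocalization.Away.val_mk, locMap_mk]

theorem eps_injective : Function.Injective (eps φ) := by
  rw [injective_iff_map_eq_zero]
  intro z hz
  obtain ⟨k, a, ha, rfl⟩ := HomogeneousLocalization.Away.mk_surjective _ (fElt_mem φ) z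
  rw [eps_mk] at hz
  obtain ⟨G, hG, rfl⟩ := Groth.Agent.H22.exists_of_mem_quotGrading _ _ ha
  rw [quotDehom_mk] at hz
  have hmem : X none * G ∈ homIdeal φ := mul_mem_homIdeal φ hG hz
  apply HomogeneousLocalization.val_injective
  rw [HomogeneousLocalization.Away.val_mk, HomogeneousLocalization.val_zero,
    Localization.mk_eq_mk'_apply, IsLocalization.mk'_eq_zero_iff]
  refine ⟨⟨fElt φ, Submonoid.mem_powers _⟩, ?_⟩
  show fElt φ * Ideal.Quotient.mk _ G = 0
  rw [fElt, ← map_mul]
  exact Ideal.Quotient.eq_zero_iff_mem.mpr hmem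

theorem eps_surjective (hφ : Function.Surjective φ) : Function.Surjective (eps φ) := by
  intro y
  obtain ⟨p, rfl⟩ := hφ y
  induction p using MvPolynomial.induction_on with
  | C r =>
    refine ⟨HomogeneousLocalization.Away.mk _ (fElt_mem φ) 0 (Ideal.Quotient.mk _ (C r))
      (Groth.Agent.H22.mk_mem_quotGrading _ _
        (by rw [zero_smul]; exact MvPolynomial.isHomogeneous_C _ r)), ?_⟩
    rw [eps_mk, quotDehom_mk, dehomMap_C]
    exact (φ.commutes r).symm
  | add p q hp hq =>
    obtain ⟨a, ha⟩ := hp
    obtain ⟨b, hb⟩ := hq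
    exact ⟨a + b, by rw [map_add, ha, hb, map_add]⟩
  | mul_X p i hp =>
    obtain ⟨a, ha⟩ := hp
    refine ⟨a * HomogeneousLocalization.Away.mk _ (fElt_mem φ) 1
      (Ideal.Quotient.mk _ (X (some i))) (Groth.Agent.H22.mk_mem_quotGrading _ _
        (by rw [one_smul]; exact MvPolynomial.isHomogeneous_X R (some i))), ?_⟩
    rw [map_mul, ha, eps_mk, quotDehom_mk, dehomMap_some, map_mul]

end Construction


/-- Let R be a ring and R' an R-algebra of finite type. Then there are an ℕ-graded R-algebra S such that
R → S₀ is bijective and S is generated as an R-algebra by a finite set of degree-1 elements, an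
element f ∈ S₁, and a ring isomorphism e between the degree-zero part S_(f) of the localization S_f
and R' which matches r/1 with the image of r in R' for every r ∈ R (so R' is identified with S_(f)
as an R-algebra). The published statement also produces, from a finite R'-module, a finite graded
S-module whose degree-zero localization at f recovers it; that half is not part of this row. -/
theorem result (R R' : Type u) [CommRing R] [CommRing R'] [Algebra R R'] [Algebra.FiniteType R R'] :
    ∃ (S : Type u) (_ : CommRing S) (_ : Algebra R S) (𝒜 : ℕ → Submodule R S) (_ : GradedAlgebra 𝒜) (f : S) (_ : f ∈ 𝒜 1) (s : Finset S)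
      (e : HomogeneousLocalization.Away 𝒜 f ≃+* R'),
      Function.Injective (algebraMap R S) ∧ (∀ x ∈ 𝒜 0, x ∈ Set.range (algebraMap R S)) ∧
      (↑s ⊆ (𝒜 1 : Set S)) ∧ Algebra.adjoin R (s : Set S) = ⊤ ∧
      ∀ r : R, (e.symm (algebraMap R R' r)).val = algebraMap S (Localization.Away f) (algebraMap R S r) := by
  classical
  obtain ⟨n, φ, hφ⟩ := Algebra.FiniteType.iff_quotient_mvPolynomial''.mp
    (inferInstance : Algebra.FiniteType R R')
  obtain ⟨e, he⟩ : ∃ e : HomogeneousLocalization.Away (Groth.Agent.H22.quotGrading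
      (MvPolynomial.homogeneousSubmodule (Option (Fin n)) R) (homIdeal φ)) (fElt φ) ≃+* R',
      ∀ z, e z = eps φ z :=
    ⟨RingEquiv.ofBijective (eps φ) ⟨eps_injective φ, eps_surjective φ hφ⟩, fun z => rfl⟩
  have hmem : ∀ o : Option (Fin n), Ideal.Quotient.mk (homIdeal φ) (X o) ∈
      ((Finset.univ.image (fun o : Option (Fin n) =>
        Ideal.Quotient.mk (homIdeal φ) (X o)) : Finset _) : Set _) := fun o =>
    Finset.mem_coe.mpr (Finset.mem_image.mpr ⟨o, Finset.mem_univ _, rfl⟩)
  refine ⟨MvPolynomial (Option (Fin n)) R ⧸ homIdeal φ, inferInstance, inferInstance,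
    Groth.Agent.H22.quotGrading (MvPolynomial.homogeneousSubmodule (Option (Fin n)) R)
      (homIdeal φ), instGr φ, fElt φ, fElt_mem φ,
    Finset.univ.image (fun o : Option (Fin n) => Ideal.Quotient.mk (homIdeal φ) (X o)), e,
    ?_, ?_, ?_, ?_, ?_⟩
  · rw [injective_iff_map_eq_zero]
    intro r hr
    have hr' : Ideal.Quotient.mk (homIdeal φ) (C r) = 0 := hr
    have h1 : (C r : MvPolynomial (Option (Fin n)) R) ∈ homIdeal φ :=
      Ideal.Quotient.eq_zero_iff_mem.mp hr'
    have h2 := constantCoeff_eq_zero_of_mem φ h1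
    rwa [MvPolynomial.constantCoeff_C] at h2
  · intro x hx
    obtain ⟨a, ha, rfl⟩ := Groth.Agent.H22.exists_of_mem_quotGrading _ _ hx
    have ha' : a.IsHomogeneous 0 := ha
    rw [← MvPolynomial.totalDegree_zero_iff_isHomogeneous,
      MvPolynomial.totalDegree_eq_zero_iff_eq_C] at ha'
    refine ⟨MvPolynomial.coeff 0 a, ?_⟩
    show Ideal.Quotient.mk (homIdeal φ) (C (MvPolynomial.coeff 0 a)) =
      Ideal.Quotient.mk (homIdeal φ) a
    rw [← ha']
  · intro x hx
    rw [Finset.coe_image] at hx
    obtain ⟨o, -, rfl⟩ := hx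
    exact Groth.Agent.H22.mk_mem_quotGrading _ _ (MvPolynomial.isHomogeneous_X R o)
  · rw [eq_top_iff]
    have key : ∀ a : MvPolynomial (Option (Fin n)) R,
        Ideal.Quotient.mk (homIdeal φ) a ∈ Algebra.adjoin R
          ((Finset.univ.image (fun o : Option (Fin n) =>
            Ideal.Quotient.mk (homIdeal φ) (X o)) : Finset _) : Set _) := by
      intro a
      induction a using MvPolynomial.induction_on with
      | C r => exact Subalgebra.algebraMap_mem _ r
      | add p q hp hq =>
        rw [map_add]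
        exact Subalgebra.add_mem _ hp hq
      | mul_X p o hp =>
        rw [map_mul]
        exact Subalgebra.mul_mem _ hp (Algebra.subset_adjoin (hmem o))
    intro x _
    obtain ⟨a, rfl⟩ := Ideal.Quotient.mk_surjective x
    exact key a
  · intro r
    have hmem0 : Ideal.Quotient.mk (homIdeal φ) (C r) ∈ Groth.Agent.H22.quotGrading
        (MvPolynomial.homogeneousSubmodule (Option (Fin n)) R) (homIdeal φ) (0 • 1) :=
      Groth.Agent.H22.mk_mem_quotGrading _ _
        (by rw [zero_smul]; exact MvPolynomial.isHomogeneous_C _ r)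
    have h1 : e (HomogeneousLocalization.Away.mk _ (fElt_mem φ) 0
        (Ideal.Quotient.mk (homIdeal φ) (C r)) hmem0) = algebraMap R R' r := by
      rw [he, eps_mk, quotDehom_mk, dehomMap_C]
    have h2 : e.symm (algebraMap R R' r) = HomogeneousLocalization.Away.mk _ (fElt_mem φ) 0
        (Ideal.Quotient.mk (homIdeal φ) (C r)) hmem0 := by
      rw [← h1, RingEquiv.symm_apply_apply]
    rw [h2, HomogeneousLocalization.Away.val_mk]
    have hs : (⟨fElt φ ^ 0, ⟨0, rfl⟩⟩ : Submonoid.powers (fElt φ)) = 1 :=
      Subtype.ext (pow_zero _)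
    rw [hs, Localization.mk_one_eq_algebraMap]
    rfl

end Groth.Agent.S9671
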