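import Groth.Statements.S9682
import Groth.Agent.H47.MaximalPoints

set_option autoImplicit false
universe u
open CategoryTheory CategoryTheory.Limits AlgebraicGeometry
open Mor

namespace Groth.Agent.S9682

/-- Take f : X ⟶ Y locally of finite type and η the generic point of some irreducible component of Y.
Three conditions turn out to coincide: (1) each point of X mapping to η is the generic point of some
irreducible component of X; (2) f is quasi-finite at every point over η; (3) f is quasi-finite at
each point over η that is generic in some irreducible component of X. Stated as (1) iff (2) together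
with (1) iff (3). -/
theorem result {X Y : Scheme.{u}} (f : X ⟶ Y)
    [LocallyOfFiniteType f] (η : Y) (hη : closure {η} ∈ irreducibleComponents ↥Y) :
    ((∀ x : X, f.base x = η → closure {x} ∈ irreducibleComponents ↥X) ↔
      (∀ x : X, f.base x = η → f.QuasiFiniteAt x)) ∧
    ((∀ x : X, f.base x = η → closure {x} ∈ irreducibleComponents ↥X) ↔
      (∀ x : X, f.base x = η → closure {x} ∈ irreducibleComponents ↥X → f.QuasiFiniteAt x)) := by
  have h12 : (∀ x : X, f.base x = η → closure {x} ∈ irreducibleComponents ↥X) →
      ∀ x : X, f.base x = η → f.QuasiFiniteAt x := by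
    intro h1 x hx
    subst hx
    rw [Scheme.Hom.quasiFiniteAt_iff_isOpen_singleton_asFiber]
    have : LocallyOfFiniteType (f.fiberToSpecResidueField (f x)) :=
      MorphismProperty.pullback_snd _ _ inferInstance
    have : IsLocallyNoetherian (f.fiber (f x)) :=
      LocallyOfFiniteType.isLocallyNoetherian (f.fiberToSpecResidueField (f x))
    have hd : topologicalKrullDim (f.fiber (f x)) ≤ 0 := by
      unfold topologicalKrullDim
      rw [Order.krullDim_nonpos_iff_forall_isMax]
      intro a b hab
      obtain ⟨xa, hxa⟩ := QuasiSober.sober a.isIrreducible a.isClosed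
      obtain ⟨xb, hxb⟩ := QuasiSober.sober b.isIrreducible b.isClosed
      have hs : xb ⤳ xa := hxb.specializes (hab hxa.mem)
      have hs' : f.fiberι _ xb ⤳ f.fiberι _ xa := hs.map (f.fiberι _).continuous
      have hmax := h1 (f.fiberι _ xa) ((f.range_fiberι (f x)).le ⟨xa, rfl⟩)
      have heq := Groth.Agent.H47.eq_of_specializes_of_mem_irreducibleComponents hmax hs'
      have hxx : xb = xa := (f.fiberι _).isEmbedding.injective heq
      have hab' : (b : Set (f.fiber (f x))) ⊆ a := by rw [← hxa.def, ← hxb.def, hxx]
      exact hab'
    have : IsLocallyArtinian (f.fiber (f x)) := .of_topologicalKrullDim_le_zero hd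
    exact isOpen_discrete _
  have h31 : (∀ x : X, f.base x = η → closure {x} ∈ irreducibleComponents ↥X →
      f.QuasiFiniteAt x) → ∀ x : X, f.base x = η → closure {x} ∈ irreducibleComponents ↥X := by
    intro h3 x hx
    obtain ⟨x', hx'max, hx'x⟩ := Groth.Agent.H47.exists_maximal_point_specializes x
    have hfx' : f.base x' = η := by
      have h4 : f.base x' ⤳ f.base x := hx'x.map f.continuous
      rw [hx] at h4
      exact Groth.Agent.H47.eq_of_specializes_of_mem_irreducibleComponents hη h4
    have hq := h3 x' hfx' hx'max
    have hcl : IsClosed {f.asFiber x'} := hq.isClopen_singleton_asFiber.1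
    have hxf : x ∈ f ⁻¹' {f x'} := by
      show f.base x = f.base x'
      rw [hx, hfx']
    obtain ⟨z, hz⟩ : ∃ z : f.fiber (f x'), f.fiberι _ z = x := (f.range_fiberι (f x')).ge hxf
    have hsp : f.asFiber x' ⤳ z := by
      rw [← (f.fiberι (f x')).isEmbedding.isInducing.specializes_iff, f.fiberι_asFiber, hz]
      exact hx'x
    have hzz : z = f.asFiber x' := by
      have hmem : z ∈ closure {f.asFiber x'} := hsp.mem_closure
      rw [hcl.closure_eq] at hmem
      exact hmem
    have hxx' : x = x' := by rw [← hz, hzz, f.fiberι_asFiber]
    rw [hxx']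
    exact hx'max
  exact ⟨⟨h12, fun h2 => h31 (fun x hx _ => h2 x hx)⟩, ⟨fun h1 x hx _ => h12 h1 x hx, h31⟩⟩

end Groth.Agent.S9682
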