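import Groth.Statements.S9685
import Groth.Agent.H9.DimFormulaEq
import Groth.Agent.S9686

set_option linter.style.haveILetI false

set_option autoImplicit false
universe u
open CategoryTheory CategoryTheory.Limits AlgebraicGeometry
open Mor

namespace Groth.Agent.S9685

open AlgebraicGeometry CategoryTheory Groth.Agent.H9.FibreFormula Groth.Agent.H9.FibDim
  Groth.Agent.H9.DimFormulaEq Groth.Agent.H9.DimFormulaScheme Groth.Agent.H54

/-- Along a closed map of schemes, heights (lengths of chains of specializations) do not drop. -/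
theorem height_le_of_isClosedMap {X Y : Scheme.{u}} (f : X ⟶ Y) (hcl : IsClosedMap f.base) (x : X) :
    Order.height (f.base x) ≤ Order.height x := by
  apply ENat.forall_natCast_le_iff_le.mp
  intro n
  induction n generalizing x with
  | zero => intro _; exact zero_le
  | succ n ih =>
    intro hn
    obtain ⟨p, hlast, hlen⟩ := Order.exists_series_of_le_height (f.base x) hn
    have hnlt : n < p.length + 1 := by omega
    have hy'lt : p ⟨n, hnlt⟩ < f.base x := by
      rw [← hlast]
      apply p.strictMono
      rw [Fin.lt_def]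
      simp only [Fin.val_last]
      omega
    have hy'h : (n : ℕ∞) ≤ Order.height (p ⟨n, hnlt⟩) := Order.index_le_height p ⟨n, hnlt⟩
    have hmem : p ⟨n, hnlt⟩ ∈ f.base '' closure {x} := by
      have hcl' := hcl _ (isClosed_closure (s := {x}))
      have hsp : f.base x ⤳ p ⟨n, hnlt⟩ := Scheme.le_iff_specializes.mp hy'lt.le
      exact hsp.mem_closed hcl' ⟨x, subset_closure rfl, rfl⟩
    obtain ⟨x', hx'cl, hx'⟩ := hmem
    have hx'le : x' ≤ x := Scheme.le_iff_specializes.mpr (specializes_iff_mem_closure.mpr hx'cl)
    have hne : x' ≠ x := by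
      intro h
      rw [h] at hx'
      exact hy'lt.ne hx'.symm
    have hx'lt : x' < x := (scheme_lt_iff x' x).mpr ⟨Scheme.le_iff_specializes.mp hx'le, hne⟩
    have h1 := ih x' (by rw [hx']; exact hy'h)
    have h2 := Order.height_add_one_le hx'lt
    calc ((n + 1 : ℕ) : ℕ∞) = (n : ℕ∞) + 1 := by push_cast; rfl
      _ ≤ Order.height x' + 1 := by gcongr
      _ ≤ Order.height x := h2

theorem topologicalKrullDim_eq_krullDim (Z : Scheme.{u}) :
    topologicalKrullDim Z = Order.krullDim Z := by
  unfold topologicalKrullDim
  exact Order.krullDim_eq_of_orderIso (irreducibleSetEquivPoints (α := Z))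

theorem result' {X Y : Scheme.{u}} [IsIntegral X] [IsIntegral Y]
    [IsLocallyNoetherian Y] (f : X ⟶ Y) [IsDominant f] [LocallyOfFiniteType f] (n : ℕ)
    (hn : letI := (f.residueFieldMap (genericPoint ↥X)).hom.toAlgebra
      Algebra.trdeg (Y.residueField (f.base (genericPoint ↥X))) (X.residueField (genericPoint ↥X)) = n) :
    topologicalKrullDim ↥X ≤ topologicalKrullDim ↥Y + n ∧
      (IsClosedMap f.base → topologicalKrullDim ↥X = topologicalKrullDim ↥Y + n) := by
  obtain ⟨hG, -⟩ := dim_generic_fiber_eq f n hn
  have part1 : topologicalKrullDim ↥X ≤ topologicalKrullDim ↥Y + n :=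
    Groth.Agent.S9686.result f n (fun ξ hξ => by
      have := eq_genericPoint ξ hξ
      subst this
      exact hn.le)
  refine ⟨part1, fun hcl => le_antisymm part1 ?_⟩
  have hF : (n : WithBot ℕ∞) ≤ Order.krullDim (f.fiber (genericPoint Y)) := by
    rw [← topologicalKrullDim_eq_krullDim]; exact hG.ge
  obtain ⟨p, hp⟩ := Order.le_krullDim_iff.mp hF
  have hg : StrictMono (f.fiberι (genericPoint Y)).base := by
    intro a b hab
    rw [scheme_lt_iff] at hab ⊢
    refine ⟨hab.1.map (f.fiberι (genericPoint Y)).continuous, fun h => hab.2 ?_⟩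
    exact (f.fiberι (genericPoint Y)).isEmbedding.injective h
  have h1 := Groth.Agent.H71.DimFormula.height_head_add_length_le (p.map _ hg)
  have h2 := height_le_of_isClosedMap f hcl (p.map _ hg).head
  have h3 : f.base (p.map _ hg).head = genericPoint Y := fiberι_mem f (genericPoint Y) p.head
  rw [h3] at h2
  have h4 : Order.krullDim Y ≤ ((Order.height (genericPoint Y) : ℕ∞) : WithBot ℕ∞) := by
    rw [Order.krullDim_eq_iSup_height]
    apply iSup_le
    intro y
    apply WithBot.coe_le_coe.mpr
    apply Order.height_mono
    exact Scheme.le_iff_specializes.mpr ((genericPoint_spec Y).specializes (Set.mem_univ y))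
  have h5 : ((Order.height (p.map _ hg).last : ℕ∞) : WithBot ℕ∞) ≤ Order.krullDim X :=
    Order.height_le_krullDim _
  rw [topologicalKrullDim_eq_krullDim X, topologicalKrullDim_eq_krullDim Y]
  have hlen : (p.map _ hg).length = n := hp
  rw [hlen] at h1
  calc Order.krullDim Y + (n : WithBot ℕ∞)
      ≤ ((Order.height (genericPoint Y) : ℕ∞) : WithBot ℕ∞) + (n : WithBot ℕ∞) := by gcongr
    _ ≤ ((Order.height (p.map _ hg).head : ℕ∞) : WithBot ℕ∞) + (n : WithBot ℕ∞) := by
        gcongr
        exact WithBot.coe_le_coe.mpr h2
    _ = ((Order.height (p.map _ hg).head + (n : ℕ∞) : ℕ∞) : WithBot ℕ∞) := by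
        rw [WithBot.coe_add]; rfl
    _ ≤ ((Order.height (p.map _ hg).last : ℕ∞) : WithBot ℕ∞) := WithBot.coe_le_coe.mpr h1
    _ ≤ _ := h5


/-- Let X and Y be integral schemes with Y locally Noetherian and f : X ⟶ Y dominant and locally of
finite type. If n is the transcendence degree of the function field of X over the function field of
Y (computed on residue fields at the generic points), then dim X ≤ dim Y + n, and equality holds
when the underlying map of f is closed. -/
theorem result {X Y : Scheme.{u}} [IsIntegral X] [IsIntegral Y]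
    [IsLocallyNoetherian Y] (f : X ⟶ Y) [IsDominant f] [LocallyOfFiniteType f] (n : ℕ)
    (hn : letI := (f.residueFieldMap (genericPoint ↥X)).hom.toAlgebra
      Algebra.trdeg (Y.residueField (f.base (genericPoint ↥X))) (X.residueField (genericPoint ↥X)) = n) :
    topologicalKrullDim ↥X ≤ topologicalKrullDim ↥Y + n ∧
      (IsClosedMap f.base → topologicalKrullDim ↥X = topologicalKrullDim ↥Y + n) := by
  exact result' f n hn

end Groth.Agent.S9685
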