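import Groth.Statements.S9688
import Groth.Agent.H73.NormzJap

set_option autoImplicit false
universe u
open CategoryTheory CategoryTheory.Limits AlgebraicGeometry
open Mor

namespace Groth.Agent.S9688

/-- Let X be an integral Japanese scheme (every nonempty affine open has Japanese, i.e. N-2, coordinate
ring). Then the normalization morphism X^ν ⟶ X is finite. (The quasi-compactness and
quasi-separatedness binders on Spec K(X) ⟶ X always hold; they are only needed to form the
normalization.) -/
theorem result (X : Scheme.{u}) [IsIntegral X] [QuasiCompact (X.fromSpecStalk (genericPoint ↥X))] [QuasiSeparated (X.fromSpecStalk (genericPoint ↥X))]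
    (hJ : ∀ (U : X.Opens), IsAffineOpen U → ∀ (hne : Nonempty ↥U),
      @CAlg.IsN2 ↑Γ(X, U) _ (@IsIntegral.component_integral X _ U hne)) :
    IsFinite (Curv2.normalizationι X) := by
  have hqc : QuasiCompact (Groth.Agent.H73.Normz.gen X) :=
    inferInstanceAs (QuasiCompact (X.fromSpecStalk (genericPoint X)))
  have hqs : QuasiSeparated (Groth.Agent.H73.Normz.gen X) :=
    inferInstanceAs (QuasiSeparated (X.fromSpecStalk (genericPoint X)))
  refine Groth.Agent.H73.Normz.isFinite_fromNormalization_gen_of_forall ?_
  intro U hU hne
  have hfrac : IsFractionRing Γ(X, U) X.functionField :=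
    functionField_isFractionRing_of_isAffineOpen X U hU
  exact Groth.Agent.H73.Normz.finite_integralClosure_of_isN2 Γ(X, U) (hJ U hU hne)
    X.functionField

end Groth.Agent.S9688
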