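import Groth.Statements.S9693

set_option autoImplicit false
universe u
open CategoryTheory CategoryTheory.Limits AlgebraicGeometry
open Mor

namespace Groth.Agent.S9693

/-- A base change of an H-projective morphism (a closed immersion into some P^n over the base followed
by the projection) is H-projective. -/
theorem result {X S S' : Scheme.{u}} (f : X ⟶ S) (hf : RelProj.IsHProjective f)
    (g : S' ⟶ S) : RelProj.IsHProjective (pullback.snd f g) := by
  obtain ⟨n, i, hi, hif⟩ := hf
  let t := CohB1.ProjSpace.toSpec n (ULift.{u} ℤ)
  let G : CohB1.ProjSpaceOver n S' ⟶ CohB1.ProjSpaceOver n S :=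
    pullback.lift (pullback.fst t (specULiftZIsTerminal.from S'))
      (pullback.snd t (specULiftZIsTerminal.from S') ≫ g)
      (specULiftZIsTerminal.hom_ext _ _)
  have hs : IsPullback (G ≫ pullback.fst t (specULiftZIsTerminal.from S))
      (pullback.snd t (specULiftZIsTerminal.from S')) t
      (g ≫ specULiftZIsTerminal.from S) := by
    have h0 := IsPullback.of_hasPullback t (specULiftZIsTerminal.from S')
    have e1 : G ≫ pullback.fst t (specULiftZIsTerminal.from S) =
        pullback.fst t (specULiftZIsTerminal.from S') := pullback.lift_fst _ _ _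
    have e2 : g ≫ specULiftZIsTerminal.from S = specULiftZIsTerminal.from S' :=
      specULiftZIsTerminal.hom_ext _ _
    rw [e1, e2]; exact h0
  have hG : IsPullback G (CohB1.ProjSpaceOver.toBase n S') (CohB1.ProjSpaceOver.toBase n S) g :=
    IsPullback.of_right hs (pullback.lift_snd _ _ _)
      (IsPullback.of_hasPullback t (specULiftZIsTerminal.from S))
  have hc : (pullback.fst f g ≫ i) ≫ CohB1.ProjSpaceOver.toBase n S = pullback.snd f g ≫ g := by
    rw [Category.assoc, hif, pullback.condition]
  let i' : pullback f g ⟶ CohB1.ProjSpaceOver n S' := hG.lift (pullback.fst f g ≫ i) (pullback.snd f g) hc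
  have h1 : i' ≫ G = pullback.fst f g ≫ i := hG.lift_fst _ _ _
  have h2 : i' ≫ CohB1.ProjSpaceOver.toBase n S' = pullback.snd f g := hG.lift_snd _ _ _
  have hs2 : IsPullback (i' ≫ CohB1.ProjSpaceOver.toBase n S') (pullback.fst f g) g
      (i ≫ CohB1.ProjSpaceOver.toBase n S) := by
    rw [h2, hif]; exact (IsPullback.of_hasPullback f g).flip
  have hsq : IsPullback i' (pullback.fst f g) G i := IsPullback.of_right hs2 h1 hG.flip
  refine ⟨n, i', ?_, h2⟩
  exact MorphismProperty.of_isPullback (P := @IsClosedImmersion) hsq.flip hi

end Groth.Agent.S9693
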