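import Groth.Statements.S9694
import Groth.Agent.H22.AffineGenLocusAmple
-- import your own Groth.Agent.* helpers here

set_option autoImplicit false
universe u
open CategoryTheory CategoryTheory.Limits AlgebraicGeometry
open Mor

namespace Groth.Agent.S9694

/-- Let f : X ⟶ S be universally closed, L an O_X-module ample relative to f and s a global section of
L, viewed as a morphism O_X ⟶ L. Then the open subscheme X_s of X where s generates L is affine over
S: the inclusion of X_s followed by f is an affine morphism. -/
theorem result {X S : Scheme.{u}} (f : X ⟶ S) [UniversallyClosed f]
    (L : X.Modules) (hL : RelAmple.IsRelAmple f L) (s : Coh.structureModule X ⟶ L) :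
    IsAffineHom ((CohB1.genLocus L s).ι ≫ f) := by
  exact Groth.Agent.H22.AffineGenLocusAmple.isAffineHom_genLocus_of_isRelAmple f L hL s

end Groth.Agent.S9694
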