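import Groth.Statements.S9695
import Groth.Agent.H22.VeryAmpleIso
import Groth.Agent.H22.VeryAmpleConv
import Groth.Agent.H18.RestrictTensor
import Groth.Agent.S4380
import Groth.Agent.S4387
import Groth.Agent.S4417
-- import your own Groth.Agent.* helpers here

set_option autoImplicit false
universe u
open CategoryTheory CategoryTheory.Limits AlgebraicGeometry
open Mor

namespace Groth.Agent.S9695

/-- Suppose f : X ⟶ S is a morphism of finite type and L is an invertible O_X-module. Then L is
f-relatively ample exactly when S can be covered by open subsets V with the following property: for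
every such V there is an integer d ≥ 1 for which the tensor power L^{⊗d}, restricted to f⁻¹(V), is
isomorphic to the pullback of O(1) under some V-immersion of f⁻¹(V) into a projective space P^n_V. -/
theorem result {X S : Scheme.{u}} (f : X ⟶ S)
    [LocallyOfFiniteType f] [QuasiCompact f] (L : X.Modules) (hLinv : PicF.IsInvertible L) :
    RelAmple.IsRelAmple f L ↔
      ∃ (ι : Type u) (V : ι → S.Opens), (⨆ j, V j) = ⊤ ∧
        ∀ j, ∃ d : ℕ, 0 < d ∧
          RelAmple.IsRelVeryAmplePn (f ∣_ V j) ((CohB1.tensorPow L d).restrict (f ⁻¹ᵁ V j).ι) := by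
  constructor
  · intro h
    refine ⟨S.affineOpens, fun j => j.1, iSup_affineOpens_eq_top S, fun j => ?_⟩
    have hA : CohB1.IsAmple (L.restrict (f ⁻¹ᵁ j.1).ι) := h.2 j
    obtain ⟨d₀, hpos, hd⟩ :=
      Groth.Agent.H22.VeryAmpleIso.eventually_isRelVeryAmplePn_tensorPow (f ∣_ j.1) hA
    obtain ⟨e⟩ := Groth.Agent.H18.RestrictTensor.nonempty_restrict_tensorPow (f ⁻¹ᵁ j.1).ι
      (L := L) hA.1 d₀
    exact ⟨d₀, hpos, Groth.Agent.H22.VeryAmpleIso.isRelVeryAmplePn_of_iso _ e.symm (hd d₀ le_rfl)⟩
  · rintro ⟨ι, V, hV, h⟩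
    rw [Groth.Agent.S4380.result f L V hV]
    intro j
    obtain ⟨d, hd, hva⟩ := h j
    have hLj : PicF.IsInvertible (L.restrict (f ⁻¹ᵁ V j).ι) :=
      Groth.Agent.H8.isInvertible_restrict _ hLinv
    have h1 := Groth.Agent.H22.VeryAmpleConv.isRelAmple_of_isRelVeryAmplePn (f ∣_ V j) _ hva
    obtain ⟨e⟩ := Groth.Agent.H18.RestrictTensor.nonempty_restrict_tensorPow (f ⁻¹ᵁ V j).ι
      (L := L) hLj d
    have h2 := Groth.Agent.S4417.isRelAmple_congr (f ∣_ V j) e h1
    exact (Groth.Agent.S4387.result (f ∣_ V j) _ hLj d hd).mpr h2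

end Groth.Agent.S9695
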