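import Groth.Statements.S9696
-- import your own Groth.Agent.* helpers here
import Groth.Agent.H48.UnramBC

set_option autoImplicit false
universe u
open CategoryTheory CategoryTheory.Limits AlgebraicGeometry
open Mor

namespace Groth.Agent.S9696

/-- Let f : X ⟶ S be flat and locally of finite presentation and g : S' ⟶ S any morphism, with base
change f' : X ×_S S' ⟶ S' and projection g' : X ×_S S' ⟶ X. Then the open set of points where f' is
etale is the inverse image under g' of the open set of points where f is etale. -/
theorem result {X S S' : Scheme.{u}} (f : X ⟶ S) [Flat f]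
    [LocallyOfFinitePresentation f] (g : S' ⟶ S) (x' : ↑(pullback f g)) :
    (∃ U' : (pullback f g).Opens, x' ∈ U' ∧ Etale (U'.ι ≫ pullback.snd f g)) ↔
      (∃ U : X.Opens, (pullback.fst f g).base x' ∈ U ∧ Etale (U.ι ≫ f)) := by
  have h1 := H48.etale_nhd_iff_flat_unramified (pullback.snd f g) x'
  have h2 := H48.etale_nhd_iff_flat_unramified f ((pullback.fst f g).base x')
  have hfl : (f.stalkMap ((pullback.fst f g).base x')).hom.Flat :=
    AlgebraicGeometry.Flat.stalkMap f _
  have hfl' : ((pullback.snd f g).stalkMap x').hom.Flat :=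
    AlgebraicGeometry.Flat.stalkMap _ _
  have h3 := H48.unramified_stalk_baseChange_iff f g x'
  refine h1.trans (Iff.trans ?_ h2.symm)
  constructor
  · rintro ⟨hu, -⟩
    exact ⟨h3.mp hu, hfl⟩
  · rintro ⟨hu, -⟩
    exact ⟨h3.mpr hu, hfl'⟩

end Groth.Agent.S9696
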