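import Groth.Statements.S9701
import Groth.Agent.H54.Extend
import Groth.Agent.H54.ValRing
import Groth.Agent.H54.GermInjective
import Groth.Agent.S2259

set_option autoImplicit false
universe u
open CategoryTheory CategoryTheory.Limits AlgebraicGeometry
open Mor

namespace Groth.Agent.S9701




/-- Let p : X ⟶ S and q : Y ⟶ S with q proper, let x be a point of X whose local ring is a valuation
ring, U ⊆ X an open with x in the closure of U, and f : U ⟶ Y a morphism over S. Assume that X is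
Noetherian, or else that X is reduced and has only finitely many irreducible components. Then there
are an open U' of X containing U and x and a morphism f' : U' ⟶ Y over S extending f. -/
theorem result {X Y S : Scheme.{u}} (p : X ⟶ S) (q : Y ⟶ S)
    [IsProper q] (x : X) (U : X.Opens) (f : (U : Scheme.{u}) ⟶ Y) (hf : f ≫ q = U.ι ≫ p)
    (hx : x ∈ closure (U : Set ↥X))
    (hX : (IsReduced X ∧ (irreducibleComponents ↥X).Finite) ∨ IsNoetherian X)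
    (hdom : IsDomain (X.presheaf.stalk x)) (hval : @ValuationRing (X.presheaf.stalk x) _ hdom) :
    ∃ (U' : X.Opens) (hUU' : U ≤ U'), x ∈ U' ∧
      ∃ f' : (U' : Scheme.{u}) ⟶ Y, f' ≫ q = U'.ι ≫ p ∧ X.homOfLE hUU' ≫ f' = f := by
  classical
  haveI := hdom
  haveI := hval
  have hfin : (irreducibleComponents ↥X).Finite := by
    rcases hX with ⟨_, h⟩ | h
    · exact h
    · haveI := h; exact TopologicalSpace.NoetherianSpace.finite_irreducibleComponents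
  haveI hgi : X.IsGermInjectiveAt x := by
    rcases hX with ⟨h1, h2⟩ | h
    · haveI := h1; exact Groth.Agent.H54.isGermInjectiveAt_of_isReduced X h2 x
    · haveI := h; infer_instance
  obtain ⟨U₂, hxU₂, hU₂red⟩ : ∃ U₂ : X.Opens, x ∈ U₂ ∧ IsReduced (U₂ : Scheme.{u}) := by
    rcases hX with ⟨h1, h2⟩ | h
    · haveI := h1; exact ⟨⊤, trivial, inferInstance⟩
    · haveI := h
      haveI : _root_.IsReduced (X.presheaf.stalk x) := inferInstance
      exact Groth.Agent.S2259.result X x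
  haveI := hU₂red
  -- the generic point of the local ring
  have hjφ : ∃ (j : Spec (CommRingCat.of (FractionRing (X.presheaf.stalk x))) ⟶
      Spec (X.presheaf.stalk x)), j = Spec.map (CommRingCat.ofHom
        (algebraMap (X.presheaf.stalk x) (FractionRing (X.presheaf.stalk x)))) := ⟨_, rfl⟩
  obtain ⟨j, hj⟩ := hjφ
  set z₀ : ↥(Spec (CommRingCat.of (FractionRing (X.presheaf.stalk x)))) :=
    IsLocalRing.closedPoint (FractionRing (X.presheaf.stalk x)) with hz₀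
  haveI hsub : Subsingleton ↥(Spec (CommRingCat.of (FractionRing (X.presheaf.stalk x)))) :=
    inferInstanceAs (Subsingleton (PrimeSpectrum (FractionRing (X.presheaf.stalk x))))
  set ξ : X := (j ≫ X.fromSpecStalk x) z₀ with hξ
  have hξx : ξ ⤳ x := by
    have : ξ ∈ Set.range (X.fromSpecStalk x) := ⟨j z₀, by rw [hξ, Scheme.Hom.comp_apply]⟩
    rwa [Scheme.range_fromSpecStalk] at this
  have h2 : ∀ y, y ⤳ x → ξ ⤳ y := by
    intro y hy
    have hy' : y ∈ Set.range (X.fromSpecStalk x) := by rwa [Scheme.range_fromSpecStalk]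
    obtain ⟨P, rfl⟩ := hy'
    have hle : PrimeSpectrum.asIdeal (j z₀) ≤ PrimeSpectrum.asIdeal P := by
      intro r hr
      have hr' : algebraMap (X.presheaf.stalk x) (FractionRing (X.presheaf.stalk x)) r ∈
          IsLocalRing.maximalIdeal (FractionRing (X.presheaf.stalk x)) := by
        rw [hj] at hr; exact hr
      rw [IsLocalRing.maximalIdeal_eq_bot, Ideal.mem_bot] at hr'
      have : r = 0 := IsFractionRing.injective (X.presheaf.stalk x)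
        (FractionRing (X.presheaf.stalk x)) (by rw [hr', map_zero])
      rw [this]; exact (PrimeSpectrum.asIdeal P).zero_mem
    have hsp : j z₀ ⤳ P :=
      (PrimeSpectrum.le_iff_specializes (j z₀) P).mp ((PrimeSpectrum.asIdeal_le_asIdeal _ _).mp hle)
    rw [hξ, Scheme.Hom.comp_apply]
    exact hsp.map (X.fromSpecStalk x).continuous
  obtain ⟨X₁s, hX₁open, hxX₁, hX₁sub⟩ := Groth.Agent.H54.exists_open_subset_closure hfin ξ x h2
  set X₁ : X.Opens := ⟨X₁s, hX₁open⟩ with hX₁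
  have hξU : ξ ∈ U := by
    obtain ⟨z, hz1, hzU⟩ := mem_closure_iff.mp hx X₁s hX₁open hxX₁
    exact (specializes_iff_mem_closure.mpr (hX₁sub hz1)).mem_open U.2 hzU
  have hrangeU : Set.range (j ≫ X.fromSpecStalk x) ⊆ Set.range U.ι := by
    rintro _ ⟨z, rfl⟩
    rw [Scheme.Opens.range_ι, Subsingleton.elim z z₀]
    exact hξU
  obtain ⟨gU, hgU⟩ : ∃ gU, gU ≫ U.ι = j ≫ X.fromSpecStalk x :=
    ⟨_, IsOpenImmersion.lift_fac _ _ hrangeU⟩
  -- the valuative criterion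
  have hex : ValuativeCriterion.Existence q := Groth.Agent.H54.existence_of_universallyClosed q
  have w : (gU ≫ f) ≫ q = Spec.map (CommRingCat.ofHom
        (algebraMap (X.presheaf.stalk x) (FractionRing (X.presheaf.stalk x)))) ≫
      (X.fromSpecStalk x ≫ p) := by
    rw [Category.assoc, hf, ← Category.assoc, hgU, ← hj, Category.assoc]
  obtain ⟨⟨⟨t, ht₁, ht₂⟩⟩⟩ := hex (@ValuativeCommSq.mk _ _ q (X.presheaf.stalk x) _ hdom hval
    (FractionRing (X.presheaf.stalk x)) _ _ _ (gU ≫ f) (X.fromSpecStalk x ≫ p) ⟨w⟩)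
  replace ht₁ : j ≫ t = gU ≫ f := by rw [hj]; exact ht₁
  -- spreading out
  obtain ⟨W, hxW, f'', ht, hf''⟩ := spread_out_of_isGermInjective' p q (x := x) t ht₂
  have hW'W : W ⊓ X₁ ⊓ U₂ ≤ W := inf_le_left.trans inf_le_left
  have hxW' : x ∈ W ⊓ X₁ ⊓ U₂ := ⟨⟨hxW, hxX₁⟩, hxU₂⟩
  have hg''q : (X.homOfLE hW'W ≫ f'') ≫ q = (W ⊓ X₁ ⊓ U₂).ι ≫ p := by
    rw [Category.assoc, hf'', ← Category.assoc, X.homOfLE_ι]
  -- agreement on the intersection
  have hNU₂ : U ⊓ (W ⊓ X₁ ⊓ U₂) ≤ U₂ := inf_le_right.trans inf_le_right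
  haveI : IsReduced ((U ⊓ (W ⊓ X₁ ⊓ U₂) : X.Opens) : Scheme.{u}) :=
    isReduced_of_isOpenImmersion (X.homOfLE hNU₂)
  have hξN : ξ ∈ U ⊓ (W ⊓ X₁ ⊓ U₂) :=
    ⟨hξU, ⟨⟨hξx.mem_open W.2 hxW, hξx.mem_open hX₁open hxX₁⟩, hξx.mem_open U₂.2 hxU₂⟩⟩
  have hrangeN : Set.range (j ≫ X.fromSpecStalk x) ⊆ Set.range (U ⊓ (W ⊓ X₁ ⊓ U₂)).ι := by
    rintro _ ⟨z, rfl⟩
    rw [Scheme.Opens.range_ι, Subsingleton.elim z z₀]
    exact hξN
  obtain ⟨gN, hgN⟩ : ∃ gN, gN ≫ (U ⊓ (W ⊓ X₁ ⊓ U₂)).ι = j ≫ X.fromSpecStalk x :=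
    ⟨_, IsOpenImmersion.lift_fac _ _ hrangeN⟩
  have hab : X.homOfLE (inf_le_left : U ⊓ (W ⊓ X₁ ⊓ U₂) ≤ U) ≫ f =
      X.homOfLE (inf_le_right : U ⊓ (W ⊓ X₁ ⊓ U₂) ≤ W ⊓ X₁ ⊓ U₂) ≫ (X.homOfLE hW'W ≫ f'') := by
    have H' : (X.homOfLE (inf_le_left : U ⊓ (W ⊓ X₁ ⊓ U₂) ≤ U) ≫ f) ≫ q =
        (X.homOfLE (inf_le_right : U ⊓ (W ⊓ X₁ ⊓ U₂) ≤ W ⊓ X₁ ⊓ U₂) ≫
          (X.homOfLE hW'W ≫ f'')) ≫ q := by
      rw [Category.assoc, hf, ← Category.assoc, X.homOfLE_ι, Category.assoc, hg''q,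
        ← Category.assoc, X.homOfLE_ι]
    have hga : gN ≫ (X.homOfLE (inf_le_left : U ⊓ (W ⊓ X₁ ⊓ U₂) ≤ U) ≫ f) =
        gN ≫ (X.homOfLE (inf_le_right : U ⊓ (W ⊓ X₁ ⊓ U₂) ≤ W ⊓ X₁ ⊓ U₂) ≫
          (X.homOfLE hW'W ≫ f'')) := by
      have e1 : gN ≫ X.homOfLE (inf_le_left : U ⊓ (W ⊓ X₁ ⊓ U₂) ≤ U) = gU := by
        rw [← cancel_mono U.ι, Category.assoc, X.homOfLE_ι, hgN, hgU]
      have e2 : gN ≫ X.homOfLE (inf_le_right : U ⊓ (W ⊓ X₁ ⊓ U₂) ≤ W ⊓ X₁ ⊓ U₂) ≫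
          X.homOfLE hW'W = j ≫ W.fromSpecStalkOfMem x hxW := by
        rw [← cancel_mono W.ι, Category.assoc, Category.assoc, X.homOfLE_ι, X.homOfLE_ι, hgN,
          Category.assoc, Scheme.Opens.fromSpecStalkOfMem_ι]
      rw [← Category.assoc, e1, ← ht₁, ht, ← Category.assoc, ← Category.assoc, ← e2]
      simp only [Category.assoc]
    refine ext_of_fromSpecResidueField_eq _ _ q {gN z₀} ?_ ?_ H'
    · intro y
      have hy : ξ ⤳ (U ⊓ (W ⊓ X₁ ⊓ U₂)).ι y := by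
        apply specializes_iff_mem_closure.mpr
        apply hX₁sub
        exact y.2.2.1.2
      have hξ' : (U ⊓ (W ⊓ X₁ ⊓ U₂)).ι (gN z₀) = ξ := by
        rw [hξ, ← hgN, Scheme.Hom.comp_apply]
      rw [← hξ'] at hy
      exact specializes_iff_mem_closure.mp
        ((U ⊓ (W ⊓ X₁ ⊓ U₂)).ι.isOpenEmbedding.isInducing.specializes_iff.mp hy)
    · rintro _ rfl
      exact Groth.Agent.H54.fromSpecResidueField_comp_eq_of_field_point _ gN _ _ hga
  -- gluing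
  obtain ⟨G, hG⟩ := Groth.Agent.H54.glue_family (X := X) (Y := Y)
    (fun b : Bool => cond b U (W ⊓ X₁ ⊓ U₂))
    (fun b => Bool.rec (motive := fun b => ((cond b U (W ⊓ X₁ ⊓ U₂) : X.Opens) : Scheme.{u}) ⟶ Y)
      (X.homOfLE hW'W ≫ f'') f b)
    (by
      rintro (_ | _) (_ | _)
      · rfl
      · have hsw : (W ⊓ X₁ ⊓ U₂) ⊓ U ≤ U ⊓ (W ⊓ X₁ ⊓ U₂) := le_of_eq (inf_comm _ _)
        show X.homOfLE (inf_le_left : (W ⊓ X₁ ⊓ U₂) ⊓ U ≤ W ⊓ X₁ ⊓ U₂) ≫ (X.homOfLE hW'W ≫ f'') =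
          X.homOfLE (inf_le_right : (W ⊓ X₁ ⊓ U₂) ⊓ U ≤ U) ≫ f
        rw [← X.homOfLE_homOfLE hsw inf_le_right, ← X.homOfLE_homOfLE hsw inf_le_left,
          Category.assoc, Category.assoc, hab]
      · exact hab
      · rfl)
  refine ⟨⨆ b : Bool, cond b U (W ⊓ X₁ ⊓ U₂), le_iSup (fun b : Bool => cond b U (W ⊓ X₁ ⊓ U₂)) true,
    TopologicalSpace.Opens.mem_iSup.mpr ⟨false, hxW'⟩, G, ?_, hG true⟩
  refine Scheme.Cover.hom_ext (Scheme.Opens.iSupOpenCover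
    (fun b : Bool => cond b U (W ⊓ X₁ ⊓ U₂))) _ _ fun b => ?_
  show X.homOfLE (le_iSup (fun b : Bool => cond b U (W ⊓ X₁ ⊓ U₂)) b) ≫ G ≫ q =
    X.homOfLE (le_iSup (fun b : Bool => cond b U (W ⊓ X₁ ⊓ U₂)) b) ≫ _ ≫ p
  rw [← Category.assoc, hG b, ← Category.assoc, X.homOfLE_ι]
  cases b
  · exact hg''q
  · exact hf

end Groth.Agent.S9701
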