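import Groth.Statements.S9703
import Groth.Agent.H73.SplitCover

set_option autoImplicit false
universe u
open CategoryTheory CategoryTheory.Limits AlgebraicGeometry
open Mor

namespace Groth.Agent.S9703

/-- Let f : Y ⟶ X be finite with X affine. Then there exist a surjective finite locally free b : X' ⟶ X,
a finite locally free c : Z' ⟶ X' and a closed immersion i of Y' = X' ×_X Y into Z' over X' such
that Z' is, as a set, the union of finitely many closed subschemes each mapping isomorphically onto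
X'. (The published statement also records that Y' ⟶ Y is surjective finite locally free, which
follows by base change; this row omits it.) -/
theorem result {X Y : Scheme.{u}} [IsAffine X] (f : Y ⟶ X)
    [IsFinite f] :
    ∃ (X' : Scheme.{u}) (b : X' ⟶ X) (Z' : Scheme.{u}) (c : Z' ⟶ X') (i : pullback f b ⟶ Z'),
      Mor2.IsFinLocFree b ∧ Surjective b ∧ Mor2.IsFinLocFree c ∧ IsClosedImmersion i ∧
      i ≫ c = pullback.snd f b ∧
      ∃ (m : ℕ) (Zj : Fin m → Scheme.{u}) (ιj : ∀ j, Zj j ⟶ Z'),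
        (∀ j, IsClosedImmersion (ιj j)) ∧ (∀ j, IsIso (ιj j ≫ c)) ∧
        (⋃ j, Set.range (ιj j).base) = Set.univ := by
  have hY : IsAffine Y := isAffine_of_isAffineHom f
  have hfin0 := (HasAffineProperty.iff_of_isAffine (P := @IsFinite) (f := f)).mp inferInstance
  letI : Algebra Γ(X, ⊤) Γ(Y, ⊤) := f.appTop.hom.toAlgebra
  have hfin : Module.Finite Γ(X, ⊤) Γ(Y, ⊤) := hfin0.2
  obtain ⟨X', b', Z', c, i', hb, hbs, hc, hi, hic, m, Zj, ιj, h1, h2, h3⟩ :=
    Groth.Agent.H73.SplitTower.spec_case Γ(X, ⊤) Γ(Y, ⊤)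
  have hnat : f ≫ X.isoSpec.hom = Y.isoSpec.hom ≫
      Spec.map (CommRingCat.ofHom (algebraMap Γ(X, ⊤) Γ(Y, ⊤))) :=
    (Scheme.isoSpec_hom_naturality f).symm
  let b : X' ⟶ X := b' ≫ X.isoSpec.inv
  have hb2 : b ≫ X.isoSpec.hom = 𝟙 X' ≫ b' := by simp [b]
  let e : pullback f b ⟶ pullback (Spec.map (CommRingCat.ofHom (algebraMap Γ(X, ⊤) Γ(Y, ⊤)))) b' :=
    pullback.map f b (Spec.map (CommRingCat.ofHom (algebraMap Γ(X, ⊤) Γ(Y, ⊤)))) b'
      Y.isoSpec.hom (𝟙 X') X.isoSpec.hom hnat hb2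
  haveI : IsIso e := by dsimp only [e]; infer_instance
  obtain ⟨hb_fin, hb_flat, hb_fp⟩ := hb
  refine ⟨X', b, Z', c, e ≫ i', ⟨inferInstance, inferInstance, inferInstance⟩, inferInstance, hc,
    inferInstance, ?_, m, Zj, ιj, h1, h2, h3⟩
  rw [Category.assoc, hic]
  show pullback.map _ _ _ _ _ _ _ _ _ ≫ pullback.snd _ _ = _
  rw [pullback.lift_snd, Category.comp_id]

end Groth.Agent.S9703
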