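import Groth.Statements.S9709
-- import your own Groth.Agent.* helpers here

set_option autoImplicit false
universe u
open CategoryTheory CategoryTheory.Limits AlgebraicGeometry
open Mor

namespace Groth.Agent.S9709

/-- Let f : X ⟶ S be an integral morphism. Then every point x of X is closed in its fibre: a point of
f⁻¹(f x) specialising from x equals x. -/
theorem result {X S : Scheme.{u}} (f : X ⟶ S) [IsIntegralHom f] (x : X) :
    closure {x} ∩ f.base ⁻¹' {f.base x} = {x} := by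
  apply Set.eq_singleton_iff_unique_mem.mpr
  refine ⟨⟨subset_closure rfl, rfl⟩, ?_⟩
  rintro y ⟨hy1, hy2⟩
  have hspec : x ⤳ y := specializes_iff_mem_closure.mpr hy1
  obtain ⟨V, hV, hxV, -⟩ := exists_isAffineOpen_mem_and_subset
    (x := f.base x) (U := ⊤) trivial
  have hU : IsAffineOpen (f ⁻¹ᵁ V) := hV.preimage f
  have hxU : x ∈ f ⁻¹ᵁ V := hxV
  have hy2' : f.base y = f.base x := hy2
  have hyU : y ∈ f ⁻¹ᵁ V := by
    show f.base y ∈ V
    rw [hy2']; exact hxV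
  obtain ⟨p, hp⟩ : ∃ p : PrimeSpectrum Γ(X, f ⁻¹ᵁ V), hU.fromSpec p = x :=
    ⟨hU.primeIdealOf ⟨x, hxU⟩, hU.fromSpec_primeIdealOf ⟨x, hxU⟩⟩
  obtain ⟨q, hq⟩ : ∃ q : PrimeSpectrum Γ(X, f ⁻¹ᵁ V), hU.fromSpec q = y :=
    ⟨hU.primeIdealOf ⟨y, hyU⟩, hU.fromSpec_primeIdealOf ⟨y, hyU⟩⟩
  have hpq : p ⤳ q := by
    have hind : Topology.IsInducing hU.fromSpec.base :=
      hU.fromSpec.isOpenEmbedding.isInducing
    refine hind.specializes_iff.mp ?_
    show hU.fromSpec p ⤳ hU.fromSpec q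
    rw [hp, hq]; exact hspec
  have hle : p ≤ q := (PrimeSpectrum.le_iff_specializes p q).mpr hpq
  have hnat := IsAffineOpen.SpecMap_appLE_fromSpec f hV hU le_rfl
  have himg : Spec.map (f.appLE V (f ⁻¹ᵁ V) le_rfl) p = Spec.map (f.appLE V (f ⁻¹ᵁ V) le_rfl) q := by
    apply hV.fromSpec.isOpenEmbedding.injective
    show hV.fromSpec (Spec.map (f.appLE V (f ⁻¹ᵁ V) le_rfl) p) =
      hV.fromSpec (Spec.map (f.appLE V (f ⁻¹ᵁ V) le_rfl) q)
    rw [← Scheme.Hom.comp_apply, ← Scheme.Hom.comp_apply, hnat, Scheme.Hom.comp_apply,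
      Scheme.Hom.comp_apply, hp, hq]
    exact hy2'.symm
  have hint : (f.appLE V (f ⁻¹ᵁ V) le_rfl).hom.IsIntegral := by
    rw [← Scheme.Hom.app_eq_appLE]
    exact IsIntegralHom.isIntegral_app f V hV
  have hpq_eq : p = q := by
    by_contra hne
    have hlt : p.asIdeal < q.asIdeal :=
      lt_of_le_of_ne hle (fun h => hne (PrimeSpectrum.ext h))
    obtain ⟨_, z, hzq, hzp⟩ := SetLike.lt_iff_le_and_exists.mp hlt
    letI := (f.appLE V (f ⁻¹ᵁ V) le_rfl).hom.toAlgebra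
    have hz : IsIntegral Γ(S, V) z := hint z
    have hlt' := Ideal.comap_lt_comap_of_integral_mem_sdiff hle ⟨hzq, hzp⟩ hz
    have heq : p.asIdeal.comap (algebraMap Γ(S, V) Γ(X, f ⁻¹ᵁ V)) =
        q.asIdeal.comap (algebraMap Γ(S, V) Γ(X, f ⁻¹ᵁ V)) :=
      congrArg PrimeSpectrum.asIdeal himg
    exact (ne_of_lt hlt') heq
  rw [← hq, ← hp, hpq_eq]

end Groth.Agent.S9709
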