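import Groth.Statements.S9711
-- import your own Groth.Agent.* helpers here
import Groth.Agent.H39.ConormalMapMono

set_option autoImplicit false
universe u
open CategoryTheory CategoryTheory.Limits AlgebraicGeometry
open OmegaSh

namespace Groth.Agent.S9711



/-- Let p : X ⟶ Y be smooth and i : Z ⟶ X, j : Z ⟶ Y quasi-compact immersions with i ≫ p = j. Then the
canonical sequence 0 → C_{Z/Y} → C_{Z/X} → i^*Ω_{X/Y} → 0 is short exact; here Ω_{X/Y} is any
receptacle of a universal Y-derivation of O_X, the first map is the canonical map of conormal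
sheaves and the second is the one induced by the derivation. (The published statement allows
arbitrary immersions; quasi-compactness of i and j is assumed here to form the conormal sheaves.) -/
theorem result {Z X Y : Scheme.{u}} (p : X ⟶ Y) [Smooth p]
    (i : Z ⟶ X) (j : Z ⟶ Y) [IsImmersion i] [IsImmersion j] [QuasiCompact i] [QuasiCompact j] (hij : i ≫ p = j)
    (Ω : X.Modules) (d : OmegaSh.Der p Ω) (hd : OmegaSh.IsUniversal d)
    (ψ : (Scheme.Modules.pullback (𝟙 Z)).obj (Omega.conormal j) ⟶ Omega.conormal i)
    (hψ : OmegaSh.IsConormalMap i j p (𝟙 Z) ψ)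
    (φ : Omega.conormal i ⟶ (Scheme.Modules.pullback i).obj Ω) (hφ : OmegaSh.IsConormalDiff i d φ) :
    ∃ w : ψ ≫ φ = 0, (ShortComplex.mk ψ φ w).ShortExact := by
  have w := Groth.Agent.H39.ConormalMap.conormalMap_comp_conormalDiff p i j hij hψ hφ
  have hex := Groth.Agent.H39.ConormalMap.exact_conormalMap p i j hij hψ hφ hd
  haveI : Mono ψ := Groth.Agent.H39.ConormalMapMono.mono_conormalMap p i j hij hψ
  haveI : Epi φ := hex.2
  exact ⟨w, { exact := hex.1, mono_f := inferInstanceAs (Mono ψ), epi_g := inferInstanceAs (Epi φ) }⟩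

end Groth.Agent.S9711
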