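import Groth.Statements.S9714
import Groth.Agent.S0658
import Mathlib.AlgebraicGeometry.Noetherian
import Mathlib.AlgebraicGeometry.Morphisms.Flat

set_option autoImplicit false
universe u
open CategoryTheory CategoryTheory.Limits AlgebraicGeometry
open Mor

namespace Groth.Agent.S9714

/-- Let k be a field and X a scheme over k. The structure morphism X ⟶ Spec k is unramified (formally
unramified and locally of finite type) if and only if X is isomorphic over k to a disjoint union of
spectra of finite separable field extensions of k. -/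
theorem result (k : Type u) [Field k] {X : Scheme.{u}}
    (f : X ⟶ Spec (CommRingCat.of k)) :
    (FormallyUnramified f ∧ LocallyOfFiniteType f) ↔
      ∃ (ι : Type u) (K : ι → Type u) (_ : ∀ i, Field (K i)) (_ : ∀ i, Algebra k (K i)),
        (∀ i, FiniteDimensional k (K i) ∧ Algebra.IsSeparable k (K i)) ∧
        ∃ e : X ≅ ∐ (fun i => Spec (CommRingCat.of (K i))),
          e.hom ≫ Sigma.desc (fun i => Spec.map (CommRingCat.ofHom (algebraMap k (K i)))) = f := by
  have hiff : (FormallyUnramified f ∧ LocallyOfFiniteType f) ↔ AlgebraicGeometry.Etale f := by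
    constructor
    · rintro ⟨h1, h2⟩
      rw [AlgebraicGeometry.Etale.iff_flat_and_formallyUnramified]
      exact ⟨inferInstance, h1, LocallyOfFinitePresentation.iff_locallyOfFiniteType.mpr h2⟩
    · intro h
      exact ⟨inferInstance, inferInstance⟩
  rw [hiff, Groth.Agent.S0658.result k X f]
  constructor
  · rintro ⟨ι, K, i1, i2, hfin, hsep, e, he⟩
    refine ⟨ι, K, i1, i2, fun i => ⟨hfin i, hsep i⟩, e.symm, ?_⟩
    rw [Iso.symm_hom, Iso.inv_comp_eq]
    refine Limits.Sigma.hom_ext _ _ fun i => ?_
    rw [Limits.Sigma.ι_desc, he i]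
  · rintro ⟨ι, K, i1, i2, h, e, he⟩
    refine ⟨ι, K, i1, i2, fun i => (h i).1, fun i => (h i).2, e.symm, fun i => ?_⟩
    rw [Iso.symm_hom, ← he, Iso.inv_hom_id_assoc, Limits.Sigma.ι_desc]

end Groth.Agent.S9714
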