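import Groth.Statements.S9721
-- import your own Groth.Agent.* helpers here

set_option autoImplicit false
universe u
open CategoryTheory AlgebraicGeometry
open Mor

namespace Groth.Agent.S9721

/-- Let f : X ⟶ S be a morphism, x a point of X and V an affine open neighbourhood of f(x) in S. Then f
is smooth on some open neighbourhood of x if and only if there is an affine open neighbourhood U of
x with f(U) ⊆ V such that the induced ring map Γ(S, V) ⟶ Γ(X, U) is standard smooth. -/
theorem result {X S : Scheme.{u}} (f : X ⟶ S) (x : X)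
    (V : S.Opens) (hV : IsAffineOpen V) (hxV : f x ∈ V) :
    (∃ W : X.Opens, x ∈ W ∧ Smooth (W.ι ≫ f)) ↔
      ∃ (U : X.Opens) (_ : IsAffineOpen U) (_ : x ∈ U) (e : U ≤ f ⁻¹ᵁ V),
        (f.appLE V U e).hom.IsStandardSmooth := by
  haveI : IsAffine V.toScheme := hV
  have key : ∀ (U : X.Opens) (hU : IsAffineOpen U) (e : U ≤ f ⁻¹ᵁ V),
      Smooth (f.resLE V U e) ↔ (f.appLE V U e).hom.Smooth := by
    intro U hU e
    haveI : IsAffine U.toScheme := hU
    have hresp : (RingHom.toMorphismProperty RingHom.Smooth).RespectsIso :=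
      RingHom.toMorphismProperty_respectsIso_iff.mp RingHom.Smooth.propertyIsLocal.respectsIso
    rw [HasRingHomProperty.iff_of_isAffine (P := @Smooth)]
    exact MorphismProperty.arrow_mk_iso_iff (RingHom.toMorphismProperty RingHom.Smooth)
      (arrowResLEAppIso f V U e)
  constructor
  · rintro ⟨W, hxW, hW⟩
    obtain ⟨U₀, hU₀, hxU₀, hU₀le⟩ :=
      exists_isAffineOpen_mem_and_subset (x := x) (U := W ⊓ f ⁻¹ᵁ V) ⟨hxW, hxV⟩
    have hU₀W : U₀ ≤ W := fun y hy => (hU₀le hy).1
    have e₀ : U₀ ≤ f ⁻¹ᵁ V := fun y hy => (hU₀le hy).2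
    have h1 : Smooth (U₀.ι ≫ f) := by
      rw [← X.homOfLE_ι hU₀W, Category.assoc]
      infer_instance
    have h2 : Smooth (f.resLE V U₀ e₀) := by
      apply MorphismProperty.of_postcomp (W := @Smooth) (W' := @IsOpenImmersion) _ V.ι
        inferInstance
      rw [Scheme.Hom.resLE_comp_ι]; exact h1
    have h3 := (key U₀ hU₀ e₀).mp h2
    rw [RingHom.smooth_iff_locally_isStandardSmooth,
      RingHom.locally_iff_isLocalization RingHom.isStandardSmooth_respectsIso] at h3
    obtain ⟨s, hs, hfs⟩ := h3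
    have hcov := iSup_basicOpen_of_span_eq_top U₀ (s : Set Γ(X, U₀)) hs
    have hx' : x ∈ (⨆ i ∈ (s : Set Γ(X, U₀)), X.basicOpen i) := hcov.symm ▸ hxU₀
    obtain ⟨r, hr, hxr⟩ : ∃ r ∈ s, x ∈ X.basicOpen r := by simpa using hx'
    refine ⟨X.basicOpen r, hU₀.basicOpen r, hxr, (X.basicOpen_le r).trans e₀, ?_⟩
    rw [← f.appLE_map e₀ (homOfLE (X.basicOpen_le r)).op]
    have : IsLocalization.Away r Γ(X, X.basicOpen r) := hU₀.isLocalization_basicOpen r
    exact hfs r hr _
  · rintro ⟨U, hU, hxU, e, hstd⟩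
    refine ⟨U, hxU, ?_⟩
    have h2 : Smooth (f.resLE V U e) := (key U hU e).mpr hstd.smooth
    rw [← Scheme.Hom.resLE_comp_ι f e]
    infer_instance

end Groth.Agent.S9721
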