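import Groth.Statements.S9722
-- import your own Groth.Agent.* helpers here
import Mathlib.RingTheory.Unramified.LocalStructure

set_option autoImplicit false
universe u
open CategoryTheory AlgebraicGeometry
open Mor

namespace Groth.Agent.S9722

/-- Let f : X ⟶ S be a morphism, x a point of X and V an affine open neighbourhood of f(x) in S. Then f
is étale on some open neighbourhood of x if and only if there is an affine open neighbourhood U of x
with f(U) ⊆ V such that Γ(X, U) is a standard étale algebra over Γ(S, V) through the induced ring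
map. -/
theorem result {X S : Scheme.{u}} (f : X ⟶ S) (x : X)
    (V : S.Opens) (hV : IsAffineOpen V) (hxV : f x ∈ V) :
    (∃ W : X.Opens, x ∈ W ∧ Etale (W.ι ≫ f)) ↔
      ∃ (U : X.Opens) (_ : IsAffineOpen U) (_ : x ∈ U) (e : U ≤ f ⁻¹ᵁ V),
        letI := (f.appLE V U e).hom.toAlgebra
        Algebra.IsStandardEtale Γ(S, V) Γ(X, U) := by
  haveI : IsAffine V.toScheme := hV
  have key : ∀ (U : X.Opens) (hU : IsAffineOpen U) (e : U ≤ f ⁻¹ᵁ V),
      Etale (f.resLE V U e) ↔ (f.appLE V U e).hom.Etale := by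
    intro U hU e
    haveI : IsAffine U.toScheme := hU
    have hresp : (RingHom.toMorphismProperty RingHom.Etale).RespectsIso :=
      RingHom.toMorphismProperty_respectsIso_iff.mp RingHom.Etale.propertyIsLocal.respectsIso
    rw [HasRingHomProperty.iff_of_isAffine (P := @Etale)]
    exact MorphismProperty.arrow_mk_iso_iff (RingHom.toMorphismProperty RingHom.Etale)
      (arrowResLEAppIso f V U e)
  constructor
  · rintro ⟨W, hxW, hW⟩
    obtain ⟨U₀, hU₀, hxU₀, hU₀le⟩ :=
      exists_isAffineOpen_mem_and_subset (x := x) (U := W ⊓ f ⁻¹ᵁ V) ⟨hxW, hxV⟩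
    have hU₀W : U₀ ≤ W := fun y hy => (hU₀le hy).1
    have e₀ : U₀ ≤ f ⁻¹ᵁ V := fun y hy => (hU₀le hy).2
    have h1 : Etale (U₀.ι ≫ f) := by
      rw [← X.homOfLE_ι hU₀W, Category.assoc]
      infer_instance
    have h2 : Etale (f.resLE V U₀ e₀) := by
      apply MorphismProperty.of_postcomp (W := @Etale) (W' := @IsOpenImmersion) _ V.ι
        inferInstance
      rw [Scheme.Hom.resLE_comp_ι]; exact h1
    have h3 : (f.appLE V U₀ e₀).hom.Etale := (key U₀ hU₀ e₀).mp h2
    letI alg : Algebra Γ(S, V) Γ(X, U₀) := (f.appLE V U₀ e₀).hom.toAlgebra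
    have hEt : Algebra.Etale Γ(S, V) Γ(X, U₀) := h3
    have hspan : Ideal.span {g : Γ(X, U₀) |
        Algebra.IsStandardEtale Γ(S, V) (Localization.Away g)} = ⊤ := by
      by_contra hne
      obtain ⟨Q, hQmax, hle⟩ := Ideal.exists_le_maximal _ hne
      haveI := hQmax.isPrime
      haveI : Algebra.IsEtaleAt Γ(S, V) Q := by
        have hmem : (⟨Q, hQmax.isPrime⟩ : PrimeSpectrum Γ(X, U₀)) ∈
            Algebra.etaleLocus Γ(S, V) Γ(X, U₀) := by
          rw [Algebra.etaleLocus_eq_univ_iff_etale.mpr hEt]; trivial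
        exact hmem
      obtain ⟨g, hgQ, hg⟩ := Algebra.IsEtaleAt.exists_isStandardEtale (R := Γ(S, V)) Q
      exact hgQ (hle (Ideal.subset_span hg))
    have hcov := iSup_basicOpen_of_span_eq_top U₀ _ hspan
    have hx' : x ∈ (⨆ i ∈ {g : Γ(X, U₀) |
        Algebra.IsStandardEtale Γ(S, V) (Localization.Away g)}, X.basicOpen i) :=
      hcov.symm ▸ hxU₀
    obtain ⟨r, hr, hxr⟩ : ∃ r ∈ {g : Γ(X, U₀) |
        Algebra.IsStandardEtale Γ(S, V) (Localization.Away g)}, x ∈ X.basicOpen r := by
      simpa using hx'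
    refine ⟨X.basicOpen r, hU₀.basicOpen r, hxr, (X.basicOpen_le r).trans e₀, ?_⟩
    haveI hloc : IsLocalization.Away r Γ(X, X.basicOpen r) := hU₀.isLocalization_basicOpen r
    haveI hrstd : Algebra.IsStandardEtale Γ(S, V) (Localization.Away r) := hr
    letI algC : Algebra Γ(S, V) Γ(X, X.basicOpen r) :=
      (f.appLE V (X.basicOpen r) ((X.basicOpen_le r).trans e₀)).hom.toAlgebra
    haveI : IsScalarTower Γ(S, V) Γ(X, U₀) Γ(X, X.basicOpen r) := by
      refine IsScalarTower.of_algebraMap_eq' ?_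
      show (f.appLE V (X.basicOpen r) ((X.basicOpen_le r).trans e₀)).hom =
        (X.presheaf.map (homOfLE (X.basicOpen_le r)).op).hom.comp (f.appLE V U₀ e₀).hom
      rw [← CommRingCat.hom_comp, Scheme.Hom.appLE_map]
    show Algebra.IsStandardEtale Γ(S, V) Γ(X, X.basicOpen r)
    exact Algebra.IsStandardEtale.of_equiv
      ((IsLocalization.algEquiv (Submonoid.powers r) (Localization.Away r)
        Γ(X, X.basicOpen r)).restrictScalars Γ(S, V))
  · rintro ⟨U, hU, hxU, e, hstd⟩
    refine ⟨U, hxU, ?_⟩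
    have h3 : (f.appLE V U e).hom.Etale := by
      letI := (f.appLE V U e).hom.toAlgebra
      haveI : Algebra.IsStandardEtale Γ(S, V) Γ(X, U) := hstd
      show Algebra.Etale Γ(S, V) Γ(X, U)
      infer_instance
    have h2 : Etale (f.resLE V U e) := (key U hU e).mpr h3
    rw [← Scheme.Hom.resLE_comp_ι f e]
    infer_instance

end Groth.Agent.S9722
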