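import Groth.Statements.S9723
-- import your own Groth.Agent.* helpers here

set_option autoImplicit false
universe u
open FlatMor

namespace Groth.Agent.S9723

open AlgebraicGeometry CategoryTheory in
/-- Let f : X ⟶ S be formally étale (unique infinitesimal lifting against square-zero thickenings of
affine schemes), and let U be an open subscheme of X and V an open subscheme of S such that f maps U
into V. Then the restricted morphism U ⟶ V is formally étale. -/
theorem result {X S : Scheme.{u}} (f : X ⟶ S) (hf : MoreMor.IsFormallyEtaleHom f)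
    (U : X.Opens) (V : S.Opens) (h : U ≤ f ⁻¹ᵁ V) : MoreMor.IsFormallyEtaleHom (f.resLE V U h) := by
  intro A _ I hI a b hab
  have hle : I ≤ nilradical A := by
    intro x hx
    refine ⟨2, ?_⟩
    have : x ^ 2 ∈ I ^ 2 := Ideal.pow_mem_pow hx 2
    rw [hI] at this
    exact this
  have hsurj : ∀ p : Spec (CommRingCat.of A), ∃ q : Spec (CommRingCat.of (A ⧸ I)),
      Spec.map (CommRingCat.ofHom (Ideal.Quotient.mk I)) q = p := by
    intro p
    obtain ⟨q, hq⟩ := (PrimeSpectrum.comap_quotientMk_bijective_of_le_nilradical hle).2 p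
    exact ⟨q, hq⟩
  have hcomm : Spec.map (CommRingCat.ofHom (Ideal.Quotient.mk I)) ≫ (b ≫ V.ι) =
      (a ≫ U.ι) ≫ f := by
    rw [← Category.assoc, hab, Category.assoc, Category.assoc, Scheme.Hom.resLE_comp_ι]
  obtain ⟨l', ⟨hl'1, hl'2⟩, hl'uniq⟩ := hf A I hI (a ≫ U.ι) (b ≫ V.ι) hcomm
  have hrange : Set.range l' ⊆ Set.range U.ι := by
    rintro _ ⟨p, rfl⟩
    obtain ⟨q, rfl⟩ := hsurj p
    have : l' (Spec.map (CommRingCat.ofHom (Ideal.Quotient.mk I)) q) = U.ι (a q) := by
      rw [← Scheme.Hom.comp_apply, hl'1, Scheme.Hom.comp_apply]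
    rw [this]; exact ⟨a q, rfl⟩
  refine ⟨IsOpenImmersion.lift U.ι l' hrange, ⟨?_, ?_⟩, ?_⟩
  · rw [← cancel_mono U.ι, Category.assoc, IsOpenImmersion.lift_fac, hl'1]
  · rw [← cancel_mono V.ι, Category.assoc, Scheme.Hom.resLE_comp_ι,
      IsOpenImmersion.lift_fac_assoc, hl'2]
  · rintro l₂ ⟨h1, h2⟩
    apply IsOpenImmersion.lift_uniq
    apply hl'uniq
    constructor
    · rw [← Category.assoc, h1]
    · rw [Category.assoc, ← Scheme.Hom.resLE_comp_ι f h, ← Category.assoc, h2]

end Groth.Agent.S9723
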