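import Groth.Statements.S9724
import Groth.Agent.H49.SliceSmoothSch
import Groth.Agent.H49.SliceSmoothSep
import Groth.Agent.H9.FiberStalk

set_option autoImplicit false
universe u
open FlatMor

namespace Groth.Agent.S9724

open AlgebraicGeometry CategoryTheory Limits in
theorem exists_of_eq {X S : Scheme.{u}} (f : X ⟶ S) {x x' : X} (e : x' = x)
    (H : ∃ y ∈ IsLocalRing.maximalIdeal (X.presheaf.stalk x'),
      y ∉ Ideal.map (f.stalkMap x').hom (IsLocalRing.maximalIdeal (S.presheaf.stalk (f x')))) :
    ∃ y ∈ IsLocalRing.maximalIdeal (X.presheaf.stalk x),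
      y ∉ Ideal.map (f.stalkMap x).hom (IsLocalRing.maximalIdeal (S.presheaf.stalk (f x))) := by
  subst e; exact H


open AlgebraicGeometry CategoryTheory Limits in
/-- Let f : X ⟶ S be a morphism and x a point such that f is smooth on an open neighbourhood of x, the
residue field extension κ(x)/κ(f x) is separable (formally smooth), and x is not the generic point
of any irreducible component of the fibre over f x, i.e. (the fibre being smooth over a field near
x) the maximal ideal of the local ring of the fibre at x is nonzero. Then there are an affine open U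
∋ x and a nonzerodivisor h' of Γ(X, U) vanishing at x such that the closed subscheme V(h') of U, an
effective Cartier divisor through x, is smooth over S. -/
theorem result {X S : Scheme.{u}} (f : X ⟶ S) (x : X)
    (W : X.Opens) (hxW : x ∈ W) (hW : Smooth (W.ι ≫ f))
    (hsep : letI := (f.residueFieldMap x).hom.toAlgebra
      Algebra.FormallySmooth (S.residueField (f x)) (X.residueField x))
    (hgen : IsLocalRing.maximalIdeal ↑((f.fiber (f x)).presheaf.stalk (f.asFiber x)) ≠ ⊥) :
    ∃ (U : X.Opens) (hU : IsAffineOpen U) (hx : x ∈ U) (h' : Γ(X, U)), h' ∈ nonZeroDivisors Γ(X, U) ∧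
      X.presheaf.germ U x hx h' ∈ IsLocalRing.maximalIdeal ↑(X.presheaf.stalk x) ∧
      Smooth (Spec.map (CommRingCat.ofHom (Ideal.Quotient.mk (Ideal.span {h'}))) ≫ hU.fromSpec ≫ f) := by
  obtain ⟨hflat, hfs, heft⟩ := Groth.Agent.H49.SliceSmooth.stalk_facts f x W hxW hW
  letI algx : Algebra (S.presheaf.stalk (f x)) (X.presheaf.stalk x) :=
    (f.stalkMap x).hom.toAlgebra
  haveI : IsLocalHom (algebraMap (S.presheaf.stalk (f x)) (X.presheaf.stalk x)) :=
    inferInstanceAs (IsLocalHom (f.stalkMap x).hom)
  haveI : Algebra.FormallySmooth (S.presheaf.stalk (f x)) (X.presheaf.stalk x) := hfs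
  haveI : Algebra.EssFiniteType (S.presheaf.stalk (f x)) (X.presheaf.stalk x) := heft
  -- the residue field extension
  have hsep' : Algebra.FormallySmooth (IsLocalRing.ResidueField (S.presheaf.stalk (f x)))
      (IsLocalRing.ResidueField (X.presheaf.stalk x)) := by
    have halg : (f.residueFieldMap x).hom.toAlgebra =
        (inferInstance : Algebra (IsLocalRing.ResidueField (S.presheaf.stalk (f x)))
          (IsLocalRing.ResidueField (X.presheaf.stalk x))) := by
      refine Algebra.algebra_ext _ _ (fun a => ?_)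
      obtain ⟨r, rfl⟩ := IsLocalRing.residue_surjective a
      rfl
    have h2 : @Algebra.FormallySmooth (IsLocalRing.ResidueField (S.presheaf.stalk (f x)))
        (IsLocalRing.ResidueField (X.presheaf.stalk x)) _ _ (f.residueFieldMap x).hom.toAlgebra :=
      hsep
    rw [halg] at h2
    exact h2
  -- the fibre local ring is not a field
  have hgen' : ∃ y ∈ IsLocalRing.maximalIdeal (X.presheaf.stalk x),
      y ∉ Ideal.map (f.stalkMap x).hom (IsLocalRing.maximalIdeal (S.presheaf.stalk (f x))) := by
    have hxx : (f.fiberι (f x)) (f.asFiber x) = x := f.fiberι_asFiber x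
    refine exists_of_eq f hxx ?_
    let e := Groth.Agent.H9.fiberStalkEquiv f (f x) (f.asFiber x)
    obtain ⟨y', hy'm, hy'0⟩ := Submodule.exists_mem_ne_zero_of_ne_bot hgen
    obtain ⟨y, hy⟩ := Ideal.Quotient.mk_surjective (e.symm y')
    refine ⟨y, ?_, ?_⟩
    · rw [IsLocalRing.mem_maximalIdeal, mem_nonunits_iff]
      intro hu
      have h1 : IsUnit (e (Ideal.Quotient.mk _ y)) := (hu.map (Ideal.Quotient.mk _)).map e
      rw [hy, RingEquiv.apply_symm_apply] at h1
      exact ((IsLocalRing.mem_maximalIdeal y').mp hy'm) h1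
    · intro hyI
      have h1 : Ideal.Quotient.mk _ y = 0 := Ideal.Quotient.eq_zero_iff_mem.mpr hyI
      rw [hy] at h1
      exact hy'0 (by simpa using congrArg e h1)
  obtain ⟨h, hhm, hd⟩ := Groth.Agent.H49.SliceSmooth.exists_mem_D_ne_zero
    (S.presheaf.stalk (f x)) (X.presheaf.stalk x) hsep' hgen'
  obtain ⟨U, hU, hx, h', hgerm, hnzd, hsm⟩ :=
    Groth.Agent.H49.SliceSmooth.slice_smooth f x W hxW hW h hd
  exact ⟨U, hU, hx, h', hnzd, hgerm ▸ hhm, hsm⟩

end Groth.Agent.S9724
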