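import Groth.Statements.S9726
import Groth.Agent.H51.DDSheaf

set_option autoImplicit false
open CategoryTheory CategoryTheory.Limits AlgebraicGeometry Opposite
universe u
open Desc

namespace Groth.Agent.S9726

/-- Single flat, surjective, locally finitely presented cover; a general fppf covering reduces to this
by taking the disjoint union: Let p : X ⟶ S be flat, surjective and locally of finite presentation.
Every descent datum for schemes relative to p whose underlying scheme is separated, locally
quasi-finite and locally of finite type over X is effective: it is isomorphic to the canonical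
descent datum of some scheme over S. (Descent data are in functor-of-points form; locally of finite
type is part of the book's notion of locally quasi-finite.) -/
theorem result {X S : Scheme.{u}} (p : X ⟶ S) [Flat p] [Surjective p] [LocallyOfFinitePresentation p]
    (D : Desc.SchDD p) [IsSeparated D.obj.hom] [LocallyQuasiFinite D.obj.hom] [LocallyOfFiniteType D.obj.hom] :
    ∃ U : Over S, Nonempty ((Desc.toDD p).obj U ≅ D) := by
  open Groth.Agent.H51 in
  have h1 : Flat (DDSheaf.c p).left := ‹Flat p›
  open Groth.Agent.H51 in
  have h2 : Surjective (DDSheaf.c p).left := ‹Surjective p›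
  open Groth.Agent.H51 in
  have h3 : LocallyOfFinitePresentation (DDSheaf.c p).left := ‹LocallyOfFinitePresentation p›
  open Groth.Agent.H51 in
  have hepi : Epi ((AlgSp.yon S).map (DDSheaf.c p)) := Groth.Agent.H52.epi_yon_map_of_fppf (DDSheaf.c p)
  open Groth.Agent.H51 in
  have h4 : IsSeparated (DDSheaf.b' p D).left := ‹IsSeparated D.obj.hom›
  open Groth.Agent.H51 in
  have h5 : LocallyQuasiFinite (DDSheaf.b' p D).left := ‹LocallyQuasiFinite D.obj.hom›
  open Groth.Agent.H51 in
  have h6 : LocallyOfFiniteType (DDSheaf.b' p D).left := ‹LocallyOfFiniteType D.obj.hom›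
  open Groth.Agent.H51 in
  have hrw : AlgSp.RepWith @LocallyOfFiniteType (DDSheaf.π p D) :=
    LqfDescGen.repWith_of_epi_chart' @LocallyOfFiniteType inferInstance (DDSheaf.π p D)
      ((AlgSp.yon S).map (DDSheaf.c p)) (DDSheaf.a p D) (DDSheaf.b' p D) DDSheaf.sq0 h6
  exact Groth.Agent.H51.DDSheaf.effective_of_rep hrw.1

end Groth.Agent.S9726
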