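import Groth.Statements.S9729
import Groth.Agent.H56.LciSch2
-- import your own Groth.Agent.* helpers here

set_option autoImplicit false
universe u
open FlatMor

namespace Groth.Agent.S9729

open AlgebraicGeometry CategoryTheory Limits in
/-- Let f : X ⟶ Y and g : Y ⟶ S be morphisms with g smooth. If f ≫ g is a local complete intersection
morphism (Koszul at every point of X) then f is a local complete intersection morphism. -/
theorem result {X Y S : Scheme.{u}} (f : X ⟶ Y) (g : Y ⟶ S) [Smooth g]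
    (h : ∀ x : X, Synt.IsKoszulAt (f ≫ g) x) (x : X) : Synt.IsKoszulAt f x := by
  have hfg : Groth.Agent.H56.LciMor.IsLCIMor (f ≫ g) :=
    Groth.Agent.H56.LciSch.isLCIMor_of_isKoszulAt _ h
  obtain ⟨W, hW, hxW, -⟩ :=
    exists_isAffineOpen_mem_and_subset (x := g (f x)) (U := ⊤) trivial
  obtain ⟨V, hV, hxV, hVW⟩ :=
    exists_isAffineOpen_mem_and_subset (x := f x) (U := g ⁻¹ᵁ W) hxW
  obtain ⟨U, hU, hxU, hUV⟩ :=
    exists_isAffineOpen_mem_and_subset (x := x) (U := f ⁻¹ᵁ V) hxV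
  have hVW' : V ≤ g ⁻¹ᵁ W := hVW
  have hUV' : U ≤ f ⁻¹ᵁ V := hUV
  have hUW : U ≤ (f ≫ g) ⁻¹ᵁ W := by
    intro y hy
    show (f ≫ g) y ∈ W
    rw [Scheme.Hom.comp_apply]
    exact hVW' (hUV' hy)
  apply Groth.Agent.H56.LciSch.isKoszulAt_of_isLCI f x hU hV hUV' hxU
  letI a1 : Algebra Γ(S, W) Γ(Y, V) := (g.appLE W V hVW').hom.toAlgebra
  letI a2 : Algebra Γ(Y, V) Γ(X, U) := (f.appLE V U hUV').hom.toAlgebra
  letI a3 : Algebra Γ(S, W) Γ(X, U) := ((f ≫ g).appLE W U hUW).hom.toAlgebra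
  haveI : IsScalarTower Γ(S, W) Γ(Y, V) Γ(X, U) :=
    IsScalarTower.of_algebraMap_eq' (by
      show ((f ≫ g).appLE W U hUW).hom = (f.appLE V U hUV').hom.comp (g.appLE W V hVW').hom
      rw [← CommRingCat.hom_comp, Scheme.Hom.appLE_comp_appLE])
  haveI : Algebra.Smooth Γ(S, W) Γ(Y, V) := g.smooth_appLE hW hV hVW'
  exact Groth.Agent.H56.LciSch.isLCI_of_smooth_of_isLCI Γ(S, W) Γ(Y, V) Γ(X, U)
    (hfg U W hU hW hUW)

end Groth.Agent.S9729
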