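import Groth.Statements.S9732
import Mathlib
import Groth.Agent.H78.UnivThick
import Groth.Agent.H93.IdealComap
set_option maxHeartbeats 400000

set_option autoImplicit false
set_option maxHeartbeats 400000
universe u
open OmegaSh

namespace Groth.Agent.S9732

open AlgebraicGeometry CategoryTheory Limits in
theorem lemmaA {Z Z' X T' : Scheme.{u}} (h : Z ⟶ X) (i : Z ⟶ Z') (h' : Z' ⟶ X)
    (hu : OmegaSh.IsUnivThickening h i h') (K : T'.IdealSheafData) (hK : K * K = ⊥)
    (g₁ g₂ : T' ⟶ Z') (hg : K.subschemeι ≫ g₁ = K.subschemeι ≫ g₂)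
    (hgh : g₁ ≫ h' = g₂ ≫ h') :
    (i.ker.comap g₁ * K).subschemeι ≫ g₁ = (i.ker.comap g₁ * K).subschemeι ≫ g₂ := by
  obtain ⟨hi, hic, huniv⟩ := hu
  haveI : IsClosedImmersion i := hi.1.1
  set J₁ := i.ker.comap g₁ with hJ₁
  have hJ₁sq : J₁ * J₁ = ⊥ := by
    rw [hJ₁, ← Groth.Agent.H93.IdealComap.comap_mul, hi.2]
    exact Scheme.IdealSheafData.comap_bot _
  have hNK : J₁ * K ≤ K := by
    intro U
    show J₁.ideal U * K.ideal U ≤ K.ideal U
    exact Ideal.mul_le_right
  have hKS : K ≤ J₁ ⊔ K := le_sup_right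
  have hNS : J₁ * K ≤ J₁ ⊔ K := hNK.trans hKS
  have hsuppJ : J₁.support = ⊤ := by
    have := congrArg Scheme.IdealSheafData.support hJ₁sq
    simpa using this
  have hsuppK : K.support = ⊤ := by
    have := congrArg Scheme.IdealSheafData.support hK
    simpa using this
  have hinc : Scheme.IdealSheafData.inclusion hNS ≫ (J₁ * K).subschemeι = (J₁ ⊔ K).subschemeι :=
    Scheme.IdealSheafData.inclusion_subschemeι hNS
  haveI hcomp : IsClosedImmersion
      (Scheme.IdealSheafData.inclusion hNS ≫ (J₁ * K).subschemeι) := by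
    rw [hinc]; infer_instance
  haveI hci : IsClosedImmersion (Scheme.IdealSheafData.inclusion hNS) :=
    IsClosedImmersion.of_comp (Scheme.IdealSheafData.inclusion hNS) (J₁ * K).subschemeι
  have hj : MoreMor.IsFirstOrderThickening (Scheme.IdealSheafData.inclusion hNS) := by
    refine ⟨⟨hci, ⟨?_⟩⟩, ?_⟩
    · intro x
      have hx : (J₁ * K).subschemeι x ∈ Set.range (J₁ ⊔ K).subschemeι := by
        rw [Scheme.IdealSheafData.range_subschemeι, Scheme.IdealSheafData.support_sup, hsuppJ,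
          hsuppK]
        simp
      obtain ⟨y, hy⟩ := hx
      refine ⟨y, ?_⟩
      apply (J₁ * K).subschemeι.isEmbedding.injective
      rw [← hy, ← hinc]
      rfl
    · have hk : (Scheme.IdealSheafData.inclusion hNS).ker =
          (J₁ ⊔ K).comap (J₁ * K).subschemeι := by
        have hpb := Groth.Agent.H78.UnivThick.isPullback_of_mono
          (Scheme.IdealSheafData.inclusion hNS) (J₁ * K).subschemeι
        rw [Groth.Agent.H93.NilPull.ker_eq_comap_of_isPullback hpb]
        congr 1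
        rw [hinc, Scheme.IdealSheafData.ker_subschemeι]
      rw [hk, ← Groth.Agent.H93.IdealComap.comap_mul, eq_bot_iff,
        ← Scheme.IdealSheafData.le_map_iff_comap_le, Scheme.IdealSheafData.map_bot,
        Scheme.IdealSheafData.ker_subschemeι, Scheme.IdealSheafData.inf_mul,
        Scheme.IdealSheafData.mul_inf, Scheme.IdealSheafData.mul_inf, hJ₁sq, hK, mul_comm K J₁]
      simp
  have hH : i.ker ≤ ((J₁ ⊔ K).subschemeι ≫ g₁).ker := by
    rw [Scheme.Hom.ker_comp, Scheme.IdealSheafData.ker_subschemeι,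
      Scheme.IdealSheafData.le_map_iff_comap_le]
    exact le_sup_left
  obtain ⟨a, hai⟩ : ∃ a : (J₁ ⊔ K).subscheme ⟶ Z, a ≫ i = (J₁ ⊔ K).subschemeι ≫ g₁ :=
    ⟨IsClosedImmersion.lift i ((J₁ ⊔ K).subschemeι ≫ g₁) hH, IsClosedImmersion.lift_fac _ _ _⟩
  have hS2 : (J₁ ⊔ K).subschemeι ≫ g₂ = (J₁ ⊔ K).subschemeι ≫ g₁ := by
    rw [← Scheme.IdealSheafData.inclusion_subschemeι hKS, Category.assoc, Category.assoc, hg]
  have hcond : Scheme.IdealSheafData.inclusion hNS ≫ ((J₁ * K).subschemeι ≫ g₁ ≫ h') =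
      a ≫ h := by
    rw [← Category.assoc, hinc, ← hic, ← Category.assoc a, hai, Category.assoc]
  obtain ⟨a', -, huniq⟩ := huniv _ _ (Scheme.IdealSheafData.inclusion hNS)
    ((J₁ * K).subschemeι ≫ g₁ ≫ h') a hj hcond
  have e1 : (J₁ * K).subschemeι ≫ g₁ = a' :=
    huniq _ ⟨by rw [← Category.assoc, hinc, hai], by rw [Category.assoc]⟩
  have e2 : (J₁ * K).subschemeι ≫ g₂ = a' :=
    huniq _ ⟨by rw [← Category.assoc, hinc, hS2, hai], by rw [Category.assoc, hgh]⟩
  exact e1.trans e2.symm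

open AlgebraicGeometry CategoryTheory Limits in
/-- Let h : Z ⟶ X be formally unramified and let (i : Z ⟶ Z', h' : Z' ⟶ X) be a universal first order
thickening of Z over X. Then h' is formally unramified. -/
theorem result {Z Z' X : Scheme.{u}} (h : Z ⟶ X) [FormallyUnramified h]
    (i : Z ⟶ Z') (h' : Z' ⟶ X) (hu : OmegaSh.IsUnivThickening h i h') : FormallyUnramified h' := by
  apply FormallyUnramified.of_hom_ext
  intro R S φ hφ hker g₁ g₂ hg hgh
  haveI : IsClosedImmersion (Spec.map φ) := IsClosedImmersion.spec_of_surjective φ hφ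
  have hK : (Spec.map φ).ker * (Spec.map φ).ker = ⊥ := by
    apply Scheme.IdealSheafData.ext_of_isAffine
    rw [Scheme.IdealSheafData.ideal_mul, Pi.mul_apply,
      Groth.Agent.H93.IdealComap.ideal_top_ker, Scheme.IdealSheafData.ideal_bot, Pi.bot_apply,
      eq_bot_iff]
    refine Ideal.mul_le.mpr fun x hx y hy => ?_
    have nat : ∀ z, (Scheme.ΓSpecIso S).hom ((Spec.map φ).appTop z) =
        φ ((Scheme.ΓSpecIso R).hom z) := by
      intro z
      have := Scheme.ΓSpecIso_naturality φ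
      exact congrArg (fun f => f.hom z) this
    have hmem : ∀ z, z ∈ RingHom.ker (Spec.map φ).appTop.hom →
        (Scheme.ΓSpecIso R).hom z ∈ RingHom.ker φ.hom := by
      intro z hz
      rw [RingHom.mem_ker] at hz ⊢
      have := nat z
      rw [show (Spec.map φ).appTop z = 0 from hz, map_zero] at this
      exact this.symm
    have hxy : (Scheme.ΓSpecIso R).hom (x * y) = 0 := by
      rw [map_mul]
      have : (Scheme.ΓSpecIso R).hom x * (Scheme.ΓSpecIso R).hom y ∈ RingHom.ker φ.hom ^ 2 := by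
        rw [pow_two]; exact Ideal.mul_mem_mul (hmem x hx) (hmem y hy)
      rw [hker] at this
      exact this
    have inj : Function.Injective (Scheme.ΓSpecIso R).hom :=
      (ConcreteCategory.bijective_of_isIso (Scheme.ΓSpecIso R).hom).1
    exact Ideal.mem_bot.mpr (inj (hxy.trans (map_zero _).symm))
  have hgK : (Spec.map φ).ker.subschemeι ≫ g₁ = (Spec.map φ).ker.subschemeι ≫ g₂ := by
    have e : (Spec.map φ).toImage ≫ (Spec.map φ).ker.subschemeι = Spec.map φ :=
      (Spec.map φ).toImage_imageι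
    rw [← cancel_epi (Spec.map φ).toImage, ← Category.assoc, ← Category.assoc, e, hg]
  have h1 := lemmaA h i h' hu _ hK g₁ g₂ hgK hgh
  have hJ₁sq : i.ker.comap g₁ * i.ker.comap g₁ = ⊥ := by
    rw [← Groth.Agent.H93.IdealComap.comap_mul, hu.1.2]
    exact Scheme.IdealSheafData.comap_bot _
  have hK2 : (i.ker.comap g₁ * (Spec.map φ).ker) * (i.ker.comap g₁ * (Spec.map φ).ker) = ⊥ := by
    rw [mul_mul_mul_comm, hK, Scheme.IdealSheafData.mul_bot]
  have h2 := lemmaA h i h' hu _ hK2 g₁ g₂ h1 hgh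
  have hbot : i.ker.comap g₁ * (i.ker.comap g₁ * (Spec.map φ).ker) = ⊥ := by
    rw [← mul_assoc, hJ₁sq, Scheme.IdealSheafData.bot_mul]
  rw [hbot] at h2
  exact (cancel_epi _).mp h2

end Groth.Agent.S9732
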