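import Groth.Statements.S9733
import Mathlib
import Groth.Agent.H78.UnivThick

set_option autoImplicit false
set_option maxHeartbeats 400000
universe u
open OmegaSh

namespace Groth.Agent.S9733

open AlgebraicGeometry CategoryTheory Limits in
/-- Let h : Z ⟶ X and f : Z ⟶ W make Z the fibre product of g : X ⟶ Y and a formally unramified h' : W ⟶
Y, and let (j : W ⟶ W', k : W' ⟶ Y) be universal first-order thickening data for h'. Then the map Z
⟶ X ×_Y W' with components h and f ≫ j, together with the first projection X ×_Y W' ⟶ X, is a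
universal first-order thickening for h. The published statement also asserts that h is formally
unramified and that the pullback along f of the conormal sheaf of W relative to Y surjects onto the
conormal sheaf of Z relative to X; this row states neither. -/
theorem result {Z X W Y W' : Scheme.{u}} (h : Z ⟶ X) (f : Z ⟶ W) (g : X ⟶ Y) (h' : W ⟶ Y)
    [FormallyUnramified h'] (hc : IsPullback h f g h') (j : W ⟶ W') (k : W' ⟶ Y) (hu : OmegaSh.IsUnivThickening h' j k) :
    OmegaSh.IsUnivThickening h (pullback.lift h (f ≫ j) (hc.w.trans (congrArg (f ≫ ·) hu.2.1).symm)) (pullback.fst g k) := by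
  obtain ⟨hj, hjk, huniv⟩ := hu
  have hw : h ≫ g = (f ≫ j) ≫ k := hc.w.trans (congrArg (f ≫ ·) hjk).symm
  have hι1 : pullback.lift h (f ≫ j) hw ≫ pullback.fst g k = h := pullback.lift_fst _ _ _
  have hι2 : pullback.lift h (f ≫ j) hw ≫ pullback.snd g k = f ≫ j := pullback.lift_snd _ _ _
  have hbig : IsPullback (pullback.lift h (f ≫ j) hw ≫ pullback.fst g k) f g (j ≫ k) := by
    rw [hι1, hjk]; exact hc
  have hleft : IsPullback (pullback.lift h (f ≫ j) hw) f (pullback.snd g k) j :=
    IsPullback.of_right hbig hι2 (IsPullback.of_hasPullback g k)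
  refine ⟨Groth.Agent.H78.UnivThick.firstOrder_of_isPullback hleft hj, hι1, ?_⟩
  intro T T' t b a ht hba
  have h1 : t ≫ (b ≫ g) = (a ≫ f) ≫ h' := by
    rw [← Category.assoc, hba, Category.assoc, hc.w, Category.assoc]
  obtain ⟨w, ⟨hw1, hw2⟩, hwuniq⟩ := huniv T T' t (b ≫ g) (a ≫ f) ht h1
  refine ⟨pullback.lift b w hw2.symm, ⟨?_, pullback.lift_fst _ _ _⟩, ?_⟩
  · apply pullback.hom_ext
    · rw [Category.assoc, pullback.lift_fst, Category.assoc, hι1, hba]
    · rw [Category.assoc, pullback.lift_snd, Category.assoc, hι2, hw1, Category.assoc]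
  · rintro a'' ⟨ha1, ha2⟩
    apply pullback.hom_ext
    · rw [pullback.lift_fst, ha2]
    · rw [pullback.lift_snd]
      apply hwuniq
      refine ⟨?_, ?_⟩
      · rw [← Category.assoc, ha1, Category.assoc, hι2, Category.assoc]
      · rw [Category.assoc, ← pullback.condition, ← Category.assoc, ha2]

end Groth.Agent.S9733
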