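import Groth.Statements.S9736
-- import your own Groth.Agent.* helpers here
import Groth.Agent.S9148
import Groth.Agent.H66.RelGCI5

set_option autoImplicit false
universe u
open FlatMor

namespace Groth.Agent.S9736

open AlgebraicGeometry CategoryTheory Limits in
/-- Let f : X ⟶ S be a standard syntomic morphism of affine schemes. Then f is the base change of a
morphism of finite type f₀ : X₀ ⟶ S₀ between affine schemes with S₀ of finite type over ℤ and f₀
standard syntomic. -/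
theorem result {X S : Scheme.{u}} (f : X ⟶ S) [IsAffine X] [IsAffine S] (hf : Synt.IsStandardSyntomic f) :
    ∃ (X₀ S₀ : Scheme.{u}) (f₀ : X₀ ⟶ S₀) (g : S ⟶ S₀) (g' : X ⟶ X₀), IsAffine X₀ ∧ IsAffine S₀ ∧ IsPullback g' f f₀ g ∧
      Algebra.FiniteType ℤ Γ(S₀, ⊤) ∧ LocallyOfFiniteType f₀ ∧ Synt.IsStandardSyntomic f₀ := by
  obtain ⟨R, _, n, c, F, hGCI, e₁, e₂, hcomm⟩ := hf
  obtain ⟨R₀, F₀, hft, hF₀, h₀⟩ := Groth.Agent.S9148.result R n c F hGCI
  have hFeq : (fun i => MvPolynomial.map (algebraMap R₀ R) (F₀ i)) = F := funext hF₀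
  subst hFeq
  obtain ⟨e, he⟩ := Groth.Agent.H66.RelGCI.exists_baseChange_equiv R₀ R n c F₀
  let B₀ := Synt.RelGCIRing R₀ n c F₀
  let B := Synt.RelGCIRing R n c (fun i => MvPolynomial.map (algebraMap R₀ R) (F₀ i))
  let φA : CommRingCat.of R₀ ⟶ CommRingCat.of R := CommRingCat.ofHom (algebraMap R₀ R)
  let φB : CommRingCat.of R₀ ⟶ CommRingCat.of B₀ := CommRingCat.ofHom (algebraMap R₀ B₀)
  let top : CommRingCat.of R ⟶ CommRingCat.of B := CommRingCat.ofHom (algebraMap R B)
  let ψ : CommRingCat.of B₀ ⟶ CommRingCat.of B := CommRingCat.ofHom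
    ((e : TensorProduct R₀ R B₀ →+* B).comp
      (Algebra.TensorProduct.includeRight : B₀ →ₐ[R₀] TensorProduct R₀ R B₀).toRingHom)
  have hpo : IsPushout φA φB top ψ := by
    refine (CommRingCat.isPushout_tensorProduct R₀ R B₀).of_iso (Iso.refl _) (Iso.refl _)
      (Iso.refl _) (e.toRingEquiv.toCommRingCatIso) ?_ ?_ ?_ ?_
    · simp [φA]
    · simp [φB]
    · ext a
      show e (TensorProduct.tmul R₀ a (1 : B₀)) = algebraMap R B a
      exact e.commutes a
    · rw [Iso.refl_hom, Category.id_comp]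
      rfl
  have hpb : IsPullback (Spec.map ψ) (Spec.map top) (Spec.map φB) (Spec.map φA) :=
    (isPullback_SpecMap_of_isPushout φA φB top ψ hpo).flip
  refine ⟨Spec (.of B₀), Spec (.of R₀), Spec.map φB, e₂.hom ≫ Spec.map φA,
    e₁.hom ≫ Spec.map ψ, inferInstance, inferInstance, ?_, ?_, ?_, ?_⟩
  · refine hpb.of_iso e₁.symm (Iso.refl _) e₂.symm (Iso.refl _) ?_ ?_ ?_ ?_
    · simp
    · have hcomm' : e₁.hom ≫ Spec.map top = f ≫ e₂.hom := hcomm
      rw [Iso.symm_hom, Iso.symm_hom, Iso.eq_inv_comp, ← Category.assoc, hcomm', Category.assoc,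
        Iso.hom_inv_id, Category.comp_id]
    · simp
    · simp
  · exact Algebra.FiniteType.equiv hft
      ((Scheme.ΓSpecIso (.of R₀)).symm.commRingCatIsoToRingEquiv.toIntAlgEquiv)
  · exact (HasRingHomProperty.Spec_iff (P := @LocallyOfFiniteType)).mpr
      (RingHom.finiteType_algebraMap.mpr inferInstance)
  · exact ⟨R₀, inferInstance, n, c, F₀, h₀, Iso.refl _, Iso.refl _, by simp [φB]⟩

end Groth.Agent.S9736
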