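import Groth.Statements.S9738
import Groth.Agent.H57.PowFlat
import Groth.Agent.H48.StalkLocal2
import Groth.Agent.H8.QCohStalk

set_option autoImplicit false
set_option linter.style.haveILetI false
universe u
open FlatMor

namespace Groth.Agent.S9738

open AlgebraicGeometry CategoryTheory Limits TensorProduct in
set_option maxHeartbeats 1600000 in
/-- Affine form: flatness of the sections modulo powers of the ideal. -/
theorem flat_mod_pow_sections {X S : Scheme.{u}} (f : X ⟶ S) (I : S.IdealSheafData) (n : ℕ)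
    [Flat (pullback.snd f (I ^ (n + 1)).subschemeι)]
    {V : S.Opens} (hV : IsAffineOpen V) {W : X.Opens} (hW : IsAffineOpen W)
    (hWV : W ≤ f ⁻¹ᵁ V) :
    letI : Algebra Γ(S, V) Γ(X, W) := (f.appLE V W hWV).hom.toAlgebra
    Module.Flat (Γ(S, V) ⧸ (I.ideal ⟨V, hV⟩) ^ (n + 1))
      ((Γ(S, V) ⧸ (I.ideal ⟨V, hV⟩) ^ (n + 1)) ⊗[Γ(S, V)] Γ(X, W)) := by
  letI aAB : Algebra Γ(S, V) Γ(X, W) := (f.appLE V W hWV).hom.toAlgebra
  let In : S.IdealSheafData := I ^ (n + 1)
  let Vn : In.subscheme.Opens := In.subschemeι ⁻¹ᵁ V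
  have hVn : IsAffineOpen Vn := hV.preimage In.subschemeι
  let UY : (pullback f In.subschemeι).Opens :=
    pullback.fst f In.subschemeι ⁻¹ᵁ W ⊓ pullback.snd f In.subschemeι ⁻¹ᵁ Vn
  have HP := IsPullback.of_hasPullback f In.subschemeι
  have hVnV : Vn ≤ In.subschemeι ⁻¹ᵁ V := le_rfl
  have hUYW : UY ≤ pullback.fst f In.subschemeι ⁻¹ᵁ W := inf_le_left
  have hUYVn : UY ≤ pullback.snd f In.subschemeι ⁻¹ᵁ Vn := inf_le_right
  have hUY : IsAffineOpen UY := by
    have : IsAffine V.toScheme := hV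
    have : IsAffine Vn.toScheme := hVn
    have : IsAffine W.toScheme := hW
    exact .of_isIso (Scheme.Hom.isPullback_resLE HP hVnV hWV (rfl : UY = _)).isoPullback.hom
  have hpo := (isIso_pushoutSection_iff HP hVnV hWV (rfl : UY = _)).mp
    (isIso_pushoutSection_of_isAffineOpen HP hVnV hWV rfl hV hVn hW)
  have hflat : ((pullback.snd f In.subschemeι).appLE Vn UY hUYVn).hom.Flat :=
    Scheme.Hom.flat_appLE (pullback.snd f In.subschemeι) hVn hUY hUYVn
  letI aAC : Algebra Γ(S, V) Γ(In.subscheme, Vn) := (In.subschemeι.appLE V Vn hVnV).hom.toAlgebra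
  letI aBD : Algebra Γ(X, W) Γ(pullback f In.subschemeι, UY) :=
    ((pullback.fst f In.subschemeι).appLE W UY hUYW).hom.toAlgebra
  letI aCD : Algebra Γ(In.subscheme, Vn) Γ(pullback f In.subschemeι, UY) :=
    ((pullback.snd f In.subschemeι).appLE Vn UY hUYVn).hom.toAlgebra
  letI aAD : Algebra Γ(S, V) Γ(pullback f In.subschemeι, UY) :=
    (((pullback.fst f In.subschemeι).appLE W UY hUYW).hom.comp (f.appLE V W hWV).hom).toAlgebra
  haveI t1 : IsScalarTower Γ(S, V) Γ(X, W) Γ(pullback f In.subschemeι, UY) :=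
    .of_algebraMap_eq' rfl
  haveI t2 : IsScalarTower Γ(S, V) Γ(In.subscheme, Vn) Γ(pullback f In.subschemeι, UY) :=
    .of_algebraMap_eq' (by
      change (((pullback.fst f In.subschemeι).appLE W UY hUYW).hom.comp (f.appLE V W hWV).hom) =
        (((pullback.snd f In.subschemeι).appLE Vn UY hUYVn).hom.comp
          (In.subschemeι.appLE V Vn hVnV).hom)
      rw [← CommRingCat.hom_comp, ← CommRingCat.hom_comp, hpo.w])
  haveI po1 : Algebra.IsPushout Γ(S, V) Γ(X, W) Γ(In.subscheme, Vn)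
      Γ(pullback f In.subschemeι, UY) := CommRingCat.isPushout_iff_isPushout.mp hpo
  haveI po2 : Algebra.IsPushout Γ(S, V) Γ(In.subscheme, Vn) Γ(X, W)
      Γ(pullback f In.subschemeι, UY) := Algebra.IsPushout.symm inferInstance
  haveI flCD : Module.Flat Γ(In.subscheme, Vn) Γ(pullback f In.subschemeι, UY) := hflat
  haveI : Module.Flat Γ(In.subscheme, Vn) (Γ(In.subscheme, Vn) ⊗[Γ(S, V)] Γ(X, W)) :=
    Groth.Agent.H57.PowFlat.flat_tensor_of_isPushout Γ(S, V) Γ(In.subscheme, Vn) Γ(X, W)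
      Γ(pullback f In.subschemeι, UY) Γ(X, W)
  have hAC : algebraMap Γ(S, V) Γ(In.subscheme, Vn) = (In.subschemeι.app V).hom := by
    change (In.subschemeι.appLE V Vn hVnV).hom = (In.subschemeι.app V).hom
    rw [Scheme.Hom.app_eq_appLE]
  have hsurj : Function.Surjective (algebraMap Γ(S, V) Γ(In.subscheme, Vn)) := by
    rw [hAC]
    exact In.subschemeι_app_surjective ⟨V, hV⟩
  have hker : RingHom.ker (algebraMap Γ(S, V) Γ(In.subscheme, Vn)) =
      (I.ideal ⟨V, hV⟩) ^ (n + 1) := by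
    rw [hAC]
    exact In.ker_subschemeι_app ⟨V, hV⟩
  exact Groth.Agent.H57.PowFlat.flat_quot_of_flat_of_surjective hsurj _ hker Γ(X, W)

open AlgebraicGeometry CategoryTheory Limits in
/-- For a morphism f : X ⟶ S between locally Noetherian schemes, an ideal sheaf I on S with closed
subscheme Z, and Z_n the closed subscheme cut out by I^(n+1): if each base change X ×_S Z_n ⟶ Z_n is
flat, then f is flat at each point of X lying over Z. -/
theorem result {X S : Scheme.{u}} (f : X ⟶ S) [IsLocallyNoetherian X] [IsLocallyNoetherian S]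
    (I : S.IdealSheafData) (h : ∀ n : ℕ, Flat (pullback.snd f (I ^ (n + 1)).subschemeι)) (x : X) (hx : f x ∈ I.support) :
    (f.stalkMap x).hom.Flat := by
  obtain ⟨V, hV, hsV, -⟩ := exists_isAffineOpen_mem_and_subset (x := f x)
    (U := (⊤ : S.Opens)) trivial
  obtain ⟨W, hW, hxW, hWV⟩ := exists_isAffineOpen_mem_and_subset (x := x)
    (U := f ⁻¹ᵁ V) hsV
  rw [Groth.Agent.H48.flat_stalkMap_iff V hV W hW hWV hxW]
  letI aAB : Algebra Γ(S, V) Γ(X, W) := (f.appLE V W hWV).hom.toAlgebra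
  haveI : IsNoetherianRing Γ(S, V) := IsLocallyNoetherian.component_noetherian ⟨V, hV⟩
  haveI : IsNoetherianRing Γ(X, W) := IsLocallyNoetherian.component_noetherian ⟨W, hW⟩
  let p := (hV.primeIdealOf ⟨f x, hWV hxW⟩).asIdeal
  let q := (hW.primeIdealOf ⟨x, hxW⟩).asIdeal
  haveI hlo : q.LiesOver p :=
    ⟨congr($(IsAffineOpen.comap_primeIdealOf_appLE V hV W hW hWV hxW).1).symm⟩
  letI := Localization.AtPrime.algebraOfLiesOver p q
  have hJp : I.ideal ⟨V, hV⟩ ≤ p := by
    intro a ha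
    have h1 := (Scheme.IdealSheafData.mem_support_iff_of_mem (I := I) (U := ⟨V, hV⟩)
      (hWV hxW)).mp hx
    have h2 := (Scheme.mem_zeroLocus_iff _ _ _).mp h1 a ha
    by_contra hap
    exact h2 ((Groth.Agent.H8.mem_basicOpen_iff_notMem_primeIdealOf hV (f x) (hWV hxW) a).mpr hap)
  have hJ : (I.ideal ⟨V, hV⟩).map (algebraMap Γ(S, V) Γ(X, W)) ≤ q := by
    rw [Ideal.map_le_iff_le_comap]
    intro a ha
    have := hJp ha
    rw [hlo.over] at this
    exact this
  have key : Module.Flat Γ(S, V) (Localization.AtPrime q) :=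
    Groth.Agent.H57.PowFlat.flat_localization_of_flat_mod_pow (I.ideal ⟨V, hV⟩) q hJ
      (fun n => by
        haveI := h n
        exact flat_mod_pow_sections f I n hV hW hWV)
  exact (Module.flat_iff_of_isLocalization (Localization.AtPrime p) p.primeCompl _).mpr key

end Groth.Agent.S9738
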