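import Groth.Statements.S9739
import Mathlib
import Groth.Agent.H9.CMFlatApp
import Groth.Agent.S1341

set_option linter.style.haveILetI false

set_option autoImplicit false
universe u
open FlatMor

namespace Groth.Agent.S9739


open AlgebraicGeometry CategoryTheory Limits in
theorem result' {X S : Scheme.{u}} (f : X ⟶ S) [Flat f] [LocallyOfFinitePresentation f]
    (x x' : X) (hsp : x' ⤳ x) (hgen : ∃ Z ∈ irreducibleComponents ↥(f.fiber (f x)), IsGenericPoint (f.asFiber x) Z) :
    FlatMor.fibreDimAt f x' = FlatMor.fibreDimAt f x := by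
  haveI : IsLocallyNoetherian (f.fiber (f x)) := Groth.Agent.S4949.isLocallyNoetherian_fiber' f (f x)
  obtain ⟨Z, hZ, hgenZ⟩ := hgen
  have hmax : IsMax (f.asFiber x) := by
    intro t ht
    have ht' : t ⤳ f.asFiber x := (Scheme.le_iff_specializes).mp ht
    have h1 : closure ({t} : Set (f.fiber (f x))) ∈ {s | IsIrreducible s} :=
      isIrreducible_singleton.closure
    have h2 : Z ≤ closure ({t} : Set (f.fiber (f x))) := by
      rw [← hgenZ.def]
      exact ht'.closure_subset
    have h3 := hZ.2 h1 h2
    have h4 : f.asFiber x ⤳ t := by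
      rw [specializes_iff_mem_closure, hgenZ.def]
      exact h3 (subset_closure rfl)
    exact (Scheme.le_iff_specializes).mpr h4
  have hdim : ringKrullDim ((f.fiber (f x)).presheaf.stalk (f.asFiber x)) = 0 := by
    rw [ringKrullDim_stalk_eq_coheight, Order.coheight_eq_zero.mpr hmax]
    rfl
  have hCM : MoreMor.IsCMAt f x :=
    ⟨Flat.stalkMap f x, Groth.Agent.S1341.isCM_of_dim_zero _ hdim⟩
  obtain ⟨n, U', hxU', hU'⟩ := Groth.Agent.H9.CMFlatApp.exists_open_cm f x hCM
  have hx' : x' ∈ U' := hsp.mem_open U'.isOpen hxU'
  rw [(hU' x' hx').2, (hU' x hxU').2]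


open AlgebraicGeometry CategoryTheory Limits in
/-- Let f : X ⟶ S be flat and locally of finite presentation, and let x' ⤳ x be points of X. Assume the
closure of x in its fibre is one of that fibre's irreducible components. Then the fibre through x'
has the same local dimension at x' as the fibre through x has at x. -/
theorem result {X S : Scheme.{u}} (f : X ⟶ S) [Flat f] [LocallyOfFinitePresentation f]
    (x x' : X) (hsp : x' ⤳ x) (hgen : ∃ Z ∈ irreducibleComponents ↥(f.fiber (f x)), IsGenericPoint (f.asFiber x) Z) :
    FlatMor.fibreDimAt f x' = FlatMor.fibreDimAt f x := by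
  exact result' f x x' hsp hgen

end Groth.Agent.S9739
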