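import Groth.Statements.S9741
import Mathlib
import Groth.Agent.H78.UnivThick

set_option autoImplicit false
set_option maxHeartbeats 400000
universe u
open OmegaSh

namespace Groth.Agent.S9741

open AlgebraicGeometry CategoryTheory Limits in
/-- Let a : Z ⟶ Y and b : Y ⟶ X be formally unramified, let (i : Z ⟶ Z', c : Z' ⟶ X) be universal among
first order thickenings of Z relative to X (for a ≫ b), and (j : Y ⟶ Y', d : Y' ⟶ X) likewise for Y
relative to X (for b). Then there is a morphism of thickenings m : Z' ⟶ Y' over X (i ≫ m = a ≫ j and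
m ≫ d = c) such that Z ⟶ Y ×_{Y'} Z' (components a and i), together with the projection to Y, is
universal among first order thickenings of Z relative to Y (for a). The published statement also
asserts an exact sequence of conormal sheaves; this row states only the thickening assertion. -/
theorem result {Z Y X Z' Y' : Scheme.{u}} (a : Z ⟶ Y) (b : Y ⟶ X)
    [FormallyUnramified a] [FormallyUnramified b] (i : Z ⟶ Z') (c : Z' ⟶ X) (hZ : OmegaSh.IsUnivThickening (a ≫ b) i c)
    (j : Y ⟶ Y') (d : Y' ⟶ X) (hY : OmegaSh.IsUnivThickening b j d) :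
    ∃ (m : Z' ⟶ Y') (hm : i ≫ m = a ≫ j), m ≫ d = c ∧
      OmegaSh.IsUnivThickening a (pullback.lift a i hm.symm) (pullback.fst j m) := by
  obtain ⟨hi, hic, hZuniv⟩ := hZ
  obtain ⟨hj, hjd, hYuniv⟩ := hY
  -- the morphism of thickenings
  obtain ⟨m, ⟨hm1, hm2⟩, -⟩ := hYuniv Z Z' i c a hi hic
  refine ⟨m, hm1, hm2, ?_⟩
  have hι1 : pullback.lift a i hm1.symm ≫ pullback.fst j m = a := pullback.lift_fst _ _ _
  have hι2 : pullback.lift a i hm1.symm ≫ pullback.snd j m = i := pullback.lift_snd _ _ _
  -- `snd` is a first order thickening, in particular a monomorphism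
  have hsnd : MoreMor.IsFirstOrderThickening (pullback.snd j m) :=
    Groth.Agent.H78.UnivThick.firstOrder_of_isPullback (IsPullback.of_hasPullback j m).flip hj
  haveI : IsClosedImmersion (pullback.snd j m) := hsnd.1.1
  have hι : MoreMor.IsFirstOrderThickening (pullback.lift a i hm1.symm) := by
    apply Groth.Agent.H78.UnivThick.firstOrder_of_comp_mono _ (pullback.snd j m)
    rw [hι2]; exact hi
  refine ⟨hι, hι1, ?_⟩
  intro T T' t β α ht htβ
  have h1 : t ≫ (β ≫ b) = α ≫ (a ≫ b) := by
    rw [← Category.assoc, htβ, Category.assoc]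
  obtain ⟨z, ⟨hz1, hz2⟩, hzuniq⟩ := hZuniv T T' t (β ≫ b) α ht h1
  have h2 : t ≫ (β ≫ b) = (α ≫ a) ≫ b := by rw [h1, Category.assoc]
  obtain ⟨y, -, hyuniq⟩ := hYuniv T T' t (β ≫ b) (α ≫ a) ht h2
  have hy1 : β ≫ j = y := hyuniq _ ⟨by rw [← Category.assoc, htβ, Category.assoc],
    by rw [Category.assoc, hjd]⟩
  have hy2 : z ≫ m = y := hyuniq _ ⟨by rw [← Category.assoc, hz1, Category.assoc, hm1,
    Category.assoc], by rw [Category.assoc, hm2, hz2]⟩
  have hcond : β ≫ j = z ≫ m := hy1.trans hy2.symm
  refine ⟨pullback.lift β z hcond, ⟨?_, pullback.lift_fst _ _ _⟩, ?_⟩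
  · apply pullback.hom_ext
    · rw [Category.assoc, pullback.lift_fst, Category.assoc, hι1, htβ]
    · rw [Category.assoc, pullback.lift_snd, Category.assoc, hι2, hz1]
  · rintro α'' ⟨hα1, hα2⟩
    apply pullback.hom_ext
    · rw [pullback.lift_fst, hα2]
    · rw [pullback.lift_snd]
      apply hzuniq
      refine ⟨?_, ?_⟩
      · rw [← Category.assoc, hα1, Category.assoc, hι2]
      · rw [Category.assoc, ← hm2, ← Category.assoc (pullback.snd j m), ← pullback.condition,
          Category.assoc, hjd, ← Category.assoc, hα2]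

end Groth.Agent.S9741
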