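import Groth.Statements.S9743
import Groth.Agent.H8.RelFPFinite

set_option autoImplicit false
universe u
open Flatn

namespace Groth.Agent.S9743

open AlgebraicGeometry CategoryTheory Limits in
/-- Suppose π : X ⟶ Y is finite, g : Y ⟶ S is locally of finite type, and F is a quasi-coherent
O_X-module. Then F is relatively finitely presented over S via π ≫ g exactly when the direct image
π_*F is relatively finitely presented over S via g. -/
theorem result {X Y S : Scheme.{u}} (π : X ⟶ Y) (g : Y ⟶ S) [IsFinite π] [LocallyOfFiniteType g]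
    (F : X.Modules) [Coh.IsQCoh F] : Flatn.IsRelFP (π ≫ g) F ↔ Flatn.IsRelFP g ((Coh.push π).obj F) := by
  haveI : F.IsQuasicoherent := ‹Coh.IsQCoh F›
  haveI : ((Scheme.Modules.pushforward π).obj F).IsQuasicoherent :=
    Groth.Agent.H8.isQuasicoherent_pushforward π F
  constructor
  · intro H
    apply Groth.Agent.H8.isRelFP_of_forall
    intro W V h
    exact (Groth.Agent.H8.relFPOpens_pushforward_iff π g F W.2 V.2 h).mpr
      (Groth.Agent.H8.relFPOpens_of_isRelFP H (W.2.preimage π) V.2 _)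
  · intro H
    refine ⟨Set.univ, ?_, fun V _ =>
      ⟨{U | ∃ W : Y.affineOpens, (W : Y.Opens) ≤ g ⁻¹ᵁ (V : S.Opens) ∧
        (U : X.Opens) = π ⁻¹ᵁ (W : Y.Opens)}, ?_, ?_⟩⟩
    · apply le_antisymm le_top
      intro x _
      obtain ⟨W, hW, hxW, -⟩ := exists_isAffineOpen_mem_and_subset (x := x)
        (U := (⊤ : S.Opens)) trivial
      simp only [TopologicalSpace.Opens.mem_iSup]
      exact ⟨⟨W, hW⟩, Set.mem_univ _, hxW⟩
    · apply le_antisymm
      · refine iSup₂_le fun U hU => ?_
        obtain ⟨W, hW, hUW⟩ := hU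
        rw [hUW]
        exact π.preimage_mono hW
      · intro x hx
        obtain ⟨W, hW, hxW, hWle⟩ := exists_isAffineOpen_mem_and_subset (x := π x)
          (U := g ⁻¹ᵁ (V : S.Opens)) hx
        simp only [TopologicalSpace.Opens.mem_iSup]
        exact ⟨⟨π ⁻¹ᵁ W, hW.preimage π⟩, ⟨⟨W, hW⟩, hWle, rfl⟩, hxW⟩
    · rintro ⟨U, hU⟩ ⟨W, hW, hUW⟩ h
      simp only at hUW
      subst hUW
      exact (Groth.Agent.H8.relFPOpens_pushforward_iff π g F W.2 V.2 hW).mp
        (Groth.Agent.H8.relFPOpens_of_isRelFP H W.2 V.2 hW)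

end Groth.Agent.S9743
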