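import Groth.Statements.S9744
import Groth.Agent.H8.RelFPBaseChange

set_option autoImplicit false
universe u
open Flatn

namespace Groth.Agent.S9744

open AlgebraicGeometry CategoryTheory Limits in
/-- Let f : X ⟶ S be locally of finite type and F a quasi-coherent O_X-module of finite presentation
relative to S. For a base change f' : X' ⟶ S' of f along S' ⟶ S with projection g' : X' ⟶ X, the
pullback (g')^*F is of finite presentation relative to S'. -/
theorem result {X S X' S' : Scheme.{u}} (f : X ⟶ S) [LocallyOfFiniteType f] (F : X.Modules) [Coh.IsQCoh F]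
    (g : S' ⟶ S) (f' : X' ⟶ S') (g' : X' ⟶ X) (hc : IsPullback g' f' f g) (hF : Flatn.IsRelFP f F) :
    Flatn.IsRelFP f' ((Scheme.Modules.pullback g').obj F) := by
  haveI : F.IsQuasicoherent := ‹Coh.IsQCoh F›
  refine ⟨{V' | ∃ V : S.affineOpens, (V' : S'.Opens) ≤ g ⁻¹ᵁ (V : S.Opens)}, ?_, ?_⟩
  · apply le_antisymm le_top
    intro x' _
    obtain ⟨V, hV, hxV, -⟩ := exists_isAffineOpen_mem_and_subset (x := g x')
      (U := (⊤ : S.Opens)) trivial
    obtain ⟨V', hV', hxV', hV'le⟩ := exists_isAffineOpen_mem_and_subset (x := x')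
      (U := g ⁻¹ᵁ V) hxV
    simp only [TopologicalSpace.Opens.mem_iSup]
    exact ⟨⟨V', hV'⟩, ⟨⟨V, hV⟩, hV'le⟩, hxV'⟩
  · rintro V' ⟨V, hVV'⟩
    refine ⟨{U' | ∃ U : X.affineOpens, (U : X.Opens) ≤ f ⁻¹ᵁ (V : S.Opens) ∧
      (U' : X'.Opens) = g' ⁻¹ᵁ (U : X.Opens) ⊓ f' ⁻¹ᵁ (V' : S'.Opens)}, ?_, ?_⟩
    · apply le_antisymm
      · refine iSup₂_le fun U' hU' => ?_
        obtain ⟨U, hUV, hU'eq⟩ := hU'
        rw [hU'eq]
        exact inf_le_right
      · intro x' hx'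
        have hfx : f (g' x') ∈ (V : S.Opens) := by
          have e : f (g' x') = g (f' x') := by
            rw [← Scheme.Hom.comp_apply, ← Scheme.Hom.comp_apply, hc.w]
          rw [e]
          exact hVV' hx'
        obtain ⟨U, hU, hxU, hUle⟩ := exists_isAffineOpen_mem_and_subset (x := g' x')
          (U := f ⁻¹ᵁ (V : S.Opens)) hfx
        simp only [TopologicalSpace.Opens.mem_iSup]
        exact ⟨⟨g' ⁻¹ᵁ U ⊓ f' ⁻¹ᵁ (V' : S'.Opens),
          Groth.Agent.H8.isAffineOpen_prodOpen hc V.2 V'.2 hVV' hU hUle⟩,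
          ⟨⟨U, hU⟩, hUle, rfl⟩, ⟨hxU, hx'⟩⟩
    · rintro ⟨U', hU'⟩ ⟨U, hUV, hU'eq⟩ h
      simp only at hU'eq
      subst hU'eq
      exact Groth.Agent.H8.relFPOpens_baseChange hc F V.2 V'.2 hVV' U.2 hUV
        (Groth.Agent.H8.relFPOpens_of_isRelFP hF U.2 V.2 hUV)

end Groth.Agent.S9744
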