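import Groth.Statements.S9745
import Groth.Agent.H8.RelFPPullback

set_option autoImplicit false
universe u
open Flatn

namespace Groth.Agent.S9745

open AlgebraicGeometry CategoryTheory Limits in
/-- Let f : X ⟶ Y be locally of finite presentation and g : Y ⟶ S locally of finite type, and let G be a
quasi-coherent O_Y-module that is finitely presented relative to S. Then the pullback f^*G is
finitely presented relative to S along f ≫ g. -/
theorem result {X Y S : Scheme.{u}} (f : X ⟶ Y) (g : Y ⟶ S) [LocallyOfFinitePresentation f] [LocallyOfFiniteType g]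
    (G : Y.Modules) [Coh.IsQCoh G] (hG : Flatn.IsRelFP g G) : Flatn.IsRelFP (f ≫ g) ((Scheme.Modules.pullback f).obj G) := by
  haveI : G.IsQuasicoherent := ‹Coh.IsQCoh G›
  refine ⟨Set.univ, ?_, fun V _ =>
    ⟨{U | ∃ W : Y.affineOpens, (W : Y.Opens) ≤ g ⁻¹ᵁ (V : S.Opens) ∧
      (U : X.Opens) ≤ f ⁻¹ᵁ (W : Y.Opens)}, ?_, ?_⟩⟩
  · apply le_antisymm le_top
    intro x _
    obtain ⟨W, hW, hxW, -⟩ := exists_isAffineOpen_mem_and_subset (x := x)
      (U := (⊤ : S.Opens)) trivial
    simp only [TopologicalSpace.Opens.mem_iSup]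
    exact ⟨⟨W, hW⟩, Set.mem_univ _, hxW⟩
  · apply le_antisymm
    · refine iSup₂_le fun U hU => ?_
      obtain ⟨W, hW, hUW⟩ := hU
      exact hUW.trans (f.preimage_mono hW)
    · intro x hx
      obtain ⟨W, hW, hxW, hWle⟩ := exists_isAffineOpen_mem_and_subset (x := f x)
        (U := g ⁻¹ᵁ (V : S.Opens)) hx
      obtain ⟨U, hU, hxU, hUle⟩ := exists_isAffineOpen_mem_and_subset (x := x)
        (U := f ⁻¹ᵁ W) hxW
      simp only [TopologicalSpace.Opens.mem_iSup]
      exact ⟨⟨U, hU⟩, ⟨⟨W, hW⟩, hWle, hUle⟩, hxU⟩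
  · rintro U ⟨W, hW, hUW⟩ h
    have H1 := Groth.Agent.H8.relFPOpens_of_isRelFP hG W.2 V.2 hW
    have hfp := Scheme.Hom.finitePresentation_appLE f W.2 U.2 hUW
    exact Groth.Agent.H8.relFPOpens_pullback f g G W.2 U.2 hUW hW hfp H1

end Groth.Agent.S9745
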