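import Groth.Statements.S9746
import Groth.Agent.H8.RelFPScheme

set_option autoImplicit false
universe u
open Flatn

namespace Groth.Agent.S9746

open AlgebraicGeometry CategoryTheory Limits in
/-- Let f : X ⟶ Y be locally of finite type, g : Y ⟶ S locally of finite presentation, and F a
quasi-coherent O_X-module that is finitely presented relative to Y. Then F, viewed over S through
the composite f ≫ g, is finitely presented relative to S. -/
theorem result {X Y S : Scheme.{u}} (f : X ⟶ Y) (g : Y ⟶ S) [LocallyOfFiniteType f] [LocallyOfFinitePresentation g]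
    (F : X.Modules) [Coh.IsQCoh F] (hF : Flatn.IsRelFP f F) : Flatn.IsRelFP (f ≫ g) F := by
  haveI : F.IsQuasicoherent := ‹_›
  refine ⟨Set.univ, ?_, fun V _ =>
    ⟨{U | ∃ W : Y.affineOpens, (W : Y.Opens) ≤ g ⁻¹ᵁ (V : S.Opens) ∧
      (U : X.Opens) ≤ f ⁻¹ᵁ (W : Y.Opens)}, ?_, ?_⟩⟩
  · apply le_antisymm le_top
    intro x _
    obtain ⟨W, hW, hxW, -⟩ := exists_isAffineOpen_mem_and_subset (x := x)
      (U := (⊤ : S.Opens)) trivial
    simp only [TopologicalSpace.Opens.mem_iSup]
    exact ⟨⟨W, hW⟩, Set.mem_univ _, hxW⟩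
  · apply le_antisymm
    · refine iSup₂_le fun U hU => ?_
      obtain ⟨W, hW, hUW⟩ := hU
      exact hUW.trans (f.preimage_mono hW)
    · intro x hx
      obtain ⟨W, hW, hxW, hWle⟩ := exists_isAffineOpen_mem_and_subset (x := f x)
        (U := g ⁻¹ᵁ (V : S.Opens)) hx
      obtain ⟨U, hU, hxU, hUle⟩ := exists_isAffineOpen_mem_and_subset (x := x)
        (U := f ⁻¹ᵁ W) hxW
      simp only [TopologicalSpace.Opens.mem_iSup]
      exact ⟨⟨U, hU⟩, ⟨⟨W, hW⟩, hWle, hUle⟩, hxU⟩
  · rintro U ⟨W, hW, hUW⟩ h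
    have H1 := Groth.Agent.H8.relFPOpens_of_isRelFP hF U.2 W.2 hUW
    have hfp := Scheme.Hom.finitePresentation_appLE g V.2 W.2 hW
    refine Groth.Agent.H8.RFP.congr (Groth.Agent.H8.RFP.comp_finitePresentation H1 _ hfp) ?_
    rw [← CommRingCat.hom_comp, Scheme.Hom.appLE_comp_appLE]

end Groth.Agent.S9746
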