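import Groth.Statements.S9749
import Mathlib.Algebra.Module.FinitePresentation

set_option autoImplicit false
universe u
open Flatn

namespace Groth.Agent.S9749

theorem fp_of_retract {P : Type*} [CommRing P] {M N : Type*} [AddCommGroup M] [Module P M]
    [AddCommGroup N] [Module P N] (i : N →ₗ[P] M) (p : M →ₗ[P] N) (hpi : ∀ x, p (i x) = x)
    [Module.FinitePresentation P M] : Module.FinitePresentation P N := by
  refine Module.finitePresentation_of_surjective p (fun x => ⟨i x, hpi x⟩) ?_
  have hker : LinearMap.ker p = LinearMap.range (LinearMap.id - i ∘ₗ p) := by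
    ext x
    simp only [LinearMap.mem_ker, LinearMap.mem_range, LinearMap.sub_apply, LinearMap.id_coe,
      id_eq, LinearMap.coe_comp, Function.comp_apply]
    constructor
    · intro hx
      exact ⟨x, by rw [hx, map_zero, sub_zero]⟩
    · rintro ⟨y, rfl⟩
      rw [map_sub, hpi, sub_self]
  rw [hker, LinearMap.range_eq_map]
  exact (Module.Finite.fg_top).map _

theorem relFP_of_retract {R S : Type u} [CommRing R] [CommRing S] [Algebra R S] {M N : Type u}
    [AddCommGroup M] [Module S M] [AddCommGroup N] [Module S N] (i : N →ₗ[S] M) (p : M →ₗ[S] N)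
    (hpi : ∀ x, p (i x) = x) (h : FlatCA.RelFinitePresentation R S M) :
    FlatCA.RelFinitePresentation R S N := by
  obtain ⟨n, φ, hφ, hfp⟩ := h
  refine ⟨n, φ, hφ, ?_⟩
  let _ : Module (MvPolynomial (Fin n) R) M := Module.compHom M φ.toRingHom
  let _ : Module (MvPolynomial (Fin n) R) N := Module.compHom N φ.toRingHom
  let i' : N →ₗ[MvPolynomial (Fin n) R] M :=
    { toFun := i, map_add' := i.map_add, map_smul' := fun c x => i.map_smul (φ c) x }
  let p' : M →ₗ[MvPolynomial (Fin n) R] N :=
    { toFun := p, map_add' := p.map_add, map_smul' := fun c x => p.map_smul (φ c) x }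
  have : Module.FinitePresentation (MvPolynomial (Fin n) R) M := hfp
  exact fp_of_retract i' p' hpi

open AlgebraicGeometry CategoryTheory Limits in
theorem isRelFP_of_retract {X S : Scheme.{u}} (f : X ⟶ S) (F G : X.Modules) (i : F ⟶ G) (p : G ⟶ F)
    (hip : i ≫ p = 𝟙 F) (h : Flatn.IsRelFP f G) : Flatn.IsRelFP f F := by
  obtain ⟨𝒱, h𝒱, H⟩ := h
  refine ⟨𝒱, h𝒱, fun V hV => ?_⟩
  obtain ⟨𝒰, h𝒰, H'⟩ := H V hV
  refine ⟨𝒰, h𝒰, fun U hU hle => ?_⟩
  let alg : Algebra Γ(S, (V : S.Opens)) Γ(X, (U : X.Opens)) :=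
    (f.appLE (V : S.Opens) (U : X.Opens) hle).hom.toAlgebra
  have this : FlatCA.RelFinitePresentation Γ(S, (V : S.Opens)) Γ(X, (U : X.Opens))
      (G.val.obj (Opposite.op (U : X.Opens))) := H' U hU hle
  change FlatCA.RelFinitePresentation Γ(S, (V : S.Opens)) Γ(X, (U : X.Opens))
      (F.val.obj (Opposite.op (U : X.Opens)))
  refine relFP_of_retract (i.val.app (Opposite.op (U : X.Opens))).hom
    (p.val.app (Opposite.op (U : X.Opens))).hom (fun x => ?_) this
  have h1 : (i ≫ p).val.app (Opposite.op (U : X.Opens)) = (𝟙 F : F ⟶ F).val.app _ := by rw [hip]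
  have h2 := congrArg (fun g => g.hom x) h1
  exact h2


open AlgebraicGeometry CategoryTheory Limits in
/-- For f : X ⟶ S locally of finite type and quasi-coherent O_X-modules F, F', relative finite
presentation over S of the biproduct F ⊞ F' implies the same property for each summand. -/
theorem result {X S : Scheme.{u}} (f : X ⟶ S) [LocallyOfFiniteType f] (F F' : X.Modules) [Coh.IsQCoh F] [Coh.IsQCoh F']
    (h : Flatn.IsRelFP f (F ⊞ F')) : Flatn.IsRelFP f F ∧ Flatn.IsRelFP f F' := by
  exact ⟨isRelFP_of_retract f F (F ⊞ F') biprod.inl biprod.fst biprod.inl_fst h,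
    isRelFP_of_retract f F' (F ⊞ F') biprod.inr biprod.snd biprod.inr_snd h⟩

end Groth.Agent.S9749
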