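import Groth.Statements.S9756
import Groth.Agent.S1348
import Groth.Agent.H9.FiberStalk

set_option autoImplicit false
universe u
open FlatMor

namespace Groth.Agent.S9756

open AlgebraicGeometry CategoryTheory Limits in
theorem exists_nzd_of_one_le_depth (R : Type u) [CommRing R] [IsLocalRing R]
    (h : 1 ≤ LocCoh.depth R R) :
    ∃ r ∈ IsLocalRing.maximalIdeal R, r ∈ nonZeroDivisors R := by
  classical
  by_contra hcon
  push Not at hcon
  unfold LocCoh.depth LocCoh.idealDepth at h
  have htop : ¬ (IsLocalRing.maximalIdeal R • (⊤ : Submodule R R) = ⊤) := by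
    intro htop
    have h1 : (1 : R) ∈ IsLocalRing.maximalIdeal R • (⊤ : Submodule R R) := by
      rw [htop]; trivial
    have h2 : IsLocalRing.maximalIdeal R • (⊤ : Submodule R R) ≤ IsLocalRing.maximalIdeal R := by
      rw [Submodule.smul_le]
      intro r hr n _
      exact Ideal.mul_mem_right _ _ hr
    exact (IsLocalRing.maximalIdeal.isMaximal R).ne_top
      ((Ideal.eq_top_iff_one _).mpr (h2 h1))
  rw [if_neg htop] at h
  have hz : (⨆ (rs : List R) (_ : RingTheory.Sequence.IsWeaklyRegular R rs ∧
      ∀ r ∈ rs, r ∈ IsLocalRing.maximalIdeal R), (rs.length : ℕ∞)) = 0 := by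
    rw [← le_zero_iff]
    refine iSup_le fun rs => iSup_le fun hrs => ?_
    cases rs with
    | nil => simp
    | cons r rs =>
      exfalso
      have h1 := ((RingTheory.Sequence.isWeaklyRegular_cons_iff R r rs).mp hrs.1).1
      have h2 : r ∈ IsLocalRing.maximalIdeal R := hrs.2 r (List.mem_cons_self)
      refine hcon r h2 ?_
      rw [mem_nonZeroDivisors_iff_right]
      intro z hz
      apply h1
      change r • z = r • 0
      rw [smul_eq_mul, smul_eq_mul, mul_zero, mul_comm, hz]
  rw [hz] at h
  exact absurd h (by simp)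

open AlgebraicGeometry CategoryTheory Limits in
theorem germ_mem_of_eq {X : Scheme.{u}} {x x' : X} (e : x' = x) (U : X.Opens) (hx' : x' ∈ U)
    (s : Γ(X, U))
    (h : X.presheaf.germ U x' hx' s ∈ IsLocalRing.maximalIdeal (X.presheaf.stalk x')) :
    X.presheaf.germ U x (e ▸ hx') s ∈ IsLocalRing.maximalIdeal (X.presheaf.stalk x) := by
  subst e; exact h

open AlgebraicGeometry CategoryTheory Limits in
theorem flat_of_eq {X S : Scheme.{u}} (f : X ⟶ S) {x x' : X} (e : x' = x)
    (h : (f.stalkMap x).hom.Flat) : (f.stalkMap x').hom.Flat := by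
  subst e; exact h

open AlgebraicGeometry CategoryTheory Limits in
/-- Let f : X ⟶ S be locally of finite presentation and flat at a point x, and assume the local ring of
the fibre X_{f x} at x has depth at least 1. Then there are an affine open U ∋ x and a
nonzerodivisor h' of Γ(X, U) vanishing at x such that the closed subscheme V(h') of U, an effective
Cartier divisor through x, is flat and locally of finite presentation over S. The published
statement concludes that V(h') ⟶ S is of finite presentation; this row concludes only that it is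
flat and locally of finite presentation, which is what the published argument (slicing by a lift of
a fibrewise nonzerodivisor) yields, and which is equivalent when S is quasi-separated, V(h') being
affine. -/
theorem result {X S : Scheme.{u}} (f : X ⟶ S) [LocallyOfFinitePresentation f] (x : X)
    (hflat : (f.stalkMap x).hom.Flat)
    (hdepth : 1 ≤ LocCoh.depth ↑((f.fiber (f x)).presheaf.stalk (f.asFiber x)) ↑((f.fiber (f x)).presheaf.stalk (f.asFiber x))) :
    ∃ (U : X.Opens) (hU : IsAffineOpen U) (hx : x ∈ U) (h' : Γ(X, U)), h' ∈ nonZeroDivisors Γ(X, U) ∧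
      X.presheaf.germ U x hx h' ∈ IsLocalRing.maximalIdeal ↑(X.presheaf.stalk x) ∧
      Flat (Spec.map (CommRingCat.ofHom (Ideal.Quotient.mk (Ideal.span {h'}))) ≫ hU.fromSpec ≫ f) ∧
      LocallyOfFinitePresentation (Spec.map (CommRingCat.ofHom (Ideal.Quotient.mk (Ideal.span {h'}))) ≫ hU.fromSpec ≫ f) := by
  have hxx : (f.fiberι (f x)) (f.asFiber x) = x := f.fiberι_asFiber x
  obtain ⟨r, hrm, hr⟩ := exists_nzd_of_one_le_depth _ hdepth
  let I : Ideal (X.presheaf.stalk ((f.fiberι (f x)) (f.asFiber x))) :=
    Ideal.map (f.stalkMap ((f.fiberι (f x)) (f.asFiber x))).hom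
      (IsLocalRing.maximalIdeal (S.presheaf.stalk (f ((f.fiberι (f x)) (f.asFiber x)))))
  let e : (X.presheaf.stalk ((f.fiberι (f x)) (f.asFiber x)) ⧸ I) ≃+*
      (f.fiber (f x)).presheaf.stalk (f.asFiber x) :=
    Groth.Agent.H9.fiberStalkEquiv f (f x) (f.asFiber x)
  obtain ⟨h0, hh0⟩ := Ideal.Quotient.mk_surjective (e.symm r)
  have hm0 : h0 ∈ IsLocalRing.maximalIdeal (X.presheaf.stalk ((f.fiberι (f x)) (f.asFiber x))) := by
    rw [IsLocalRing.mem_maximalIdeal, mem_nonunits_iff]
    intro hu
    have h1 : IsUnit (e (Ideal.Quotient.mk I h0)) := (hu.map (Ideal.Quotient.mk I)).map e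
    rw [hh0, RingEquiv.apply_symm_apply] at h1
    exact ((IsLocalRing.mem_maximalIdeal r).mp hrm) h1
  have hreg0 : Ideal.Quotient.mk I h0 ∈ nonZeroDivisors _ := by
    refine mem_nonZeroDivisors_of_injective (f := e) e.injective ?_
    rw [hh0, RingEquiv.apply_symm_apply]
    exact hr
  have hflat' : (f.stalkMap ((f.fiberι (f x)) (f.asFiber x))).hom.Flat := flat_of_eq f hxx hflat
  obtain ⟨U, hU, hxU, h', hgerm, hnzd, hF, hL⟩ :=
    Groth.Agent.S1348.result f ((f.fiberι (f x)) (f.asFiber x)) hflat' h0 hm0 hreg0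
  refine ⟨U, hU, hxx ▸ hxU, h', hnzd, ?_, hF, hL⟩
  exact germ_mem_of_eq hxx U hxU h' (hgerm ▸ hm0)

end Groth.Agent.S9756
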