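import Groth.Statements.S9757
import Mathlib
import Groth.Agent.H9.CMFlatApp
import Groth.Agent.S1341

set_option linter.style.haveILetI false

set_option autoImplicit false
universe u
open FlatMor

namespace Groth.Agent.S9757


open AlgebraicGeometry CategoryTheory Limits in
theorem isOpen_level {X S : Scheme.{u}} (f : X ⟶ S) [LocallyOfFinitePresentation f] (d : ℕ) :
    IsOpen {x : X | MoreMor.IsCMAt f x ∧ FlatMor.fibreDimAt f x = (d : WithBot ℕ∞)} := by
  rw [isOpen_iff_forall_mem_open]
  rintro x ⟨hCM, hd⟩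
  obtain ⟨n, U', hxU', hU'⟩ := Groth.Agent.H9.CMFlatApp.exists_open_cm f x hCM
  have hnd : n = d := by
    have h1 := (hU' x hxU').2
    rw [hd] at h1
    exact_mod_cast h1.symm
  subst hnd
  exact ⟨U', fun z hz => hU' z hz, U'.isOpen, hxU'⟩

open AlgebraicGeometry CategoryTheory Limits in
theorem result' {X S : Scheme.{u}} (f : X ⟶ S) [Flat f] [LocallyOfFinitePresentation f] :
    ∃ U : ℕ → X.Opens, (∀ s : S, Dense ((f.fiberι s) ⁻¹' ((⨆ d, U d : X.Opens) : Set ↑X))) ∧
      ∀ (d : ℕ) (x : ↑X), x ∈ U d → FlatMor.fibreDimAt f x = d := by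
  refine ⟨fun d => ⟨_, isOpen_level f d⟩, fun s => ?_, fun d x hx => hx.2⟩
  refine (Groth.Agent.S1341.dense_fibre f s).mono ?_
  intro z hz
  have hz' : MoreMor.IsCMAt f (f.fiberι s z) := hz
  obtain ⟨n, hn⟩ := Groth.Agent.H9.CMFlatSch.exists_nat_fibreDimAt f (f.fiberι s z)
  show f.fiberι s z ∈ ((⨆ d, (⟨_, isOpen_level f d⟩ : X.Opens) : X.Opens) : Set ↑X)
  rw [SetLike.mem_coe, TopologicalSpace.Opens.mem_iSup]
  exact ⟨n, hz', hn⟩


open AlgebraicGeometry CategoryTheory Limits in
/-- Suppose the morphism f : X ⟶ S is flat and locally of finite presentation. Then X contains open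
subsets U_d, indexed by d ∈ ℕ, such that for every s ∈ S the union of all U_d intersects the fibre
X_s in a dense subset of X_s, and each U_d ⟶ S is of relative dimension d. Because U_d is open in X,
this is the same as requiring that at every point x of U_d the fibre of f containing x has local
dimension d at x; that pointwise form is the one this row uses. -/
theorem result {X S : Scheme.{u}} (f : X ⟶ S) [Flat f] [LocallyOfFinitePresentation f] :
    ∃ U : ℕ → X.Opens, (∀ s : S, Dense ((f.fiberι s) ⁻¹' ((⨆ d, U d : X.Opens) : Set ↑X))) ∧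
      ∀ (d : ℕ) (x : ↑X), x ∈ U d → FlatMor.fibreDimAt f x = d := by
  exact result' f

end Groth.Agent.S9757
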