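import Groth.Statements.S9762
import Mathlib
import Groth.Agent.H7.EtaleLoc4
import Groth.Agent.H7.QFLocus

set_option autoImplicit false
universe u
open FlatMor

namespace Groth.Agent.S9762



open AlgebraicGeometry CategoryTheory Limits in
/-- For f : X ⟶ S separated and locally of finite type, and a point s of S such that only finitely many
points of the fibre over s are isolated, some elementary étale neighbourhood (U, u) of (S, s) admits
an open and closed V ⊆ U ×_S X, finite over U, such that no point of the fibre over u lying outside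
V is isolated in that fibre. The published statement also asserts that the complement of V has empty
fibre over u when the fibre over s is finite; this row omits that clause. -/
theorem result {X S : Scheme.{u}} (f : X ⟶ S) [LocallyOfFiniteType f] [IsSeparated f] (s : S)
    (hfin : {x : ↑(f.fiber s) | IsOpen ({x} : Set ↑(f.fiber s))}.Finite) :
    ∃ (U : Scheme.{u}) (g : U ⟶ S) (u : U), Hens2.IsEtaleNbhd g u s ∧
      ∃ V : (pullback f g).Opens, IsClopen (V : Set ↑(pullback f g)) ∧ IsFinite (V.ι ≫ pullback.snd f g) ∧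
        ∀ w : ↑((pullback.snd f g).fiber u), (pullback.snd f g).fiberι u w ∉ V →
          ¬ IsOpen ({w} : Set ↑((pullback.snd f g).fiber u)) := by
  classical
  have hfin' : Finite ↑{x : ↑(f.fiber s) | IsOpen ({x} : Set ↑(f.fiber s))} := hfin
  let e := Finite.equivFin ↑{x : ↑(f.fiber s) | IsOpen ({x} : Set ↑(f.fiber s))}
  let x : Fin (Nat.card ↑{x : ↑(f.fiber s) | IsOpen ({x} : Set ↑(f.fiber s))}) → X :=
    fun i => f.fiberι s (e.symm i).1
  have hxs : ∀ i, f (x i) = s := fun i => by
    have : f.fiberι s (e.symm i).1 ∈ f ⁻¹' {s} := by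
      rw [← Scheme.Hom.range_fiberι]; exact ⟨_, rfl⟩
    exact this
  have hqf : ∀ i, f.QuasiFiniteAt (x i) := fun i =>
    (H7.quasiFiniteAt_fiberι_iff f s _).mpr (e.symm i).2
  obtain ⟨U, g, u, hg, hgu, hres, V, v, hV⟩ := H7.exists_common_etale_nbhd_sep f s _ x hxs hqf
  have hcl : IsClosed ((⨆ i, V i : (pullback f g).Opens) : Set ↑(pullback f g)) := by
    have : ((⨆ i, V i : (pullback f g).Opens) : Set ↑(pullback f g)) = ⋃ i, (V i : Set _) := by
      simp
    rw [this]
    exact isClosed_iUnion_of_finite fun i => (hV i).2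
  refine ⟨U, g, u, ⟨hg, hgu, hres⟩, ⨆ i, V i, ⟨hcl, (⨆ i, V i).2⟩, ?_, ?_⟩
  · exact H7.isFinite_iSup (pullback.snd f g) _ V (fun i => (hV i).1.2.1)
  · intro w hw hopen
    have hsnd : pullback.snd f g ((pullback.snd f g).fiberι u w) = u := by
      have : (pullback.snd f g).fiberι u w ∈ (pullback.snd f g) ⁻¹' {u} := by
        rw [← Scheme.Hom.range_fiberι]; exact ⟨_, rfl⟩
      exact this
    have hq : (pullback.snd f g).QuasiFiniteAt ((pullback.snd f g).fiberι u w) :=
      (H7.quasiFiniteAt_fiberι_iff _ u w).mpr hopen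
    have hq' : f.QuasiFiniteAt (pullback.fst f g ((pullback.snd f g).fiberι u w)) :=
      (H7.quasiFiniteAt_iff_of_isPullback (IsPullback.of_hasPullback f g) _).mp hq
    have hfs : f (pullback.fst f g ((pullback.snd f g).fiberι u w)) = s := by
      rw [← Scheme.Hom.comp_apply, pullback.condition, Scheme.Hom.comp_apply, hsnd, hgu]
    obtain ⟨z, hz⟩ : ∃ z, f.fiberι s z = pullback.fst f g ((pullback.snd f g).fiberι u w) := by
      have : pullback.fst f g ((pullback.snd f g).fiberι u w) ∈ Set.range (f.fiberι s) := by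
        rw [Scheme.Hom.range_fiberι]; exact hfs
      exact this
    have hzI : z ∈ {x : ↑(f.fiber s) | IsOpen ({x} : Set ↑(f.fiber s))} := by
      show IsOpen {z}
      rw [← H7.quasiFiniteAt_fiberι_iff f s z, hz]; exact hq'
    have hxi : x (e ⟨z, hzI⟩) = pullback.fst f g ((pullback.snd f g).fiberι u w) := by
      show f.fiberι s (e.symm (e ⟨z, hzI⟩)).1 = _
      rw [Equiv.symm_apply_apply]; exact hz
    obtain ⟨hvV, -, hsndv, -, hfst⟩ := (hV (e ⟨z, hzI⟩)).1
    have hwv : (pullback.snd f g).fiberι u w = v (e ⟨z, hzI⟩) := by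
      apply H7.eq_of_fst_eq_of_snd_eq
      · rw [hfst, hxi]
      · rw [hsndv, hsnd]
      · rw [hsndv]; exact hres
    apply hw
    rw [hwv]
    exact TopologicalSpace.Opens.mem_iSup.mpr ⟨_, hvV⟩

end Groth.Agent.S9762
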