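import Groth.Statements.S9766
import Groth.Agent.H29.FiberStalkAt
set_option maxHeartbeats 400000
set_option linter.style.haveILetI false

set_option autoImplicit false
universe u
open FlatMor

namespace Groth.Agent.S9766

open AlgebraicGeometry CategoryTheory Limits in
/-- For morphisms f : X ⟶ Y, g : Y ⟶ Z and a point x of X whose fibre under f ≫ g is locally Noetherian,
Cohen–Macaulayness of f at x (flat at x with Cohen–Macaulay local ring of the fibre at x) together
with that of g at f x implies that f ≫ g is Cohen–Macaulay at x. The published statement assumes all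
fibres of f, g and g ∘ f locally Noetherian; this row assumes only that the fibre of f ≫ g through x
is, which is all the argument uses. -/
theorem result {X Y Z : Scheme.{u}} (f : X ⟶ Y) (g : Y ⟶ Z) (x : X)
    (hN : IsLocallyNoetherian ((f ≫ g).fiber (g (f x))))
    (hf : MoreMor.IsCMAt f x) (hg : MoreMor.IsCMAt g (f x)) : MoreMor.IsCMAt (f ≫ g) x := by
  obtain ⟨hfl_f, hcm_f⟩ := hf
  obtain ⟨hfl_g, hcm_g⟩ := hg
  have hcomp := Groth.Agent.H29.FiberStalkAt.stalkMap_comp_hom f g x
  refine ⟨?_, ?_⟩
  · rw [hcomp]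
    exact RingHom.Flat.comp hfl_g hfl_f
  · obtain ⟨e1⟩ := Groth.Agent.H29.FiberStalkAt.nonempty_fiberStalkEquiv g (f.base x)
    obtain ⟨e2⟩ := Groth.Agent.H29.FiberStalkAt.nonempty_fiberStalkEquiv f x
    obtain ⟨e3⟩ := Groth.Agent.H29.FiberStalkAt.nonempty_fiberStalkEquiv (f ≫ g) x
    have hJ : Ideal.map ((f ≫ g).stalkMap x).hom
        (IsLocalRing.maximalIdeal (Z.presheaf.stalk ((f ≫ g).base x))) =
        Ideal.map ((f.stalkMap x).hom.comp (g.stalkMap (f.base x)).hom)
          (IsLocalRing.maximalIdeal (Z.presheaf.stalk ((f ≫ g).base x))) :=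
      congrArg (fun h => Ideal.map h
        (IsLocalRing.maximalIdeal (Z.presheaf.stalk ((f ≫ g).base x)))) hcomp
    have e3' := (Ideal.quotEquivOfEq hJ.symm).trans e3
    haveI : IsLocallyNoetherian ((f ≫ g).fiber ((f ≫ g).base x)) := hN
    exact Groth.Agent.H29.FlatCMComp.local_comp (g.stalkMap (f.base x)).hom (f.stalkMap x).hom
      hfl_f e1 e2 e3' hcm_g hcm_f

end Groth.Agent.S9766
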