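import Groth.Statements.S9768
import Groth.Agent.H29.FlatCM
import Groth.Agent.H9.FiberStalk
set_option maxHeartbeats 400000
set_option linter.style.haveILetI false

set_option autoImplicit false
universe u
open FlatMor

namespace Groth.Agent.S9768

open TensorProduct IsLocalRing in
theorem local_cm {A B F : Type u} [CommRing A] [CommRing B] [CommRing F] [IsLocalRing A]
    [IsLocalRing B] [IsLocalRing F] [IsNoetherianRing A] [IsNoetherianRing B] (φ : A →+* B)
    [IsLocalHom φ] (hflat : φ.Flat)
    (e : (B ⧸ Ideal.map φ (maximalIdeal A)) ≃+* F)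
    (hB : LocCoh.IsCohenMacaulayLocalRing B) :
    LocCoh.IsCohenMacaulayLocalRing F ∧ LocCoh.IsCohenMacaulayLocalRing A := by
  letI : Algebra A B := φ.toAlgebra
  haveI : IsLocalHom (algebraMap A B) := ‹IsLocalHom φ›
  haveI : Module.Flat A B := hflat
  have e' : EGA4.FibRing A B ≃+* F := e
  obtain ⟨hA, hF⟩ := Groth.Agent.H29.FlatCM.isCM_of_flat_of_isCM (A := A) (B := B) hB
  exact ⟨Groth.Agent.H29.FlatCM.isCM_ringEquiv e' hF, hA⟩


open AlgebraicGeometry CategoryTheory Limits in
/-- Suppose X and Y are locally Noetherian schemes, f : X ⟶ Y is flat, and every local ring of X is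
Cohen–Macaulay. Then at each point x of X the morphism f is Cohen–Macaulay (flat at x with
Cohen–Macaulay local ring of the fibre), and the local ring of Y at f x is Cohen–Macaulay. -/
theorem result {X Y : Scheme.{u}} (f : X ⟶ Y) [IsLocallyNoetherian X] [IsLocallyNoetherian Y] [Flat f]
    (hX : ∀ x : X, LocCoh.IsCohenMacaulayLocalRing ↑(X.presheaf.stalk x)) (x : X) :
    MoreMor.IsCMAt f x ∧ LocCoh.IsCohenMacaulayLocalRing ↑(Y.presheaf.stalk (f x)) := by
  have key : ∀ (s : Y) (y' : ↥(f.fiber s)),
      LocCoh.IsCohenMacaulayLocalRing ↑((f.fiber s).presheaf.stalk y') ∧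
      LocCoh.IsCohenMacaulayLocalRing ↑(Y.presheaf.stalk (f.base ((f.fiberι s).base y'))) := by
    intro s y'
    exact local_cm (f.stalkMap ((f.fiberι s).base y')).hom
      (AlgebraicGeometry.Flat.stalkMap f ((f.fiberι s).base y'))
      (Groth.Agent.H9.fiberStalkEquiv f s y') (hX ((f.fiberι s).base y'))
  have h1 := key (f x) (f.asFiber x)
  have e : (f.fiberι (f x)).base (f.asFiber x) = x := f.fiberι_asFiber x
  refine ⟨⟨AlgebraicGeometry.Flat.stalkMap f x, h1.1⟩, ?_⟩
  have h2 := h1.2
  rw [e] at h2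
  exact h2

end Groth.Agent.S9768
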