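import Groth.Statements.S9769
import Groth.Agent.H57.FreeBC
import Groth.Agent.H57.FlatSchKey
import Groth.Agent.H8.PullbackStalk
import Groth.Agent.H8.FPAffine
import Groth.Agent.H8.QCohStalk

set_option autoImplicit false
set_option linter.style.haveILetI false
universe u
open FlatMor

namespace Groth.Agent.S9769

open AlgebraicGeometry CategoryTheory Limits TensorProduct in
set_option maxHeartbeats 1600000 in
theorem free_stalk_of_free_pullback {X S X' S' : Scheme.{u}} (f : X ⟶ S)
    (F : X.Modules) [SheafOfModules.IsFinitePresentation (R := X.ringCatSheaf) F]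
    (g : S' ⟶ S) (f' : X' ⟶ S') (g' : X' ⟶ X) (hc : IsPullback g' f' f g) (x' : X')
    (hfl : FlatMod.IsFlatOverAt f F (g' x'))
    (hfree : letI := (g'.stalkMap x').hom.toAlgebra
      Module.Free (X'.presheaf.stalk x')
        (TensorProduct (X.presheaf.stalk (g' x')) (X'.presheaf.stalk x')
          (F.presheaf.stalk (g' x')))) :
    Module.Free (X.presheaf.stalk (g' x')) (F.presheaf.stalk (g' x')) := by
  haveI : F.IsQuasicoherent :=
    { nonempty_quasicoherentData :=
        ⟨(SheafOfModules.IsFinitePresentation.exists_quasicoherentData F).choose⟩ }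
  have hcond : f (g' x') = g (f' x') := by
    rw [← Scheme.Hom.comp_apply, ← Scheme.Hom.comp_apply, hc.w]
  obtain ⟨V, hV, hsV, -⟩ := exists_isAffineOpen_mem_and_subset (x := f (g' x'))
    (U := (⊤ : S.Opens)) trivial
  obtain ⟨W, hW, hxW, hWV⟩ := exists_isAffineOpen_mem_and_subset (x := g' x')
    (U := f ⁻¹ᵁ V) hsV
  have hs'V : f' x' ∈ g ⁻¹ᵁ V := by
    show g (f' x') ∈ V
    rw [← hcond]; exact hsV
  obtain ⟨V', hV', hs'V', hV'V⟩ := exists_isAffineOpen_mem_and_subset (x := f' x')
    (U := g ⁻¹ᵁ V) hs'V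
  let W' : X'.Opens := g' ⁻¹ᵁ W ⊓ f' ⁻¹ᵁ V'
  have hx'W' : x' ∈ W' := ⟨hxW, hs'V'⟩
  have hW'W : W' ≤ g' ⁻¹ᵁ W := inf_le_left
  have hW'V' : W' ≤ f' ⁻¹ᵁ V' := inf_le_right
  have hW' : IsAffineOpen W' := by
    have : IsAffine V.toScheme := hV
    have : IsAffine V'.toScheme := hV'
    have : IsAffine W.toScheme := hW
    exact .of_isIso (Scheme.Hom.isPullback_resLE hc hV'V hWV (rfl : W' = _)).isoPullback.hom
  have hpo := (isIso_pushoutSection_iff hc hV'V hWV (rfl : W' = _)).mp
    (isIso_pushoutSection_of_isAffineOpen hc hV'V hWV rfl hV hV' hW)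
  -- rings
  letI aAB : Algebra Γ(S, V) Γ(X, W) := (f.appLE V W hWV).hom.toAlgebra
  letI aAA' : Algebra Γ(S, V) Γ(S', V') := (g.appLE V V' hV'V).hom.toAlgebra
  letI aBB' : Algebra Γ(X, W) Γ(X', W') := (g'.appLE W W' hW'W).hom.toAlgebra
  letI aA'B' : Algebra Γ(S', V') Γ(X', W') := (f'.appLE V' W' hW'V').hom.toAlgebra
  letI aAB' : Algebra Γ(S, V) Γ(X', W') :=
    ((g'.appLE W W' hW'W).hom.comp (f.appLE V W hWV).hom).toAlgebra
  haveI t1 : IsScalarTower Γ(S, V) Γ(X, W) Γ(X', W') := .of_algebraMap_eq' rfl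
  haveI t2 : IsScalarTower Γ(S, V) Γ(S', V') Γ(X', W') := .of_algebraMap_eq' (by
    change ((g'.appLE W W' hW'W).hom.comp (f.appLE V W hWV).hom) =
      ((f'.appLE V' W' hW'V').hom.comp (g.appLE V V' hV'V).hom)
    rw [← CommRingCat.hom_comp, ← CommRingCat.hom_comp, hpo.w])
  haveI po1 : Algebra.IsPushout Γ(S, V) Γ(X, W) Γ(S', V') Γ(X', W') :=
    CommRingCat.isPushout_iff_isPushout.mp hpo
  haveI po2 : Algebra.IsPushout Γ(S, V) Γ(S', V') Γ(X, W) Γ(X', W') :=
    Algebra.IsPushout.symm inferInstance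
  -- stalks
  letI aBR : Algebra Γ(X, W) (X.presheaf.stalk (g' x')) :=
    X.presheaf.algebra_section_stalk ⟨g' x', hxW⟩
  haveI locR := hW.isLocalization_stalk ⟨g' x', hxW⟩
  letI aB'T : Algebra Γ(X', W') (X'.presheaf.stalk x') :=
    X'.presheaf.algebra_section_stalk ⟨x', hx'W'⟩
  haveI locT := hW'.isLocalization_stalk ⟨x', hx'W'⟩
  letI aRT : Algebra (X.presheaf.stalk (g' x')) (X'.presheaf.stalk x') :=
    (g'.stalkMap x').hom.toAlgebra
  haveI : IsLocalHom (algebraMap (X.presheaf.stalk (g' x')) (X'.presheaf.stalk x')) := by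
    rw [RingHom.algebraMap_toAlgebra]; infer_instance
  letI aBT : Algebra Γ(X, W) (X'.presheaf.stalk x') :=
    ((algebraMap Γ(X', W') (X'.presheaf.stalk x')).comp
      (algebraMap Γ(X, W) Γ(X', W'))).toAlgebra
  haveI t3 : IsScalarTower Γ(X, W) Γ(X', W') (X'.presheaf.stalk x') := .of_algebraMap_eq' rfl
  haveI t4 : IsScalarTower Γ(X, W) (X.presheaf.stalk (g' x')) (X'.presheaf.stalk x') := by
    apply IsScalarTower.of_algebraMap_eq
    intro b
    exact (Groth.Agent.H57.stalkMap_germ_appLE g' hW'W x' hx'W' b).symm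
  letI aAR : Algebra Γ(S, V) (X.presheaf.stalk (g' x')) :=
    ((algebraMap Γ(X, W) (X.presheaf.stalk (g' x'))).comp
      (algebraMap Γ(S, V) Γ(X, W))).toAlgebra
  haveI t5 : IsScalarTower Γ(S, V) Γ(X, W) (X.presheaf.stalk (g' x')) :=
    .of_algebraMap_eq' rfl
  haveI flT : Module.Flat Γ(X', W') (X'.presheaf.stalk x') :=
    IsLocalization.flat _ (hW'.primeIdealOf ⟨x', hx'W'⟩).asIdeal.primeCompl
  -- the module
  letI mAN : Module Γ(S, V) (F.presheaf.stalk (g' x')) :=
    Module.compHom _ (algebraMap Γ(S, V) (X.presheaf.stalk (g' x')))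
  haveI t6 : IsScalarTower Γ(S, V) (X.presheaf.stalk (g' x')) (F.presheaf.stalk (g' x')) :=
    IsScalarTower.of_algebraMap_smul fun _ _ => rfl
  haveI fpN : Module.FinitePresentation (X.presheaf.stalk (g' x'))
      (F.presheaf.stalk (g' x')) := by
    letI := Groth.Agent.H8.moduleSectionStalk F (g' x') hxW
    haveI := Groth.Agent.H8.isScalarTower_sectionStalk F (g' x') hxW
    haveI := Groth.Agent.H8.isLocalizedModule_germₗ F hW (g' x') hxW
    haveI : Module.FinitePresentation Γ(X, W) Γ(F, W) :=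
      Groth.Agent.H8.finitePresentation_sections_of_isAffineOpen F hW
    exact _root_.FinitePresentation.of_isBaseChange (Groth.Agent.H8.germₗ F (g' x') hxW)
      ((isLocalizedModule_iff_isBaseChange
        (hW.primeIdealOf ⟨g' x', hxW⟩).asIdeal.primeCompl _ _).mp inferInstance)
  haveI flN : Module.Flat Γ(S, V) (F.presheaf.stalk (g' x')) := by
    letI : Algebra Γ(S, V) (S.presheaf.stalk (f (g' x'))) :=
      S.presheaf.algebra_section_stalk ⟨f (g' x'), hsV⟩
    haveI := hV.isLocalization_stalk ⟨f (g' x'), hsV⟩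
    letI : Module (S.presheaf.stalk (f (g' x'))) (F.presheaf.stalk (g' x')) :=
      FlatMod.moduleStalkOver f F (g' x')
    haveI : IsScalarTower Γ(S, V) (S.presheaf.stalk (f (g' x'))) (F.presheaf.stalk (g' x')) :=
      IsScalarTower.of_algebraMap_smul fun r m => by
        change (f.stalkMap (g' x')).hom (S.presheaf.germ V (f (g' x')) hsV r) • m =
          X.presheaf.germ W (g' x') hxW ((f.appLE V W hWV).hom r) • m
        rw [Groth.Agent.H57.stalkMap_germ_appLE f hWV (g' x') hxW r]
    have h0 : Module.Flat (S.presheaf.stalk (f (g' x'))) (F.presheaf.stalk (g' x')) := hfl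
    exact (Module.flat_iff_of_isLocalization (S.presheaf.stalk (f (g' x')))
      (hV.primeIdealOf ⟨f (g' x'), hsV⟩).asIdeal.primeCompl _).mp h0
  haveI := hfree
  exact Groth.Agent.H57.FreeBC.free_of_free_tensor Γ(S, V) Γ(X, W) Γ(S', V') Γ(X', W')
    (X.presheaf.stalk (g' x')) (X'.presheaf.stalk x')
    (hW.primeIdealOf ⟨g' x', hxW⟩).asIdeal.primeCompl (F.presheaf.stalk (g' x'))

open AlgebraicGeometry CategoryTheory Limits in
/-- Let f : X ⟶ S be locally of finite presentation and F a finitely presented O_X-module which is flat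
over S. Then the formation of the locus of points of X near which F is free (equivalently, for
finitely presented F, where the stalk of F is a free module) commutes with arbitrary base change:
for a cartesian square with g' : X' ⟶ X over S' ⟶ S, the free locus of (g')^*F is the preimage of
that of F. The published statement also asserts that this locus is open; this row states only that
its formation commutes with base change. -/
theorem result {X S X' S' : Scheme.{u}} (f : X ⟶ S) [LocallyOfFinitePresentation f]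
    (F : X.Modules) (hF : CohB1.IsFP F) (hfl : FlatMod.IsFlatOver f F)
    (g : S' ⟶ S) (f' : X' ⟶ S') (g' : X' ⟶ X) (hc : IsPullback g' f' f g) :
    {x' : ↑X' | Module.Free ↑(X'.presheaf.stalk x') ↑(((Scheme.Modules.pullback g').obj F).presheaf.stalk x')} =
      g' ⁻¹' {x : ↑X | Module.Free ↑(X.presheaf.stalk x) ↑(F.presheaf.stalk x)} := by
  haveI : SheafOfModules.IsFinitePresentation (R := X.ringCatSheaf) F := hF
  haveI : F.IsQuasicoherent :=
    { nonempty_quasicoherentData :=
        ⟨(SheafOfModules.IsFinitePresentation.exists_quasicoherentData F).choose⟩ }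
  ext x'
  obtain ⟨e⟩ := Groth.Agent.H8.nonempty_stalk_pullback_equiv g' F x'
  constructor
  · intro h
    haveI : Module.Free ↑(X'.presheaf.stalk x')
        ↑(((Scheme.Modules.pullback g').obj F).presheaf.stalk x') := h
    exact free_stalk_of_free_pullback f F g f' g' hc x' (hfl _) (Module.Free.of_equiv e)
  · intro h
    haveI : Module.Free (X.presheaf.stalk (g' x')) (F.presheaf.stalk (g' x')) := h
    letI := (g'.stalkMap x').hom.toAlgebra
    exact Module.Free.of_equiv e.symm

end Groth.Agent.S9769
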