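import Groth.Statements.S9772
import Groth.Agent.H70.UTTrans.Aff
import Groth.Agent.H2.UTK_KP
import Groth.Agent.H2.UTK_KQ
import Groth.Agent.H39.ConormalFree
import Groth.Agent.H19.SmoothFormal
import Groth.Agent.H59.KoszH1Bridge
import Groth.Agent.H79.RegImmRel
import Groth.Agent.H8.LocFree
import Groth.Agent.H24.UTT_AF
import Groth.Agent.H41.UTS_FS
import Groth.Agent.H78.UT4

set_option autoImplicit false
set_option linter.style.haveILetI false
universe u
open OmegaSh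

namespace Groth.Agent.S9772

open AlgebraicGeometry CategoryTheory Limits TopologicalSpace
open Groth.Agent.H39 Groth.Agent.H8 Groth.Agent.H39.ConormalLocal Groth.Agent.H39.ConormalSect
  Groth.Agent.H39.ConormalSplit Groth.Agent.H70.UTTrans

lemma appLE_congr_hom' {A B : Scheme.{u}} {f g : A ⟶ B} (h : f = g) (U : B.Opens) (V : A.Opens)
    (e : V ≤ f ⁻¹ᵁ U) : f.appLE U V e = g.appLE U V (h ▸ e) := by
  subst h; rfl

set_option maxHeartbeats 1600000 in
/-- Local statement: finite projective sections near a point. -/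
theorem local_projective {X Y X' : Scheme.{u}} (f : X ⟶ Y) [FormallyUnramified f] (i : X ⟶ X')
    (h' : X' ⟶ Y) (hu : OmegaSh.IsUnivThickening f i h') [IsClosedImmersion i]
    (x : X) (hx : Synt.IsKoszulAt f x) :
    ∃ O : X.Opens, IsAffineOpen O ∧ x ∈ O ∧ Module.Finite Γ(X, O) Γ(Omega.conormal i, O) ∧
      Module.Projective Γ(X, O) Γ(Omega.conormal i, O) := by
  obtain ⟨U, P, i₀, π, hxU, -, ⟨himm, hreg⟩, hsm, hfac⟩ := hx
  haveI : IsImmersion i₀ := himm
  haveI : Smooth π := hsm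
  let xU : U.toScheme := ⟨x, hxU⟩
  obtain ⟨UP₀, hzUP₀, hcl, rs, hrs, hker⟩ := hreg xU
  obtain ⟨VY, hVY, hzVY, -⟩ := exists_isAffineOpen_mem_and_subset (x := π (i₀ xU))
    (U := (⊤ : Y.Opens)) trivial
  have hiz : i₀ xU ∈ i₀.coborderRange := by
    have h1 : i₀.coborderRange.ι (i₀.liftCoborder xU) = i₀ xU := by
      rw [← Scheme.Hom.comp_apply i₀.liftCoborder, i₀.liftCoborder_ι]
    rw [← h1]
    exact (i₀.liftCoborder xU).2
  have hmem : i₀ xU ∈ (UP₀.1 ⊓ i₀.coborderRange) ⊓ π ⁻¹ᵁ VY := ⟨⟨hzUP₀, hiz⟩, hzVY⟩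
  obtain ⟨UP, hUP, hzUP, hUPle⟩ := exists_isAffineOpen_mem_and_subset (x := i₀ xU)
    (U := (UP₀.1 ⊓ i₀.coborderRange) ⊓ π ⁻¹ᵁ VY) hmem
  have eπ : UP ≤ π ⁻¹ᵁ VY := hUPle.trans inf_le_right
  obtain ⟨-, rs₁, hrs₁, hker₁⟩ := Groth.Agent.H79.RegImmRel.regImm_data_restrict i₀
    RegImm.Kind.koszul UP₀.2 hUP (hUPle.trans (inf_le_left.trans inf_le_left)) hcl rs hrs hker
    xU hzUP
  have hrs₁' : CAlgX.IsH1Regular rs₁.get :=
    Groth.Agent.H59.Kosz.isH1Regular_of_isKoszulRegularSeq rs₁ hrs₁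
  obtain ⟨hWU, hsurj₀⟩ := coborder_affine' i₀ hUP (hUPle.trans (inf_le_left.trans inf_le_right))
  -- the open of `X` and its thickening
  have hOaff : IsAffineOpen (U.ι ''ᵁ (i₀ ⁻¹ᵁ UP)) := hWU.image_of_isOpenImmersion U.ι
  obtain ⟨W', hW'eq⟩ := Groth.Agent.H78.UT4.exists_opens_preimage_eq i hu.1
    (U.ι ''ᵁ (i₀ ⁻¹ᵁ UP))
  have hWaff : IsAffineOpen (i ⁻¹ᵁ W') := by rw [hW'eq]; exact hOaff
  have hisurj : Function.Surjective i := hu.1.1.2.surj
  have hW'aff : IsAffineOpen W' :=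
    Groth.Agent.H24.UTT_AF.isAffineOpen_of_preimage i hisurj _ hWaff
  have hih' : i ≫ h' = f := hu.2.1
  have e : W' ≤ h' ⁻¹ᵁ VY := by
    intro x' hx'
    obtain ⟨x₀, rfl⟩ := hisurj x'
    have h1 : x₀ ∈ i ⁻¹ᵁ W' := hx'
    rw [hW'eq] at h1
    obtain ⟨u₀, hu₀, rfl⟩ := h1
    have h2 : h' (i (U.ι u₀)) = π (i₀ u₀) := by
      rw [← Scheme.Hom.comp_apply, ← Scheme.Hom.comp_apply, ← Scheme.Hom.comp_apply, hih',
        ← hfac]
    show h' (i (U.ι u₀)) ∈ VY
    rw [h2]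
    exact eπ hu₀
  have hB' := univProp_of_affineOpens hu hVY hW'aff e
  rw [Scheme.Hom.app_eq_appLE] at hB'
  -- the surjection from the smooth chart
  let ρ : Γ(P, UP) →+* Γ(X, i ⁻¹ᵁ W') :=
    (X.presheaf.map (eqToHom hW'eq).op).hom.comp (i₀.app UP).hom
  have hιinj : Function.Injective (X.presheaf.map (eqToHom hW'eq).op).hom := by
    have : IsIso (X.presheaf.map (eqToHom hW'eq).op) := inferInstance
    exact (ConcreteCategory.bijective_of_isIso (X.presheaf.map (eqToHom hW'eq).op)).1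
  have hιsurj : Function.Surjective (X.presheaf.map (eqToHom hW'eq).op).hom :=
    (ConcreteCategory.bijective_of_isIso (X.presheaf.map (eqToHom hW'eq).op)).2
  have hρ : Function.Surjective ρ := hιsurj.comp hsurj₀
  have hkerρ : RingHom.ker ρ = Ideal.ofList rs₁ := by
    rw [← hker₁]
    ext r
    rw [RingHom.mem_ker, RingHom.mem_ker]
    show (X.presheaf.map (eqToHom hW'eq).op).hom ((i₀.app UP).hom r) = 0 ↔ _
    rw [map_eq_zero_iff _ hιinj]
    exact Iff.rfl
  have hcomm : ρ.comp (π.appLE VY UP eπ).hom =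
      (i.appLE W' (i ⁻¹ᵁ W') le_rfl).hom.comp (h'.appLE VY W' e).hom := by
    have h1 := Scheme.Hom.appLE_comp_appLE i h' VY W' (i ⁻¹ᵁ W') e le_rfl
    have h2 := Scheme.Hom.appLE_comp_appLE i₀ π VY UP (i₀ ⁻¹ᵁ UP) eπ le_rfl
    rw [Scheme.Hom.appLE_eq_app] at h2
    rw [← CommRingCat.hom_comp, h1]
    show (π.appLE VY UP eπ ≫ i₀.app UP ≫ X.presheaf.map (eqToHom hW'eq).op).hom = _
    rw [← Category.assoc, h2, appLE_congr_hom' hfac, appLE_congr_hom' hih']
    have h3 : ∀ ee, (U.ι ≫ f).appLE VY (i₀ ⁻¹ᵁ UP) ee = f.appLE VY (U.ι ''ᵁ (i₀ ⁻¹ᵁ UP))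
        (Set.image_subset_iff.mpr ee) := by
      intro ee
      rw [Scheme.Hom.comp_appLE, Scheme.Opens.ι_appLE]
      rfl
    rw [h3]
    exact congrArg CommRingCat.Hom.hom (Scheme.Hom.appLE_map f _ (eqToHom hW'eq).op)
  obtain ⟨κ, σ, h1, h2, h3⟩ := Groth.Agent.H2.UTK.exists_kappa_sigma hB'
    (π.appLE VY UP eπ).hom
    (fun D _ L hL β a h =>
      Groth.Agent.H41.UTS_FS.exists_ring_lift_of_isFormallySmoothHom π
        (Groth.Agent.H19.SmoothFormal.isFormallySmoothHom_of_smooth π) hVY hUP eπ D L hL β a h)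
    ρ hρ hcomm
  -- sections of the conormal sheaf
  have hsurj_i : Function.Surjective (i.app W') := by
    have := hB'.1
    rw [Scheme.Hom.appLE_eq_app] at this
    exact this
  letI : Algebra Γ(X', W') Γ(X, i ⁻¹ᵁ W') := (i.appLE W' (i ⁻¹ᵁ W') le_rfl).hom.toAlgebra
  obtain ⟨Θ, -, hΘ⟩ := exists_conormal_equiv i hW'aff hWaff hsurj_i
  obtain ⟨hfin, hproj⟩ := Groth.Agent.H2.UTK.finite_projective_of_retraction
    (i.appLE W' (i ⁻¹ᵁ W') le_rfl).hom hB'.1 ρ hρ rs₁ hrs₁' hkerρ κ σ h1 h2 h3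
    Γ(Omega.conormal i, i ⁻¹ᵁ W') Θ hΘ
  refine ⟨i ⁻¹ᵁ W', hWaff, ?_, hfin, hproj⟩
  rw [hW'eq]
  exact ⟨xU, hzUP, rfl⟩

open AlgebraicGeometry CategoryTheory Limits in
/-- Suppose f : X ⟶ Y is Koszul at every point of X (a local complete intersection morphism) and
formally unramified, and (i : X ⟶ X', h' : X' ⟶ Y) is universal first order thickening data for f.
Then the conormal sheaf of i (the conormal sheaf of f) is finite locally free. The published
statement also asserts that for a local complete intersection morphism unramified and formally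
unramified are equivalent; this row states only the conormal clause. -/
theorem result {X Y X' : Scheme.{u}} (f : X ⟶ Y)
    (hf : ∀ x : X, Synt.IsKoszulAt f x) [FormallyUnramified f] (i : X ⟶ X') (h' : X' ⟶ Y)
    (hu : OmegaSh.IsUnivThickening f i h') : FlatMod.IsFinLocFree (Omega.conormal i) := by
  haveI : IsClosedImmersion i := hu.1.1.1
  haveI : (ClSub.idealMod i.ker).IsQuasicoherent :=
    inferInstanceAs (kernel (ClSub.toSubscheme i.ker)).IsQuasicoherent
  haveI : (Omega.conormal i).IsQuasicoherent :=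
    Groth.Agent.H8.isQuasicoherent_pullback i (ClSub.idealMod i.ker)
  apply Groth.Agent.H8.isFinLocFree_of_projective_sections
  intro x
  exact local_projective f i h' hu x (hf x)

end Groth.Agent.S9772
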