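import Groth.Statements.S9773
import Groth.Agent.S8905

set_option autoImplicit false
universe u
open FlatMor

namespace Groth.Agent.S9773

open AlgebraicGeometry CategoryTheory Limits in
lemma regImm_iso_comp {Z' Z X : Scheme.{u}} (e : Z' ⟶ Z) [IsIso e] (i : Z ⟶ X) (k : RegImm.Kind)
    (hi : RegImm.IsRegularImmersion k i) : RegImm.IsRegularImmersion k (e ≫ i) := by
  obtain ⟨himm, h⟩ := hi
  have := himm
  refine ⟨inferInstance, fun z' => ?_⟩
  obtain ⟨U, hU, hcl, rs, hrs, hker⟩ := h (e z')
  refine ⟨U, ?_, ?_, rs, hrs, ?_⟩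
  · rw [Scheme.Hom.comp_apply]; exact hU
  · rw [morphismRestrict_comp]
    exact (MorphismProperty.cancel_left_of_respectsIso @IsClosedImmersion
      (e ∣_ i ⁻¹ᵁ U.1) (i ∣_ U.1)).2 hcl
  · rw [← hker]
    show RingHom.ker ((e.app (i ⁻¹ᵁ U.1)).hom.comp (i.app U.1).hom) = _
    apply RingHom.ker_comp_of_injective
    exact (ConcreteCategory.bijective_of_isIso (e.app (i ⁻¹ᵁ U.1))).1

open AlgebraicGeometry CategoryTheory Limits in
/-- A regular immersion of schemes, and likewise a Koszul-regular immersion, is a local complete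
intersection morphism (Koszul at every point). -/
theorem result {Z X : Scheme.{u}} (i : Z ⟶ X) (k : RegImm.Kind)
    (hk : k = RegImm.Kind.regular ∨ k = RegImm.Kind.koszul) (hi : RegImm.IsRegularImmersion k i) (z : Z) :
    Synt.IsKoszulAt i z := by
  have hkos : RegImm.IsRegularImmersion RegImm.Kind.koszul i := by
    rcases hk with rfl | rfl
    · exact (Groth.Agent.S8905.result i).1 hi
    · exact hi
  have : IsIso (⊤ : Z.Opens).ι := by
    rw [← Scheme.topIso_hom]; infer_instance
  have : IsImmersion i := hkos.1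
  refine ⟨⊤, X, (⊤ : Z.Opens).ι ≫ i, 𝟙 X, trivial, inferInstance, ?_, inferInstance, by simp⟩
  exact regImm_iso_comp _ i _ hkos

end Groth.Agent.S9773
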