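import Groth.Statements.S9776
-- import your own Groth.Agent.* helpers here
import Groth.Agent.H39.DiffCompatLocal
import Groth.Agent.H8.RelFPBaseChange

set_option autoImplicit false
universe u
open OmegaSh

namespace Groth.Agent.S9776

open AlgebraicGeometry CategoryTheory CategoryTheory.Limits
set_option linter.style.haveILetI false


/-- Index type of the cover of `X₂` by small affines adapted to the square. -/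
structure Idx {X₁ S₁ X₂ S₂ : Scheme.{u}} (p₁ : X₁ ⟶ S₁) (p₂ : X₂ ⟶ S₂) (f : X₂ ⟶ X₁)
    (g : S₂ ⟶ S₁) : Type u where
  U₁ : S₁.Opens
  V₁ : X₁.Opens
  U₂ : S₂.Opens
  V₂ : X₂.Opens
  hU₁ : IsAffineOpen U₁
  hV₁ : IsAffineOpen V₁
  hU₂ : IsAffineOpen U₂
  hV₂ : IsAffineOpen V₂
  e₁ : V₁ ≤ p₁ ⁻¹ᵁ U₁
  eg : U₂ ≤ g ⁻¹ᵁ U₁
  e₂ : V₂ ≤ p₂ ⁻¹ᵁ U₂
  e : V₂ ≤ f ⁻¹ᵁ V₁

lemma isOpenCover_idx {X₁ S₁ X₂ S₂ : Scheme.{u}} (p₁ : X₁ ⟶ S₁) (p₂ : X₂ ⟶ S₂) (f : X₂ ⟶ X₁)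
    (g : S₂ ⟶ S₁) (w : f ≫ p₁ = p₂ ≫ g) :
    TopologicalSpace.IsOpenCover (fun i : Idx p₁ p₂ f g => i.V₂) := by
  rw [TopologicalSpace.IsOpenCover, eq_top_iff]
  intro x _
  obtain ⟨U₁, hU₁, hxU₁, -⟩ := (TopologicalSpace.Opens.isBasis_iff_nbhd.mp (S₁.isBasis_affineOpens))
    (TopologicalSpace.Opens.mem_top (p₁.base (f.base x)))
  obtain ⟨V₁, hV₁, hxV₁, e₁⟩ := (TopologicalSpace.Opens.isBasis_iff_nbhd.mp (X₁.isBasis_affineOpens))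
    (show f.base x ∈ p₁ ⁻¹ᵁ U₁ from hxU₁)
  have hx2 : p₂.base x ∈ g ⁻¹ᵁ U₁ := by
    show g.base (p₂.base x) ∈ U₁
    have h1 : g.base (p₂.base x) = p₁.base (f.base x) := by
      rw [← Scheme.Hom.comp_apply, ← Scheme.Hom.comp_apply, w]
    rw [h1]; exact hxU₁
  obtain ⟨U₂, hU₂, hxU₂, eg⟩ :=
    (TopologicalSpace.Opens.isBasis_iff_nbhd.mp (S₂.isBasis_affineOpens)) hx2
  obtain ⟨V₂, hV₂, hxV₂, hle⟩ :=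
    (TopologicalSpace.Opens.isBasis_iff_nbhd.mp (X₂.isBasis_affineOpens))
      (show x ∈ f ⁻¹ᵁ V₁ ⊓ p₂ ⁻¹ᵁ U₂ from ⟨hxV₁, hxU₂⟩)
  exact TopologicalSpace.Opens.mem_iSup.mpr
    ⟨⟨U₁, V₁, U₂, V₂, hU₁, hV₁, hU₂, hV₂, e₁, eg, hle.trans inf_le_right, hle.trans inf_le_left⟩,
      hxV₂⟩

lemma appLE_square {X₁ S₁ X₂ S₂ : Scheme.{u}} (p₁ : X₁ ⟶ S₁) (p₂ : X₂ ⟶ S₂) (f : X₂ ⟶ X₁)
    (g : S₂ ⟶ S₁) (w : f ≫ p₁ = p₂ ≫ g) {U₁ : S₁.Opens} {V₁ : X₁.Opens} {U₂ : S₂.Opens}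
    {V₂ : X₂.Opens} (e₁ : V₁ ≤ p₁ ⁻¹ᵁ U₁) (eg : U₂ ≤ g ⁻¹ᵁ U₁) (e₂ : V₂ ≤ p₂ ⁻¹ᵁ U₂)
    (e : V₂ ≤ f ⁻¹ᵁ V₁) :
    p₁.appLE U₁ V₁ e₁ ≫ f.appLE V₁ V₂ e = g.appLE U₁ U₂ eg ≫ p₂.appLE U₂ V₂ e₂ := by
  rw [Scheme.Hom.appLE_comp_appLE, Scheme.Hom.appLE_comp_appLE]
  generalize_proofs h1 h2
  revert h1 h2
  rw [w]
  intro h1 h2
  rfl


open AlgebraicGeometry CategoryTheory Limits in
/-- Consider a commutative square of schemes with vertical maps p₁ : X₁ ⟶ S₁, p₂ : X₂ ⟶ S₂ and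
horizontal maps f : X₂ ⟶ X₁, g : S₂ ⟶ S₁, where f and g are étale. Let d₁ : O_{X₁} → Ω₁ and d₂ :
O_{X₂} → Ω₂ be universal derivations over S₁ and S₂ (sheaves of differentials) and c : f^*Ω₁ ⟶ Ω₂
the O_{X₂}-linear map compatible with d₁ and d₂ (the canonical map c_f). Then c is an isomorphism. -/
theorem result {X₁ S₁ X₂ S₂ : Scheme.{u}} (p₁ : X₁ ⟶ S₁) (p₂ : X₂ ⟶ S₂) (f : X₂ ⟶ X₁) (g : S₂ ⟶ S₁)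
    [Etale f] [Etale g] (hsq : f ≫ p₁ = p₂ ≫ g)
    (Ω₁ : X₁.Modules) (d₁ : OmegaSh.Der p₁ Ω₁) (hd₁ : OmegaSh.IsUniversal d₁)
    (Ω₂ : X₂.Modules) (d₂ : OmegaSh.Der p₂ Ω₂) (hd₂ : OmegaSh.IsUniversal d₂)
    (c : (Scheme.Modules.pullback f).obj Ω₁ ⟶ Ω₂) (hc : OmegaSh.IsDiffCompat f d₁ d₂ c) : IsIso c := by
  haveI : Ω₁.IsQuasicoherent := Groth.Agent.H39.DerFin.isQuasicoherent_of_isUniversal p₁ hd₁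
  haveI : Ω₂.IsQuasicoherent := Groth.Agent.H39.DerFin.isQuasicoherent_of_isUniversal p₂ hd₂
  haveI : ((Scheme.Modules.pullback f).obj Ω₁).IsQuasicoherent :=
    Groth.Agent.H8.isQuasicoherent_pullback f Ω₁
  refine Groth.Agent.H8.isIso_of_bijective_affine_cover c
    (fun i : Idx p₁ p₂ f g => i.V₂) (isOpenCover_idx p₁ p₂ f g hsq) (fun i => i.hV₂) (fun i => ?_)
  obtain ⟨U₁, V₁, U₂, V₂, hU₁, hV₁, hU₂, hV₂, e₁, eg, e₂, e⟩ := i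
  have hw := appLE_square p₁ p₂ f g hsq e₁ eg e₂ e
  have hfet : (f.appLE V₁ V₂ e).hom.Etale :=
    HasRingHomProperty.appLE @Etale f inferInstance ⟨V₁, hV₁⟩ ⟨V₂, hV₂⟩ e
  have hget : (g.appLE U₁ U₂ eg).hom.Etale :=
    HasRingHomProperty.appLE @Etale g inferInstance ⟨U₁, hU₁⟩ ⟨U₂, hU₂⟩ eg
  letI a1 : Algebra Γ(S₁, U₁) Γ(X₁, V₁) := (p₁.appLE U₁ V₁ e₁).hom.toAlgebra
  letI a2 : Algebra Γ(S₂, U₂) Γ(X₂, V₂) := (p₂.appLE U₂ V₂ e₂).hom.toAlgebra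
  letI a3 : Algebra Γ(X₁, V₁) Γ(X₂, V₂) := (f.appLE V₁ V₂ e).hom.toAlgebra
  letI a4 : Algebra Γ(S₁, U₁) Γ(S₂, U₂) := (g.appLE U₁ U₂ eg).hom.toAlgebra
  letI a5 : Algebra Γ(S₁, U₁) Γ(X₂, V₂) :=
    ((f.appLE V₁ V₂ e).hom.comp (p₁.appLE U₁ V₁ e₁).hom).toAlgebra
  haveI t1 : IsScalarTower Γ(S₁, U₁) Γ(X₁, V₁) Γ(X₂, V₂) :=
    IsScalarTower.of_algebraMap_eq' rfl
  haveI t2 : IsScalarTower Γ(S₁, U₁) Γ(S₂, U₂) Γ(X₂, V₂) :=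
    IsScalarTower.of_algebraMap_eq' (congrArg CommRingCat.Hom.hom hw)
  haveI : Algebra.Etale Γ(X₁, V₁) Γ(X₂, V₂) := hfet
  haveI : Algebra.Etale Γ(S₁, U₁) Γ(S₂, U₂) := hget
  obtain ⟨T, hT⟩ := Groth.Agent.H39.KaehlerGlue.exists_equiv_of_etale
    (A₁ := Γ(S₁, U₁)) (B₁ := Γ(X₁, V₁)) (A₂ := Γ(S₂, U₂)) (B₂ := Γ(X₂, V₂))
  exact Groth.Agent.H39.DiffCompatLocal.app_bijective p₁ p₂ f hd₁ hd₂ hc hU₁ hV₁ e₁ hU₂ hV₂ e₂ e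
    T hT

end Groth.Agent.S9776
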