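import Groth.Statements.S9780
import Groth.Agent.H57.RelAssBC

set_option linter.style.haveILetI false

set_option autoImplicit false
universe u
open FlatMor

namespace Groth.Agent.S9780

open AlgebraicGeometry CategoryTheory Limits in
/-- Let f : X ⟶ S be locally of finite type, F a quasi-coherent O_X-module of finite type and U ⊆ X an
open subscheme. For a base change f' : X' ⟶ S' of f along S' ⟶ S with projection g' : X' ⟶ X, F' =
(g')^*F and U' = (g')⁻¹(U), and a point s' of S' with image s: the associated points of F on the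
fibre X_s lie in U if and only if the associated points of F' on the fibre X'_{s'} lie in U'. -/
theorem result {X S X' S' : Scheme.{u}} (f : X ⟶ S) [LocallyOfFiniteType f] (F : X.Modules) [Coh.IsQCoh F]
    (hF : CohB1.IsFT F) (U : X.Opens) (g : S' ⟶ S) (f' : X' ⟶ S') (g' : X' ⟶ X) (hc : IsPullback g' f' f g) (s' : S') :
    {x : ↑X | x ∈ MoreMor.relAss f F ∧ f x = g s'} ⊆ (U : Set ↑X) ↔
      {x' : ↑X' | x' ∈ MoreMor.relAss f' ((Scheme.Modules.pullback g').obj F) ∧ f' x' = s'} ⊆ (g' ⁻¹ᵁ U : Set ↑X') := by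
  haveI hqc : F.IsQuasicoherent := ‹Coh.IsQCoh F›
  haveI hlft' : LocallyOfFiniteType f' := MorphismProperty.of_isPullback hc ‹_›
  have hsq := isPullback_fiberToSpecResidueField_of_isPullback hc s'
  obtain ⟨hA, hB⟩ := Groth.Agent.H57.RelAssBC.relAss_baseChange_core f F g f' g' s' _ hsq
    (pullback.lift_fst _ _ _)
  have hcomm : ∀ w' : ↥(f'.fiber s'),
      g' (f'.fiberι s' w') = f.fiberι (g s')
        ((pullback.map _ _ _ _ g' (Spec.map (g.residueFieldMap s')) g hc.w.symm (by simp)) w') := by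
    intro w'
    have h1 : (pullback.map _ _ _ _ g' (Spec.map (g.residueFieldMap s')) g hc.w.symm (by simp)) ≫
        f.fiberι (g s') = f'.fiberι s' ≫ g' := pullback.lift_fst _ _ _
    exact (congr(($h1) w')).symm
  have hfib : ∀ w : ↥(f.fiber (g s')), f (f.fiberι (g s') w) = g s' := by
    intro w
    have h1 : f.fiberι (g s') w ∈ Set.range (f.fiberι (g s')) := Set.mem_range_self w
    rw [Scheme.Hom.range_fiberι] at h1
    exact h1
  have hfib' : ∀ w' : ↥(f'.fiber s'), f' (f'.fiberι s' w') = s' := by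
    intro w'
    have h1 : f'.fiberι s' w' ∈ Set.range (f'.fiberι s') := Set.mem_range_self w'
    rw [Scheme.Hom.range_fiberι] at h1
    exact h1
  constructor
  · rintro H x' ⟨hx'1, hx'2⟩
    obtain ⟨w', rfl⟩ : ∃ w' : ↥(f'.fiber s'), f'.fiberι s' w' = x' :=
      ⟨(f'.fiberHomeo s').symm ⟨x', hx'2⟩, f'.fiberι_fiberHomeo_symm s' ⟨x', hx'2⟩⟩
    show g' (f'.fiberι s' w') ∈ (U : Set ↑X)
    rw [hcomm w']
    exact H ⟨hA w' hx'1, hfib _⟩
  · rintro H x ⟨hx1, hx2⟩
    obtain ⟨w, rfl⟩ : ∃ w : ↥(f.fiber (g s')), f.fiberι (g s') w = x :=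
      ⟨(f.fiberHomeo (g s')).symm ⟨x, hx2⟩, f.fiberι_fiberHomeo_symm (g s') ⟨x, hx2⟩⟩
    obtain ⟨w', hw'w, hw'⟩ := hB w hx1
    have h2 : g' (f'.fiberι s' w') ∈ (U : Set ↑X) := H ⟨hw', hfib' w'⟩
    have h3 : g' (f'.fiberι s' w') = f.fiberι (g s') w :=
      (hcomm w').trans (congrArg (fun z => f.fiberι (g s') z) hw'w)
    rw [h3] at h2
    exact h2

end Groth.Agent.S9780
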