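import Groth.Statements.S9783
import Groth.Agent.H89.UTRing_UA
import Groth.Agent.H89.UTRing_UB
import Groth.Agent.S9427
import Groth.Agent.H39.DiffCompatLocal
import Groth.Agent.H8.IsoCover
import Groth.Agent.H8.PullbackStalk

set_option autoImplicit false
set_option linter.style.haveILetI false
universe u
open OmegaSh

namespace Groth.Agent.S9783

open AlgebraicGeometry CategoryTheory Limits TensorProduct

section Alg

/-- Abstract naturality of "sections of a pullback = base change". -/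
theorem bijective_of_baseChange {B' B : Type u} [CommRing B'] [CommRing B] [Algebra B' B]
    {M N PM PN : Type u} [AddCommGroup M] [AddCommGroup N] [AddCommGroup PM] [AddCommGroup PN]
    [Module B' M] [Module B' N] [Module B PM] [Module B PN]
    (EM : PM ≃ₗ[B] B ⊗[B'] M) (pM : M → PM) (hEM : ∀ x, EM (pM x) = (1 : B) ⊗ₜ[B'] x)
    (EN : PN ≃ₗ[B] B ⊗[B'] N) (pN : N → PN) (hEN : ∀ x, EN (pN x) = (1 : B) ⊗ₜ[B'] x)
    (α : M →ₗ[B'] N) (β : PM →ₗ[B] PN) (hβ : ∀ x, β (pM x) = pN (α x))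
    (hα : Function.Bijective (α.baseChange B)) : Function.Bijective β := by
  have key : ∀ t : B ⊗[B'] M, EN (β (EM.symm t)) = α.baseChange B t := by
    intro t
    induction t using TensorProduct.induction_on with
    | zero => simp
    | tmul b x =>
      have h1 : b ⊗ₜ[B'] x = b • ((1 : B) ⊗ₜ[B'] x) := by
        rw [TensorProduct.smul_tmul', smul_eq_mul, mul_one]
      have h2 : EM.symm ((1 : B) ⊗ₜ[B'] x) = pM x := by
        rw [← hEM, EM.symm_apply_apply]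
      rw [h1, map_smul, map_smul, map_smul, map_smul, h2, hβ, hEN,
        LinearMap.baseChange_tmul]
    | add t₁ t₂ h₁ h₂ => simp only [map_add, h₁, h₂]
  have : (β : PM → PN) = EN.symm ∘ (α.baseChange B) ∘ EM := by
    funext y
    simp only [Function.comp]
    rw [← key, EM.symm_apply_apply, EN.symm_apply_apply]
  rw [this]
  exact EN.symm.bijective.comp (hα.comp EM.bijective)

/-- Base change of a map conjugate to `T` is bijective if the base change of `T` is. -/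
theorem baseChange_bijective_of_conj {B' B : Type u} [CommRing B'] [CommRing B] [Algebra B' B]
    {M N M₁ N₁ : Type u} [AddCommGroup M] [AddCommGroup N] [AddCommGroup M₁] [AddCommGroup N₁]
    [Module B' M] [Module B' N] [Module B' M₁] [Module B' N₁]
    (Ψ : M ≃ₗ[B'] M₁) (ψ : N ≃ₗ[B'] N₁) (α : M →ₗ[B'] N) (T : M₁ →ₗ[B'] N₁)
    (h : ∀ q, ψ (α q) = T (Ψ q))
    (hT : Function.Bijective (T.baseChange B)) : Function.Bijective (α.baseChange B) := by
  have hα : α = ψ.symm.toLinearMap ∘ₗ T ∘ₗ Ψ.toLinearMap := by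
    ext q
    simp [← h]
  have bij : ∀ {P Q : Type u} [AddCommGroup P] [AddCommGroup Q] [Module B' P] [Module B' Q]
      (e : P ≃ₗ[B'] Q), Function.Bijective (e.toLinearMap.baseChange B) := by
    intro P Q _ _ _ _ e
    rw [Function.bijective_iff_has_inverse]
    refine ⟨e.symm.toLinearMap.baseChange B, fun t => ?_, fun t => ?_⟩
    · rw [← LinearMap.comp_apply, ← LinearMap.baseChange_comp]
      simp
    · rw [← LinearMap.comp_apply, ← LinearMap.baseChange_comp]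
      simp
  rw [hα, LinearMap.baseChange_comp, LinearMap.baseChange_comp]
  exact (bij ψ.symm).comp (hT.comp (bij Ψ))

end Alg

open Groth.Agent.H39 in
set_option maxHeartbeats 1600000 in
/-- Local statement: bijectivity on sections over `i⁻¹ W'` for small affine `W'`. -/
theorem app_bijective {Z X S Z' : Scheme.{u}} (h : Z ⟶ X) (q : X ⟶ S) [FormallyUnramified h]
    (i : Z ⟶ Z') (h' : Z' ⟶ X) (hu : OmegaSh.IsUnivThickening h i h')
    (ΩX : X.Modules) (dX : OmegaSh.Der q ΩX) (hdX : OmegaSh.IsUniversal dX)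
    (ΩZ' : Z'.Modules) (dZ' : OmegaSh.Der (h' ≫ q) ΩZ') (hdZ' : OmegaSh.IsUniversal dZ')
    (c : (Scheme.Modules.pullback h').obj ΩX ⟶ ΩZ') (hc : OmegaSh.IsDiffCompat h' dX dZ' c)
    {U : S.Opens} (hU : IsAffineOpen U) {V : X.Opens} (hV : IsAffineOpen V) (e₁ : V ≤ q ⁻¹ᵁ U)
    {W' : Z'.Opens} (hW' : IsAffineOpen W') (e : W' ≤ h' ⁻¹ᵁ V) :
    Function.Bijective (((Scheme.Modules.pullback i).map c).app (i ⁻¹ᵁ W')) := by
  haveI : IsClosedImmersion i := hu.1.1.1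
  have hW : IsAffineOpen (i ⁻¹ᵁ W') := hW'.preimage i
  have e₂ : W' ≤ (h' ≫ q) ⁻¹ᵁ U := fun x hx => e₁ (e hx)
  have e' : i ⁻¹ᵁ W' ≤ h ⁻¹ᵁ V := by
    rw [← hu.2.1]
    exact fun x hx => e hx
  have hcomp : h'.appLE V W' e ≫ i.appLE W' (i ⁻¹ᵁ W') le_rfl = h.appLE V (i ⁻¹ᵁ W') e' := by
    have := Scheme.Hom.appLE_comp_appLE i h' V W' (i ⁻¹ᵁ W') e le_rfl
    rw [this]
    have hh := hu.2.1
    subst hh
    rfl
  have hcomp2 : q.appLE U V e₁ ≫ h'.appLE V W' e = (h' ≫ q).appLE U W' e₂ :=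
    Scheme.Hom.appLE_comp_appLE h' q U V W' e₁ e
  letI aRA : Algebra Γ(S, U) Γ(X, V) := (q.appLE U V e₁).hom.toAlgebra
  letI aRB' : Algebra Γ(S, U) Γ(Z', W') := ((h' ≫ q).appLE U W' e₂).hom.toAlgebra
  letI aAB' : Algebra Γ(X, V) Γ(Z', W') := (h'.appLE V W' e).hom.toAlgebra
  letI aB'B : Algebra Γ(Z', W') Γ(Z, i ⁻¹ᵁ W') := (i.appLE W' (i ⁻¹ᵁ W') le_rfl).hom.toAlgebra
  letI aAB : Algebra Γ(X, V) Γ(Z, i ⁻¹ᵁ W') :=
    (h'.appLE V W' e ≫ i.appLE W' (i ⁻¹ᵁ W') le_rfl).hom.toAlgebra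
  haveI : IsScalarTower Γ(X, V) Γ(Z', W') Γ(Z, i ⁻¹ᵁ W') := IsScalarTower.of_algebraMap_eq' rfl
  haveI : IsScalarTower Γ(S, U) Γ(X, V) Γ(Z', W') := by
    apply IsScalarTower.of_algebraMap_eq'
    show ((h' ≫ q).appLE U W' e₂).hom = (h'.appLE V W' e).hom.comp (q.appLE U V e₁).hom
    rw [← hcomp2]
    rfl
  haveI : Algebra.FormallyUnramified Γ(X, V) Γ(Z, i ⁻¹ᵁ W') := by
    have := h.formallyUnramified_appLE hV hW e'
    rw [← hcomp] at this
    exact this
  -- ring-level universal thickening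
  have hua := Groth.Agent.H89.UTRingUA.isUnivThickening_spec_of_affineOpens hu hV hW' e
  rw [Scheme.Hom.app_eq_appLE] at hua
  have hub : OmegaSh.IsUnivThickeningRing Γ(X, V) Γ(Z, i ⁻¹ᵁ W') Γ(Z', W')
      (IsScalarTower.toAlgHom Γ(X, V) Γ(Z', W') Γ(Z, i ⁻¹ᵁ W')) :=
    Groth.Agent.H89.UTRingUB.isUnivThickeningRing_of_spec _ _ _ _ hua
  have hbij := (Groth.Agent.S9427.result Γ(S, U) Γ(X, V) Γ(Z, i ⁻¹ᵁ W') Γ(Z', W') hub).2
  -- tracking of `c` on `W'`
  have hT : ∀ s : Γ(X, V), KaehlerDifferential.mapBaseChange Γ(S, U) Γ(X, V) Γ(Z', W')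
      ((1 : Γ(Z', W')) ⊗ₜ[Γ(X, V)] KaehlerDifferential.D Γ(S, U) Γ(X, V) s) =
        KaehlerDifferential.D Γ(S, U) Γ(Z', W') (h'.appLE V W' e s) := by
    intro s
    rw [KaehlerDifferential.mapBaseChange_tmul, one_smul, KaehlerDifferential.map_D]
    rfl
  obtain ⟨Ψ, ψ', -, -, hcomm⟩ := DiffCompatLocal.exists_tracking q (h' ≫ q) h' hdX hdZ' hc hU hV e₁
    hU hW' e₂ e (KaehlerDifferential.mapBaseChange Γ(S, U) Γ(X, V) Γ(Z', W')) hT
  let cmap : Γ((Scheme.Modules.pullback h').obj ΩX, W') →ₗ[Γ(Z', W')] Γ(ΩZ', W') :=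
    { toFun := fun x => c.app W' x
      map_add' := fun a b => map_add _ a b
      map_smul' := fun r x => Scheme.Modules.Hom.app_smul c r x }
  have hcb : Function.Bijective (cmap.baseChange Γ(Z, i ⁻¹ᵁ W')) :=
    baseChange_bijective_of_conj Ψ ψ' cmap _ hcomm hbij
  -- sections of the pullbacks along `i`
  haveI : ΩX.IsQuasicoherent := DerFin.isQuasicoherent_of_isUniversal q hdX
  haveI : ΩZ'.IsQuasicoherent := DerFin.isQuasicoherent_of_isUniversal (h' ≫ q) hdZ'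
  haveI : ((Scheme.Modules.pullback h').obj ΩX).IsQuasicoherent :=
    Groth.Agent.H8.isQuasicoherent_pullback h' ΩX
  obtain ⟨EM, hEM⟩ := PullTrack.exists_sectionsPullbackEquiv i
    ((Scheme.Modules.pullback h').obj ΩX) hW' hW le_rfl
  obtain ⟨EN, hEN⟩ := PullTrack.exists_sectionsPullbackEquiv i ΩZ' hW' hW le_rfl
  let β : Γ((Scheme.Modules.pullback i).obj ((Scheme.Modules.pullback h').obj ΩX), i ⁻¹ᵁ W')
      →ₗ[Γ(Z, i ⁻¹ᵁ W')] Γ((Scheme.Modules.pullback i).obj ΩZ', i ⁻¹ᵁ W') :=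
    { toFun := fun x => ((Scheme.Modules.pullback i).map c).app (i ⁻¹ᵁ W') x
      map_add' := fun a b => map_add _ a b
      map_smul' := fun r x => Scheme.Modules.Hom.app_smul _ r x }
  have hβ : ∀ x, β (PullTrack.pullSectLE i _ W' (i ⁻¹ᵁ W') le_rfl x) =
      PullTrack.pullSectLE i _ W' (i ⁻¹ᵁ W') le_rfl (cmap x) := fun x =>
    PullTrack.map_pullSectLE i c W' (i ⁻¹ᵁ W') le_rfl x
  exact bijective_of_baseChange EM _ hEM EN _ hEN cmap β hβ hcb

open AlgebraicGeometry CategoryTheory Limits in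
/-- Let q : X ⟶ S be a morphism, h : Z ⟶ X formally unramified, and (i : Z ⟶ Z', h' : Z' ⟶ X) the
universal first order thickening attached to h. Let d_X : O_X → Ω_X be a universal S-derivation,
d_{Z'} : O_{Z'} → Ω_{Z'} a universal S-derivation for Z' over S via h' ≫ q, and c : (h')^*Ω_X ⟶
Ω_{Z'} the O_{Z'}-linear map compatible with them (the canonical map c_{h'}). Then the pullback of c
along i, a map h^*Ω_X ⟶ Ω_{Z'} ⊗ O_Z, is an isomorphism. -/
theorem result {Z X S Z' : Scheme.{u}} (h : Z ⟶ X) (q : X ⟶ S) [FormallyUnramified h]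
    (i : Z ⟶ Z') (h' : Z' ⟶ X) (hu : OmegaSh.IsUnivThickening h i h')
    (ΩX : X.Modules) (dX : OmegaSh.Der q ΩX) (hdX : OmegaSh.IsUniversal dX)
    (ΩZ' : Z'.Modules) (dZ' : OmegaSh.Der (h' ≫ q) ΩZ') (hdZ' : OmegaSh.IsUniversal dZ')
    (c : (Scheme.Modules.pullback h').obj ΩX ⟶ ΩZ') (hc : OmegaSh.IsDiffCompat h' dX dZ' c) :
    IsIso ((Scheme.Modules.pullback i).map c) := by
  haveI : ΩX.IsQuasicoherent := Groth.Agent.H39.DerFin.isQuasicoherent_of_isUniversal q hdX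
  haveI : ΩZ'.IsQuasicoherent :=
    Groth.Agent.H39.DerFin.isQuasicoherent_of_isUniversal (h' ≫ q) hdZ'
  haveI : ((Scheme.Modules.pullback h').obj ΩX).IsQuasicoherent :=
    Groth.Agent.H8.isQuasicoherent_pullback h' ΩX
  haveI : ((Scheme.Modules.pullback i).obj ((Scheme.Modules.pullback h').obj ΩX)).IsQuasicoherent :=
    Groth.Agent.H8.isQuasicoherent_pullback i _
  haveI : ((Scheme.Modules.pullback i).obj ΩZ').IsQuasicoherent :=
    Groth.Agent.H8.isQuasicoherent_pullback i _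
  -- choose small affines around each point
  have hch : ∀ z : Z, ∃ (U : S.Opens) (V : X.Opens) (W' : Z'.Opens), IsAffineOpen U ∧
      IsAffineOpen V ∧ V ≤ q ⁻¹ᵁ U ∧ IsAffineOpen W' ∧ W' ≤ h' ⁻¹ᵁ V ∧ i z ∈ W' := by
    intro z
    obtain ⟨U, hU, hxU, -⟩ := exists_isAffineOpen_mem_and_subset (x := q (h' (i z)))
      (U := (⊤ : S.Opens)) trivial
    obtain ⟨V, hV, hxV, hVU⟩ := exists_isAffineOpen_mem_and_subset (x := h' (i z))
      (U := q ⁻¹ᵁ U) hxU
    obtain ⟨W', hW', hxW', hWV⟩ := exists_isAffineOpen_mem_and_subset (x := i z)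
      (U := h' ⁻¹ᵁ V) hxV
    exact ⟨U, V, W', hU, hV, hVU, hW', hWV, hxW'⟩
  choose U V W' hU hV hVU hW' hWV hz using hch
  haveI : IsClosedImmersion i := hu.1.1.1
  refine Groth.Agent.H8.isIso_of_bijective_affine_cover _ (fun z : Z => i ⁻¹ᵁ (W' z)) ?_
    (fun z => (hW' z).preimage i) (fun z => ?_)
  · apply le_antisymm le_top
    intro z _
    exact TopologicalSpace.Opens.mem_iSup.mpr ⟨z, hz z⟩
  · exact app_bijective h q i h' hu ΩX dX hdX ΩZ' dZ' hdZ' c hc (hU z) (hV z) (hVU z) (hW' z)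
      (hWV z)

end Groth.Agent.S9783
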