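import Groth.Statements.S9784
import Groth.Agent.H70.UTTrans.Aff
import Groth.Agent.H24.UTT_AF
import Groth.Agent.H54.UTT_R3
import Groth.Agent.H39.ConormalTrans

set_option autoImplicit false
set_option linter.style.haveILetI false
universe u
open OmegaSh

namespace Groth.Agent.S9784

open AlgebraicGeometry CategoryTheory Limits TopologicalSpace
open Groth.Agent.H39 Groth.Agent.H8 Groth.Agent.H39.ConormalLocal Groth.Agent.H39.ConormalSect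
  Groth.Agent.H39.ConormalMono Groth.Agent.H39.ConormalSplit Groth.Agent.H39.ConormalMap
  Groth.Agent.H39.ConormalMapMono Groth.Agent.H70.UTTrans

lemma app_eq_zero_of_eq {A B : Scheme.{u}} {f g : A ⟶ B} (h : f = g) (U : B.Opens)
    (y : Γ(B, U)) (hy : (g.app U).hom y = 0) : (f.app U).hom y = 0 := by
  subst h; exact hy

lemma appLE_congr_hom {A B : Scheme.{u}} {f g : A ⟶ B} (h : f = g) (U : B.Opens) (V : A.Opens)
    (e : V ≤ f ⁻¹ᵁ U) : f.appLE U V e = g.appLE U V (h ▸ e) := by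
  subst h; rfl

section Track

variable {Z Y Z' Y' Z'' : Scheme.{u}} (i : Z ⟶ Y) (j : Y ⟶ Y') (m : Z' ⟶ Y') (i'' : Z ⟶ Z'')
  (n : Z'' ⟶ Z') [QuasiCompact i''] [QuasiCompact (i'' ≫ n)] [QuasiCompact j]
  (hm₁ : (i'' ≫ n) ≫ m = i ≫ j)
  {ψ₁ : (Scheme.Modules.pullback i).obj (Omega.conormal j) ⟶ Omega.conormal (i'' ≫ n)}
  (hψ₁ : IsConormalMap (i'' ≫ n) j m i ψ₁)
  {ψ₂ : (Scheme.Modules.pullback (𝟙 Z)).obj (Omega.conormal (i'' ≫ n)) ⟶ Omega.conormal i''}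
  (hψ₂ : IsConormalMap i'' (i'' ≫ n) n (𝟙 Z) ψ₂)

include hm₁ in
omit [QuasiCompact i''] [QuasiCompact (i'' ≫ n)] [QuasiCompact j] in
lemma preimage_le (UY' : Y'.Opens) : (i'' ≫ n) ⁻¹ᵁ (m ⁻¹ᵁ UY') ≤ i ⁻¹ᵁ (j ⁻¹ᵁ UY') := by
  intro z hz
  have h1 : m ((i'' ≫ n) z) = j (i z) := by
    rw [← Scheme.Hom.comp_apply, ← Scheme.Hom.comp_apply, hm₁]
  show j (i z) ∈ UY'
  rw [← h1]
  exact hz

include hm₁ in
omit [QuasiCompact i''] [QuasiCompact (i'' ≫ n)] [QuasiCompact j] in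
lemma app_m_eq_zero (UY' : Y'.Opens) (y : Γ(Y', UY')) (hy : (j.app UY').hom y = 0) :
    ((i'' ≫ n).app (m ⁻¹ᵁ UY')).hom ((m.app UY').hom y) = 0 := by
  have h1 : ((i'' ≫ n).app (m ⁻¹ᵁ UY')).hom ((m.app UY').hom y) =
      (((i'' ≫ n) ≫ m).app UY').hom y := rfl
  rw [h1]
  apply app_eq_zero_of_eq hm₁
  show (i.app (j ⁻¹ᵁ UY')).hom ((j.app UY').hom y) = 0
  rw [hy, map_zero]

include hm₁ hψ₁ in
omit [QuasiCompact i''] in
/-- `ψ₁` on classes of sections of the ideal of `Y` in `Y'`, restricted to a small open. -/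
theorem track₁ (UY' : Y'.Opens) (y : Γ(Y', UY')) (hy : (j.app UY').hom y = 0) (W' : Z'.Opens)
    (hle : W' ≤ m ⁻¹ᵁ UY') :
    ∃ (s : Γ(ClSub.idealMod (i'' ≫ n).ker, W'))
      (t : Γ((Scheme.Modules.pullback i).obj (Omega.conormal j), (i'' ≫ n) ⁻¹ᵁ W')),
      idealSect (i'' ≫ n).ker W' s = (m.appLE UY' W' hle).hom y ∧
      ψ₁.app ((i'' ≫ n) ⁻¹ᵁ W') t = conormalSect (i'' ≫ n) W' s := by
  obtain ⟨s', hs'⟩ := exists_idealSect_eq_of_app_eq_zero j UY' y hy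
  obtain ⟨s, hs⟩ := exists_idealSect_eq_of_app_eq_zero (i'' ≫ n) (m ⁻¹ᵁ UY') _
    (app_m_eq_zero i j m i'' n hm₁ UY' y hy)
  have h₂ : (i'' ≫ n) ⁻¹ᵁ W' ≤ (i'' ≫ n) ⁻¹ᵁ (m ⁻¹ᵁ UY') := fun _ hz => hle hz
  have h₁ : (i'' ≫ n) ⁻¹ᵁ W' ≤ i ⁻¹ᵁ (j ⁻¹ᵁ UY') := h₂.trans (preimage_le i j m i'' n hm₁ UY')
  have h := hψ₁.2 UY' s' s (by rw [hs, hs']) ((i'' ≫ n) ⁻¹ᵁ W') h₁ h₂
  refine ⟨(ClSub.idealMod (i'' ≫ n).ker).presheaf.map (homOfLE hle).op s,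
    ((Scheme.Modules.pullback i).obj (Omega.conormal j)).presheaf.map (homOfLE h₁).op
      (pullSect i (Omega.conormal j) (j ⁻¹ᵁ UY') (conormalSect j UY' s')), ?_, ?_⟩
  · rw [idealSect_res, hs]
    rfl
  · rw [PullTrack.app_res ψ₁ h₁, h, conormalSect_eq, conormalSect_eq]
    exact (PullTrack.pullSect_res (i'' ≫ n) (ClSub.idealMod (i'' ≫ n).ker) hle s).symm

include hψ₂ in
omit [QuasiCompact (i'' ≫ n)] in
/-- `ψ₂` on classes of sections of the ideal of `Z` in `Z'`. -/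
theorem track₂ (W' : Z'.Opens) (s₂ : Γ(ClSub.idealMod (i'' ≫ n).ker, W')) :
    ∃ s₃ : Γ(ClSub.idealMod i''.ker, n ⁻¹ᵁ W'),
      idealSect i''.ker (n ⁻¹ᵁ W') s₃ = n.app W' (idealSect (i'' ≫ n).ker W' s₂) ∧
      ψ₂.app ((i'' ≫ n) ⁻¹ᵁ W') (pullSect (𝟙 Z) (Omega.conormal (i'' ≫ n)) ((i'' ≫ n) ⁻¹ᵁ W')
        (conormalSect (i'' ≫ n) W' s₂)) = conormalSect i'' (n ⁻¹ᵁ W') s₃ := by
  obtain ⟨s₃, hs₃, h⟩ := conormalMap_track n i'' (i'' ≫ n) rfl hψ₂ W' s₂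
    ((𝟙 Z : Z ⟶ Z) ⁻¹ᵁ ((i'' ≫ n) ⁻¹ᵁ W')) le_rfl le_rfl
  refine ⟨s₃, hs₃, ?_⟩
  rw [PullTrack.pullSectLE_self] at h
  have h3 : PullTrack.pullSectLE i'' (ClSub.idealMod i''.ker) (n ⁻¹ᵁ W')
      ((𝟙 Z : Z ⟶ Z) ⁻¹ᵁ ((i'' ≫ n) ⁻¹ᵁ W')) le_rfl s₃ = conormalSect i'' (n ⁻¹ᵁ W') s₃ :=
    PullTrack.pullSectLE_self i'' (ClSub.idealMod i''.ker) (n ⁻¹ᵁ W') s₃
  exact h.trans h3

end Track

section Local

variable {Z Y Z' Y' Z'' : Scheme.{u}} (i : Z ⟶ Y) (j : Y ⟶ Y') (m : Z' ⟶ Y') (i'' : Z ⟶ Z'')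
  (n : Z'' ⟶ Z') [QuasiCompact i''] [QuasiCompact (i'' ≫ n)] [QuasiCompact j]
  (hm₁ : (i'' ≫ n) ≫ m = i ≫ j)
  {ψ₁ : (Scheme.Modules.pullback i).obj (Omega.conormal j) ⟶ Omega.conormal (i'' ≫ n)}
  (hψ₁ : IsConormalMap (i'' ≫ n) j m i ψ₁)
  {ψ₂ : (Scheme.Modules.pullback (𝟙 Z)).obj (Omega.conormal (i'' ≫ n)) ⟶ Omega.conormal i''}
  (hψ₂ : IsConormalMap i'' (i'' ≫ n) n (𝟙 Z) ψ₂)

include hψ₂ in
/-- On a small affine, `C_{Z/Z'} → C_{Z/Z''}` is surjective on sections. -/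
theorem local_surjective {W' : Z'.Opens} (hW''aff : IsAffineOpen (n ⁻¹ᵁ W'))
    (hWaff : IsAffineOpen (i'' ⁻¹ᵁ (n ⁻¹ᵁ W')))
    (hsurj'' : Function.Surjective (i''.app (n ⁻¹ᵁ W')))
    (hR : ∀ x₃ : Γ(Z'', n ⁻¹ᵁ W'), (i''.app (n ⁻¹ᵁ W')).hom x₃ = 0 →
      ∃ x₂ : Γ(Z', W'), ((i'' ≫ n).app W').hom x₂ = 0 ∧ (n.app W').hom x₂ = x₃) :
    Function.Surjective (ψ₂.app ((i'' ≫ n) ⁻¹ᵁ W')) := by
  intro q₃
  obtain ⟨s₃, rfl⟩ := conormalSect_surjective i'' hW''aff hWaff hsurj'' q₃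
  obtain ⟨x₂, hx₂, hx₂₃⟩ := hR (idealSect i''.ker (n ⁻¹ᵁ W') s₃) (app_idealSect i'' _ s₃)
  obtain ⟨s₂, hs₂⟩ := exists_idealSect_eq_of_app_eq_zero (i'' ≫ n) W' x₂ hx₂
  obtain ⟨s₃', hs₃', h⟩ := track₂ i'' n hψ₂ W' s₂
  have h4 : s₃' = s₃ := ι_injective i''.ker (n ⁻¹ᵁ W') (by
    show idealSect _ _ s₃' = idealSect _ _ s₃
    rw [hs₃', hs₂]; exact hx₂₃)
  subst h4
  exact ⟨_, h⟩

include hm₁ hψ₁ hψ₂ in
/-- On a small affine, `i^*C_{Y/Y'} → C_{Z/Z'} → C_{Z/Z''}` is exact on sections. -/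
theorem local_exact {W' : Z'.Opens} (hW'aff : IsAffineOpen W')
    (hWaff : IsAffineOpen ((i'' ≫ n) ⁻¹ᵁ W'))
    (hW''aff : IsAffineOpen (n ⁻¹ᵁ W'))
    (hsurj' : Function.Surjective ((i'' ≫ n).app W'))
    (hsurj'' : Function.Surjective (i''.app (n ⁻¹ᵁ W')))
    (hsq'' : RingHom.ker (i''.app (n ⁻¹ᵁ W')).hom ^ 2 = ⊥)
    (UY' : Y'.Opens) (hle : W' ≤ m ⁻¹ᵁ UY')
    (hR : ∀ x₂ : Γ(Z', W'), ((i'' ≫ n).app W').hom x₂ = 0 → (n.app W').hom x₂ = 0 →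
      x₂ ∈ Ideal.map (m.appLE UY' W' hle).hom (RingHom.ker (j.app UY').hom))
    (q : Γ(Omega.conormal (i'' ≫ n), (i'' ≫ n) ⁻¹ᵁ W'))
    (hq : ψ₂.app ((i'' ≫ n) ⁻¹ᵁ W')
      (pullSect (𝟙 Z) (Omega.conormal (i'' ≫ n)) ((i'' ≫ n) ⁻¹ᵁ W') q) = 0) :
    ∃ t, ψ₁.app ((i'' ≫ n) ⁻¹ᵁ W') t = q := by
  obtain ⟨s₂, rfl⟩ := conormalSect_surjective (i'' ≫ n) hW'aff hWaff hsurj' q
  obtain ⟨s₃, hs₃, h⟩ := track₂ i'' n hψ₂ W' s₂
  have hWaff' : IsAffineOpen (i'' ⁻¹ᵁ (n ⁻¹ᵁ W')) := hWaff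
  rw [h] at hq
  have hq' : conormalSect i'' (n ⁻¹ᵁ W') s₃ = 0 := hq
  rw [conormalSect_eq_zero_iff i'' hW''aff hWaff' hsurj'', hs₃, hsq''] at hq'
  have hx₂ := hR (idealSect (i'' ≫ n).ker W' s₂) (app_idealSect (i'' ≫ n) W' s₂) hq'
  -- every element of the extended ideal is hit
  have key : ∀ x ∈ Ideal.map (m.appLE UY' W' hle).hom (RingHom.ker (j.app UY').hom),
      ∃ (s : Γ(ClSub.idealMod (i'' ≫ n).ker, W'))
        (t : Γ((Scheme.Modules.pullback i).obj (Omega.conormal j), (i'' ≫ n) ⁻¹ᵁ W')),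
        idealSect (i'' ≫ n).ker W' s = x ∧
        ψ₁.app ((i'' ≫ n) ⁻¹ᵁ W') t = conormalSect (i'' ≫ n) W' s := by
    intro x hx
    unfold Ideal.map at hx
    induction hx using Submodule.span_induction with
    | mem x hx =>
      obtain ⟨y, hy, rfl⟩ := hx
      exact track₁ i j m i'' n hm₁ hψ₁ UY' y hy W' hle
    | zero => exact ⟨0, 0, map_zero _, by rw [map_zero, map_zero]⟩
    | add x₁ x₂ _ _ h₁ h₂ =>
      obtain ⟨s₁, t₁, hs₁, ht₁⟩ := h₁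
      obtain ⟨s₂, t₂, hs₂, ht₂⟩ := h₂
      exact ⟨s₁ + s₂, t₁ + t₂, by rw [map_add, hs₁, hs₂], by rw [map_add, map_add, ht₁, ht₂]⟩
    | smul r x _ h₁ =>
      obtain ⟨s₁, t₁, hs₁, ht₁⟩ := h₁
      refine ⟨r • s₁, ((i'' ≫ n).app W' r) • t₁, ?_, ?_⟩
      · rw [idealSect_smul, hs₁, smul_eq_mul]
      · rw [Scheme.Modules.Hom.app_smul, ht₁, conormalSect_eq]
        exact (Scheme.Modules.Hom.app_smul
          ((Scheme.Modules.pullbackPushforwardAdjunction (i'' ≫ n)).unit.app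
            (ClSub.idealMod (i'' ≫ n).ker)) r s₁).symm
  obtain ⟨s, t, hs, ht⟩ := key _ hx₂
  have h5 : s = s₂ := ι_injective (i'' ≫ n).ker W' (by
    show idealSect _ _ s = idealSect _ _ s₂
    exact hs)
  subst h5
  exact ⟨t, ht⟩

end Local

section Global

variable {Z Y Z' Y' Z'' : Scheme.{u}} (i : Z ⟶ Y) (j : Y ⟶ Y') (m : Z' ⟶ Y') (i'' : Z ⟶ Z'')
  (n : Z'' ⟶ Z') [QuasiCompact i''] [QuasiCompact (i'' ≫ n)] [QuasiCompact j]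
  (hm₁ : (i'' ≫ n) ≫ m = i ≫ j)
  {ψ₁ : (Scheme.Modules.pullback i).obj (Omega.conormal j) ⟶ Omega.conormal (i'' ≫ n)}
  (hψ₁ : IsConormalMap (i'' ≫ n) j m i ψ₁)
  {ψ₂ : (Scheme.Modules.pullback (𝟙 Z)).obj (Omega.conormal (i'' ≫ n)) ⟶ Omega.conormal i''}
  (hψ₂ : IsConormalMap i'' (i'' ≫ n) n (𝟙 Z) ψ₂)
  (hkill : ∀ (U' : Y'.Opens) (y : Γ(Y', U')), (j.app U').hom y = 0 →
    (n.app (m ⁻¹ᵁ U')).hom ((m.app U').hom y) = 0)

include hm₁ hψ₁ hψ₂ hkill in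
omit [QuasiCompact j] in
/-- The composite `i^*C_{Y/Y'} → C_{Z/Z'} → C_{Z/Z''}` vanishes. -/
theorem comp_eq_zero :
    ψ₁ ≫ ((Scheme.Modules.pullbackId Z).inv.app (Omega.conormal (i'' ≫ n)) ≫ ψ₂) = 0 := by
  apply pullback_pullback_hom_ext i j
  intro U' s'
  have hy : (j.app U').hom (idealSect j.ker U' s') = 0 := app_idealSect j U' s'
  obtain ⟨s, hs⟩ := exists_idealSect_eq_of_app_eq_zero (i'' ≫ n) (m ⁻¹ᵁ U') _
    (app_m_eq_zero i j m i'' n hm₁ U' _ hy)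
  have h₂ : i ⁻¹ᵁ (j ⁻¹ᵁ U') ≤ (i'' ≫ n) ⁻¹ᵁ (m ⁻¹ᵁ U') := by
    intro z hz
    have h1 : m ((i'' ≫ n) z) = j (i z) := by
      rw [← Scheme.Hom.comp_apply, ← Scheme.Hom.comp_apply, hm₁]
    show m ((i'' ≫ n) z) ∈ U'
    rw [h1]
    exact hz
  have h := hψ₁.2 U' s' s hs (i ⁻¹ᵁ (j ⁻¹ᵁ U')) le_rfl h₂
  rw [PullTrack.res_self] at h
  obtain ⟨s₃, hs₃, h3⟩ := conormalMap_track n i'' (i'' ≫ n) rfl hψ₂ (m ⁻¹ᵁ U') s
    (i ⁻¹ᵁ (j ⁻¹ᵁ U')) h₂ h₂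
  have h4 : s₃ = 0 := ι_injective i''.ker (n ⁻¹ᵁ (m ⁻¹ᵁ U')) (by
    show idealSect _ _ s₃ = idealSect _ _ 0
    rw [hs₃, hs, map_zero]
    exact hkill U' _ hy)
  show ψ₂.app _ (((Scheme.Modules.pullbackId Z).inv.app (Omega.conormal (i'' ≫ n))).app _
    (ψ₁.app _ (pullSect i (Omega.conormal j) (j ⁻¹ᵁ U') (conormalSect j U' s')))) =
    (0 : (Scheme.Modules.pullback i).obj (Omega.conormal j) ⟶ Omega.conormal i'').app _ _
  rw [h, DerKit.pullbackId_inv_app,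
    PullTrack.pullSect_res (𝟙 Z) (Omega.conormal (i'' ≫ n)) h₂]
  rw [h4, map_zero] at h3
  rw [PullTrack.pullSectLE_apply] at h3
  exact h3.trans rfl

end Global

open AlgebraicGeometry CategoryTheory Limits in
set_option maxHeartbeats 1600000 in
/-- Let i : Z ⟶ Y and b : Y ⟶ X be formally unramified, let (i' : Z ⟶ Z', c) be a first order thickening
over X that is universal for i ≫ b, (j : Y ⟶ Y', d) one universal for b, m : Z' ⟶ Y' the morphism of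
thickenings over X compatible with i, (i'' : Z ⟶ Z'', e) a first order thickening over Y that is
universal for i, and n : Z'' ⟶ Z' the morphism of thickenings over X extending the identity of Z.
Let ψ₁ : i^*C_{Y/Y'} ⟶ C_{Z/Z'} and ψ₂ : C_{Z/Z'} ⟶ C_{Z/Z''} be the canonical maps of conormal
sheaves induced by (i, m) and (id, n). These are the conormal sheaves C_{Y/X}, C_{Z/X}, C_{Z/Y} of
the formally unramified morphisms and the canonical maps between them. Then the sequence i^*C_{Y/X}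
⟶ C_{Z/X} ⟶ C_{Z/Y} ⟶ 0 they form is exact. -/
theorem result {Z Y X Z' Y' Z'' : Scheme.{u}} (i : Z ⟶ Y) (b : Y ⟶ X)
    [FormallyUnramified i] [FormallyUnramified b]
    (i' : Z ⟶ Z') (c : Z' ⟶ X) (hZ' : OmegaSh.IsUnivThickening (i ≫ b) i' c)
    (j : Y ⟶ Y') (d : Y' ⟶ X) (hY' : OmegaSh.IsUnivThickening b j d)
    (m : Z' ⟶ Y') (hm₁ : i' ≫ m = i ≫ j) (hm₂ : m ≫ d = c)
    (i'' : Z ⟶ Z'') (e : Z'' ⟶ Y) (hZ'' : OmegaSh.IsUnivThickening i i'' e)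
    (n : Z'' ⟶ Z') (hn₁ : i'' ≫ n = i') (hn₂ : n ≫ c = e ≫ b)
    (ψ₁ : (Scheme.Modules.pullback i).obj (Omega.conormal j) ⟶ Omega.conormal i') (hψ₁ : OmegaSh.IsConormalMap i' j m i ψ₁)
    (ψ₂ : (Scheme.Modules.pullback (𝟙 Z)).obj (Omega.conormal i') ⟶ Omega.conormal i'') (hψ₂ : OmegaSh.IsConormalMap i'' i' n (𝟙 Z) ψ₂) :
    ∃ w : (Scheme.Modules.pullback (𝟙 Z)).map ψ₁ ≫ ψ₂ = 0, (ShortComplex.mk _ _ w).Exact ∧ Epi ψ₂ := by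
  subst hn₁
  subst hm₂
  haveI : IsClosedImmersion (i'' ≫ n) := hZ'.1.1.1
  haveI : IsClosedImmersion j := hY'.1.1.1
  haveI : IsClosedImmersion i'' := hZ''.1.1.1
  have hie : i'' ≫ e = i := hZ''.2.1
  have hjd : j ≫ d = b := hY'.2.1
  have hnm : n ≫ m = e ≫ j := by
    obtain ⟨a', -, huniq⟩ := hY'.2.2 Z Z'' i'' (e ≫ b) i hZ''.1 (by rw [← Category.assoc, hie])
    rw [huniq (n ≫ m) ⟨by rw [← Category.assoc, hm₁], by rw [Category.assoc, hn₂]⟩,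
      huniq (e ≫ j) ⟨by rw [← Category.assoc, hie], by rw [Category.assoc, hjd]⟩]
  have hkill : ∀ (U' : Y'.Opens) (y : Γ(Y', U')), (j.app U').hom y = 0 →
      (n.app (m ⁻¹ᵁ U')).hom ((m.app U').hom y) = 0 := by
    intro U' y hy
    have h1 : (n.app (m ⁻¹ᵁ U')).hom ((m.app U').hom y) = ((n ≫ m).app U').hom y := rfl
    rw [h1]
    apply app_eq_zero_of_eq hnm
    show (e.app (j ⁻¹ᵁ U')).hom ((j.app U').hom y) = 0
    rw [hy, map_zero]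
  -- quasi-coherence
  haveI : (ClSub.idealMod i''.ker).IsQuasicoherent :=
    inferInstanceAs (kernel (ClSub.toSubscheme i''.ker)).IsQuasicoherent
  haveI : (Omega.conormal i'').IsQuasicoherent :=
    Groth.Agent.H8.isQuasicoherent_pullback i'' (ClSub.idealMod i''.ker)
  haveI : (ClSub.idealMod (i'' ≫ n).ker).IsQuasicoherent :=
    inferInstanceAs (kernel (ClSub.toSubscheme (i'' ≫ n).ker)).IsQuasicoherent
  haveI : (Omega.conormal (i'' ≫ n)).IsQuasicoherent :=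
    Groth.Agent.H8.isQuasicoherent_pullback (i'' ≫ n) (ClSub.idealMod (i'' ≫ n).ker)
  haveI : ((Scheme.Modules.pullback (𝟙 Z)).obj (Omega.conormal (i'' ≫ n))).IsQuasicoherent :=
    Groth.Agent.H8.isQuasicoherent_pullback (𝟙 Z) _
  -- the composite vanishes
  have hcz := comp_eq_zero i j m i'' n hm₁ hψ₁ hψ₂ hkill
  have w : (Scheme.Modules.pullback (𝟙 Z)).map ψ₁ ≫ ψ₂ = 0 := by
    have hnat := (Scheme.Modules.pullbackId Z).inv.naturality ψ₁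
    rw [← Category.assoc] at hcz
    have h2 : (Scheme.Modules.pullbackId Z).inv.app _ ≫
        ((Scheme.Modules.pullback (𝟙 Z)).map ψ₁ ≫ ψ₂) = 0 := by
      rw [← Category.assoc, ← hnat]
      exact hcz
    rw [← cancel_epi ((Scheme.Modules.pullbackId Z).inv.app
      ((Scheme.Modules.pullback i).obj (Omega.conormal j))), h2, comp_zero]
  -- small affines
  have hch : ∀ z : Z, ∃ (V : X.Opens) (UY' : Y'.Opens) (W' : Z'.Opens), IsAffineOpen V ∧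
      IsAffineOpen UY' ∧ UY' ≤ d ⁻¹ᵁ V ∧ IsAffineOpen W' ∧ W' ≤ m ⁻¹ᵁ UY' ∧
      (i'' ≫ n) z ∈ W' := by
    intro z
    obtain ⟨V, hV, hxV, -⟩ := exists_isAffineOpen_mem_and_subset (x := d (m ((i'' ≫ n) z)))
      (U := (⊤ : X.Opens)) trivial
    obtain ⟨UY', hUY', hxU, hUV⟩ := exists_isAffineOpen_mem_and_subset (x := m ((i'' ≫ n) z))
      (U := d ⁻¹ᵁ V) hxV
    obtain ⟨W', hW', hxW', hWU⟩ := exists_isAffineOpen_mem_and_subset (x := (i'' ≫ n) z)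
      (U := m ⁻¹ᵁ UY') hxU
    exact ⟨V, UY', W', hV, hUY', hUV, hW', hWU, hxW'⟩
  choose V UY' W' hV hUY' eY hW' hle hz using hch
  have hcov : IsOpenCover (fun z : Z => (i'' ≫ n) ⁻¹ᵁ (W' z)) := by
    apply le_antisymm le_top
    intro z _
    exact TopologicalSpace.Opens.mem_iSup.mpr ⟨z, hz z⟩
  have hWaff : ∀ z, IsAffineOpen ((i'' ≫ n) ⁻¹ᵁ (W' z)) := fun z => (hW' z).preimage (i'' ≫ n)
  have hW''aff : ∀ z, IsAffineOpen (n ⁻¹ᵁ (W' z)) := fun z =>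
    Groth.Agent.H24.UTT_AF.isAffineOpen_of_preimage i'' hZ''.1.1.2.surj _ (hWaff z)
  have hUY : ∀ z, IsAffineOpen (j ⁻¹ᵁ (UY' z)) := fun z => (hUY' z).preimage j
  have eZ : ∀ z, W' z ≤ (m ≫ d) ⁻¹ᵁ (V z) := fun z x hx => eY z (hle z hx)
  have eZ'' : ∀ z, n ⁻¹ᵁ (W' z) ≤ e ⁻¹ᵁ (j ⁻¹ᵁ (UY' z)) := by
    intro z x hx
    have h1 : j (e x) = m (n x) := by
      rw [← Scheme.Hom.comp_apply, ← Scheme.Hom.comp_apply, hnm]
    show j (e x) ∈ UY' z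
    rw [h1]
    exact hle z hx
  have hB := fun z => univProp_of_affineOpens hY' (hV z) (hUY' z) (eY z)
  have hC := fun z => univProp_of_affineOpens hZ' (hV z) (hW' z) (eZ z)
  have hC'' := fun z => univProp_of_affineOpens hZ'' (hUY z) (hW''aff z) (eZ'' z)
  have hRT := fun z => Groth.Agent.H54.UTT_R3.ring_transitivity (hB z) (hC z) (hC'' z)
    (m.appLE (UY' z) (W' z) (hle z)).hom (n.app (W' z)).hom
    (by
      have := Scheme.Hom.appLE_comp_appLE m d (V z) (UY' z) (W' z) (eY z) (hle z)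
      rw [← CommRingCat.hom_comp, this])
    (by
      have h1 := Scheme.Hom.appLE_comp_appLE n m (UY' z) (W' z) (n ⁻¹ᵁ (W' z)) (hle z) le_rfl
      rw [Scheme.Hom.appLE_eq_app] at h1
      have h2 := Scheme.Hom.comp_appLE e j (UY' z) (n ⁻¹ᵁ (W' z))
        (fun x hx => eZ'' z hx)
      rw [← CommRingCat.hom_comp, ← CommRingCat.hom_comp, h1, ← h2]
      exact congrArg _ (appLE_congr_hom hnm _ _ _))
    rfl
  refine ⟨w, ?_, ?_⟩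
  · refine exact_of_exact_affine_cover (ShortComplex.mk _ _ w) _ hcov hWaff (fun z t ht => ?_)
    -- `t` is the pullback along `𝟙` of a section `q`
    set q := ((Scheme.Modules.pullbackId Z).hom.app (Omega.conormal (i'' ≫ n))).app
      ((i'' ≫ n) ⁻¹ᵁ (W' z)) t with hq
    have htq : t = pullSect (𝟙 Z) (Omega.conormal (i'' ≫ n)) ((i'' ≫ n) ⁻¹ᵁ (W' z)) q := by
      rw [← DerKit.pullbackId_inv_app, hq]
      have h3 : (Scheme.Modules.pullbackId Z).hom.app (Omega.conormal (i'' ≫ n)) ≫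
          (Scheme.Modules.pullbackId Z).inv.app (Omega.conormal (i'' ≫ n)) = 𝟙 _ :=
        (Scheme.Modules.pullbackId Z).hom_inv_id_app _
      exact (congrArg (fun φ : (Scheme.Modules.pullback (𝟙 Z)).obj (Omega.conormal (i'' ≫ n)) ⟶
        (Scheme.Modules.pullback (𝟙 Z)).obj (Omega.conormal (i'' ≫ n)) =>
          φ.app ((i'' ≫ n) ⁻¹ᵁ (W' z)) t) h3).symm
    obtain ⟨t₀, ht₀⟩ := local_exact i j m i'' n hm₁ hψ₁ hψ₂ (hW' z) (hWaff z) (hW''aff z)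
      (hC z).1 (hC'' z).1 (hC'' z).2.1 (UY' z) (hle z)
      (fun x₂ h1 h2 => (hRT z).2 x₂ h1 h2) q (by rw [← htq]; exact ht)
    refine ⟨pullSect (𝟙 Z) _ ((i'' ≫ n) ⁻¹ᵁ (W' z)) t₀, ?_⟩
    show ((Scheme.Modules.pullback (𝟙 Z)).map ψ₁).app _ _ = t
    rw [htq, ← ht₀]
    exact PullTrack.map_pullSect (𝟙 Z) ψ₁ _ t₀
  · exact Groth.Agent.H18.Serre.epi_of_surjective_affine_cover ψ₂ _ hcov hWaff
      (fun z => local_surjective i'' n hψ₂ (hW''aff z) (hWaff z) (hC'' z).1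
        (fun x₃ h3 => (hRT z).1 x₃ h3))

end Groth.Agent.S9784
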