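import Groth.Statements.S9786
import Groth.Agent.H70.UTTrans.Aff
import Groth.Agent.H41.UTS_FS
import Groth.Agent.H41.UTS_RS
import Groth.Agent.H70.UTTrans.HM
import Groth.Agent.H39.ConormalTrans
import Groth.Agent.S9375
import Groth.Agent.H24.UTT_AF
import Groth.Agent.H78.UT4

set_option autoImplicit false
set_option linter.style.haveILetI false
universe u
open OmegaSh

namespace Groth.Agent.S9786

open AlgebraicGeometry CategoryTheory Limits TopologicalSpace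
open Groth.Agent.H39 Groth.Agent.H8 Groth.Agent.H39.ConormalLocal Groth.Agent.H39.ConormalSect
  Groth.Agent.H39.ConormalMono Groth.Agent.H39.ConormalSplit Groth.Agent.H39.ConormalMap
  Groth.Agent.H39.ConormalMapMono Groth.Agent.H70.UTTrans

section Local

variable {Z Z' Z'' : Scheme.{u}} (i' : Z ⟶ Z') (k : Z' ⟶ Z'') [QuasiCompact i']
  [QuasiCompact (i' ≫ k)]
  {ψ : (Scheme.Modules.pullback (𝟙 Z)).obj (Omega.conormal (i' ≫ k)) ⟶ Omega.conormal i'}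
  (hψ : IsConormalMap i' (i' ≫ k) k (𝟙 Z) ψ)
  {W'' : Z''.Opens} (hW'' : IsAffineOpen W'') (hW' : IsAffineOpen (k ⁻¹ᵁ W''))
  (hW : IsAffineOpen ((i' ≫ k) ⁻¹ᵁ W''))
  (hsurj' : Function.Surjective (i'.app (k ⁻¹ᵁ W'')))
  (hsurj'' : Function.Surjective ((i' ≫ k).app W''))
  (σ : Γ(Z', k ⁻¹ᵁ W'') →+* Γ(Z'', W''))
  (hσ₁ : ∀ x, σ ((k.app W'').hom x) = x)
  (hσ₂ : ∀ x, ((i' ≫ k).app W'').hom (σ x) = (i'.app (k ⁻¹ᵁ W'')).hom x)

include hσ₂ in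
omit [QuasiCompact i'] in
lemma exists_sect'' (s' : Γ(ClSub.idealMod i'.ker, k ⁻¹ᵁ W'')) :
    ∃ s'' : Γ(ClSub.idealMod (i' ≫ k).ker, W''),
      idealSect (i' ≫ k).ker W'' s'' = σ (idealSect i'.ker (k ⁻¹ᵁ W'') s') := by
  apply exists_idealSect_eq_of_app_eq_zero (i' ≫ k) W''
  rw [hσ₂]
  exact app_idealSect i' _ s'

include hW'' hW' hW hsurj' hsurj'' hσ₂ in
/-- Independence of choices. -/
lemma pair_unique (s'₁ s'₂ : Γ(ClSub.idealMod i'.ker, k ⁻¹ᵁ W''))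
    (s''₁ s''₂ : Γ(ClSub.idealMod (i' ≫ k).ker, W''))
    (h : conormalSect i' (k ⁻¹ᵁ W'') s'₁ = conormalSect i' (k ⁻¹ᵁ W'') s'₂)
    (h₁ : idealSect (i' ≫ k).ker W'' s''₁ = σ (idealSect i'.ker (k ⁻¹ᵁ W'') s'₁))
    (h₂ : idealSect (i' ≫ k).ker W'' s''₂ = σ (idealSect i'.ker (k ⁻¹ᵁ W'') s'₂)) :
    conormalSect (i' ≫ k) W'' s''₁ = conormalSect (i' ≫ k) W'' s''₂ := by
  have hWi : IsAffineOpen (i' ⁻¹ᵁ (k ⁻¹ᵁ W'')) := hW
  have h0 : conormalSect i' (k ⁻¹ᵁ W'') (s'₁ - s'₂) = 0 := by rw [map_sub, h, sub_self]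
  rw [conormalSect_eq_zero_iff i' hW' hWi hsurj'] at h0
  have h3 : conormalSect (i' ≫ k) W'' (s''₁ - s''₂) = 0 := by
    rw [conormalSect_eq_zero_iff (i' ≫ k) hW'' hW hsurj'', map_sub, h₁, h₂, ← map_sub, ← map_sub]
    have hle : RingHom.ker (i'.app (k ⁻¹ᵁ W'')).hom ≤
        (RingHom.ker ((i' ≫ k).app W'').hom).comap σ := by
      intro x hx
      rw [Ideal.mem_comap, RingHom.mem_ker, hσ₂]
      exact hx
    have h4 := Ideal.mem_map_of_mem σ h0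
    rw [Ideal.map_pow] at h4
    exact Ideal.pow_right_mono (Ideal.map_le_iff_le_comap.mpr hle) 2 h4
  rw [map_sub, sub_eq_zero] at h3
  exact h3

include hW' hW hsurj' hσ₂ in
lemma exists_pair (q : Γ(Omega.conormal i', (i' ≫ k) ⁻¹ᵁ W'')) :
    ∃ (s' : Γ(ClSub.idealMod i'.ker, k ⁻¹ᵁ W'')) (s'' : Γ(ClSub.idealMod (i' ≫ k).ker, W'')),
      conormalSect i' (k ⁻¹ᵁ W'') s' = q ∧
      idealSect (i' ≫ k).ker W'' s'' = σ (idealSect i'.ker (k ⁻¹ᵁ W'') s') := by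
  have hWi : IsAffineOpen (i' ⁻¹ᵁ (k ⁻¹ᵁ W'')) := hW
  obtain ⟨s', hs'⟩ := conormalSect_surjective i' hW' hWi hsurj' q
  obtain ⟨s'', hs''⟩ := exists_sect'' i' k σ hσ₂ s'
  exact ⟨s', s'', hs', hs''⟩

/-- The section-level retraction (before pulling back along the identity). -/
noncomputable def ρ₀ (q : Γ(Omega.conormal i', (i' ≫ k) ⁻¹ᵁ W'')) :
    Γ(Omega.conormal (i' ≫ k), (i' ≫ k) ⁻¹ᵁ W'') :=
  conormalSect (i' ≫ k) W'' (exists_pair i' k hW' hW hsurj' σ hσ₂ q).choose_spec.choose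

include hW'' hsurj'' in
lemma ρ₀_spec (s' : Γ(ClSub.idealMod i'.ker, k ⁻¹ᵁ W''))
    (s'' : Γ(ClSub.idealMod (i' ≫ k).ker, W''))
    (h : idealSect (i' ≫ k).ker W'' s'' = σ (idealSect i'.ker (k ⁻¹ᵁ W'') s')) :
    ρ₀ i' k hW' hW hsurj' σ hσ₂ (conormalSect i' (k ⁻¹ᵁ W'') s') =
      conormalSect (i' ≫ k) W'' s'' := by
  have hsp := (exists_pair i' k hW' hW hsurj' σ hσ₂
    (conormalSect i' (k ⁻¹ᵁ W'') s')).choose_spec.choose_spec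
  exact pair_unique i' k hW'' hW' hW hsurj' hsurj'' σ hσ₂ _ _ _ _ hsp.1 hsp.2 h

include hW'' hsurj'' in
lemma ρ₀_add (q₁ q₂ : Γ(Omega.conormal i', (i' ≫ k) ⁻¹ᵁ W'')) :
    ρ₀ i' k hW' hW hsurj' σ hσ₂ (q₁ + q₂) =
      ρ₀ i' k hW' hW hsurj' σ hσ₂ q₁ + ρ₀ i' k hW' hW hsurj' σ hσ₂ q₂ := by
  obtain ⟨s'₁, s''₁, rfl, h₁⟩ := exists_pair i' k hW' hW hsurj' σ hσ₂ q₁
  obtain ⟨s'₂, s''₂, rfl, h₂⟩ := exists_pair i' k hW' hW hsurj' σ hσ₂ q₂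
  have e0 : conormalSect i' (k ⁻¹ᵁ W'') s'₁ + conormalSect i' (k ⁻¹ᵁ W'') s'₂ =
      conormalSect i' (k ⁻¹ᵁ W'') (s'₁ + s'₂) := (map_add _ _ _).symm
  have e3 := ρ₀_spec i' k hW'' hW' hW hsurj' hsurj'' σ hσ₂ (s'₁ + s'₂) (s''₁ + s''₂)
    (by rw [map_add, map_add, h₁, h₂, map_add])
  have e1 := ρ₀_spec i' k hW'' hW' hW hsurj' hsurj'' σ hσ₂ _ _ h₁
  have e2 := ρ₀_spec i' k hW'' hW' hW hsurj' hsurj'' σ hσ₂ _ _ h₂
  exact (congrArg _ e0).trans (e3.trans ((map_add _ _ _).trans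
    (congrArg₂ (· + ·) e1.symm e2.symm)))

include hW'' hsurj'' in
lemma ρ₀_smul (c : Γ(Z, (i' ≫ k) ⁻¹ᵁ W'')) (q : Γ(Omega.conormal i', (i' ≫ k) ⁻¹ᵁ W'')) :
    ρ₀ i' k hW' hW hsurj' σ hσ₂ (c • q) = c • ρ₀ i' k hW' hW hsurj' σ hσ₂ q := by
  obtain ⟨s', s'', rfl, h⟩ := exists_pair i' k hW' hW hsurj' σ hσ₂ q
  obtain ⟨b', rfl⟩ := hsurj' c
  have e1 : (i'.app (k ⁻¹ᵁ W'')).hom b' • conormalSect i' (k ⁻¹ᵁ W'') s' =
      conormalSect i' (k ⁻¹ᵁ W'') (b' • s') :=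
    (Scheme.Modules.Hom.app_smul
      ((Scheme.Modules.pullbackPushforwardAdjunction i').unit.app (ClSub.idealMod i'.ker))
      b' s').symm
  have e2 : ((i' ≫ k).app W'').hom (σ b') • conormalSect (i' ≫ k) W'' s'' =
      conormalSect (i' ≫ k) W'' (σ b' • s'') :=
    (Scheme.Modules.Hom.app_smul
      ((Scheme.Modules.pullbackPushforwardAdjunction (i' ≫ k)).unit.app
        (ClSub.idealMod (i' ≫ k).ker)) (σ b') s'').symm
  have e3 : ρ₀ i' k hW' hW hsurj' σ hσ₂ (conormalSect i' (k ⁻¹ᵁ W'') (b' • s')) =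
      conormalSect (i' ≫ k) W'' (σ b' • s'') :=
    ρ₀_spec i' k hW'' hW' hW hsurj' hsurj'' σ hσ₂ (b' • s') (σ b' • s'')
      (by rw [idealSect_smul, idealSect_smul, h, map_mul])
  rw [ρ₀_spec i' k hW'' hW' hW hsurj' hsurj'' σ hσ₂ _ _ h]
  refine (congrArg _ e1).trans (e3.trans ?_)
  rw [← e2, hσ₂]

/-- The section-level retraction as a linear map. -/
noncomputable def ρ (hW''₀ : IsAffineOpen W'')
    (hsurj''₀ : Function.Surjective ((i' ≫ k).app W'')) :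
    Γ(Omega.conormal i', (i' ≫ k) ⁻¹ᵁ W'') →ₗ[Γ(Z, (i' ≫ k) ⁻¹ᵁ W'')]
      Γ((Scheme.Modules.pullback (𝟙 Z)).obj (Omega.conormal (i' ≫ k)), (i' ≫ k) ⁻¹ᵁ W'') where
  toFun q := ((Scheme.Modules.pullbackId Z).inv.app (Omega.conormal (i' ≫ k))).app
    ((i' ≫ k) ⁻¹ᵁ W'') (ρ₀ i' k hW' hW hsurj' σ hσ₂ q)
  map_add' q₁ q₂ := by
    rw [ρ₀_add i' k hW''₀ hW' hW hsurj' hsurj''₀ σ hσ₂, map_add]
  map_smul' c q := by
    rw [ρ₀_smul i' k hW''₀ hW' hW hsurj' hsurj''₀ σ hσ₂, Scheme.Modules.Hom.app_smul]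
    rfl

include hψ hσ₁ in
lemma ρ_retraction (y : Γ((Scheme.Modules.pullback (𝟙 Z)).obj (Omega.conormal (i' ≫ k)),
      (i' ≫ k) ⁻¹ᵁ W'')) :
    ρ i' k hW' hW hsurj' σ hσ₂ hW'' hsurj'' (ψ.app ((i' ≫ k) ⁻¹ᵁ W'') y) = y := by
  set q'' := ((Scheme.Modules.pullbackId Z).hom.app (Omega.conormal (i' ≫ k))).app
    ((i' ≫ k) ⁻¹ᵁ W'') y with hq
  have hyq : y = pullSect (𝟙 Z) (Omega.conormal (i' ≫ k)) ((i' ≫ k) ⁻¹ᵁ W'') q'' := by
    rw [← DerKit.pullbackId_inv_app, hq]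
    have h3 : (Scheme.Modules.pullbackId Z).hom.app (Omega.conormal (i' ≫ k)) ≫
        (Scheme.Modules.pullbackId Z).inv.app (Omega.conormal (i' ≫ k)) = 𝟙 _ :=
      (Scheme.Modules.pullbackId Z).hom_inv_id_app _
    exact (congrArg (fun φ : (Scheme.Modules.pullback (𝟙 Z)).obj (Omega.conormal (i' ≫ k)) ⟶
      (Scheme.Modules.pullback (𝟙 Z)).obj (Omega.conormal (i' ≫ k)) =>
        φ.app ((i' ≫ k) ⁻¹ᵁ W'') y) h3).symm
  obtain ⟨s'', hs''⟩ := conormalSect_surjective (i' ≫ k) hW'' hW hsurj'' q''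
  obtain ⟨s', hs', h⟩ := conormalMap_track k i' (i' ≫ k) rfl hψ W'' s''
    ((𝟙 Z : Z ⟶ Z) ⁻¹ᵁ ((i' ≫ k) ⁻¹ᵁ W'')) le_rfl le_rfl
  rw [PullTrack.pullSectLE_self] at h
  have h3 : PullTrack.pullSectLE i' (ClSub.idealMod i'.ker) (k ⁻¹ᵁ W'')
      ((𝟙 Z : Z ⟶ Z) ⁻¹ᵁ ((i' ≫ k) ⁻¹ᵁ W'')) le_rfl s' = conormalSect i' (k ⁻¹ᵁ W'') s' :=
    PullTrack.pullSectLE_self i' (ClSub.idealMod i'.ker) (k ⁻¹ᵁ W'') s'
  have h4 : ψ.app ((i' ≫ k) ⁻¹ᵁ W'') y = conormalSect i' (k ⁻¹ᵁ W'') s' := by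
    rw [hyq, ← hs'']
    exact h.trans h3
  have h5 : ρ₀ i' k hW' hW hsurj' σ hσ₂ (conormalSect i' (k ⁻¹ᵁ W'') s') =
      conormalSect (i' ≫ k) W'' s'' :=
    ρ₀_spec i' k hW'' hW' hW hsurj' hsurj'' σ hσ₂ s' s'' (by rw [hs']; exact (hσ₁ _).symm)
  show ((Scheme.Modules.pullbackId Z).inv.app (Omega.conormal (i' ≫ k))).app _
    (ρ₀ i' k hW' hW hsurj' σ hσ₂ (ψ.app ((i' ≫ k) ⁻¹ᵁ W'') y)) = y
  rw [h4, h5, DerKit.pullbackId_inv_app, hs'', ← hyq]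

end Local

lemma appLE_congr_hom' {A B : Scheme.{u}} {f g : A ⟶ B} (h : f = g) (U : B.Opens) (V : A.Opens)
    (e : V ≤ f ⁻¹ᵁ U) : f.appLE U V e = g.appLE U V (h ▸ e) := by
  subst h; rfl

open AlgebraicGeometry CategoryTheory Limits in
set_option maxHeartbeats 1600000 in
/-- Let i : Z ⟶ X be a morphism and p : X ⟶ Y a formally smooth morphism (infinitesimal lifting against
square-zero thickenings of affine schemes) with i and i ≫ p formally unramified. Let (i' : Z ⟶ Z',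
a) be the universal first-order thickening attached to i, (i'' : Z ⟶ Z'', b) the one attached to i ≫
p, and k : Z' ⟶ Z'' the morphism of thickenings (i' ≫ k = i'', k ≫ b = a ≫ p). Let d : O_{Z'} → Ω be
a universal derivation over Z'', ψ : C_{Z/Z''} ⟶ C_{Z/Z'} the canonical map of conormal sheaves
induced by (id, k) and φ : C_{Z/Z'} ⟶ (i')^*Ω the map induced by d. Then 0 ⟶ C_{Z/Z''} ⟶ C_{Z/Z'} ⟶
(i')^*Ω ⟶ 0 is short exact and locally split: every point of Z has an open neighbourhood over which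
ψ admits a left inverse. The published statement concerns the conormal–differential sequence of Z in
X over Y; this row states it on the thickenings Z ⊂ Z' ⟶ Z'', whose terms identify with the
published ones by the definition of the conormal sheaf of a formally unramified morphism and by the
isomorphism of (i')^*Ω_{Z'/S} with i^*Ω_{X/S} for a universal thickening (with Ω_{Z'/Z''} =
Ω_{Z'/Y}, as Z'' ⟶ Y is formally unramified). -/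
theorem result {Z X Y Z' Z'' : Scheme.{u}} (i : Z ⟶ X) (p : X ⟶ Y)
    (hp : MoreMor.IsFormallySmoothHom p) [FormallyUnramified i] [FormallyUnramified (i ≫ p)]
    (i' : Z ⟶ Z') (a : Z' ⟶ X) (hZ' : OmegaSh.IsUnivThickening i i' a)
    (i'' : Z ⟶ Z'') (b : Z'' ⟶ Y) (hZ'' : OmegaSh.IsUnivThickening (i ≫ p) i'' b)
    (k : Z' ⟶ Z'') (hk₁ : i' ≫ k = i'') (hk₂ : k ≫ b = a ≫ p)
    (Ω : Z'.Modules) (d : OmegaSh.Der k Ω) (hd : OmegaSh.IsUniversal d)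
    (ψ : (Scheme.Modules.pullback (𝟙 Z)).obj (Omega.conormal i'') ⟶ Omega.conormal i') (hψ : OmegaSh.IsConormalMap i' i'' k (𝟙 Z) ψ)
    (φ : Omega.conormal i' ⟶ (Scheme.Modules.pullback i').obj Ω) (hφ : OmegaSh.IsConormalDiff i' d φ) :
    ∃ w : ψ ≫ φ = 0, (ShortComplex.mk ψ φ w).ShortExact ∧
      ∀ z : Z, ∃ (U : Z.Opens) (r : (Scheme.Modules.restrictFunctor U.ι).obj (Omega.conormal i') ⟶
          (Scheme.Modules.restrictFunctor U.ι).obj ((Scheme.Modules.pullback (𝟙 Z)).obj (Omega.conormal i''))),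
        z ∈ U ∧ (Scheme.Modules.restrictFunctor U.ι).map ψ ≫ r = 𝟙 _ := by
  subst hk₁
  haveI : IsClosedImmersion i' := hZ'.1.1.1
  haveI : IsClosedImmersion (i' ≫ k) := hZ''.1.1.1
  obtain ⟨w, hex, hepi⟩ := Groth.Agent.S9375.result k i' (i' ≫ k) rfl Ω d hd ψ hψ φ hφ
  have hia : i' ≫ a = i := hZ'.2.1
  -- quasi-coherence
  haveI : (ClSub.idealMod i'.ker).IsQuasicoherent :=
    inferInstanceAs (kernel (ClSub.toSubscheme i'.ker)).IsQuasicoherent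
  haveI : (Omega.conormal i').IsQuasicoherent :=
    Groth.Agent.H8.isQuasicoherent_pullback i' (ClSub.idealMod i'.ker)
  haveI : (ClSub.idealMod (i' ≫ k).ker).IsQuasicoherent :=
    inferInstanceAs (kernel (ClSub.toSubscheme (i' ≫ k).ker)).IsQuasicoherent
  haveI : (Omega.conormal (i' ≫ k)).IsQuasicoherent :=
    Groth.Agent.H8.isQuasicoherent_pullback (i' ≫ k) (ClSub.idealMod (i' ≫ k).ker)
  haveI : ((Scheme.Modules.pullback (𝟙 Z)).obj (Omega.conormal (i' ≫ k))).IsQuasicoherent :=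
    Groth.Agent.H8.isQuasicoherent_pullback (𝟙 Z) _
  -- local data
  have hloc : ∀ z : Z, ∃ W'' : Z''.Opens, (i' ≫ k) z ∈ W'' ∧ IsAffineOpen W'' ∧
      IsAffineOpen (k ⁻¹ᵁ W'') ∧ IsAffineOpen ((i' ≫ k) ⁻¹ᵁ W'') ∧
      Function.Surjective (i'.app (k ⁻¹ᵁ W'')) ∧ Function.Surjective ((i' ≫ k).app W'') ∧
      ∃ σ : Γ(Z', k ⁻¹ᵁ W'') →+* Γ(Z'', W''), (∀ x, σ ((k.app W'').hom x) = x) ∧
        (∀ x, ((i' ≫ k).app W'').hom (σ x) = (i'.app (k ⁻¹ᵁ W'')).hom x) := by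
    intro z
    obtain ⟨VY, hVY, hzVY, -⟩ := exists_isAffineOpen_mem_and_subset (x := b ((i' ≫ k) z))
      (U := (⊤ : Y.Opens)) trivial
    have hpab : ∀ x' : Z', p (a x') = b (k x') := by
      intro x'
      rw [← Scheme.Hom.comp_apply, ← Scheme.Hom.comp_apply, hk₂]
    have hzpre : a (i' z) ∈ p ⁻¹ᵁ VY := by
      show p (a (i' z)) ∈ VY
      rw [hpab]
      exact hzVY
    obtain ⟨UX, hUX, hzUX, eUV⟩ := exists_isAffineOpen_mem_and_subset (x := a (i' z))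
      (U := p ⁻¹ᵁ VY) hzpre
    obtain ⟨N, hN⟩ := Groth.Agent.H78.UT4.exists_opens_preimage_eq (i' ≫ k) hZ''.1
      (i' ⁻¹ᵁ (a ⁻¹ᵁ UX))
    have hzN : (i' ≫ k) z ∈ N ⊓ b ⁻¹ᵁ VY := by
      refine ⟨?_, hzVY⟩
      have : z ∈ (i' ≫ k) ⁻¹ᵁ N := by rw [hN]; exact hzUX
      exact this
    obtain ⟨W'', hW'', hzW'', hW''le⟩ := exists_isAffineOpen_mem_and_subset
      (x := (i' ≫ k) z) (U := N ⊓ b ⁻¹ᵁ VY) hzN
    have e'' : W'' ≤ b ⁻¹ᵁ VY := hW''le.trans inf_le_right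
    have hi'surj : Function.Surjective i' := hZ'.1.1.2.surj
    have e' : k ⁻¹ᵁ W'' ≤ a ⁻¹ᵁ UX := by
      intro x' hx'
      obtain ⟨z₀, rfl⟩ := hi'surj x'
      have h1 : (i' ≫ k) z₀ ∈ N := (hW''le hx').1
      have h2 : z₀ ∈ (i' ≫ k) ⁻¹ᵁ N := h1
      rw [hN] at h2
      exact h2
    have hW : IsAffineOpen ((i' ≫ k) ⁻¹ᵁ W'') := hW''.preimage (i' ≫ k)
    have hW' : IsAffineOpen (k ⁻¹ᵁ W'') :=
      Groth.Agent.H24.UTT_AF.isAffineOpen_of_preimage i' hi'surj _ hW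
    have hC'' := univProp_of_affineOpens hZ'' hVY hW'' e''
    have hC' := univProp_of_affineOpens hZ' hUX hW' e'
    obtain ⟨σ, hσ₁, hσ₂⟩ := Groth.Agent.H41.UTS_RS.exists_retraction
      (φ := (p.appLE VY UX eUV).hom) hC' hC'' (k.app W'').hom
      (by
        have h1 := Scheme.Hom.appLE_comp_appLE k b VY W'' (k ⁻¹ᵁ W'') e'' le_rfl
        rw [Scheme.Hom.appLE_eq_app] at h1
        have h2 := Scheme.Hom.appLE_comp_appLE a p VY UX (k ⁻¹ᵁ W'') eUV e'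
        rw [← CommRingCat.hom_comp, ← CommRingCat.hom_comp, h1, h2]
        exact congrArg _ (appLE_congr_hom' hk₂ _ _ _))
      rfl
      (fun D _ L hL β α h =>
        Groth.Agent.H41.UTS_FS.exists_ring_lift_of_isFormallySmoothHom p hp hVY hUX eUV
          D L hL β α h)
    exact ⟨W'', hzW'', hW'', hW', hW, hC'.1, hC''.1, σ,
      fun x => congrArg (fun f : Γ(Z'', W'') →+* Γ(Z'', W'') => f x) hσ₁,
      fun x => congrArg (fun f : Γ(Z', k ⁻¹ᵁ W'') →+* Γ(Z, (i' ≫ k) ⁻¹ᵁ W'') => f x) hσ₂⟩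
  choose W'' hzW'' hW'' hW' hW hsurj' hsurj'' σ hσ₁ hσ₂ using hloc
  have hcov : IsOpenCover (fun z : Z => (i' ≫ k) ⁻¹ᵁ (W'' z)) := by
    apply le_antisymm le_top
    intro z _
    exact TopologicalSpace.Opens.mem_iSup.mpr ⟨z, hzW'' z⟩
  have hret := fun z => ρ_retraction i' k hψ (hW'' z) (hW' z) (hW z) (hsurj' z) (hsurj'' z)
    (σ z) (hσ₁ z) (hσ₂ z)
  have hmono : Mono ψ := by
    refine mono_of_injective_affine_cover ψ _ hcov hW (fun z y₁ y₂ h => ?_)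
    rw [← hret z y₁, ← hret z y₂, h]
  refine ⟨w, ShortComplex.ShortExact.mk' hex hmono hepi, fun z => ?_⟩
  obtain ⟨r, hr⟩ := Groth.Agent.H70.UTTrans.exists_restrict_retraction ψ (hW z)
    (ρ i' k (hW' z) (hW z) (hsurj' z) (σ z) (hσ₂ z) (hW'' z) (hsurj'' z)) (hret z)
  exact ⟨(i' ≫ k) ⁻¹ᵁ (W'' z), r, hzW'' z, hr⟩

end Groth.Agent.S9786
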