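import Groth.Statements.S9793
import Mathlib.AlgebraicGeometry.Stalk
import Mathlib.RingTheory.Ideal.KrullsHeightTheorem

set_option autoImplicit false
universe u
open CategoryTheory AlgebraicGeometry TopologicalSpace
open Props

namespace Groth.Agent.S9793

/-- Let S be a Noetherian scheme and T a set of points of S. Every point of T is a specialization of
some point of T which admits no non-trivial generization lying in T. -/
theorem result (S : Scheme.{u}) [IsNoetherian S]
    (T : Set S) (t : S) (ht : t ∈ T) :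
    ∃ t₀ ∈ T, (∀ t' ∈ T, t' ⤳ t₀ → t' = t₀) ∧ t₀ ⤳ t := by
  let R := S.presheaf.stalk t
  let φ := S.fromSpecStalk t
  let G : Set (PrimeSpectrum R) := {q | φ.base q ∈ T}
  have hGne : G.Nonempty := by
    refine ⟨IsLocalRing.closedPoint R, ?_⟩
    change φ.base (IsLocalRing.closedPoint R) ∈ T
    rw [Scheme.fromSpecStalk_closedPoint]
    exact ht
  let hts : Set ℕ∞ := (fun q : PrimeSpectrum R => q.asIdeal.height) '' G
  have hne : hts.Nonempty := hGne.image _
  obtain ⟨q₀, hq₀G, hq₀min⟩ : ∃ q₀ ∈ G, ∀ q ∈ G, ¬ q.asIdeal.height < q₀.asIdeal.height := by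
    obtain ⟨_, ⟨q₀, hq₀, rfl⟩, hmin⟩ := WellFounded.has_min wellFounded_lt hts hne
    exact ⟨q₀, hq₀, fun q hq hlt => hmin _ (Set.mem_image_of_mem _ hq) hlt⟩
  have hrange : ∀ y : S, y ⤳ t → ∃ q : PrimeSpectrum R, φ.base q = y := by
    intro y hy
    have : y ∈ Set.range φ.base := by
      rw [Scheme.range_fromSpecStalk]
      exact hy
    exact this
  have hspec : φ.base q₀ ⤳ t := by
    have : φ.base q₀ ∈ Set.range φ.base := Set.mem_range_self _
    rw [Scheme.range_fromSpecStalk] at this
    exact this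
  refine ⟨φ.base q₀, hq₀G, ?_, hspec⟩
  intro t' ht' hsp
  obtain ⟨q', rfl⟩ := hrange t' (hsp.trans hspec)
  have hq'G : q' ∈ G := ht'
  have hle : q' ≤ q₀ := by
    rw [PrimeSpectrum.le_iff_specializes]
    exact (φ.isEmbedding.isInducing.specializes_iff).mp hsp
  by_contra hne'
  have hlt : q'.asIdeal < q₀.asIdeal := by
    refine lt_of_le_of_ne hle ?_
    intro heq
    exact hne' (congrArg φ.base (PrimeSpectrum.ext heq))
  have : q'.asIdeal.height < q₀.asIdeal.height :=
    Ideal.height_strict_mono_of_isPrime_of_isPrime hlt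
  exact hq₀min q' hq'G this

end Groth.Agent.S9793
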