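import Groth.Statements.S9792
import Groth.Agent.S9793

set_option autoImplicit false
universe u
open CategoryTheory AlgebraicGeometry TopologicalSpace
open Props

namespace Groth.Agent.S9792

/-- In a Noetherian scheme, every infinite set of points contains an infinite subset no two distinct
members of which are related by specialization. -/
theorem result (S : Scheme.{u}) [IsNoetherian S]
    (T : Set S) (hT : T.Infinite) :
    ∃ T' : Set S, T' ⊆ T ∧ T'.Infinite ∧ ∀ a ∈ T', ∀ b ∈ T', a ⤳ b → a = b := by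
  have hNS : NoetherianSpace S := inferInstance
  -- Step 1: a minimal closed set meeting T in an infinite set
  let 𝒵 : Set (TopologicalSpace.Closeds S) := {Z | (T ∩ (Z : Set S)).Infinite}
  have h𝒵ne : 𝒵.Nonempty := ⟨⊤, by simpa [𝒵] using hT⟩
  obtain ⟨Z₀, hZ₀, hmin⟩ := WellFounded.has_min
    (wellFounded_lt (α := TopologicalSpace.Closeds S)) 𝒵 h𝒵ne
  have hmin' : ∀ C : Set S, IsClosed C → C ⊆ (Z₀ : Set S) → (T ∩ C).Infinite →
      C = (Z₀ : Set S) := by
    intro C hC hCZ hinf
    by_contra hne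
    have hlt : (⟨C, hC⟩ : TopologicalSpace.Closeds S) < Z₀ := by
      refine lt_of_le_of_ne hCZ ?_
      intro heq
      exact hne (congrArg (fun Z : TopologicalSpace.Closeds S => (Z : Set S)) heq)
    exact hmin ⟨C, hC⟩ hinf hlt
  -- Step 2: Z₀ is irreducible
  have hirr : IsIrreducible (Z₀ : Set S) := by
    refine ⟨(Set.Infinite.nonempty hZ₀).mono Set.inter_subset_right, ?_⟩
    rw [isPreirreducible_iff_isClosed_union_isClosed]
    intro z₁ z₂ hz₁ hz₂ hcov
    have hunion : T ∩ (Z₀ : Set S) = (T ∩ ((Z₀ : Set S) ∩ z₁)) ∪ (T ∩ ((Z₀ : Set S) ∩ z₂)) := by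
      ext x
      constructor
      · rintro ⟨hxT, hxZ⟩
        rcases hcov hxZ with h | h
        · exact Or.inl ⟨hxT, hxZ, h⟩
        · exact Or.inr ⟨hxT, hxZ, h⟩
      · rintro (⟨hxT, hxZ, _⟩ | ⟨hxT, hxZ, _⟩) <;> exact ⟨hxT, hxZ⟩
    have hinf : (T ∩ ((Z₀ : Set S) ∩ z₁)).Infinite ∨ (T ∩ ((Z₀ : Set S) ∩ z₂)).Infinite := by
      by_contra hcon
      push Not at hcon
      apply hZ₀
      change (T ∩ (Z₀ : Set S)).Finite
      rw [hunion]
      exact hcon.1.union hcon.2
    rcases hinf with h | h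
    · left
      have := hmin' _ (Z₀.2.inter hz₁) Set.inter_subset_left h
      exact Set.inter_eq_left.mp this
    · right
      have := hmin' _ (Z₀.2.inter hz₂) Set.inter_subset_left h
      exact Set.inter_eq_left.mp this
  -- Step 3: the generic point
  have hη : IsGenericPoint hirr.genericPoint (Z₀ : Set S) :=
    hirr.isGenericPoint_genericPoint Z₀.2
  set η := hirr.genericPoint with hηdef
  let T₁ : Set S := (T ∩ (Z₀ : Set S)) \ {η}
  have hT₁inf : T₁.Infinite := hZ₀.sdiff (Set.finite_singleton η)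
  -- Step 4: each point of T₁ has finitely many specializations in T
  have hfin : ∀ a ∈ T₁, (T ∩ closure {a}).Finite := by
    intro a ha
    by_contra hinf
    have hsub : closure {a} ⊆ (Z₀ : Set S) :=
      closure_minimal (Set.singleton_subset_iff.mpr ha.1.2) Z₀.2
    have heq := hmin' _ isClosed_closure hsub hinf
    have hgen : IsGenericPoint a (Z₀ : Set S) := heq
    exact ha.2 (hgen.eq hη)
  -- Step 5: the maximal points of T₁
  let M : Set S := {a ∈ T₁ | ∀ b ∈ T₁, b ⤳ a → b = a}
  refine ⟨M, fun a ha => ha.1.1.1, ?_, ?_⟩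
  · intro hMfin
    have hMfin' : M.Finite := hMfin
    apply hT₁inf
    have hcover : T₁ ⊆ ⋃ m ∈ M, T ∩ closure {m} := by
      intro t ht
      obtain ⟨t₀, ht₀, hmax, hsp⟩ := Groth.Agent.S9793.result S T₁ t ht
      refine Set.mem_biUnion (⟨ht₀, hmax⟩ : t₀ ∈ M) ⟨ht.1.1, ?_⟩
      exact specializes_iff_mem_closure.mp hsp
    refine Set.Finite.subset ?_ hcover
    exact hMfin'.biUnion fun m hm => hfin m hm.1
  · intro a ha b hb hab
    exact hb.2 a ha.1 hab

end Groth.Agent.S9792
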