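import Groth.Statements.S9794
import Groth.Agent.S9793
import Mathlib.Topology.NoetherianSpace
import Mathlib.Topology.Sober
import Mathlib.AlgebraicGeometry.Noetherian

set_option autoImplicit false
universe u
open CategoryTheory AlgebraicGeometry TopologicalSpace
open Props

namespace Groth.Agent.S9794

theorem key {X : Type*} [TopologicalSpace X] [NoetherianSpace X] [QuasiSober X] (T : Set X)
    (E' : Set X) (hE' : E'.Countable)
    (hgood : ∀ e ∈ E', ∃ E : Set X, E ⊆ T ∧ E.Countable ∧ closure E = closure {e}) :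
    ∃ F : Set X, F.Finite ∧
      (∀ ξ ∈ F, ∃ E : Set X, E ⊆ T ∧ E.Countable ∧ closure E = closure {ξ}) ∧
      E' ⊆ closure F := by
  classical
  rcases isEmpty_or_nonempty X with hX | hX
  · exact ⟨∅, Set.finite_empty, fun ξ hξ => hξ.elim, fun e _ => (hX.false e).elim⟩
  obtain ⟨S, hSfin, hScl, hSirr, hS⟩ :=
    NoetherianSpace.exists_finite_set_isClosed_irreducible (isClosed_closure (s := E'))
  choose! Ef hEfT hEfc hEfcl using hgood
  have hgen : ∀ Z ∈ S, ∃ ξ, closure {ξ} = Z :=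
    fun Z hZ => QuasiSober.sober (hSirr Z hZ) (hScl Z hZ)
  choose! ξ hξ using hgen
  let S' : Set (Set X) := {Z | Maximal (· ∈ S) Z}
  have hS'S : S' ⊆ S := fun Z hZ => hZ.1
  refine ⟨ξ '' S', (hSfin.subset hS'S).image ξ, ?_, ?_⟩
  · rintro _ ⟨Z, hZ, rfl⟩
    have hZS : Z ∈ S := hZ.1
    have hEZ : closure (⋃ e ∈ E' ∩ Z, Ef e) ⊆ Z := by
      apply closure_minimal _ (hScl Z hZS)
      intro x hx
      simp only [Set.mem_iUnion] at hx
      obtain ⟨e, he, hxe⟩ := hx
      have : x ∈ closure {e} := by rw [← hEfcl e he.1]; exact subset_closure hxe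
      exact closure_minimal (Set.singleton_subset_iff.mpr he.2) (hScl Z hZS) this
    have hN : E' ∩ Z ⊆ closure (⋃ e ∈ E' ∩ Z, Ef e) := by
      intro e he
      have : e ∈ closure (Ef e) := by rw [hEfcl e he.1]; exact subset_closure rfl
      exact closure_mono (Set.subset_biUnion_of_mem (u := fun e => Ef e) he) this
    refine ⟨⋃ e ∈ E' ∩ Z, Ef e, Set.iUnion₂_subset fun e he => hEfT e he.1,
      (hE'.mono Set.inter_subset_left).biUnion fun e he => hEfc e he.1, ?_⟩
    rw [hξ Z hZS]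
    apply subset_antisymm hEZ
    have hzZ : ξ Z ∈ Z := by
      have : ξ Z ∈ closure {ξ Z} := subset_closure rfl
      rwa [hξ Z hZS] at this
    have hzW : ξ Z ∈ closure E' := by rw [hS]; exact ⟨Z, hZS, hzZ⟩
    have hsub : E' ⊆ closure (⋃ e ∈ E' ∩ Z, Ef e) ∪ ⋃ Z' ∈ S \ {Z}, Z' := by
      intro e he
      by_cases heZ : e ∈ Z
      · exact Or.inl (hN ⟨he, heZ⟩)
      · have : e ∈ ⋃₀ S := by rw [← hS]; exact subset_closure he
        obtain ⟨Z', hZ', heZ'⟩ := this
        refine Or.inr (Set.mem_biUnion (⟨hZ', ?_⟩ : Z' ∈ S \ {Z}) heZ')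
        intro hZZ'
        rw [Set.mem_singleton_iff] at hZZ'
        rw [hZZ'] at heZ'
        exact heZ heZ'
    have hclosed : IsClosed (closure (⋃ e ∈ E' ∩ Z, Ef e) ∪ ⋃ Z' ∈ S \ {Z}, Z') :=
      isClosed_closure.union
        ((hSfin.subset Set.sdiff_subset).isClosed_biUnion fun Z' hZ' => hScl Z' hZ'.1)
    rcases closure_minimal hsub hclosed hzW with h | h
    · have h' : closure {ξ Z} ⊆ closure (⋃ e ∈ E' ∩ Z, Ef e) :=
        closure_minimal (Set.singleton_subset_iff.mpr h) isClosed_closure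
      rwa [hξ Z hZS] at h'
    · exfalso
      simp only [Set.mem_iUnion] at h
      obtain ⟨Z', hZ', hz⟩ := h
      have hle : Z ⊆ Z' := by
        rw [← hξ Z hZS]
        exact closure_minimal (Set.singleton_subset_iff.mpr hz) (hScl Z' hZ'.1)
      have hge : Z' ⊆ Z := hZ.2 hZ'.1 hle
      exact hZ'.2 (Set.mem_singleton_iff.mpr (subset_antisymm hge hle))
  · intro e he
    have : e ∈ ⋃₀ S := by rw [← hS]; exact subset_closure he
    obtain ⟨Z₀, hZ₀, heZ₀⟩ := this
    obtain ⟨Z, hZ₀Z, hZmax⟩ := hSfin.exists_le_maximal hZ₀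
    have hZS : Z ∈ S := hZmax.1
    have : e ∈ closure {ξ Z} := by rw [hξ Z hZS]; exact hZ₀Z heZ₀
    exact closure_mono (Set.singleton_subset_iff.mpr (show ξ Z ∈ ξ '' S' from ⟨Z, hZmax, rfl⟩)) this


/-- In a Noetherian scheme, an infinite dense set of points contains a countable subset which is dense. -/
theorem result (S : Scheme.{u}) [IsNoetherian S]
    (T : Set S) (hT : T.Infinite) (hd : Dense T) :
    ∃ E : Set S, E ⊆ T ∧ E.Countable ∧ Dense E := by
  classical
  let T' : Set S := {s | ∃ E : Set S, E ⊆ T ∧ E.Countable ∧ closure E = closure {s}}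
  have hTT' : T ⊆ T' := fun t ht =>
    ⟨{t}, Set.singleton_subset_iff.mpr ht, Set.countable_singleton t, rfl⟩
  let T₀ : Set S := {s | s ∈ T' ∧ ∀ t' ∈ T', t' ⤳ s → t' = s}
  have hT₀ : ∀ t ∈ T', ∃ t₀ ∈ T₀, t₀ ⤳ t := by
    intro t ht
    obtain ⟨t₀, h1, h2, h3⟩ := Groth.Agent.S9793.result S T' t ht
    exact ⟨t₀, ⟨h1, h2⟩, h3⟩
  have hfin : T₀.Finite := by
    by_contra hinf
    have hinf' : T₀.Infinite := hinf
    let emb := hinf'.natEmbedding
    let E' : Set S := Set.range (fun n => (emb n : S))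
    have hE'c : E'.Countable := Set.countable_range _
    have hE'T₀ : E' ⊆ T₀ := by rintro _ ⟨n, rfl⟩; exact (emb n).2
    have hE'inf : E'.Infinite :=
      Set.infinite_range_of_injective (Subtype.val_injective.comp emb.injective)
    obtain ⟨F, hFfin, hFgood, hE'F⟩ := key T E' hE'c (fun e he => (hE'T₀ he).1)
    apply hE'inf
    refine hFfin.subset fun e he => ?_
    have h1 : e ∈ closure F := hE'F he
    have h2 : closure F = ⋃ ξ ∈ F, closure {ξ} := by
      rw [← hFfin.closure_biUnion]; simp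
    rw [h2] at h1
    simp only [Set.mem_iUnion] at h1
    obtain ⟨ξ, hξF, hξ⟩ := h1
    have hsp : ξ ⤳ e := specializes_iff_mem_closure.mpr hξ
    have := (hE'T₀ he).2 ξ (hFgood ξ hξF) hsp
    rw [← this]; exact hξF
  have hch : ∀ s ∈ T₀, ∃ E : Set S, E ⊆ T ∧ E.Countable ∧ closure E = closure {s} :=
    fun s hs => hs.1
  choose! Ef h1 h2 h3 using hch
  refine ⟨⋃ s ∈ T₀, Ef s, Set.iUnion₂_subset h1, hfin.countable.biUnion h2, ?_⟩
  rw [dense_iff_closure_eq, ← Set.univ_subset_iff, ← hd.closure_eq]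
  apply closure_minimal _ isClosed_closure
  intro t ht
  obtain ⟨t₀, ht₀, hsp⟩ := hT₀ t (hTT' ht)
  have : t ∈ closure {t₀} := specializes_iff_mem_closure.mp hsp
  rw [← h3 t₀ ht₀] at this
  exact closure_mono (Set.subset_biUnion_of_mem (u := fun s => Ef s) ht₀) this

end Groth.Agent.S9794
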