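import Groth.Statements.S9796
import Groth.Agent.H49.ZeroDim

set_option autoImplicit false
universe u
open CategoryTheory AlgebraicGeometry TopologicalSpace
open Props

namespace Groth.Agent.S9796

/-- (2) implies (3) with the complement on connected components: a separated scheme of dimension at most
zero is Hausdorff and totally disconnected. -/
theorem result (X : Scheme.{u}) [X.IsSeparated]
    (h : topologicalKrullDim X ≤ 0) : T2Space X ∧ TotallyDisconnectedSpace X := by
  have hT2 : T2Space X := Groth.Agent.H49.t2Space_of_quasiSeparated h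
  refine ⟨hT2, ?_⟩
  have hts : TotallySeparatedSpace X := by
    rw [totallySeparatedSpace_iff_exists_isClopen]
    intro x y hxy
    have hopen : IsOpen ({y}ᶜ : Set X) := isOpen_compl_singleton
    obtain ⟨_, ⟨W, hW, rfl⟩, hxW, hWy⟩ :=
      X.isBasis_affineOpens.exists_subset_of_mem_open (show x ∈ ({y}ᶜ : Set X) from hxy) hopen
    refine ⟨W, ⟨(IsAffineOpen.isCompact hW).isClosed, W.2⟩, hxW, ?_⟩
    intro hyW
    exact hWy hyW rfl
  infer_instance

end Groth.Agent.S9796
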