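import Groth.Statements.S9798
import Mathlib.AlgebraicGeometry.Artinian

set_option autoImplicit false
universe u
open CategoryTheory AlgebraicGeometry TopologicalSpace
open Props

namespace Groth.Agent.S9798

/-- A point of a locally Noetherian scheme has local dimension zero exactly when it is isolated. -/
theorem result (X : Scheme.{u}) [IsLocallyNoetherian X] (x : X) :
    FlatMor.localDim X x = 0 ↔ IsOpen ({x} : Set X) := by
  unfold FlatMor.localDim
  constructor
  · intro h
    have hlt : (⨅ U : {U : TopologicalSpace.Opens X // x ∈ U}, topologicalKrullDim (U.1 : Set X)) < 1 := by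
      rw [h]; exact zero_lt_one
    obtain ⟨⟨U, hxU⟩, hU⟩ := iInf_lt_iff.mp hlt
    have hU0 : topologicalKrullDim (U : Set X) ≤ 0 := by
      change topologicalKrullDim (U : Set X) < 1 at hU
      revert hU
      generalize topologicalKrullDim (U : Set X) = d
      intro hd
      induction d with
      | bot => exact bot_le
      | coe d =>
        have hd' : d < 1 := by exact_mod_cast hd
        have : d = 0 := Order.lt_one_iff.mp hd'
        subst this
        exact le_rfl
    have hart : IsLocallyArtinian (U : Scheme.{u}) :=
      IsLocallyArtinian.of_topologicalKrullDim_le_zero hU0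
    have hdisc : DiscreteTopology (U : Scheme.{u}) := inferInstance
    have hopen : IsOpen ({⟨x, hxU⟩} : Set U) := isOpen_discrete _
    have := U.2.isOpenMap_subtype_val _ hopen
    convert this using 1
    ext y
    constructor
    · intro hy
      exact ⟨⟨x, hxU⟩, rfl, hy.symm⟩
    · rintro ⟨z, hz, rfl⟩
      rw [hz]
      rfl
  · intro h
    apply le_antisymm
    · refine (iInf_le _ (⟨⟨{x}, h⟩, Set.mem_singleton x⟩ : {U : TopologicalSpace.Opens X // x ∈ U})).trans ?_
      have : DiscreteTopology (({x} : Set X)) := inferInstance
      exact topologicalKrullDim_zero_of_discreteTopology _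
    · refine le_iInf fun ⟨U, hxU⟩ => ?_
      have : Nonempty (TopologicalSpace.IrreducibleCloseds (U : Set X)) :=
        ⟨⟨closure {⟨x, hxU⟩}, isIrreducible_singleton.closure, isClosed_closure⟩⟩
      exact Order.krullDim_nonneg

end Groth.Agent.S9798
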