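import Groth.Statements.S9800
import Groth.Agent.H54.Curve2

set_option autoImplicit false
universe u
open CategoryTheory AlgebraicGeometry TopologicalSpace
open Props

namespace Groth.Agent.S9800

/-- A locally Noetherian normal scheme of dimension at most one is regular, that is, all of its local
rings are regular local rings. -/
theorem result (X : Scheme.{u})
    [IsLocallyNoetherian X] (hN : Pi1.IsNormalScheme X) (hd : topologicalKrullDim X ≤ 1) (x : X) :
    IsRegularLocalRing (X.presheaf.stalk x) := by
  haveI := (hN x).1
  have hdim : ringKrullDim (X.presheaf.stalk x) ≤ 1 :=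
    (H54.ringKrullDim_stalk_le_topologicalKrullDim X x).trans hd
  have hv := H54.valuationRing_of_ringKrullDim_le_one (X.presheaf.stalk x) (hN x).2 hdim
  haveI : IsPrincipalIdealRing (X.presheaf.stalk x) :=
    ((tfae_of_isNoetherianRing_of_isLocalRing_of_isDomain (X.presheaf.stalk x)).out 1 0).mp hv
  infer_instance

end Groth.Agent.S9800
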