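import Groth.Statements.S9801
import Groth.Agent.H71.StalkLoc
import Groth.Agent.H71.DimFun2
import Groth.Agent.S0601

set_option autoImplicit false
universe u
open CategoryTheory AlgebraicGeometry TopologicalSpace
open Props

namespace Groth.Agent.S9801

open Groth.Agent.H71.DimFun in
theorem ringKrullDim_stalk_le (X : Scheme.{u}) (x : X) :
    ringKrullDim (X.presheaf.stalk x) ≤ topologicalKrullDim X := by
  let f : PrimeSpectrum (X.presheaf.stalk x) → (IrreducibleCloseds X)ᵒᵈ := fun r =>
    OrderDual.toDual (clIrr (X.fromSpecStalk x r))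
  have hf : StrictMono f := by
    intro r r' hlt
    change clIrr (X.fromSpecStalk x r') < clIrr (X.fromSpecStalk x r)
    rw [lt_iff_le_not_ge, clIrr_le_iff, clIrr_le_iff, fromSpecStalk_specializes_iff,
      fromSpecStalk_specializes_iff]
    exact ⟨hlt.le, not_le_of_gt hlt⟩
  calc ringKrullDim (X.presheaf.stalk x) = Order.krullDim (PrimeSpectrum (X.presheaf.stalk x)) := rfl
    _ ≤ Order.krullDim (IrreducibleCloseds X)ᵒᵈ := Order.krullDim_le_of_strictMono f hf
    _ = Order.krullDim (IrreducibleCloseds X) := Order.krullDim_orderDual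
    _ = topologicalKrullDim X := rfl

/-- A normal Noetherian local domain of dimension at most two is Cohen–Macaulay. -/
theorem isCM_of_normal_of_dim_le_two (A : Type u) [CommRing A] [IsNoetherianRing A] [IsLocalRing A]
    [IsDomain A] [IsIntegrallyClosed A] (hdim : ringKrullDim A ≤ 2) :
    LocCoh.IsCohenMacaulayLocalRing A := by
  have hS : LocCoh.HasRk 1 A ∧ LocCoh.HasSk 2 A A := (Groth.Agent.S0601.result A).mp
    (fun p _ => ⟨IsLocalization.isDomain_of_le_nonZeroDivisors (Localization.AtPrime p) p.primeCompl_le_nonZeroDivisors,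
      isIntegrallyClosed_of_isLocalization (Localization.AtPrime p) p.primeCompl
        p.primeCompl_le_nonZeroDivisors⟩)
  have hm := hS.2 (IsLocalRing.maximalIdeal A)
  have e1 := Groth.Agent.H29.DepthFinite.selfEquiv (IsLocalRing.maximalIdeal A).primeCompl
  have hsd : Module.supportDim (Localization.AtPrime (IsLocalRing.maximalIdeal A))
      (LocalizedModule (IsLocalRing.maximalIdeal A).primeCompl A) = ringKrullDim A := by
    rw [Module.supportDim_eq_of_equiv e1, Module.supportDim_self_eq_ringKrullDim,
      IsLocalization.AtPrime.ringKrullDim_eq_height (IsLocalRing.maximalIdeal A),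
      IsLocalRing.maximalIdeal_height_eq_ringKrullDim]
  have hdep : LocCoh.depth (Localization.AtPrime (IsLocalRing.maximalIdeal A))
      (LocalizedModule (IsLocalRing.maximalIdeal A).primeCompl A) =
      LocCoh.depth (Localization.AtPrime (IsLocalRing.maximalIdeal A))
        (Localization.AtPrime (IsLocalRing.maximalIdeal A)) :=
    Groth.Agent.H15.DepthSpread.idealDepth_congr e1
  rw [hsd, hdep] at hm
  have hmin : min ((2 : ℕ) : WithBot ℕ∞) (ringKrullDim A) = ringKrullDim A :=
    min_eq_right (by exact_mod_cast hdim)
  rw [hmin] at hm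
  have hCMm : LocCoh.IsCohenMacaulayLocalRing (Localization.AtPrime (IsLocalRing.maximalIdeal A)) := by
    refine ⟨le_antisymm ?_ Groth.Agent.H29.CM.depth_le_supportDim⟩
    rw [Module.supportDim_self_eq_ringKrullDim,
      IsLocalization.AtPrime.ringKrullDim_eq_height (IsLocalRing.maximalIdeal A),
      IsLocalRing.maximalIdeal_height_eq_ringKrullDim]
    exact hm
  exact Groth.Agent.H71.StalkLoc.isCM_of_ringEquiv
    (IsLocalization.atUnits A (IsLocalRing.maximalIdeal A).primeCompl
      (S := Localization.AtPrime (IsLocalRing.maximalIdeal A))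
      (fun a ha => IsLocalRing.notMem_maximalIdeal.mp ha)).toRingEquiv hCMm

end Groth.Agent.S9801

namespace Groth.Agent.S9801

/-- A locally Noetherian normal scheme of dimension at most two is Cohen-Macaulay, that is, all of its
local rings are Cohen-Macaulay local rings. -/
theorem result (X : Scheme.{u})
    [IsLocallyNoetherian X] (hN : Pi1.IsNormalScheme X) (hd : topologicalKrullDim X ≤ 2) (x : X) :
    LocCoh.IsCohenMacaulayLocalRing (X.presheaf.stalk x) := by
  obtain ⟨hdom, hic⟩ := hN x
  haveI := hdom
  haveI := hic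
  exact isCM_of_normal_of_dim_le_two _ (le_trans (ringKrullDim_stalk_le X x) hd)

end Groth.Agent.S9801
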