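import Groth.Statements.S9835
import Mathlib
import Groth.Agent.S9392
import Groth.Agent.S9394

set_option autoImplicit false
universe u
open CategoryTheory AlgebraicGeometry TopologicalSpace
open Props

namespace Groth.Agent.S9835

/-- If an integral scheme has an affine open covering by spectra of Japanese (N-2) domains, then the
coordinate ring of every nonempty affine open is a Japanese domain. -/
theorem result (X : Scheme.{u}) [IsIntegral X] {ι : Type u}
    (U : ι → X.Opens) [∀ i, Nonempty (U i)] (hU : iSup U = ⊤) (haff : ∀ i, IsAffineOpen (U i))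
    (hJ : ∀ i, CAlg.IsN2 Γ(X, U i)) (V : X.Opens) [Nonempty V] (hV : IsAffineOpen V) :
    CAlg.IsN2 Γ(X, V) := by
  let P : X.affineOpens → Prop := fun W => ∀ [Nonempty W.1], CAlg.IsN2 Γ(X, W.1)
  have key : P ⟨V, hV⟩ := by
    refine of_affine_open_cover (P := P) (fun i => (⟨U i, haff i⟩ : X.affineOpens)) hU ⟨V, hV⟩
      ?_ ?_ ?_
    · intro W f hW hne
      have hne' : Nonempty (X.basicOpen f) := hne
      haveI : Nonempty W.1 := ⟨⟨hne'.some.1, X.basicOpen_le f hne'.some.2⟩⟩
      haveI := W.2.isLocalization_basicOpen f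
      exact Groth.Agent.S9392.result Γ(X, W.1) (Submonoid.powers f) Γ(X, X.basicOpen f) hW
    · intro W s hs hP hne
      let ι' : Type u := {g : s // g.1 ≠ 0}
      have hf' : Ideal.span (Set.range (fun g : ι' => g.1.1)) = ⊤ := by
        rw [eq_top_iff, ← hs]
        refine Ideal.span_le.mpr ?_
        intro x hx
        by_cases hx0 : x = 0
        · rw [hx0]; exact Ideal.zero_mem _
        · exact Ideal.subset_span ⟨⟨⟨x, hx⟩, hx0⟩, rfl⟩
      have hne2 : ∀ g : ι', Nonempty (X.basicOpen g.1.1) := by
        intro g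
        have h1 : X.basicOpen g.1.1 ≠ ⊥ := fun h0 => g.2 ((basicOpen_eq_bot_iff g.1.1).mp h0)
        exact (Opens.ne_bot_iff_nonempty _).mp h1 |>.to_subtype
      haveI hloc : ∀ g : ι', IsLocalization.Away g.1.1 Γ(X, X.basicOpen g.1.1) :=
        fun g => W.2.isLocalization_basicOpen g.1.1
      have h' : ∀ g : ι', CAlg.IsN2 Γ(X, X.basicOpen g.1.1) := by
        intro g
        haveI := hne2 g
        exact @hP g.1 (hne2 g)
      exact Groth.Agent.S9394.result Γ(X, W.1) (ι := ι') (fun g => g.1.1) hf'
        (fun g => Γ(X, X.basicOpen g.1.1)) h'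
    · intro i hne
      exact hJ i
  exact key

end Groth.Agent.S9835
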