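import Groth.Statements.S9802
import Groth.Agent.S9835
import Groth.Agent.H11.NagataBasic
import Groth.Agent.H11.NagataFT
import Groth.Agent.H11.MvPSN2
import Groth.Agent.H73.ClosureProperBase

set_option autoImplicit false
universe u
open CategoryTheory AlgebraicGeometry TopologicalSpace
open Props

namespace Groth.Agent.S9802

/-- A locally Noetherian scheme is Nagata (every affine open has a Nagata coordinate ring) if and only
if every integral closed subscheme is Japanese (every nonempty affine open of it has an N-2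
coordinate ring). -/
theorem result (X : Scheme.{u})
    [IsLocallyNoetherian X] :
    (∀ U : X.Opens, IsAffineOpen U → CAlg.IsNagata Γ(X, U)) ↔
      ∀ (Z : Scheme.{u}) (i : Z ⟶ X) [IsClosedImmersion i] [IsIntegral Z]
        (V : Z.Opens) [Nonempty V], IsAffineOpen V → CAlg.IsN2 Γ(Z, V) := by
  constructor
  · intro hX Z i _ _ V _ hV
    -- cover `Z` by preimages of affine opens of `X` which meet `Z`
    let ι := {W : X.affineOpens // Nonempty (i ⁻¹ᵁ (W : X.Opens))}
    let U : ι → Z.Opens := fun W => i ⁻¹ᵁ (W.1 : X.Opens)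
    haveI : ∀ j : ι, Nonempty (U j) := fun j => j.2
    have hcov : iSup U = ⊤ := by
      rw [eq_top_iff]
      intro z _
      obtain ⟨_, ⟨W, hW, rfl⟩, hzW, -⟩ :=
        X.isBasis_affineOpens.exists_subset_of_mem_open (Set.mem_univ (i z)) isOpen_univ
      exact Opens.mem_iSup.mpr ⟨⟨⟨W, hW⟩, ⟨⟨z, hzW⟩⟩⟩, hzW⟩
    have haff : ∀ j : ι, IsAffineOpen (U j) := fun j => j.1.2.preimage i
    have hJ : ∀ j : ι, CAlg.IsN2 Γ(Z, U j) := by
      intro j
      have h1 : CAlg.IsNagata Γ(X, (j.1 : X.Opens)) := hX _ j.1.2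
      have h2 : CAlg.IsNagata Γ(Z, U j) :=
        Groth.Agent.H11.NagataBasic.isNagata_of_surjective (i.app (j.1 : X.Opens)).hom
          (i.app_surjective _ j.1.2) h1
      exact Groth.Agent.H11.NagataFT.isN2_of_isNagata_domain _ h2
    exact Groth.Agent.S9835.result Z U hcov haff hJ V hV
  · intro h U hU
    haveI hnoeth : IsNoetherianRing Γ(X, U) := IsLocallyNoetherian.component_noetherian ⟨U, hU⟩
    refine ⟨hnoeth, fun p hp => ?_⟩
    haveI := hp
    let z : X := hU.fromSpec ⟨p, hp⟩
    have hzU : z ∈ U := by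
      have : z ∈ Set.range hU.fromSpec := Set.mem_range_self _
      rwa [hU.range_fromSpec] at this
    let I := Groth.Agent.H73.ClosureProper.clI X z
    have hI : I.ideal ⟨U, hU⟩ = p := by
      change (Scheme.IdealSheafData.vanishingIdeal ⟨closure {z}, isClosed_closure⟩).ideal ⟨U, hU⟩ = p
      rw [Scheme.IdealSheafData.vanishingIdeal_ideal]
      have hpre : hU.fromSpec ⁻¹' {z} = {(⟨p, hp⟩ : PrimeSpectrum Γ(X, U))} := by
        ext q
        simp only [Set.mem_preimage, Set.mem_singleton_iff]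
        constructor
        · intro hq
          exact hU.fromSpec.isOpenEmbedding.injective hq
        · intro hq
          rw [hq]
      have hcl : hU.fromSpec ⁻¹' closure {z} = closure {(⟨p, hp⟩ : PrimeSpectrum Γ(X, U))} :=
        (hU.fromSpec.isOpenEmbedding.isOpenMap.preimage_closure_eq_closure_preimage
          hU.fromSpec.continuous {z}).trans (congrArg closure hpre)
      exact (congrArg PrimeSpectrum.vanishingIdeal hcl).trans
        (by rw [PrimeSpectrum.vanishingIdeal_closure, PrimeSpectrum.vanishingIdeal_singleton])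
    haveI : Nonempty ((Groth.Agent.H73.ClosureProper.clι X z) ⁻¹ᵁ U) := by
      have hz : z ∈ Set.range (Groth.Agent.H73.ClosureProper.clι X z) := by
        rw [Groth.Agent.H73.ClosureProper.range_clι]; exact subset_closure rfl
      obtain ⟨w, hw⟩ := hz
      exact ⟨⟨w, by change (Groth.Agent.H73.ClosureProper.clι X z) w ∈ U; rw [hw]; exact hzU⟩⟩
    have hN2 : CAlg.IsN2 Γ(Groth.Agent.H73.ClosureProper.clS X z,
        (Groth.Agent.H73.ClosureProper.clι X z) ⁻¹ᵁ U) :=
      h _ (Groth.Agent.H73.ClosureProper.clι X z) _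
        (hU.preimage (Groth.Agent.H73.ClosureProper.clι X z))
    let e0 : Γ(Groth.Agent.H73.ClosureProper.clS X z,
        (Groth.Agent.H73.ClosureProper.clι X z) ⁻¹ᵁ U) ≃+* (Γ(X, U) ⧸ I.ideal ⟨U, hU⟩) :=
      (I.subschemeObjIso ⟨U, hU⟩).commRingCatIsoToRingEquiv
    let e : Γ(Groth.Agent.H73.ClosureProper.clS X z,
        (Groth.Agent.H73.ClosureProper.clι X z) ⁻¹ᵁ U) ≃+* (Γ(X, U) ⧸ p) :=
      e0.trans (Ideal.quotEquivOfEq hI)
    haveI : IsNoetherianRing Γ(Groth.Agent.H73.ClosureProper.clS X z,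
        (Groth.Agent.H73.ClosureProper.clι X z) ⁻¹ᵁ U) :=
      isNoetherianRing_of_ringEquiv _ e.symm
    exact Groth.Agent.H11.MvPSN2.isN2_of_ringEquiv e hN2

end Groth.Agent.S9802
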