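import Groth.Statements.S9804
import Mathlib

set_option autoImplicit false
universe u
open CategoryTheory AlgebraicGeometry TopologicalSpace
open Props

namespace Groth.Agent.S9804

open CategoryTheory.Limits TopologicalSpace

lemma mem_range_toSpecΓ (X : Scheme.{u}) [CompactSpace X] [QuasiSeparatedSpace X] (r : Γ(X, ⊤))
    (hr : IsAffineOpen (X.basicOpen r)) (x : Spec Γ(X, ⊤))
    (hx : x ∈ (PrimeSpectrum.basicOpen r : Set (PrimeSpectrum Γ(X, ⊤)))) :
    x ∈ Set.range X.toSpecΓ := by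
  haveI := isLocalization_basicOpen_of_qcqs (X := X) (U := ⊤) isCompact_univ
    isQuasiSeparated_univ r
  have h1 : Set.range (PrimeSpectrum.comap (algebraMap Γ(X, ⊤) Γ(X, X.basicOpen r))) =
      (PrimeSpectrum.basicOpen r : Set (PrimeSpectrum Γ(X, ⊤))) :=
    PrimeSpectrum.localization_away_comap_range _ r
  rw [← h1] at hx
  obtain ⟨y, rfl⟩ := hx
  have hy : hr.isoSpec.hom (hr.isoSpec.inv y) = y := by
    show (hr.isoSpec.inv ≫ hr.isoSpec.hom) y = y
    rw [Iso.inv_hom_id]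
    rfl
  refine ⟨(X.basicOpen r).ι (hr.isoSpec.inv y), ?_⟩
  have h2 := congrArg
    (fun k : (X.basicOpen r : Scheme.{u}) ⟶ Spec Γ(X, ⊤) => k (hr.isoSpec.inv y))
    (Scheme.Opens.toSpecΓ_SpecMap_presheaf_map_top (X.basicOpen r))
  have h3 : (X.basicOpen r).toSpecΓ (hr.isoSpec.inv y) = y := hy
  show X.toSpecΓ ((X.basicOpen r).ι (hr.isoSpec.inv y)) = _
  refine (h2.symm).trans ?_
  show (Spec.map (X.presheaf.map (homOfLE le_top).op))
    ((X.basicOpen r).toSpecΓ (hr.isoSpec.inv y)) = _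
  rw [h3]
  rfl


/-- For quasi-affine schemes U and V and an open immersion j : U → V, the scheme U is the fibre product
of the composite U → V → Spec Γ(V, O_V) and the morphism Spec Γ(U, O_U) → Spec Γ(V, O_V) induced by
restriction of sections along j: the square whose sides are the identity of U, the canonical
morphism U → Spec Γ(U, O_U), that composite and that induced morphism is cartesian. -/
theorem result {U V : Scheme.{u}} (j : U ⟶ V)
    [IsOpenImmersion j] [U.IsQuasiAffine] [V.IsQuasiAffine] :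
    IsPullback (𝟙 U) U.toSpecΓ (j ≫ V.toSpecΓ) (Spec.map j.appTop) := by
  have hcomm : 𝟙 U ≫ j ≫ V.toSpecΓ = U.toSpecΓ ≫ Spec.map j.appTop := by
    rw [Category.id_comp, Scheme.toSpecΓ_naturality]
  have hclaim : ∀ (x : Spec Γ(U, ⊤)) (u : U),
      (Spec.map j.appTop) x = (j ≫ V.toSpecΓ) u → x ∈ Set.range U.toSpecΓ := by
    intro x u hxu
    have hju : j u ∈ j.opensRange := ⟨u, rfl⟩
    obtain ⟨_, ⟨_, ⟨r, hr, rfl⟩, rfl⟩, hur, hrj⟩ :=
      (Scheme.IsQuasiAffine.isBasis_basicOpen V).exists_subset_of_mem_open hju j.opensRange.2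
    have hpre : U.basicOpen (j.appTop r) = j ⁻¹ᵁ V.basicOpen r :=
      (Scheme.preimage_basicOpen_top j r).symm
    have haff : IsAffineOpen (U.basicOpen (j.appTop r)) := by
      rw [hpre, ← Scheme.Hom.isAffineOpen_iff_of_isOpenImmersion j]
      have h0 : j ''ᵁ (j ⁻¹ᵁ V.basicOpen r) = V.basicOpen r :=
        SetLike.coe_injective (Set.image_preimage_eq_of_subset hrj)
      rw [h0]
      exact hr
    refine mem_range_toSpecΓ U (j.appTop r) haff x ?_
    have h1 : (Spec.map j.appTop) x ∈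
        (PrimeSpectrum.basicOpen r : Set (PrimeSpectrum Γ(V, ⊤))) := by
      rw [hxu]
      have h2 : j u ∈ V.toSpecΓ ⁻¹ᵁ (PrimeSpectrum.basicOpen r) := by
        rw [Scheme.toSpecΓ_preimage_basicOpen]
        exact hur
      exact h2
    exact h1
  have hinj : Function.Injective (j ≫ V.toSpecΓ) := (j ≫ V.toSpecΓ).isOpenEmbedding.injective
  obtain ⟨l, hl⟩ : ∃ l : U ⟶ Limits.pullback (j ≫ V.toSpecΓ) (Spec.map j.appTop),
      l = Limits.pullback.lift (𝟙 U) U.toSpecΓ hcomm := ⟨_, rfl⟩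
  have hl1 : l ≫ Limits.pullback.fst (j ≫ V.toSpecΓ) (Spec.map j.appTop) = 𝟙 U := by
    rw [hl]; exact Limits.pullback.lift_fst _ _ _
  have hl2 : l ≫ Limits.pullback.snd (j ≫ V.toSpecΓ) (Spec.map j.appTop) = U.toSpecΓ := by
    rw [hl]; exact Limits.pullback.lift_snd _ _ _
  haveI : IsOpenImmersion (l ≫ Limits.pullback.snd (j ≫ V.toSpecΓ) (Spec.map j.appTop)) := by
    rw [hl2]; infer_instance
  haveI : IsOpenImmersion l :=
    IsOpenImmersion.of_comp l (Limits.pullback.snd (j ≫ V.toSpecΓ) (Spec.map j.appTop))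
  have hsurj : Function.Surjective l := by
    intro z
    refine ⟨Limits.pullback.fst (j ≫ V.toSpecΓ) (Spec.map j.appTop) z, ?_⟩
    apply (Limits.pullback.snd (j ≫ V.toSpecΓ) (Spec.map j.appTop)).isOpenEmbedding.injective
    have hz : (Spec.map j.appTop) (Limits.pullback.snd (j ≫ V.toSpecΓ) (Spec.map j.appTop) z) =
        (j ≫ V.toSpecΓ) (Limits.pullback.fst (j ≫ V.toSpecΓ) (Spec.map j.appTop) z) := by
      have h0 := congrArg
        (fun k : Limits.pullback (j ≫ V.toSpecΓ) (Spec.map j.appTop) ⟶ Spec Γ(V, ⊤) => k z)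
        (Limits.pullback.condition (f := j ≫ V.toSpecΓ) (g := Spec.map j.appTop))
      exact h0.symm
    obtain ⟨u', hu'⟩ := hclaim _ _ hz
    have h5 : (j ≫ V.toSpecΓ) u' =
        (j ≫ V.toSpecΓ) (Limits.pullback.fst (j ≫ V.toSpecΓ) (Spec.map j.appTop) z) := by
      rw [← hz, ← hu']
      have h0 := congrArg (fun k : U ⟶ Spec Γ(V, ⊤) => k u') hcomm
      exact h0
    have h6 : u' = Limits.pullback.fst (j ≫ V.toSpecΓ) (Spec.map j.appTop) z := hinj h5
    show (l ≫ Limits.pullback.snd (j ≫ V.toSpecΓ) (Spec.map j.appTop))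
      (Limits.pullback.fst (j ≫ V.toSpecΓ) (Spec.map j.appTop) z) = _
    rw [hl2, ← h6, hu']
  haveI : IsIso l := (isIso_iff_isOpenImmersion_and_surjective l).mpr ⟨inferInstance, ⟨hsurj⟩⟩
  exact IsPullback.of_iso_pullback ⟨hcomm⟩ (asIso l) hl1 hl2

end Groth.Agent.S9804
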