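import Groth.Statements.S9806
import Groth.Agent.H8.LocFreeStalk

set_option autoImplicit false
universe u
open CategoryTheory AlgebraicGeometry TopologicalSpace
open Props

namespace Groth.Agent.S9806

/-- A quasi-coherent module on a scheme is of finite presentation with all stalks free over the local
rings if and only if it is finite locally free. -/
theorem result (X : Scheme.{u}) (M : X.Modules) (hM : Coh.IsQCoh M) :
    (CohB1.IsFP M ∧ ∀ x : X, Module.Free (X.presheaf.stalk x) (M.presheaf.stalk x)) ↔
      FlatMod.IsFinLocFree M := by
  haveI : M.IsQuasicoherent := hM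
  constructor
  · rintro ⟨hfp, hfree⟩ x
    haveI : SheafOfModules.IsFinitePresentation (R := X.ringCatSheaf) M := hfp
    obtain ⟨U, hU, hxU, -⟩ := exists_isAffineOpen_mem_and_subset (x := x)
      (U := (⊤ : X.Opens)) trivial
    haveI := Groth.Agent.H8.finitePresentation_sections_of_isAffineOpen M hU
    haveI : Module.Free (X.presheaf.stalk x) (M.presheaf.stalk x) := hfree x
    obtain ⟨f, hxf, n, hn⟩ :=
      Groth.Agent.H8.exists_basicOpen_restrict_iso_freeMod_of_free_stalk M hU x hxU
    exact ⟨X.basicOpen f, n, hxf, hn⟩
  · intro h
    refine ⟨?_, fun x => ?_⟩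
    · exact Groth.Agent.H8.isFinitePresentation_of_forall_affine_finitePresentation M
        (fun U => (Groth.Agent.H8.finitePresentation_projective_sections_of_isFinLocFree M h U.2).1)
    · obtain ⟨U, hU, hxU, -⟩ := exists_isAffineOpen_mem_and_subset (x := x)
        (U := (⊤ : X.Opens)) trivial
      obtain ⟨hfp, hproj⟩ :=
        Groth.Agent.H8.finitePresentation_projective_sections_of_isFinLocFree M h hU
      haveI := hproj
      haveI := hfp
      exact Groth.Agent.H8.free_stalk_of_finite_flat_sections M hU x hxU

end Groth.Agent.S9806
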