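import Groth.Statements.S9807
import Groth.Agent.H71.StalkLoc

set_option autoImplicit false
universe u
open CategoryTheory AlgebraicGeometry TopologicalSpace
open Props

namespace Groth.Agent.S9807

/-- A locally Noetherian scheme is regular (all local rings regular) as soon as its local rings at
closed points are regular, and conversely. -/
theorem result (X : Scheme.{u}) [IsLocallyNoetherian X] :
    (∀ x : X, IsRegularLocalRing (X.presheaf.stalk x)) ↔
      ∀ x : X, IsClosed ({x} : Set X) → IsRegularLocalRing (X.presheaf.stalk x) := by
  constructor
  · intro h x _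
    exact h x
  · intro h x
    obtain ⟨z, hxz, hzc⟩ := Groth.Agent.H71.StalkLoc.exists_closed_specialization X x
    obtain ⟨Γ, _, _, P, P', _, _, hle, ⟨ex⟩, ⟨ez⟩⟩ :=
      Groth.Agent.H71.StalkLoc.stalk_of_specializes X hxz
    haveI := h z hzc
    haveI : IsRegularLocalRing (Localization.AtPrime P') := IsRegularLocalRing.of_ringEquiv ez
    haveI := Groth.Agent.H71.RL.regular_of_le P P' hle
    exact IsRegularLocalRing.of_ringEquiv ex.symm

end Groth.Agent.S9807
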