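import Groth.Statements.S9808
import Groth.Agent.H71.StalkLoc

set_option autoImplicit false
universe u
open CategoryTheory AlgebraicGeometry TopologicalSpace
open Props

namespace Groth.Agent.S9808

/-- A locally Noetherian scheme is Cohen-Macaulay (all local rings Cohen-Macaulay) as soon as its local
rings at closed points are Cohen-Macaulay, and conversely. -/
theorem result (X : Scheme.{u}) [IsLocallyNoetherian X] :
    (∀ x : X, LocCoh.IsCohenMacaulayLocalRing (X.presheaf.stalk x)) ↔
      ∀ x : X, IsClosed ({x} : Set X) → LocCoh.IsCohenMacaulayLocalRing (X.presheaf.stalk x) := by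
  constructor
  · intro h x _
    exact h x
  · intro h x
    obtain ⟨z, hxz, hzc⟩ := Groth.Agent.H71.StalkLoc.exists_closed_specialization X x
    obtain ⟨Γ, _, _, P, P', _, _, hle, ⟨ex⟩, ⟨ez⟩⟩ :=
      Groth.Agent.H71.StalkLoc.stalk_of_specializes X hxz
    have h1 : LocCoh.IsCohenMacaulayLocalRing (Localization.AtPrime P') :=
      Groth.Agent.H71.StalkLoc.isCM_of_ringEquiv ez.symm (h z hzc)
    have h2 := Groth.Agent.H71.StalkLoc.isCM_of_le P P' hle h1
    exact Groth.Agent.H71.StalkLoc.isCM_of_ringEquiv ex h2

end Groth.Agent.S9808
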