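import Groth.Statements.S9809
import Groth.Agent.H47.PuncturedConn

set_option autoImplicit false
universe u
open CategoryTheory AlgebraicGeometry TopologicalSpace
open Props

namespace Groth.Agent.S9809

theorem exists_prime_ne_maximalIdeal (X : Scheme.{u}) (x : X)
    (hx : closure ({x} : Set X) ∉ irreducibleComponents X) :
    ∃ 𝔮 : Ideal (X.presheaf.stalk x), 𝔮.IsPrime ∧ 𝔮 ≠ IsLocalRing.maximalIdeal _ := by
  have hirr : IsIrreducible (closure ({x} : Set X)) := isIrreducible_singleton.closure
  obtain ⟨t, ht, hle, hnle⟩ : ∃ t, IsIrreducible t ∧ closure ({x} : Set X) ≤ t ∧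
      ¬ t ≤ closure ({x} : Set X) := by
    by_contra hcon
    push Not at hcon
    exact hx ⟨hirr, fun t ht hle => hcon t ht hle⟩
  have hη : closure ({ht.genericPoint} : Set X) = closure t := ht.genericPoint_closure_eq
  have hspec : ht.genericPoint ⤳ x := by
    rw [specializes_iff_mem_closure, hη]
    exact subset_closure (hle (subset_closure rfl))
  have hne : ht.genericPoint ≠ x := by
    intro h
    apply hnle
    rw [← h, hη]
    exact subset_closure
  have hmem : ht.genericPoint ∈ Set.range (X.fromSpecStalk x) := by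
    rw [Scheme.range_fromSpecStalk]
    exact hspec
  obtain ⟨𝔮, h𝔮⟩ := hmem
  refine ⟨(show PrimeSpectrum (X.presheaf.stalk x) from 𝔮).asIdeal,
    (show PrimeSpectrum (X.presheaf.stalk x) from 𝔮).isPrime, fun h => hne ?_⟩
  have h2 : 𝔮 = IsLocalRing.closedPoint (X.presheaf.stalk x) := PrimeSpectrum.ext h
  rw [← h𝔮, h2]
  exact Scheme.fromSpecStalk_closedPoint

theorem closure_notMem_irreducibleComponents (X : Scheme.{u}) {U : X.Opens} (hU : IsAffineOpen U)
    (y : PrimeSpectrum Γ(X, U)) (hy : y.asIdeal ∉ minimalPrimes Γ(X, U)) :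
    closure ({hU.fromSpec y} : Set X) ∉ irreducibleComponents X := by
  obtain ⟨p₀, hp₀, hp₀y⟩ := Ideal.exists_minimalPrimes_le (I := (⊥ : Ideal Γ(X, U)))
    (J := y.asIdeal) bot_le
  have hp₀p : p₀.IsPrime := hp₀.1.1
  let y₀ : PrimeSpectrum Γ(X, U) := ⟨p₀, hp₀p⟩
  have hne : ¬ y.asIdeal ≤ p₀ := fun h => hy (by rw [le_antisymm h hp₀y]; exact hp₀)
  have hspec : y₀ ⤳ y := (PrimeSpectrum.le_iff_specializes y₀ y).mp hp₀y
  have hspec' : hU.fromSpec y₀ ⤳ hU.fromSpec y := hspec.map hU.fromSpec.continuous
  have hnspec : ¬ hU.fromSpec y ⤳ hU.fromSpec y₀ := by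
    intro h
    have h2 : y ⤳ y₀ := (hU.fromSpec.isOpenEmbedding.isInducing.specializes_iff).mp h
    exact hne ((PrimeSpectrum.le_iff_specializes y y₀).mpr h2)
  intro hmax
  have hmax' : Maximal IsIrreducible (closure ({hU.fromSpec y} : Set X)) := hmax
  have hle : closure ({hU.fromSpec y} : Set X) ≤ closure {hU.fromSpec y₀} :=
    specializes_iff_closure_subset.mp hspec'
  have h3 := hmax'.2 (isIrreducible_singleton.closure) hle
  exact hnspec (specializes_iff_closure_subset.mpr h3)


/-- A Noetherian scheme is geometrically unibranch (all local rings geometrically unibranch) if and only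
if at every point which is not the generic point of an irreducible component, the punctured spectrum
of a strict henselization of the local ring is connected. -/
theorem result
    (X : Scheme.{u}) [IsNoetherian X] :
    (∀ x : X, CAlg2.IsGeomUnibranch (X.presheaf.stalk x)) ↔
      ∀ (x : X), closure ({x} : Set X) ∉ irreducibleComponents X →
        ∀ (Ash : Type u) [CommRing Ash] [IsLocalRing Ash] [Algebra (X.presheaf.stalk x) Ash]
          [IsLocalHom (algebraMap (X.presheaf.stalk x) Ash)]
          [Hensel.IsStrictHenselization (X.presheaf.stalk x) Ash],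
          ConnectedSpace ↥({IsLocalRing.closedPoint Ash}ᶜ : Set (PrimeSpectrum Ash)) := by
  constructor
  · intro hGU x hx Ash _ _ _ _ _
    obtain ⟨𝔮, h𝔮p, h𝔮⟩ := exists_prime_ne_maximalIdeal X x hx
    haveI := h𝔮p
    exact Groth.Agent.H47.PuncturedConn.connectedSpace_punctured (X.presheaf.stalk x) Ash
      (hGU x) 𝔮 h𝔮
  · intro H x
    obtain ⟨U, hU, hxU, -⟩ := exists_isAffineOpen_mem_and_subset (x := x) (U := ⊤) trivial
    haveI : IsNoetherianRing Γ(X, U) := IsLocallyNoetherian.component_noetherian ⟨U, hU⟩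
    have HR : ∀ (𝔭 : Ideal Γ(X, U)) [𝔭.IsPrime], 𝔭 ∉ minimalPrimes Γ(X, U) →
        ∀ (S : Type u) [CommRing S] [IsLocalRing S] [Algebra (Localization.AtPrime 𝔭) S]
          [IsLocalHom (algebraMap (Localization.AtPrime 𝔭) S)]
          [Hensel.IsStrictHenselization (Localization.AtPrime 𝔭) S],
          ConnectedSpace ↥({IsLocalRing.closedPoint S}ᶜ : Set (PrimeSpectrum S)) := by
      intro 𝔭 h𝔭p h𝔭 S _ _ _ _ _
      let y : PrimeSpectrum Γ(X, U) := ⟨𝔭, h𝔭p⟩
      have hz : hU.fromSpec y ∈ U := by
        have := Set.mem_range_self (f := hU.fromSpec) y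
        rw [hU.range_fromSpec] at this
        exact this
      have hcl := closure_notMem_irreducibleComponents X hU y h𝔭
      letI := TopCat.Presheaf.algebra_section_stalk X.presheaf ⟨hU.fromSpec y, hz⟩
      haveI hloc : IsLocalization.AtPrime (X.presheaf.stalk (hU.fromSpec y)) 𝔭 :=
        hU.isLocalization_stalk' y hz
      exact Groth.Agent.H47.PuncturedConn.connected_transport
        (IsLocalization.algEquiv 𝔭.primeCompl (X.presheaf.stalk (hU.fromSpec y))
          (Localization.AtPrime 𝔭)).toRingEquiv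
        (fun S' _ _ _ _ _ => H (hU.fromSpec y) hcl S') S
    have hGU := Groth.Agent.H47.PuncturedConn.isGeomUnibranch_atPrime Γ(X, U) HR
      (hU.primeIdealOf ⟨x, hxU⟩).asIdeal
    letI := TopCat.Presheaf.algebra_section_stalk X.presheaf ⟨x, hxU⟩
    haveI := hU.isLocalization_stalk ⟨x, hxU⟩
    exact Groth.Agent.H47.FieldBC.isGeomUnibranch_of_ringEquiv
      (IsLocalization.algEquiv (hU.primeIdealOf ⟨x, hxU⟩).asIdeal.primeCompl
        (X.presheaf.stalk x) (Localization.AtPrime (hU.primeIdealOf ⟨x, hxU⟩).asIdeal)).toRingEquiv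
      hGU

end Groth.Agent.S9809
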