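import Groth.Statements.S9810
import Groth.Agent.H47.HensCompletion
import Groth.Agent.S9237
import Groth.Agent.H47.Unibranch
import Groth.Agent.S13598

set_option autoImplicit false
universe u
open Brnch

namespace Groth.Agent.S9810

/-- Branches, in terms of the local ring: for a local ring A with finitely many minimal prime ideals,
the number of branches of A is the sum over the minimal primes p of the numbers of branches of the
local domains A/p. Geometrically: the number of branches of a scheme at a point is the sum of the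
numbers of branches at that point of the irreducible components passing through it. -/
theorem result (A : Type u) [CommRing A] [IsLocalRing A]
    (h : (minimalPrimes A).Finite) :
    Brnch.numBranches A =
      ∑ᶠ p : minimalPrimes A,
        haveI : p.1.IsPrime := p.2.1.1
        Brnch.numBranches (A ⧸ p.1) := by
  classical
  have hind := Groth.Agent.H47.HensNoeth.isIndEtaleLocal_of_isHenselization A
    (Groth.Agent.H47.Hens.Hloc A)
  haveI : Module.Flat A (Groth.Agent.H47.Hens.Hloc A) := hind.flat
  haveI : Module.FaithfullyFlat A (Groth.Agent.H47.Hens.Hloc A) := hind.faithfullyFlat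
  rw [← Groth.Agent.S9237.result A (Groth.Agent.H47.Hens.Hloc A)]
  let s : minimalPrimes A → Set (Ideal (Groth.Agent.H47.Hens.Hloc A)) := fun p =>
    (p.1.map (algebraMap A (Groth.Agent.H47.Hens.Hloc A))).minimalPrimes
  have hU : (⋃ p, s p) = minimalPrimes (Groth.Agent.H47.Hens.Hloc A) := by
    ext Q
    simp only [Set.mem_iUnion]
    constructor
    · rintro ⟨p, hQ⟩
      exact (Groth.Agent.H47.HensCompletion.minimalPrimes_map_subset p.2 hQ).1
    · intro hQ
      refine ⟨⟨Q.comap (algebraMap A (Groth.Agent.H47.Hens.Hloc A)),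
        Groth.Agent.H47.HensCompletion.comap_mem_minimalPrimes hQ⟩, ?_⟩
      exact ⟨⟨hQ.1.1, Ideal.map_comap_le⟩, fun Q' hQ' hle => hQ.2 ⟨hQ'.1, bot_le⟩ hle⟩
  have hdisj : Pairwise (Function.onFun Disjoint s) := by
    intro p₁ p₂ hne
    rw [Function.onFun, Set.disjoint_left]
    intro Q h1 h2
    apply hne
    apply Subtype.ext
    rw [← (Groth.Agent.H47.HensCompletion.minimalPrimes_map_subset p₁.2 h1).2,
      (Groth.Agent.H47.HensCompletion.minimalPrimes_map_subset p₂.2 h2).2]
  haveI : Finite (minimalPrimes A) := h.to_subtype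
  have h1 : ENat.card (minimalPrimes (Groth.Agent.H47.Hens.Hloc A)) =
      (minimalPrimes (Groth.Agent.H47.Hens.Hloc A)).encard := rfl
  rw [h1, ← hU, Set.encard_iUnion_of_finite hdisj]
  apply finsum_congr
  intro p
  haveI : p.1.IsPrime := p.2.1.1
  have hI : p.1 ≤ IsLocalRing.maximalIdeal A :=
    IsLocalRing.le_maximalIdeal (Ideal.IsPrime.ne_top inferInstance)
  have hJ : p.1.map (algebraMap A (Groth.Agent.H47.Hens.Hloc A)) ≤
      IsLocalRing.maximalIdeal (Groth.Agent.H47.Hens.Hloc A) :=
    Groth.Agent.H47.Unibranch.map_le_maximalIdeal A _ hI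
  haveI : IsLocalRing (Groth.Agent.H47.Hens.Hloc A ⧸
      p.1.map (algebraMap A (Groth.Agent.H47.Hens.Hloc A))) :=
    Groth.Agent.H47.Unibranch.isLocalRing_quotient _
      (fun h' => (IsLocalRing.maximalIdeal.isMaximal _).ne_top (top_le_iff.mp (h' ▸ hJ)))
  haveI : IsLocalHom (algebraMap (A ⧸ p.1) (Groth.Agent.H47.Hens.Hloc A ⧸
      p.1.map (algebraMap A (Groth.Agent.H47.Hens.Hloc A)))) :=
    Groth.Agent.H47.Unibranch.isLocalHom_quotient_map A _ _
  haveI : Hensel.IsHenselization (A ⧸ p.1) (Groth.Agent.H47.Hens.Hloc A ⧸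
      p.1.map (algebraMap A (Groth.Agent.H47.Hens.Hloc A))) :=
    Groth.Agent.S13598.result p.1 hI
  rw [← Groth.Agent.S9237.result (A ⧸ p.1) (Groth.Agent.H47.Hens.Hloc A ⧸
      p.1.map (algebraMap A (Groth.Agent.H47.Hens.Hloc A)))]
  have hsurj : Function.Surjective (Ideal.Quotient.mk
      (p.1.map (algebraMap A (Groth.Agent.H47.Hens.Hloc A)))) := Ideal.Quotient.mk_surjective
  have h2 := Ideal.comap_minimalPrimes_eq_of_surjective hsurj
    (⊥ : Ideal (Groth.Agent.H47.Hens.Hloc A ⧸
      p.1.map (algebraMap A (Groth.Agent.H47.Hens.Hloc A))))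
  rw [← RingHom.ker_eq_comap_bot, Ideal.mk_ker] at h2
  show ((p.1.map (algebraMap A (Groth.Agent.H47.Hens.Hloc A))).minimalPrimes).encard = _
  rw [h2, (Ideal.comap_injective_of_surjective _ hsurj).injOn.encard_image]
  rfl

end Groth.Agent.S9810
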