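import Groth.Statements.S9816
import Mathlib
import Groth.Agent.H22.ExtTensor
import Groth.Agent.H22.PullBC
import Groth.Agent.H18.AmpleBasis
-- import your own Groth.Agent.* helpers here

set_option autoImplicit false
universe u
open CategoryTheory CategoryTheory.Limits AlgebraicGeometry TopologicalSpace
open Props

namespace Groth.Agent.S9816

open Groth.Agent.H22.ExtTensor Groth.Agent.H22.PullBC Groth.Agent.H22.PullGen
open Groth.Agent.H22.PullAmple Groth.Agent.H18


/-- Over a quasi-separated base S, if X and Y carry ample invertible modules L and N, then the tensor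
product of their pullbacks along the two projections is an ample invertible module on the fibre
product of X and Y over S. -/
theorem result {X Y S : Scheme.{u}} [QuasiSeparatedSpace S]
    (f : X ⟶ S) (g : Y ⟶ S) (L : X.Modules) (N : Y.Modules) (hL : CohB1.IsAmple L) (hN : CohB1.IsAmple N) :
    CohB1.IsAmple (CohB1.tensorMod ((Scheme.Modules.pullback (pullback.fst f g)).obj L)
      ((Scheme.Modules.pullback (pullback.snd f g)).obj N)) := by
  haveI : CompactSpace X := hL.2.1
  haveI : CompactSpace Y := hN.2.1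
  haveI : QuasiCompact g := inferInstance
  haveI : CompactSpace ↥(pullback f g) :=
    QuasiCompact.compactSpace_of_compactSpace (pullback.fst f g)
  have hB₁ := AmpleBasis.isBasis_affine_of_isAmple hL
  have hB₂ := AmpleBasis.isBasis_affine_of_isAmple hN
  refine isAmple_tensorMod_of_affine_inf (isInvertible_pullback _ hL.1)
    (isInvertible_pullback _ hN.1) (fun z => ?_)
  obtain ⟨W, hW, hzW, -⟩ := (Opens.isBasis_iff_nbhd.mp S.isBasis_affineOpens)
    (show (pullback.fst f g ≫ f) z ∈ (⊤ : S.Opens) from trivial)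
  have hz₁ : pullback.fst f g z ∈ f ⁻¹ᵁ W := hzW
  have hz₂ : pullback.snd f g z ∈ g ⁻¹ᵁ W := by
    have h3 : (pullback.snd f g ≫ g) z ∈ W := by
      rw [← pullback.condition]
      exact hzW
    exact h3
  obtain ⟨D₁, ⟨hD₁, n, s, rfl⟩, hx₁, hle₁⟩ := Opens.isBasis_iff_nbhd.mp hB₁ hz₁
  obtain ⟨D₂, ⟨hD₂, m, t, rfl⟩, hx₂, hle₂⟩ := Opens.isBasis_iff_nbhd.mp hB₂ hz₂
  obtain ⟨σ, hσ⟩ := exists_pbSecPow (pullback.fst f g) hL.1 (n + 1) s
  obtain ⟨τ, hτ⟩ := exists_pbSecPow (pullback.snd f g) hN.1 (m + 1) t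
  refine ⟨n, σ, m, τ, ?_, ?_, ?_⟩
  · rw [hσ]
    exact hx₁
  · rw [hτ]
    exact hx₂
  · rw [hσ, hτ]
    exact isAffineOpen_pullback_inf hD₁ hD₂ hW hle₁ hle₂

end Groth.Agent.S9816
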