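import Groth.Statements.S9822
import Mathlib.AlgebraicGeometry.Limits

set_option autoImplicit false
universe u
open CategoryTheory CategoryTheory.Limits AlgebraicGeometry TopologicalSpace Opposite
open Props

namespace Groth.Agent.S9822

/-- A scheme is irreducible if and only if it is nonempty and every nonempty affine open subset is
irreducible. -/
theorem result (X : Scheme.{u}) :
    IrreducibleSpace X ↔ Nonempty X ∧ ∀ U : X.Opens, IsAffineOpen U → (U : Set X).Nonempty → IsIrreducible (U : Set X) := by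
  constructor
  · intro hX
    refine ⟨inferInstance, fun U _ hU => ⟨hU, ?_⟩⟩
    exact (IrreducibleSpace.isIrreducible_univ X).isPreirreducible.open_subset U.2 (Set.subset_univ _)
  · rintro ⟨hne, h⟩
    refine @IrreducibleSpace.mk _ _ ⟨?_⟩ hne
    intro u v hu hv ⟨x, _, hxu⟩ ⟨y, _, hyv⟩
    obtain ⟨_, ⟨U₁, hU₁, rfl⟩, hxU₁, hU₁u⟩ :=
      X.isBasis_affineOpens.exists_subset_of_mem_open hxu hu
    obtain ⟨_, ⟨U₂, hU₂, rfl⟩, hyU₂, hU₂v⟩ :=
      X.isBasis_affineOpens.exists_subset_of_mem_open hyv hv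
    by_cases hd : Disjoint U₁ U₂
    · have haff : IsAffineOpen (U₁ ⊔ U₂) := IsAffineOpen.sup_of_disjoint hU₁ hU₂ hd
      have hirr := h (U₁ ⊔ U₂) haff ⟨x, Or.inl hxU₁⟩
      obtain ⟨z, _, hz₁, hz₂⟩ := hirr.2 U₁ U₂ U₁.2 U₂.2 ⟨x, Or.inl hxU₁, hxU₁⟩ ⟨y, Or.inr hyU₂, hyU₂⟩
      exact ⟨z, Set.mem_univ _, hU₁u hz₁, hU₂v hz₂⟩
    · rw [← Opens.coe_disjoint, Set.not_disjoint_iff] at hd
      obtain ⟨z, hz₁, hz₂⟩ := hd
      exact ⟨z, Set.mem_univ _, hU₁u hz₁, hU₂v hz₂⟩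

end Groth.Agent.S9822
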