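import Groth.Statements.S9823
import Mathlib
import Groth.Agent.H22.FTIdeal
-- import your own Groth.Agent.* helpers here

set_option autoImplicit false
universe u
open CategoryTheory CategoryTheory.Limits AlgebraicGeometry TopologicalSpace Opposite
open Props

namespace Groth.Agent.S9823

/-- In a quasi-compact quasi-separated scheme, an open subset is quasi-compact exactly when its
complement is the support of some quasi-coherent ideal sheaf of finite type. -/
theorem result (X : Scheme.{u}) [CompactSpace X] [QuasiSeparatedSpace X]
    (U : X.Opens) :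
    IsCompact (U : Set X) ↔
      ∃ I : X.IdealSheafData, (∀ V : X.affineOpens, (I.ideal V).FG) ∧ (I.support : Set X) = (U : Set X)ᶜ := by
  constructor
  · intro hU
    exact Groth.Agent.H22.FTIdeal.exists_ftIdeal_of_isCompact U hU
  · rintro ⟨I, hft, hsupp⟩
    choose S hS using hft
    obtain ⟨t, ht⟩ : ∃ t : Finset X.affineOpens, (Set.univ : Set X) ⊆ ⋃ V ∈ t, (V.1 : Set X) := by
      refine isCompact_univ.elim_finite_subcover (fun V : X.affineOpens => (V.1 : Set X))
        (fun V => V.1.2) ?_
      intro x _
      have hx : x ∈ (⊤ : X.Opens) := trivial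
      rw [← iSup_affineOpens_eq_top X, Opens.mem_iSup] at hx
      obtain ⟨V, hV⟩ := hx
      exact Set.mem_iUnion.mpr ⟨V, hV⟩
    have hU : (U : Set X) = ⋃ V ∈ t, ⋃ f ∈ S V, (X.basicOpen f : Set X) := by
      ext x
      simp only [Set.mem_iUnion, exists_prop]
      constructor
      · intro hx
        obtain ⟨V, hVt, hxV⟩ : ∃ V ∈ t, x ∈ (V.1 : Set X) := by
          have := ht (Set.mem_univ x)
          simpa only [Set.mem_iUnion, exists_prop] using this
        have h1 : x ∉ I.support := by
          intro h
          have h2 : x ∈ (I.support : Set X) := h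
          rw [hsupp] at h2
          exact h2 hx
        rw [Scheme.IdealSheafData.mem_support_iff_of_mem (U := V) hxV, ← hS V,
          Scheme.zeroLocus_span, Scheme.mem_zeroLocus_iff] at h1
        push Not at h1
        obtain ⟨f, hf, hxf⟩ := h1
        exact ⟨V, hVt, f, hf, hxf⟩
      · rintro ⟨V, -, f, hf, hxf⟩
        have hxV : x ∈ V.1 := X.basicOpen_le f hxf
        by_contra hxU
        have h2 : x ∈ (I.support : Set X) := by
          rw [hsupp]
          exact hxU
        have h3 := (Scheme.IdealSheafData.mem_support_iff_of_mem (U := V) hxV).mp h2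
        rw [Scheme.mem_zeroLocus_iff] at h3
        refine h3 f ?_ hxf
        rw [← hS V]
        exact Ideal.subset_span hf
    rw [hU]
    refine Finset.isCompact_biUnion t (fun V _ => ?_)
    refine Finset.isCompact_biUnion (S V) (fun f _ => ?_)
    exact (V.2.basicOpen f).isCompact

end Groth.Agent.S9823
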