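import Groth.Statements.S9824
import Groth.Agent.H8.RankLocFree

set_option autoImplicit false
universe u
open CategoryTheory CategoryTheory.Limits AlgebraicGeometry TopologicalSpace Opposite
open Props

namespace Groth.Agent.S9824

/-- Over a reduced scheme, a quasi-coherent module is finite locally free if and only if it is of finite
type and its fibre rank (the dimension of the stalk tensored with the residue field) is a locally
constant function. -/
theorem result (X : Scheme.{u}) [IsReduced X]
    (M : X.Modules) [Coh.IsQCoh M] :
    FlatMod.IsFinLocFree M ↔ CohB1.IsFT M ∧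
      IsLocallyConstant (fun x : X => Module.finrank (IsLocalRing.ResidueField (X.presheaf.stalk x))
          (TensorProduct (X.presheaf.stalk x) (IsLocalRing.ResidueField (X.presheaf.stalk x)) (M.presheaf.stalk x))) := by
  haveI : M.IsQuasicoherent := ‹Coh.IsQCoh M›
  constructor
  · intro h
    have hfp : SheafOfModules.IsFinitePresentation (R := X.ringCatSheaf) M :=
      Groth.Agent.H8.isFinitePresentation_of_forall_affine_finitePresentation M
        (fun U => (Groth.Agent.H8.finitePresentation_projective_sections_of_isFinLocFree M h U.2).1)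
    refine ⟨inferInstance, ?_⟩
    rw [IsLocallyConstant.iff_exists_open]
    intro x
    obtain ⟨U, n, hxU, ⟨e⟩⟩ := h x
    refine ⟨U, U.isOpen, hxU, fun y hy => ?_⟩
    obtain ⟨b⟩ := Groth.Agent.H8.exists_basis_stalk_of_restrict_iso M e y hy
    obtain ⟨b'⟩ := Groth.Agent.H8.exists_basis_stalk_of_restrict_iso M e x hxU
    rw [Groth.Agent.H8.finrank_fibre_eq_of_basis M y b,
      Groth.Agent.H8.finrank_fibre_eq_of_basis M x b']
  · rintro ⟨hft, hρ⟩ x
    haveI : SheafOfModules.IsFiniteType (R := X.ringCatSheaf) M := hft
    set ρ := (fun x : X => Module.finrank (IsLocalRing.ResidueField (X.presheaf.stalk x))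
      (TensorProduct (X.presheaf.stalk x) (IsLocalRing.ResidueField (X.presheaf.stalk x))
        (M.presheaf.stalk x))) with hρdef
    let W₀ : X.Opens := ⟨{y | ρ y = ρ x}, hρ.isOpen_fiber (ρ x)⟩
    have hxW : x ∈ W₀ := rfl
    haveI : Module.Finite (X.presheaf.stalk x) (M.presheaf.stalk x) := by
      obtain ⟨U, hU, hxU, -⟩ := exists_isAffineOpen_mem_and_subset (x := x)
        (U := (⊤ : X.Opens)) trivial
      haveI := Groth.Agent.H8.finite_sections_of_isAffineOpen M hU
      exact Groth.Agent.H8.finite_stalk_of_finite_sections M hU x hxU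
    have hrk : Module.finrank (IsLocalRing.ResidueField (X.presheaf.stalk x))
      (TensorProduct (X.presheaf.stalk x) (IsLocalRing.ResidueField (X.presheaf.stalk x))
        (M.presheaf.stalk x)) = ρ x := rfl
    let w := Module.finBasisOfFinrankEq (IsLocalRing.ResidueField (X.presheaf.stalk x))
      (TensorProduct (X.presheaf.stalk x) (IsLocalRing.ResidueField (X.presheaf.stalk x))
        (M.presheaf.stalk x)) hrk
    obtain ⟨v, hv⟩ := (TensorProduct.mk_surjective (X.presheaf.stalk x) (M.presheaf.stalk x)
      (IsLocalRing.ResidueField (X.presheaf.stalk x))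
      (IsLocalRing.residue_surjective (R := X.presheaf.stalk x))).comp_left w
    have hspan : Submodule.span (X.presheaf.stalk x) (Set.range v) = ⊤ :=
      IsLocalRing.span_eq_top_of_tmul_eq_basis v w (congr_fun hv)
    obtain ⟨U, hxU, hiso⟩ := Groth.Agent.H8.exists_restrict_iso_freeMod_of_span_stalk M x W₀ hxW
      v hspan (fun U hU hUW t ht => by
        refine Groth.Agent.H8.linearIndependent_of_fibres M t (fun y hy => ?_)
        have hsp := Groth.Agent.H8.span_germ_eq_top_of_span_eq_top M hU t ht y hy
        have hsp' := Groth.Agent.H8.span_tmul_eq_top _ hsp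
        have hy' : ρ y = ρ x := hUW hy
        exact linearIndependent_of_top_le_span_of_card_le_finrank hsp'.ge
          (by rw [Fintype.card_fin]; exact hy'.ge))
    exact ⟨U, ρ x, hxU, hiso⟩

end Groth.Agent.S9824
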