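import Groth.Statements.S9831
import Mathlib
import Groth.Agent.H8.QCohPush
import Groth.Agent.S10848
-- import your own Groth.Agent.* helpers here

set_option autoImplicit false
universe u
open CategoryTheory CategoryTheory.Limits AlgebraicGeometry TopologicalSpace Opposite
open Props

namespace Groth.Agent.S9831

open AlgebraicGeometry.Scheme.Modules


/-- On a quasi-compact quasi-separated scheme, a quasi-coherent module of finite type on a quasi-compact
open U is the restriction of a quasi-coherent module of finite type on the whole scheme. -/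
theorem result {X : Scheme.{u}} [CompactSpace X]
    [QuasiSeparatedSpace X] (U : X.Opens) (hU : IsCompact (U : Set X)) (G : (U : Scheme.{u}).Modules)
    [Coh.IsQCoh G] (hG : CohB1.IsFT G) :
    ∃ G' : X.Modules, Coh.IsQCoh G' ∧ CohB1.IsFT G' ∧ Nonempty (G'.restrict U.ι ≅ G) := by
  haveI : CompactSpace U := isCompact_iff_compactSpace.mp hU
  haveI : QuasiCompact U.ι := inferInstance
  haveI hG' : G.IsQuasicoherent := inferInstanceAs (Coh.IsQCoh G)
  let P := pushforward U.ι
  let adj := restrictAdjunction U.ι
  haveI : Coh.IsQCoh (P.obj G) := Groth.Agent.H8.isQuasicoherent_pushforward U.ι G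
  let i' : G ⟶ (P.obj G).restrict U.ι := inv (adj.counit.app G)
  haveI : Mono i' := inferInstance
  obtain ⟨F, i, e, -, hq, hft, -⟩ := Groth.Agent.S10848.result U hU (P.obj G) G hG i'
  exact ⟨F, hq, hft, ⟨e⟩⟩

end Groth.Agent.S9831
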