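import Groth.Statements.S9832
import Groth.Agent.H17.JacobsonCompl

set_option autoImplicit false
universe u
open Props

namespace Groth.Agent.S9832

/-- For a Noetherian ring R and an ideal I inside the Jacobson radical of R, the complement of V(I) in
Spec R is a Jacobson topological space. -/
theorem result (R : Type u) [CommRing R] [IsNoetherianRing R]
    (I : Ideal R) (hI : I ≤ (⊥ : Ideal R).jacobson) :
    JacobsonSpace ↥((PrimeSpectrum.zeroLocus (I : Set R))ᶜ) := by
  refine Groth.Agent.H17.JacobsonCompl.jacobsonSpace_compl (X := PrimeSpectrum R)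
    (fun x => ⟨R, inferInstance, inferInstance, id, Topology.IsOpenEmbedding.id, ⟨x, rfl⟩⟩) _
    (PrimeSpectrum.isClosed_zeroLocus _) ?_
  intro Z hZ hZne
  obtain ⟨x, hx⟩ := hZne
  obtain ⟨m, hm, hxm⟩ := Ideal.exists_le_maximal x.asIdeal x.2.ne_top
  refine ⟨⟨m, hm.isPrime⟩, ?_, ?_⟩
  · exact ((PrimeSpectrum.le_iff_specializes x ⟨m, hm.isPrime⟩).mp hxm).mem_closed hZ hx
  · rw [PrimeSpectrum.mem_zeroLocus]
    intro a ha
    exact Ideal.mem_sInf.mp (hI ha) ⟨bot_le, hm⟩

end Groth.Agent.S9832
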