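import Groth.Statements.S9833
import Mathlib
import Groth.Agent.S9392
import Groth.Agent.S4710
import Groth.Agent.S9400

set_option autoImplicit false
universe u
open CategoryTheory AlgebraicGeometry TopologicalSpace
open Props

namespace Groth.Agent.S9833

theorem isN2_of_ringEquiv {D D' : Type u} [CommRing D] [IsDomain D] [CommRing D'] [IsDomain D']
    (e : D ≃+* D') (h : CAlg.IsN2 D) : CAlg.IsN2 D' := by
  letI : Algebra D D' := e.toRingHom.toAlgebra
  haveI : IsLocalization (⊥ : Submonoid D) D := IsLocalization.self bot_le
  let e' : D ≃ₐ[D] D' := AlgEquiv.ofRingEquiv (f := e) (fun x => rfl)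
  haveI : IsLocalization (⊥ : Submonoid D) D' := IsLocalization.isLocalization_of_algEquiv ⊥ e'
  exact Groth.Agent.S9392.result D ⊥ D' h

theorem isNagata_of_ringEquiv {R R' : Type u} [CommRing R] [CommRing R'] (e : R ≃+* R')
    (h : CAlg.IsNagata R) : CAlg.IsNagata R' := by
  haveI := h.1
  refine ⟨isNoetherianRing_of_ringEquiv R e, ?_⟩
  intro p' hp'
  haveI : (p'.comap (e : R →+* R')).IsPrime := Ideal.comap_isPrime _ _
  have h2 := h.2 (p'.comap (e : R →+* R'))
  exact isN2_of_ringEquiv (Ideal.quotientEquiv (p'.comap (e : R →+* R')) p' e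
    (Ideal.map_comap_of_surjective (e : R →+* R') e.surjective p').symm) h2

/-- If a scheme has an affine open covering by spectra of Nagata rings, then the coordinate ring of
every affine open is Nagata. -/
theorem result (X : Scheme.{u}) {ι : Type u} (U : ι → X.Opens)
    (hU : iSup U = ⊤) (haff : ∀ i, IsAffineOpen (U i)) (hN : ∀ i, CAlg.IsNagata Γ(X, U i))
    (V : X.Opens) (hV : IsAffineOpen V) : CAlg.IsNagata Γ(X, V) := by
  let P : X.affineOpens → Prop := fun W => CAlg.IsNagata Γ(X, W.1)
  have key : P ⟨V, hV⟩ := by
    refine of_affine_open_cover (P := P) (fun i => (⟨U i, haff i⟩ : X.affineOpens)) hU ⟨V, hV⟩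
      ?_ ?_ ?_
    · intro W f hW
      haveI := W.2.isLocalization_basicOpen f
      have h1 : CAlg.IsNagata (Localization.Away f) := Groth.Agent.S4710.result Γ(X, W.1) hW _
      exact isNagata_of_ringEquiv
        (IsLocalization.algEquiv (Submonoid.powers f) (Localization.Away f)
          Γ(X, X.basicOpen f)).toRingEquiv h1
    · intro W s hs hP
      have h1 : ∀ g : s, CAlg.IsNagata (Localization.Away g.1) := by
        intro g
        haveI := W.2.isLocalization_basicOpen g.1
        exact isNagata_of_ringEquiv
          (IsLocalization.algEquiv (Submonoid.powers g.1) Γ(X, X.basicOpen g.1)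
            (Localization.Away g.1)).toRingEquiv (hP g)
      exact Groth.Agent.S9400.result Γ(X, W.1) (ι := s) (fun g => g.1)
        (by convert hs using 2; ext x; simp) h1
    · intro i; exact hN i
  exact key

end Groth.Agent.S9833
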