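import Groth.Statements.S9834
import Mathlib
import Groth.Agent.S9398
import Groth.Agent.S9399

set_option autoImplicit false
universe u
open CategoryTheory AlgebraicGeometry TopologicalSpace
open Props

namespace Groth.Agent.S9834

theorem uj_of_ringEquiv {R R' : Type u} [CommRing R] [CommRing R'] (e : R ≃+* R')
    (h : CAlg.IsUniversallyJapanese R) : CAlg.IsUniversallyJapanese R' := by
  letI : Algebra R R' := e.toRingHom.toAlgebra
  haveI : Algebra.FiniteType R R' :=
    Algebra.FiniteType.of_surjective (Algebra.ofId R R') e.surjective
  exact Groth.Agent.S9398.result R h R'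

/-- If a scheme has an affine open covering by spectra of universally Japanese rings, then the
coordinate ring of every affine open is universally Japanese. -/
theorem result (X : Scheme.{u}) {ι : Type u} (U : ι → X.Opens)
    (hU : iSup U = ⊤) (haff : ∀ i, IsAffineOpen (U i)) (hJ : ∀ i, CAlg.IsUniversallyJapanese Γ(X, U i))
    (V : X.Opens) (hV : IsAffineOpen V) : CAlg.IsUniversallyJapanese Γ(X, V) := by
  let P : X.affineOpens → Prop := fun W => CAlg.IsUniversallyJapanese Γ(X, W.1)
  have key : P ⟨V, hV⟩ := by
    refine of_affine_open_cover (P := P) (fun i => (⟨U i, haff i⟩ : X.affineOpens)) hU ⟨V, hV⟩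
      ?_ ?_ ?_
    · intro W f hW
      haveI := W.2.isLocalization_basicOpen f
      haveI : Algebra.EssFiniteType Γ(X, W.1) Γ(X, X.basicOpen f) :=
        Algebra.EssFiniteType.of_isLocalization _ (Submonoid.powers f)
      exact Groth.Agent.S9398.result Γ(X, W.1) hW Γ(X, X.basicOpen f)
    · intro W s hs hP
      have h1 : ∀ g : s, CAlg.IsUniversallyJapanese (Localization.Away g.1) := by
        intro g
        haveI := W.2.isLocalization_basicOpen g.1
        exact uj_of_ringEquiv
          (IsLocalization.algEquiv (Submonoid.powers g.1) Γ(X, X.basicOpen g.1)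
            (Localization.Away g.1)).toRingEquiv (hP g)
      exact Groth.Agent.S9399.result Γ(X, W.1) (ι := s) (fun g => g.1)
        (by convert hs using 2; ext x; simp) h1
    · intro i; exact hJ i
  exact key

end Groth.Agent.S9834
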