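import Groth.Statements.S9841
import Groth.Agent.H51.Reduced

set_option autoImplicit false
open CategoryTheory CategoryTheory.Limits AlgebraicGeometry Opposite
universe u
open Desc

namespace Groth.Agent.S9841

/-- Being reduced is local in the smooth topology: for a jointly surjective family of smooth morphisms f
i : X i ⟶ S, the scheme S is reduced if and only if every X i is reduced. -/
theorem result {ι : Type u} {S : Scheme.{u}} {X : ι → Scheme.{u}} (f : ∀ i, X i ⟶ S)
    (hf : Presieve.ofArrows X f ∈ Scheme.precoverage @Smooth S) :
    IsReduced S ↔ ∀ i, IsReduced (X i) := by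
  obtain ⟨hsurj, hsm⟩ := (Scheme.ofArrows_mem_precoverage_iff (P := @Smooth)).mp hf
  constructor
  · intro hS i
    haveI := hsm i
    exact Groth.Agent.H51.isReduced_of_smooth (f i)
  · intro hX
    have key : ∀ z : S, _root_.IsReduced (S.presheaf.stalk z) := by
      intro z
      obtain ⟨i, z', rfl⟩ := hsurj z
      haveI := hsm i
      haveI := hX i
      have hinj : Function.Injective ((f i).stalkMap z').hom := by
        algebraize [((f i).stalkMap z').hom]
        have : Module.FaithfullyFlat (S.presheaf.stalk ((f i) z')) ((X i).presheaf.stalk z') :=
          @Module.FaithfullyFlat.of_flat_of_isLocalHom _ _ _ _ _ _ _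
            (Flat.stalkMap (f i) z') ((f i).toLRSHom.prop z')
        exact FaithfulSMul.algebraMap_injective _ _
      exact isReduced_of_injective ((f i).stalkMap z').hom hinj
    exact isReduced_of_isReduced_stalk S

end Groth.Agent.S9841
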