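import Groth.Statements.S9842
import Groth.Agent.H49.Dominant

set_option autoImplicit false
open CategoryTheory CategoryTheory.Limits AlgebraicGeometry Opposite
universe u
open Desc

namespace Groth.Agent.S9842

/-- Let E/k be a field extension, Y a scheme over k and f : X ⟶ Y a morphism. Writing Y_E = Y ×_k Spec
E, the morphism f is dominant if and only if its base change X ×_Y Y_E ⟶ Y_E is dominant. -/
theorem result {k E : Type u} [Field k] [Field E] [Algebra k E]
    {X Y : Scheme.{u}} (f : X ⟶ Y) (q : Y ⟶ Spec (.of k)) :
    IsDominant f ↔
      IsDominant (pullback.snd f (pullback.fst q (Spec.map (CommRingCat.ofHom (algebraMap k E))))) := by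
  have huo : UniversallyOpen (Spec.map (CommRingCat.ofHom (algebraMap k E))) := inferInstance
  have hs : Surjective (Spec.map (CommRingCat.ofHom (algebraMap k E))) := by
    constructor
    intro x
    have : Nonempty (Spec (CommRingCat.of E)) := inferInstanceAs (Nonempty (PrimeSpectrum E))
    obtain ⟨z⟩ := this
    exact ⟨z, Subsingleton.elim (α := PrimeSpectrum k) _ _⟩
  have hs' : Surjective (pullback.fst q (Spec.map (CommRingCat.ofHom (algebraMap k E)))) :=
    MorphismProperty.pullback_fst _ _ hs
  constructor
  · intro hf
    exact Groth.Agent.H49.isDominant_snd_of_isOpenMap f _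
      (pullback.fst q (Spec.map (CommRingCat.ofHom (algebraMap k E)))).isOpenMap
  · intro hf
    exact Groth.Agent.H49.isDominant_of_snd_of_surjective f
      (pullback.fst q (Spec.map (CommRingCat.ofHom (algebraMap k E)))) hs'.surj

end Groth.Agent.S9842
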