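import Groth.Statements.S9843
import Groth.Agent.H49.Fppf
import Mathlib.AlgebraicGeometry.PullbackCarrier

set_option autoImplicit false
open CategoryTheory CategoryTheory.Limits AlgebraicGeometry Opposite
universe u
open Desc

namespace Groth.Agent.S9843

/-- Being dominant is fppf local on the base: for every fppf covering family Y i ⟶ Y (flat, locally of
finite presentation, jointly surjective), a morphism X ⟶ Y is dominant if and only if all its base
changes X ×_Y Y i ⟶ Y i are. -/
theorem result :
    MorphismProperty.IsLocalAtTarget (@IsDominant : MorphismProperty Scheme.{u}) Scheme.fppfPrecoverage := by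
  refine MorphismProperty.IsLocalAtTarget.mk_of_iff ?_
  intro X Y f R hR
  rw [Groth.Agent.H49.mem_fppfPrecoverage_iff] at hR
  obtain ⟨hsurj, hprop⟩ := hR
  constructor
  · intro hf U g _ hg
    obtain ⟨h1, h2⟩ := hprop hg
    refine ⟨?_⟩
    rw [DenseRange, dense_iff_inter_open]
    rintro V hV ⟨v, hv⟩
    have hopen : IsOpen (g.base '' V) := g.isOpenMap _ hV
    obtain ⟨_, ⟨⟨v', hv', rfl⟩, ⟨x, hx⟩⟩⟩ :=
      (dense_iff_inter_open.mp hf.denseRange) _ hopen ⟨g.base v, v, hv, rfl⟩
    obtain ⟨z, _, hz⟩ := Scheme.Pullback.exists_preimage_pullback (f := f) (g := g) x v' hx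
    exact ⟨v', hv', z, hz⟩
  · intro h
    refine ⟨?_⟩
    rw [DenseRange, dense_iff_inter_open]
    rintro W hW ⟨y, hy⟩
    obtain ⟨U, g, hg, u, rfl⟩ := hsurj y
    have hpb : HasPullback f g := inferInstance
    have hdom : IsDominant (pullback.snd f g) := h g hg
    obtain ⟨_, hu', ⟨z, rfl⟩⟩ := (dense_iff_inter_open.mp hdom.denseRange) _
      (hW.preimage g.continuous) ⟨u, hy⟩
    refine ⟨g.base ((pullback.snd f g).base z), hu', (pullback.fst f g).base z, ?_⟩
    rw [← Scheme.Hom.comp_apply, pullback.condition, Scheme.Hom.comp_apply]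

end Groth.Agent.S9843
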