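import Groth.Statements.S9845
import Groth.Agent.H49.Fppf

set_option autoImplicit false
open CategoryTheory CategoryTheory.Limits AlgebraicGeometry Opposite
universe u
open Desc

namespace Groth.Agent.S9845

/-- Being an open morphism (open underlying map) is fppf local on the source: for every fppf covering
family g i : X i ⟶ X, a morphism f : X ⟶ Y has open underlying map if and only if every composite g
i ≫ f does. -/
theorem result :
    MorphismProperty.IsLocalAtSource (topologically (fun f => IsOpenMap f) : MorphismProperty Scheme.{u})
      Scheme.fppfPrecoverage := by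
  have hiso : (topologically (fun f => IsOpenMap f) : MorphismProperty Scheme.{u}).RespectsIso :=
    inferInstanceAs (topologically IsOpenMap).RespectsIso
  refine MorphismProperty.IsLocalAtSource.mk_of_iff ?_
  intro X Y f R hR
  rw [Groth.Agent.H49.mem_fppfPrecoverage_iff] at hR
  obtain ⟨hsurj, hprop⟩ := hR
  constructor
  · intro hf U g hg
    obtain ⟨h1, h2⟩ := hprop hg
    change IsOpenMap (g ≫ f).base
    rw [Scheme.Hom.comp_base]
    exact (show IsOpenMap f.base from hf).comp g.isOpenMap
  · intro h
    change IsOpenMap f.base
    intro s hs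
    rw [isOpen_iff_mem_nhds]
    rintro _ ⟨x, hx, rfl⟩
    obtain ⟨U, g, hg, u, rfl⟩ := hsurj x
    have hopen : IsOpen ((g ≫ f).base '' (g.base ⁻¹' s)) :=
      (show IsOpenMap (g ≫ f).base from h hg) _ (hs.preimage g.continuous)
    refine Filter.mem_of_superset (hopen.mem_nhds ⟨u, hx, by simp⟩) ?_
    rintro _ ⟨v, hv, rfl⟩
    exact ⟨g.base v, hv, by simp⟩

end Groth.Agent.S9845
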