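import Groth.Statements.S9846
import Groth.Agent.H49.Fppf
import Mathlib.AlgebraicGeometry.PullbackCarrier

set_option autoImplicit false
open CategoryTheory CategoryTheory.Limits AlgebraicGeometry Opposite
universe u
open Desc

namespace Groth.Agent.S9846

/-- Being universally open is fppf local on the source: for every fppf covering family g i : X i ⟶ X, a
morphism f : X ⟶ Y is universally open if and only if every composite g i ≫ f is. -/
theorem result :
    MorphismProperty.IsLocalAtSource (@UniversallyOpen : MorphismProperty Scheme.{u}) Scheme.fppfPrecoverage := by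
  refine MorphismProperty.IsLocalAtSource.mk_of_iff ?_
  intro X Y f R hR
  rw [Groth.Agent.H49.mem_fppfPrecoverage_iff] at hR
  obtain ⟨hsurj, hprop⟩ := hR
  constructor
  · intro hf U g hg
    obtain ⟨h1, h2⟩ := hprop hg
    have : UniversallyOpen f := hf
    exact (inferInstance : UniversallyOpen (g ≫ f))
  · intro h
    refine ⟨?_⟩
    intro X' Y' i₁ i₂ f' hf'
    change IsOpenMap f'.base
    intro s hs
    rw [isOpen_iff_mem_nhds]
    rintro _ ⟨x', hx', rfl⟩
    obtain ⟨U, g, hg, u, hu⟩ := hsurj (i₁.base x')
    obtain ⟨z, hz₁, hz₂⟩ := Scheme.Pullback.exists_preimage_pullback (f := i₁) (g := g) x' u hu.symm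
    have hpb : IsPullback (pullback.fst i₁ g ≫ f') (pullback.snd i₁ g) i₂ (g ≫ f) :=
      (IsPullback.of_hasPullback i₁ g).paste_horiz hf'
    have huo : UniversallyOpen (g ≫ f) := h hg
    have hopenmap : IsOpenMap (pullback.fst i₁ g ≫ f').base :=
      huo.universally_isOpenMap _ _ _ hpb
    have hopen : IsOpen ((pullback.fst i₁ g ≫ f').base '' ((pullback.fst i₁ g).base ⁻¹' s)) :=
      hopenmap _ (hs.preimage (pullback.fst i₁ g).continuous)
    refine Filter.mem_of_superset (hopen.mem_nhds ⟨z, ?_, ?_⟩) ?_
    · simpa [hz₁] using hx'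
    · simp [hz₁]
    · rintro _ ⟨v, hv, rfl⟩
      exact ⟨(pullback.fst i₁ g).base v, hv, by simp⟩

end Groth.Agent.S9846
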