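import Groth.Statements.S9847
import Groth.Agent.H51.SrcSch2

set_option autoImplicit false
open CategoryTheory CategoryTheory.Limits AlgebraicGeometry Opposite
universe u
open Desc

namespace Groth.Agent.S9847

/-- Being etale is etale local on the source: for every etale covering family g i : X i ⟶ X (etale,
jointly surjective), a morphism f : X ⟶ Y is etale if and only if every composite g i ≫ f is. -/
theorem result :
    MorphismProperty.IsLocalAtSource (@Etale : MorphismProperty Scheme.{u}) Scheme.etalePrecoverage := by
  refine MorphismProperty.IsLocalAtSource.mk_of_iff (P := (@Etale : MorphismProperty Scheme.{u}))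
    (K := Scheme.etalePrecoverage) (fun {X Y f R} hR => ⟨?_, ?_⟩)
  · intro hf U g hg
    have hgE : Etale g := hR.2 hg
    have hfE : Etale f := hf
    exact (inferInstance : Etale (g ≫ f))
  · intro h
    apply Groth.Agent.H51.etale_of_etale_jointly_surjective_comp
    intro x
    obtain ⟨X', g, hg, x', hx'⟩ :=
      (Presieve.mem_comap_jointlySurjectivePrecoverage_iff _).mp hR.1 x
    exact ⟨X', g, x', hR.2 hg, hx', h hg⟩

end Groth.Agent.S9847
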