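import Groth.Statements.S9852
import Groth.Agent.H49.DescFam
import Mathlib.AlgebraicGeometry.Morphisms.Flat

set_option autoImplicit false
open CategoryTheory CategoryTheory.Limits AlgebraicGeometry Opposite
universe u
open Desc

namespace Groth.Agent.S9852

/-- Let g : X ⟶ X' be a morphism of schemes over S, with structure morphisms a : X ⟶ S and a' : X' ⟶ S,
and assume a is surjective and flat. Then the pullback functor along g, from descent data for
schemes relative to X' ⟶ S to descent data relative to X ⟶ S, is faithful. (Descent data relative to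
a single morphism are written as descent data relative to the corresponding one-member family.) -/
theorem result {X X' S : Scheme.{u}} (a : X ⟶ S) (a' : X' ⟶ S) (g : X ⟶ X')
    (h : g ≫ a' = a) [Surjective a] [Flat a] :
    (Desc.pullDDFam (f := fun _ : PUnit.{u + 1} => a') (f' := fun _ : PUnit.{u + 1} => a) (α := fun j => j)
        (p := 𝟙 S) (p' := fun _ => g) (fun _ => (h).trans (Category.comp_id a).symm)).Faithful := by
  constructor
  intro D D' h₁ h₂ heq
  let d := Groth.Agent.H49.PtDesc.pull (f := fun _ : PUnit.{u + 1} => a')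
    (f' := fun _ : PUnit.{u + 1} => a) (α := fun j => j) (p := 𝟙 S) (p' := fun _ => g)
    (fun _ => (h).trans (Category.comp_id a).symm)
  have star : ∀ ⦃T : Scheme.{u}⦄ (i : PUnit.{u + 1}) (x : T ⟶ X)
      (u : Desc.Lifts (D.obj i) (x ≫ g)), h₁.push u = h₂.push u := by
    intro T i x u
    have e1 := d.e_map h₁ (j := i) x ((d.e D x).symm u)
    have e2 := d.e_map h₂ (j := i) x ((d.e D x).symm u)
    rw [Equiv.apply_symm_apply] at e1 e2
    rw [heq] at e1
    exact e1.symm.trans e2
  apply Groth.Agent.H49.hom_ext_push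
  intro T i x v
  have hx : (pullback.snd a (x ≫ a') ≫ x) ≫ a' = (pullback.fst a (x ≫ a') ≫ g) ≫ a' := by
    rw [Category.assoc, Category.assoc, h, pullback.condition]
  have hv' : (pullback.snd a (x ≫ a') ≫ v.1) ≫ (D.obj i).hom = pullback.snd a (x ≫ a') ≫ x := by
    rw [Category.assoc, v.2]
  have key := star i (pullback.fst a (x ≫ a'))
    (D.φ (pullback.snd a (x ≫ a') ≫ x) (pullback.fst a (x ≫ a') ≫ g) hx
      ⟨pullback.snd a (x ≫ a') ≫ v.1, hv'⟩)
  rw [← Groth.Agent.H49.comm_push, ← Groth.Agent.H49.comm_push] at key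
  have key2 := (D'.φ _ _ hx).injective key
  have key3 : (pullback.snd a (x ≫ a') ≫ v.1) ≫ (h₁.hom i).left =
      (pullback.snd a (x ≫ a') ≫ v.1) ≫ (h₂.hom i).left := congrArg Subtype.val key2
  have : Epi (pullback.snd a (x ≫ a')) := Flat.epi_of_flat_of_surjective _
  apply Subtype.ext
  change v.1 ≫ (h₁.hom i).left = v.1 ≫ (h₂.hom i).left
  rw [Category.assoc, Category.assoc] at key3
  exact (cancel_epi _).mp key3

end Groth.Agent.S9852
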