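import Groth.Statements.S9857
import Mathlib
import Groth.Agent.H38.DimBCComp2
import Groth.Agent.H38.GenericConstr

set_option autoImplicit false
open CategoryTheory CategoryTheory.Limits AlgebraicGeometry Opposite
universe u
open Desc

namespace Groth.Agent.S9857

/-- The property of a morphism being locally of finite type with relative dimension d may be checked
fpqc locally on the target; the descent direction for the dimension condition, stated for a single
flat surjective quasi-compact base change g : Y' ⟶ Y of a morphism f : X ⟶ Y locally of finite type
and a cartesian square with base change f' : X' ⟶ Y': if every irreducible component of every fibre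
of f' has dimension d, then every irreducible component of every fibre of f has dimension d. (Local
finite type itself descends along g by a separate result; stability under base change is the other
direction.) -/
theorem result {X Y X' Y' : Scheme.{u}} (f : X ⟶ Y) [LocallyOfFiniteType f] (g : Y' ⟶ Y)
    [Flat g] [Surjective g] [QuasiCompact g] (g' : X' ⟶ X) (f' : X' ⟶ Y') (hsq : IsPullback g' f' f g)
    (d : ℕ) (h : Cyc.HasRelDim f' d) : Cyc.HasRelDim f d := by
  intro y T hT
  obtain ⟨y', rfl⟩ := g.surjective y
  letI : Algebra (Y.residueField (g y')) (Y'.residueField y') := (g.residueFieldMap y').hom.toAlgebra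
  haveI : LocallyOfFiniteType (f.fiberToSpecResidueField (g y')) :=
    inferInstanceAs (LocallyOfFiniteType (pullback.snd f (Y.fromSpecResidueField (g y'))))
  have key := Groth.Agent.H38.DimBCComp.image_dim_irreducibleComponents
    (k := Y.residueField (g y')) (K := Y'.residueField y') (f.fiberToSpecResidueField (g y'))
  have e : f'.fiber y' ≅ FBase.bc (k := Y.residueField (g y')) (f.fiberToSpecResidueField (g y'))
      (Y'.residueField y') :=
    (isPullback_fiberToSpecResidueField_of_isPullback hsq y').isoPullback
  have key2 := Groth.Agent.H38.GenericConstr.image_dim_irreducibleComponents_homeomorph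
    (Scheme.homeoOfIso e)
  have hmem : topologicalKrullDim ↥T ∈ (fun Z : Set ↥(f.fiber (g y')) => topologicalKrullDim ↥Z) ''
      irreducibleComponents ↥(f.fiber (g y')) := ⟨T, hT, rfl⟩
  rw [← key, ← key2] at hmem
  obtain ⟨W, hW, hWT⟩ := hmem
  rw [← hWT]
  exact h y' W hW


end Groth.Agent.S9857
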