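import Groth.Statements.S9858
import Groth.Agent.H65.DescLoc
import Groth.Agent.H51.DescRefine
import Groth.Agent.H51.SigmaEff
import Groth.Agent.H51.FpqcFinite

set_option autoImplicit false
open CategoryTheory CategoryTheory.Limits AlgebraicGeometry Opposite
universe u
open Desc

namespace Groth.Agent.S9858

/-- Case τ = fpqc: let P be a property of morphisms of schemes which is stable under base change and
under finite disjoint unions, and such that for every flat surjective morphism of affine schemes p :
X ⟶ S, every descent datum relative to p whose structure morphism to X has P is effective. Then for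
every fpqc covering family u i : U i ⟶ S of a scheme S, every descent datum for schemes relative to
(u i) all of whose structure morphisms have P is effective. -/
theorem result (P : MorphismProperty Scheme.{u}) [P.IsStableUnderBaseChange]
    (h2 : ∀ (m : ℕ) (Y V : Fin m → Scheme.{u}) (q : ∀ j, Y j ⟶ V j), (∀ j, P (q j)) → P (Limits.Sigma.map q))
    (h3 : ∀ (X S : Scheme.{u}) (p : X ⟶ S), IsAffine X → IsAffine S → Flat p → Surjective p →
      ∀ D : Desc.SchDD p, P D.obj.hom → ∃ U : Over S, Nonempty ((Desc.toDD p).obj U ≅ D))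
    {ι : Type u} {S : Scheme.{u}} {U : ι → Scheme.{u}} (u : ∀ i, U i ⟶ S)
    (hu : Presieve.ofArrows U u ∈ Scheme.fpqcPrecoverage S) (D : Desc.SchDDFam u) (hD : ∀ i, P (D.obj i).hom) :
    D.IsEffective := by
  refine Groth.Agent.H65.DescLoc.isEffective_of_affineOpens u hu D (fun a => ?_)
  have haff : IsAffine (a.1 : Scheme.{u}) := a.2
  have hua := Groth.Agent.H65.DescLoc.mem_fpqc_a hu a
  obtain ⟨m, α, V, hV, hfl, hs, hmem⟩ :=
    Groth.Agent.H51.FpqcFinite.exists_finite_affine_refinement
      (fun i => pullback.snd (u i) a.1.ι) hua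
  refine Groth.Agent.H51.DescRefine.isEffective_of_pull
    (U := fun k => ((V k : (pullback (u (α k)) a.1.ι).Opens) : Scheme.{u}))
    (V := fun i => pullback (u i) a.1.ι)
    (a := fun k => (V k).ι ≫ pullback.snd (u (α k)) a.1.ι)
    (b := fun i => pullback.snd (u i) a.1.ι)
    (α := α) (g := fun k => (V k).ι) (fun _ => (Category.comp_id _).symm) hmem _ ?_
  apply Groth.Agent.H51.SigmaEff.isEffective_of_sigmaDD
  have hVa : ∀ k, IsAffine ((V k : (pullback (u (α k)) a.1.ι).Opens) : Scheme.{u}) := hV
  have hfl' : ∀ k, Flat ((V k).ι ≫ pullback.snd (u (α k)) a.1.ι) := hfl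
  refine h3 _ _ _ inferInstance haff inferInstance ?_ _ ?_
  · refine Surjective.sigmaDesc_of_union_range_eq_univ ?_
    ext s
    simpa using hs s
  · exact h2 m _ _ _ (fun k => P.pullback_snd _ _ (P.pullback_snd _ _ (hD (α k))))

end Groth.Agent.S9858
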