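import Groth.Statements.S9859
import Mathlib.AlgebraicGeometry.Sites.Fpqc
import Mathlib.AlgebraicGeometry.Morphisms.Flat
import Mathlib.AlgebraicGeometry.Morphisms.UniversallyOpen

set_option autoImplicit false
open CategoryTheory CategoryTheory.Limits AlgebraicGeometry Opposite
universe u
open Desc

namespace Groth.Agent.S9859

variable {P : MorphismProperty Scheme.{u}}
    [MorphismProperty.IsLocalAtTarget P Scheme.fppfPrecoverage]

theorem baseChange {X Y X' Y' : Scheme.{u}} {f : X ⟶ Y} {g : Y' ⟶ Y} {fst : X' ⟶ X}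
    {snd : X' ⟶ Y'} (h : IsPullback fst snd f g) (hg₁ : Flat g)
    (hg₂ : LocallyOfFinitePresentation g) (hf : P f) : P snd := by
  let 𝒰 : Scheme.Cover.{u} (Scheme.precoverage (@Flat ⊓ @LocallyOfFinitePresentation)) Y :=
    (Scheme.Hom.cover.{u} (𝟙 Y) ⟨inferInstance, inferInstance⟩).add g ⟨hg₁, hg₂⟩
  exact MorphismProperty.IsLocalAtTarget.of_isPullback (K := Scheme.fppfPrecoverage) 𝒰 .none h hf

theorem descend {X Y X' Y' : Scheme.{u}} {f : X ⟶ Y} {g : Y' ⟶ Y} {fst : X' ⟶ X}
    {snd : X' ⟶ Y'} (h : IsPullback fst snd f g) (hg₁ : Flat g)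
    (hg₂ : LocallyOfFinitePresentation g) (hg₃ : Surjective g) (hs : P snd) : P f := by
  let 𝒰 : Scheme.Cover.{u} (Scheme.precoverage (@Flat ⊓ @LocallyOfFinitePresentation)) Y :=
    Scheme.Hom.cover.{u} g ⟨hg₁, hg₂⟩
  refine MorphismProperty.IsLocalAtTarget.of_zeroHypercover (K := Scheme.fppfPrecoverage) 𝒰
    fun i => ?_
  change P (pullback.snd f g)
  rw [← h.isoPullback_inv_snd, P.cancel_left_of_respectsIso]
  exact hs

omit [MorphismProperty.IsLocalAtTarget P Scheme.fppfPrecoverage] in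
theorem isPullback_of_restrict {X Y X' Y' W XW V XV : Scheme.{u}} {f : X ⟶ Y} {g : Y' ⟶ Y}
    {fst : X' ⟶ X} {snd : X' ⟶ Y'} (h : IsPullback fst snd f g)
    {j : W ⟶ Y} {jX : XW ⟶ X} {fW : XW ⟶ W} (hW : IsPullback jX fW f j)
    {i : V ⟶ Y'} {iX : XV ⟶ X'} {sndV : XV ⟶ V} (hV : IsPullback iX sndV snd i)
    {g' : V ⟶ W} (hg' : i ≫ g = g' ≫ j) : ∃ b : XV ⟶ XW, IsPullback b sndV fW g' := by
  have big : IsPullback (iX ≫ fst) sndV f (i ≫ g) := hV.paste_horiz h
  have hw : (iX ≫ fst) ≫ f = (sndV ≫ g') ≫ j := by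
    rw [Category.assoc sndV, ← hg']; exact big.w
  refine ⟨hW.lift (iX ≫ fst) (sndV ≫ g') hw, ?_⟩
  refine IsPullback.of_right (h₁₂ := jX) (h₂₂ := j) ?_ (hW.lift_snd _ _ _) hW
  rw [hW.lift_fst, ← hg']
  exact big

theorem range_subset_of_max {X Y : Scheme.{u}} (f : X ⟶ Y) (W : Y.Opens)
    (hmax : ∀ W₀ : Y.Opens, P (f ∣_ W₀) → W₀ ≤ W)
    {X' Y' : Scheme.{u}} {g : Y' ⟶ Y} {fst : X' ⟶ X} {snd : X' ⟶ Y'}
    (h : IsPullback fst snd f g)
    (hg₁ : Flat g) (hg₂ : LocallyOfFinitePresentation g) (hs : P snd) :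
    Set.range g.base ⊆ (W : Set Y) := by
  let U : Y.Opens := ⟨Set.range g.base, g.isOpenMap.isOpen_range⟩
  have hU : Set.range g.base ⊆ Set.range U.ι.base := by
    rw [Scheme.Opens.range_ι]; exact subset_rfl
  let g' : Y' ⟶ U.toScheme := IsOpenImmersion.lift U.ι g hU
  have hg' : g' ≫ U.ι = g := IsOpenImmersion.lift_fac _ _ _
  have hfl : Flat g' := MorphismProperty.of_postcomp (W := @Flat) (W' := @IsOpenImmersion)
    g' U.ι inferInstance (by rw [hg']; exact hg₁)
  have hlfp : LocallyOfFinitePresentation g' :=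
    MorphismProperty.of_postcomp (W := @LocallyOfFinitePresentation) (W' := @IsOpenImmersion)
      g' U.ι inferInstance (by rw [hg']; exact hg₂)
  have hsurj : Surjective g' := by
    refine ⟨fun y => ?_⟩
    obtain ⟨z, hz⟩ := y.2
    refine ⟨z, U.ι.isOpenEmbedding.injective ?_⟩
    rw [← Scheme.Hom.comp_apply, hg']
    exact hz
  obtain ⟨b, hb⟩ := isPullback_of_restrict h (isPullback_morphismRestrict f U).flip
    (IsPullback.id_horiz snd) (g' := g') (by rw [hg', Category.id_comp])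
  have hPU : P (f ∣_ U) := descend hb hfl hlfp hsurj hs
  exact hmax U hPU


/-- Case τ = fppf: let P be a property of morphisms of schemes which is fppf local on the base and f : X
⟶ Y a morphism. There is a largest open W of Y such that the restriction of f over W has P;
moreover, first, if g : Y' ⟶ Y is flat and locally of finite presentation and the base change of f
to Y' has P, then the image of g lies in W; and second, for such g the largest open of Y' over which
the base change of f has P is exactly g⁻¹(W). -/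
theorem result (P : MorphismProperty Scheme.{u})
    [MorphismProperty.IsLocalAtTarget P Scheme.fppfPrecoverage] {X Y : Scheme.{u}} (f : X ⟶ Y) :
    ∃ W : Y.Opens, P (f ∣_ W) ∧ (∀ W₀ : Y.Opens, P (f ∣_ W₀) → W₀ ≤ W) ∧
      (∀ (Y' : Scheme.{u}) (g : Y' ⟶ Y), Flat g → LocallyOfFinitePresentation g →
        P (pullback.snd f g) → Set.range g.base ⊆ (W : Set Y)) ∧
      (∀ (Y' : Scheme.{u}) (g : Y' ⟶ Y), Flat g → LocallyOfFinitePresentation g →
        ∀ W' : Y'.Opens, P (pullback.snd f g ∣_ W') → (∀ W₀ : Y'.Opens, P (pullback.snd f g ∣_ W₀) → W₀ ≤ W') →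
          W' = g ⁻¹ᵁ W) := by
  have : IsZariskiLocalAtTarget P :=
    MorphismProperty.IsLocalAtTarget.of_le Scheme.zariskiPrecoverage_le_fppfPrecoverage
  let S : Set Y.Opens := {W₀ | P (f ∣_ W₀)}
  have hmax : ∀ W₀ : Y.Opens, P (f ∣_ W₀) → W₀ ≤ sSup S := fun W₀ h => le_sSup h
  have hW : P (f ∣_ sSup S) := by
    have hcov : ⨆ s : S, (sSup S).ι ⁻¹ᵁ s.1 = ⊤ := by
      rw [eq_top_iff]
      intro x _
      have hx : x.1 ∈ sSup S := x.2
      rw [TopologicalSpace.Opens.mem_sSup] at hx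
      obtain ⟨s, hs, hxs⟩ := hx
      rw [TopologicalSpace.Opens.mem_iSup]
      exact ⟨⟨s, hs⟩, hxs⟩
    rw [IsZariskiLocalAtTarget.iff_of_iSup_eq_top (P := P) (fun s : S => (sSup S).ι ⁻¹ᵁ s.1) hcov]
    intro s
    rw [P.arrow_mk_iso_iff (morphismRestrictRestrict f (sSup S) _)]
    have : (sSup S).ι ''ᵁ ((sSup S).ι ⁻¹ᵁ s.1) = s.1 := by
      rw [Scheme.Hom.image_preimage_eq_opensRange_inf, Scheme.Opens.opensRange_ι]
      exact inf_eq_right.mpr (le_sSup s.2)
    rw [this]
    exact s.2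
  refine ⟨sSup S, hW, hmax, ?_, ?_⟩
  · intro Y' g hg₁ hg₂ hs
    exact range_subset_of_max f _ hmax (IsPullback.of_hasPullback f g) hg₁ hg₂ hs
  · intro Y' g hg₁ hg₂ W' hW' hmax'
    apply le_antisymm
    · have big := (isPullback_morphismRestrict (pullback.snd f g) W').flip.paste_horiz
        (IsPullback.of_hasPullback f g)
      have h1 : Flat (W'.ι ≫ g) := inferInstance
      have h2 : LocallyOfFinitePresentation (W'.ι ≫ g) := inferInstance
      have := range_subset_of_max f _ hmax big h1 h2 hW'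
      intro y hy
      exact this ⟨⟨y, hy⟩, rfl⟩
    · apply hmax'
      obtain ⟨b, hb⟩ := isPullback_of_restrict (IsPullback.of_hasPullback f g)
        (isPullback_morphismRestrict f (sSup S)).flip
        (isPullback_morphismRestrict (pullback.snd f g) (g ⁻¹ᵁ sSup S)).flip
        (g' := g ∣_ sSup S) (morphismRestrict_ι g (sSup S)).symm
      exact baseChange hb inferInstance inferInstance hW

end Groth.Agent.S9859
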