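import Groth.Statements.S9860
import Mathlib.AlgebraicGeometry.Gluing
import Mathlib.CategoryTheory.Sites.EffectiveEpimorphic

set_option autoImplicit false
open CategoryTheory CategoryTheory.Limits AlgebraicGeometry Opposite
universe u
open Desc

namespace Groth.Agent.S9860

/-- Consider morphisms of schemes f i : X i ⟶ X indexed by i. Suppose that, whenever Y is an affine
scheme and g : Y ⟶ X is a morphism, the sieve on Y obtained by pulling back along g (generated by
the base changes X i ×_X Y ⟶ Y) is effective epimorphic. Then the pulled-back sieve along every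
morphism Y ⟶ X of schemes is effective epimorphic; in other words, within schemes the family forms a
universal effective epimorphism. -/
theorem result {ι : Type u} {X : Scheme.{u}} {Xi : ι → Scheme.{u}} (f : ∀ i, Xi i ⟶ X)
    (h : ∀ (Y : Scheme.{u}) (g : Y ⟶ X), IsAffine Y → ((Sieve.ofArrows Xi f).pullback g).EffectiveEpimorphic)
    {Y : Scheme.{u}} (g : Y ⟶ X) : ((Sieve.ofArrows Xi f).pullback g).EffectiveEpimorphic := by
  rw [Sieve.EffectiveEpimorphic.iff_forall_isSheafFor_yoneda]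
  intro Z
  have hA : ∀ (V : Scheme.{u}) (t : V ⟶ X), IsAffine V →
      Presieve.IsSheafFor (yoneda.obj Z) ((Sieve.ofArrows Xi f).pullback t).arrows :=
    fun V t hV => (Sieve.EffectiveEpimorphic.iff_forall_isSheafFor_yoneda _).mp (h V t hV) Z
  have sep : ∀ (T : Scheme.{u}) (t : T ⟶ X) (a b : T ⟶ Z),
      (∀ (W : Scheme.{u}) (h' : W ⟶ T), ((Sieve.ofArrows Xi f).pullback t) h' →
        h' ≫ a = h' ≫ b) → a = b := by
    intro T t a b hab
    refine T.affineCover.hom_ext _ _ fun i => ?_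
    have hs := (hA (T.affineCover.X i) (T.affineCover.f i ≫ t) inferInstance).isSeparatedFor
    refine hs (fun W h'' _ => h'' ≫ T.affineCover.f i ≫ a) _ _ ?_ ?_
    · intro W h'' _; rfl
    · intro W h'' hh''
      change h'' ≫ T.affineCover.f i ≫ b = h'' ≫ T.affineCover.f i ≫ a
      have h3 : ((Sieve.ofArrows Xi f).pullback t) (h'' ≫ T.affineCover.f i) := by
        change (Sieve.ofArrows Xi f) _
        rw [Category.assoc]
        exact hh''
      have := hab W (h'' ≫ T.affineCover.f i) h3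
      simpa using this.symm
  intro x hx
  have hxs := (Presieve.compatible_iff_sieveCompatible x).mp hx
  have xcongr : ∀ {W : Scheme.{u}} {f₁ f₂ : W ⟶ Y} (e : f₁ = f₂)
      (h1 : ((Sieve.ofArrows Xi f).pullback g) f₁) (h2 : ((Sieve.ofArrows Xi f).pullback g) f₂),
      x f₁ h1 = x f₂ h2 := by
    intro W f₁ f₂ e h1 h2; subst e; rfl
  let 𝒰 := Y.affineCover
  have hloc : ∀ i, ∃ φ : 𝒰.X i ⟶ Z, ∀ (W : Scheme.{u}) (h' : W ⟶ 𝒰.X i)
      (hh : ((Sieve.ofArrows Xi f).pullback g) (h' ≫ 𝒰.f i)), h' ≫ φ = x (h' ≫ 𝒰.f i) hh := by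
    intro i
    have hsh := hA (𝒰.X i) (𝒰.f i ≫ g) inferInstance
    rw [Sieve.pullback_comp] at hsh
    obtain ⟨φ, hφ, -⟩ := hsh (x.pullback (𝒰.f i)) (hx.pullback (𝒰.f i))
    exact ⟨φ, fun W h' hh => hφ h' hh⟩
  choose φ hφ using hloc
  have hglue : ∀ i j, pullback.fst (𝒰.f i) (𝒰.f j) ≫ φ i =
      pullback.snd (𝒰.f i) (𝒰.f j) ≫ φ j := by
    intro i j
    apply sep _ (pullback.fst (𝒰.f i) (𝒰.f j) ≫ 𝒰.f i ≫ g)
    intro W h' hh
    have h1 : ((Sieve.ofArrows Xi f).pullback g) ((h' ≫ pullback.fst (𝒰.f i) (𝒰.f j)) ≫ 𝒰.f i) := by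
      change (Sieve.ofArrows Xi f) _
      simpa using hh
    have h2 : ((Sieve.ofArrows Xi f).pullback g) ((h' ≫ pullback.snd (𝒰.f i) (𝒰.f j)) ≫ 𝒰.f j) := by
      have e : (h' ≫ pullback.snd (𝒰.f i) (𝒰.f j)) ≫ 𝒰.f j =
          (h' ≫ pullback.fst (𝒰.f i) (𝒰.f j)) ≫ 𝒰.f i := by
        simp [pullback.condition]
      rw [e]; exact h1
    rw [← Category.assoc, ← Category.assoc, hφ i W _ h1, hφ j W _ h2]
    exact xcongr (by simp [pullback.condition]) _ _
  have hΦ : ∀ i, 𝒰.f i ≫ 𝒰.glueMorphisms φ hglue = φ i := 𝒰.ι_glueMorphisms φ hglue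
  have hΦam : x.IsAmalgamation (𝒰.glueMorphisms φ hglue) := by
    intro T t ht
    change t ≫ 𝒰.glueMorphisms φ hglue = x t ht
    refine Scheme.Cover.hom_ext (𝒰.pullback₁ t) _ _ fun i => ?_
    change pullback.fst t (𝒰.f i) ≫ t ≫ 𝒰.glueMorphisms φ hglue = pullback.fst t (𝒰.f i) ≫ x t ht
    have h0 : ((Sieve.ofArrows Xi f).pullback g) (pullback.fst t (𝒰.f i) ≫ t) :=
      ((Sieve.ofArrows Xi f).pullback g).downward_closed ht _
    have h1 : ((Sieve.ofArrows Xi f).pullback g) (pullback.snd t (𝒰.f i) ≫ 𝒰.f i) := by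
      rw [← pullback.condition]; exact h0
    rw [pullback.condition_assoc, hΦ i, hφ i _ _ h1, xcongr pullback.condition.symm h1 h0]
    exact hxs t (pullback.fst t (𝒰.f i)) ht
  refine ⟨𝒰.glueMorphisms φ hglue, hΦam, fun Φ' hΦ' => ?_⟩
  exact sep Y g Φ' _ fun W h' hh => (hΦ' h' hh).trans (hΦam h' hh).symm

end Groth.Agent.S9860
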