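import Groth.Statements.S9862
import Groth.Agent.Lead.SyntLocal
import Groth.Agent.H9.CMFlatSch
import Groth.Agent.H29.FlatCM
import Groth.Agent.H29.FiberStalkAt
import Groth.Agent.S9142
import Groth.Agent.H66.FibreReg

set_option autoImplicit false
open CategoryTheory CategoryTheory.Limits AlgebraicGeometry Opposite
universe u
open Desc

namespace Groth.Agent.S9862

set_option linter.style.haveILetI false
open AlgebraicGeometry CategoryTheory Groth.Agent.Lead.SyntLocal

attribute [local instance] Groth.Agent.H15.FlatLoc.isLocalRing_fibLocRing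

theorem flat_of_syntomic {X S : Scheme.{u}} (f : X ⟶ S) (h : Synt.IsSyntomicMor f) : Flat f :=
  (HasRingHomProperty.iff_appLE (P := @Flat)).mpr fun U V e =>
    ((Q_iff _).mp (HasRingHomProperty.appLE SyntMor f h U V e)).1

theorem lfp_of_syntomic {X S : Scheme.{u}} (f : X ⟶ S) (h : Synt.IsSyntomicMor f) :
    LocallyOfFinitePresentation f :=
  (HasRingHomProperty.iff_appLE (P := @LocallyOfFinitePresentation)).mpr fun U V e =>
    ((Q_iff _).mp (HasRingHomProperty.appLE SyntMor f h U V e)).2.1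

/-- the fibre local ring of a syntomic algebra is Cohen–Macaulay -/
theorem isCM_fibLocRing {R B : Type u} [CommRing R] [CommRing B] [Algebra R B]
    (h : Synt.IsSyntomic R B) (q : Ideal B) [q.IsPrime] :
    LocCoh.IsCohenMacaulayLocalRing (EGA4.FibLocRing R B q) := by
  obtain ⟨p, hp⟩ : ∃ p : Ideal R, p = q.under R := ⟨_, rfl⟩
  haveI : p.IsPrime := by rw [hp]; infer_instance
  haveI : q.LiesOver p := ⟨hp⟩
  obtain ⟨Q, hQ⟩ := Groth.Agent.H9.FibDim.exists_fiber_prime p q
  have hCM := Groth.Agent.S9142.result p.ResidueField (p.Fiber B) (h.2.2 ⟨p, inferInstance⟩)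
  obtain ⟨e⟩ := Groth.Agent.H66.FibreReg.nonempty_loc_fiber_equiv p Q.asIdeal q hQ
  exact Groth.Agent.H29.FlatCM.isCM_ringEquiv e
    (hCM.isCohenMacaulayLocalRing_localization Q.asIdeal)

/-- the closed fibre of the stalk map of a syntomic morphism is Cohen–Macaulay -/
theorem isCM_fibRing_stalk {X S : Scheme.{u}} (f : X ⟶ S) (h : Synt.IsSyntomicMor f) (x : X) :
    letI := (f.stalkMap x).hom.toAlgebra
    haveI : IsLocalHom (algebraMap (S.presheaf.stalk (f x)) (X.presheaf.stalk x)) :=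
      inferInstanceAs (IsLocalHom (f.stalkMap x).hom)
    LocCoh.IsCohenMacaulayLocalRing
      (EGA4.FibRing (S.presheaf.stalk (f x)) (X.presheaf.stalk x)) := by
  letI := (f.stalkMap x).hom.toAlgebra
  haveI : IsLocalHom (algebraMap (S.presheaf.stalk (f x)) (X.presheaf.stalk x)) :=
    inferInstanceAs (IsLocalHom (f.stalkMap x).hom)
  obtain ⟨U, V, e, hxU, hsyn⟩ := h x
  letI := (f.appLE V.1 U.1 e).hom.toAlgebra
  obtain ⟨e1⟩ := Groth.Agent.H9.CMFlatSch.nonempty_fibreStalk_equiv f x V.2 U.2 e hxU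
  obtain ⟨e0⟩ := Groth.Agent.H29.FiberStalkAt.nonempty_fiberStalkEquiv f x
  have hCM := isCM_fibLocRing hsyn (U.2.primeIdealOf ⟨x, hxU⟩).asIdeal
  exact Groth.Agent.H29.FlatCM.isCM_ringEquiv (e1.symm.trans e0.symm) hCM

/-- Noetherianity descends along a jointly surjective family of flat lfp morphisms. -/
theorem isLocallyNoetherian_of_cover {ι : Type u} {S : Scheme.{u}} {X : ι → Scheme.{u}}
    (f : ∀ i, X i ⟶ S) (hsurj : ∀ s : S, ∃ i, s ∈ Set.range (f i).base)
    (hflat : ∀ i, Flat (f i)) (hlfp : ∀ i, LocallyOfFinitePresentation (f i))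
    (hN : ∀ i, IsLocallyNoetherian (X i)) : IsLocallyNoetherian S := by
  have key : ∀ s : S, ∃ V : S.affineOpens, s ∈ V.1 ∧ IsNoetherianRing Γ(S, V.1) := by
    intro s
    obtain ⟨i, x, rfl⟩ := hsurj s
    haveI := hflat i
    haveI := hlfp i
    haveI := hN i
    obtain ⟨V₀, hV₀, hsV₀, -⟩ :=
      exists_isAffineOpen_mem_and_subset (X := S) (x := (f i).base x) (U := ⊤) trivial
    obtain ⟨U, hU, hxU, hUV₀⟩ :=
      exists_isAffineOpen_mem_and_subset (X := X i) (x := x) (U := (f i) ⁻¹ᵁ V₀) hsV₀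
    obtain ⟨Oo, hOo⟩ : ∃ Oo : S.Opens, (Oo : Set S) = (f i).base '' (U : Set (X i)) :=
      ⟨⟨_, (f i).isOpenMap _ U.2⟩, rfl⟩
    have hsO : (f i).base x ∈ Oo := by
      show (f i).base x ∈ (Oo : Set S)
      rw [hOo]; exact ⟨x, hxU, rfl⟩
    obtain ⟨h, hhO, hsh⟩ := hV₀.exists_basicOpen_le (V := Oo) ⟨(f i).base x, hsO⟩ hsV₀
    have hV : IsAffineOpen (S.basicOpen h) := hV₀.basicOpen h
    obtain ⟨U', hU'def⟩ : ∃ U' : (X i).Opens,
      U' = (X i).basicOpen ((f i).appLE V₀ U hUV₀ h) := ⟨_, rfl⟩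
    have hU'eq : U' = U ⊓ (f i) ⁻¹ᵁ (S.basicOpen h) := by
      rw [hU'def]; exact Scheme.basicOpen_appLE (f i) U V₀ hUV₀ h
    have hU' : IsAffineOpen U' := hU'def ▸ hU.basicOpen _
    have hU'V : U' ≤ (f i) ⁻¹ᵁ (S.basicOpen h) := hU'eq ▸ inf_le_right
    refine ⟨⟨S.basicOpen h, hV⟩, hsh, ?_⟩
    letI alg : Algebra Γ(S, S.basicOpen h) Γ(X i, U') :=
      ((f i).appLE (S.basicOpen h) U' hU'V).hom.toAlgebra
    haveI : Module.Flat Γ(S, S.basicOpen h) Γ(X i, U') := (f i).flat_appLE hV hU' hU'V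
    haveI : IsNoetherianRing Γ(X i, U') :=
      IsLocallyNoetherian.component_noetherian ⟨U', hU'⟩
    have hsurjSpec : Function.Surjective
        (PrimeSpectrum.comap (algebraMap Γ(S, S.basicOpen h) Γ(X i, U'))) := by
      intro 𝔭
      obtain ⟨t, ht⟩ : ∃ t : (S.basicOpen h : Scheme.{u}), hV.isoSpec.hom t = 𝔭 :=
        ⟨hV.isoSpec.inv 𝔭, by rw [← Scheme.Hom.comp_apply, Iso.inv_hom_id]; rfl⟩
      have htO : t.1 ∈ (Oo : Set S) := hhO t.2
      rw [hOo] at htO
      obtain ⟨u, huU, hut⟩ := htO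
      have huU' : u ∈ U' := by
        rw [hU'eq]
        refine ⟨huU, ?_⟩
        show (f i).base u ∈ S.basicOpen h
        rw [hut]; exact t.2
      refine ⟨hU'.primeIdealOf ⟨u, huU'⟩, ?_⟩
      have h1 := IsAffineOpen.comap_primeIdealOf_appLE (f := f i) (S.basicOpen h) hV U' hU' hU'V
        huU'
      rw [← ht]
      refine h1.trans ?_
      show hV.isoSpec.hom _ = hV.isoSpec.hom t
      congr 1
      exact Subtype.ext hut
    haveI : Module.FaithfullyFlat Γ(S, S.basicOpen h) Γ(X i, U') :=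
      Module.FaithfullyFlat.of_comap_surjective hsurjSpec
    have hNt : IsNoetherian Γ(X i, U')
        (TensorProduct Γ(S, S.basicOpen h) Γ(X i, U') Γ(S, S.basicOpen h)) :=
      isNoetherian_of_linearEquiv
        (TensorProduct.AlgebraTensorModule.rid Γ(S, S.basicOpen h) Γ(X i, U') Γ(X i, U')).symm
    exact Submodule.IsNoetherian.of_isNoetherian_tensorProduct_of_faithfullyFlat hNt
  choose V hsV hVN using key
  refine isLocallyNoetherian_of_affine_cover (S := V) ?_ hVN
  rw [eq_top_iff]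
  rintro s -
  exact TopologicalSpace.Opens.mem_iSup.mpr ⟨s, hsV s⟩


/-- Being Cohen-Macaulay is local in the syntomic topology: for a jointly surjective family of syntomic
morphisms f i : X i ⟶ S, the scheme S is locally Noetherian with Cohen-Macaulay local rings if and
only if every X i is. -/
theorem result {ι : Type u} {S : Scheme.{u}} {X : ι → Scheme.{u}} (f : ∀ i, X i ⟶ S)
    (hsurj : ∀ s : S, ∃ i, s ∈ Set.range (f i).base) (hsyn : ∀ i, Synt.IsSyntomicMor (f i)) :
    (IsLocallyNoetherian S ∧ ∀ s : S, LocCoh.IsCohenMacaulayLocalRing (S.presheaf.stalk s)) ↔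
      ∀ i, IsLocallyNoetherian (X i) ∧ ∀ x : X i, LocCoh.IsCohenMacaulayLocalRing ((X i).presheaf.stalk x) := by
  constructor
  · rintro ⟨hSN, hSCM⟩ i
    haveI := hSN
    haveI := lfp_of_syntomic (f i) (hsyn i)
    haveI := flat_of_syntomic (f i) (hsyn i)
    haveI hXN : IsLocallyNoetherian (X i) := LocallyOfFiniteType.isLocallyNoetherian (f i)
    refine ⟨hXN, fun x => ?_⟩
    letI := ((f i).stalkMap x).hom.toAlgebra
    haveI : IsLocalHom (algebraMap (S.presheaf.stalk ((f i) x)) ((X i).presheaf.stalk x)) :=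
      inferInstanceAs (IsLocalHom ((f i).stalkMap x).hom)
    haveI : Module.Flat (S.presheaf.stalk ((f i) x)) ((X i).presheaf.stalk x) :=
      Flat.stalkMap (f i) x
    exact Groth.Agent.H29.FlatCM.isCM_of_flat_of_isCM_of_isCM (hSCM ((f i) x))
      (isCM_fibRing_stalk (f i) (hsyn i) x)
  · intro h
    have hSN : IsLocallyNoetherian S := isLocallyNoetherian_of_cover f hsurj
      (fun i => flat_of_syntomic (f i) (hsyn i)) (fun i => lfp_of_syntomic (f i) (hsyn i))
      (fun i => (h i).1)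
    refine ⟨hSN, fun s => ?_⟩
    obtain ⟨i, x, rfl⟩ := hsurj s
    haveI := hSN
    haveI := (h i).1
    haveI := flat_of_syntomic (f i) (hsyn i)
    letI := ((f i).stalkMap x).hom.toAlgebra
    haveI : IsLocalHom (algebraMap (S.presheaf.stalk ((f i) x)) ((X i).presheaf.stalk x)) :=
      inferInstanceAs (IsLocalHom ((f i).stalkMap x).hom)
    haveI : Module.Flat (S.presheaf.stalk ((f i) x)) ((X i).presheaf.stalk x) :=
      Flat.stalkMap (f i) x
    exact (Groth.Agent.H29.FlatCM.isCM_of_flat_of_isCM ((h i).2 x)).1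

end Groth.Agent.S9862
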