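import Groth.Statements.S9863
import Groth.Agent.S9862
import Groth.Agent.H15.SkAt
import Groth.Agent.H15.FibreSk

set_option autoImplicit false
open CategoryTheory CategoryTheory.Limits AlgebraicGeometry Opposite
universe u
open Desc

namespace Groth.Agent.S9863

set_option linter.style.haveILetI false
open AlgebraicGeometry CategoryTheory Groth.Agent.Lead.SyntLocal

attribute [local instance] Groth.Agent.H15.FlatLoc.isLocalRing_fibLocRing

/-- `(S_k)` descends along faithfully flat homomorphisms of Noetherian rings. -/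
theorem hasSk_of_faithfullyFlat (A B : Type u) [CommRing A] [CommRing B] [Algebra A B]
    [IsNoetherianRing A] [IsNoetherianRing B] [Module.FaithfullyFlat A B] (n : ℕ)
    (hB : LocCoh.HasSk n B B) : LocCoh.HasSk n A A := by
  rw [Groth.Agent.H15.SkAt.hasSk_self_iff'] at hB ⊢
  intro p _
  obtain ⟨r₀, hr₀⟩ := PrimeSpectrum.comap_surjective_of_faithfullyFlat (A := A) (B := B)
    ⟨p, inferInstance⟩
  have hr₀' : r₀.asIdeal.comap (algebraMap A B) = p := congrArg PrimeSpectrum.asIdeal hr₀
  have hle : p.map (algebraMap A B) ≤ r₀.asIdeal := by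
    rw [Ideal.map_le_iff_le_comap, hr₀']
  obtain ⟨r, hrmin, hrle⟩ := Ideal.exists_minimalPrimes_le hle
  haveI : r.IsPrime := hrmin.1.1
  have hrp : r.comap (algebraMap A B) = p := by
    apply le_antisymm
    · calc r.comap (algebraMap A B) ≤ r₀.asIdeal.comap (algebraMap A B) := Ideal.comap_mono hrle
        _ = p := hr₀'
    · exact Ideal.map_le_iff_le_comap.mp hrmin.1.2
  subst hrp
  haveI : r.LiesOver (r.comap (algebraMap A B)) := ⟨rfl⟩
  obtain ⟨hdim, hdepth, -⟩ := Groth.Agent.H15.FlatLoc.flat_data A B r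
  have hht : r.height = (r.comap (algebraMap A B)).height := by
    have h1 := Ideal.height_eq_height_add_of_liesOver_of_hasGoingDown
      (r.comap (algebraMap A B)) r
    have h2 : (r.map (Ideal.Quotient.mk
        ((r.comap (algebraMap A B)).map (algebraMap A B)))).height = 0 := by
      rw [Ideal.minimalPrimes_eq_comap] at hrmin
      obtain ⟨rb, hrb, hrbr⟩ := hrmin
      have h3 : r.map (Ideal.Quotient.mk ((r.comap (algebraMap A B)).map (algebraMap A B))) =
          rb := by
        have h9 := Ideal.map_comap_of_surjective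
          (Ideal.Quotient.mk ((r.comap (algebraMap A B)).map (algebraMap A B)))
          Ideal.Quotient.mk_surjective rb
        rw [hrbr] at h9
        exact h9
      rw [h3]
      haveI := hrb.1.1
      exact Ideal.height_eq_zero_iff.mpr hrb
    rw [h1, h2, add_zero]
  have hne : (r.comap (algebraMap A B)).height ≠ ⊤ :=
    Ideal.height_ne_top (Ideal.IsPrime.ne_top inferInstance)
  have hdimF : ringKrullDim (EGA4.FibLocRing A B r) ≤ 0 := by
    rw [hht] at hdim
    have hnn : (0 : WithBot ℕ∞) ≤ ringKrullDim (EGA4.FibLocRing A B r) :=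
      ringKrullDim_nonneg_of_nontrivial
    obtain ⟨e, he⟩ : ∃ e : ℕ∞, ringKrullDim (EGA4.FibLocRing A B r) = (e : WithBot ℕ∞) := by
      cases h : ringKrullDim (EGA4.FibLocRing A B r) with
      | bot => rw [h] at hnn; exact absurd hnn (by simp)
      | coe e => exact ⟨e, rfl⟩
    rw [he] at hdim ⊢
    have h4 : (r.comap (algebraMap A B)).height = (r.comap (algebraMap A B)).height + e := by
      exact_mod_cast hdim
    lift (r.comap (algebraMap A B)).height to ℕ using hne with m hm
    cases e with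
    | top => simp at h4
    | coe k =>
      have : m = m + k := by exact_mod_cast h4
      have hk : k = 0 := by omega
      subst hk
      simp
  have hdepthF : LocCoh.depth (EGA4.FibLocRing A B r) (EGA4.FibLocRing A B r) = 0 := by
    haveI : IsNoetherianRing (EGA4.FibLocRing A B r) := inferInstance
    have h5 := Groth.Agent.H29.CM.depth_le_supportDim (A := EGA4.FibLocRing A B r)
      (M := EGA4.FibLocRing A B r)
    rw [Module.supportDim_self_eq_ringKrullDim] at h5
    have h6 := h5.trans hdimF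
    have h7 : LocCoh.depth (EGA4.FibLocRing A B r) (EGA4.FibLocRing A B r) ≤ 0 := by
      exact_mod_cast h6
    exact le_antisymm h7 zero_le
  have h8 := hB r
  rw [hdepth, hdepthF, add_zero, hht] at h8
  exact h8

/-- Cohen–Macaulay fibre local rings satisfy every `(S_n)` inequality. -/
theorem skFib_of_isCM (A B : Type u) [CommRing A] [CommRing B] [Algebra A B] (n : ℕ)
    (r : Ideal B) [r.IsPrime] (h : LocCoh.IsCohenMacaulayLocalRing (EGA4.FibLocRing A B r)) :
    Groth.Agent.H15.FibreSk.SkFib A B n r := by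
  unfold Groth.Agent.H15.FibreSk.SkFib
  have h1 := h.supportDim_eq_depth
  rw [Module.supportDim_self_eq_ringKrullDim,
    ← IsLocalRing.maximalIdeal_height_eq_ringKrullDim] at h1
  have h2 : (IsLocalRing.maximalIdeal (EGA4.FibLocRing A B r)).height =
      LocCoh.depth (EGA4.FibLocRing A B r) (EGA4.FibLocRing A B r) := by exact_mod_cast h1
  rw [← h2]
  exact min_le_right _ _

/-- `(S_k)` for all stalks in an affine open is `(S_k)` for the ring of sections. -/
theorem hasSk_chart_iff {X : Scheme.{u}} (U : X.Opens) (hU : IsAffineOpen U) (k : ℕ) :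
    (∀ x : X, x ∈ U → LocCoh.HasSk k (X.presheaf.stalk x) (X.presheaf.stalk x)) ↔
      LocCoh.HasSk k Γ(X, U) Γ(X, U) := by
  have stalk_iff : ∀ (x : X) (hx : x ∈ U),
      LocCoh.HasSk k (X.presheaf.stalk x) (X.presheaf.stalk x) ↔
        EGA4.HasSkAt k Γ(X, U) Γ(X, U) (hU.primeIdealOf ⟨x, hx⟩).asIdeal := by
    intro x hx
    letI : Algebra Γ(X, U) (X.presheaf.stalk x) :=
      TopCat.Presheaf.algebra_section_stalk X.presheaf ⟨x, hx⟩
    haveI : IsLocalization.AtPrime (X.presheaf.stalk x) (hU.primeIdealOf ⟨x, hx⟩).asIdeal :=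
      hU.isLocalization_stalk ⟨x, hx⟩
    let e : Localization.AtPrime (hU.primeIdealOf ⟨x, hx⟩).asIdeal ≃+* X.presheaf.stalk x :=
      (IsLocalization.algEquiv (hU.primeIdealOf ⟨x, hx⟩).asIdeal.primeCompl
        (Localization.AtPrime (hU.primeIdealOf ⟨x, hx⟩).asIdeal)
        (X.presheaf.stalk x)).toRingEquiv
    unfold EGA4.HasSkAt
    constructor
    · intro h
      exact Groth.Agent.H15.SkAt.hasSk_congr
        (Groth.Agent.S0602.locSelfEquiv (hU.primeIdealOf ⟨x, hx⟩).asIdeal.primeCompl).symm k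
        (Groth.Agent.H15.SkAt.hasSk_self_of_ringEquiv e.symm k h)
    · intro h
      exact Groth.Agent.H15.SkAt.hasSk_self_of_ringEquiv e k
        (Groth.Agent.H15.SkAt.hasSk_congr
          (Groth.Agent.S0602.locSelfEquiv (hU.primeIdealOf ⟨x, hx⟩).asIdeal.primeCompl) k h)
  constructor
  · intro h
    rw [Groth.Agent.H15.SkAt.hasSk_self_iff']
    intro q hq
    obtain ⟨x, hx, hxq⟩ : ∃ (x : X) (hx : x ∈ U), (hU.primeIdealOf ⟨x, hx⟩).asIdeal = q := by
      let t : (U : Scheme.{u}) := hU.isoSpec.inv ⟨q, hq⟩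
      refine ⟨t.1, t.2, ?_⟩
      have : hU.primeIdealOf ⟨t.1, t.2⟩ = ⟨q, hq⟩ := by
        show hU.isoSpec.hom (hU.isoSpec.inv ⟨q, hq⟩) = _
        rw [← Scheme.Hom.comp_apply, Iso.inv_hom_id]; rfl
      rw [this]
    subst hxq
    exact (Groth.Agent.H15.SkAt.hasSkAt_self_iff Γ(X, U) k _).mp ((stalk_iff x hx).mp (h x hx))
      _ le_rfl
  · intro h x hx
    rw [Groth.Agent.H15.SkAt.hasSk_self_iff'] at h
    exact (stalk_iff x hx).mpr ((Groth.Agent.H15.SkAt.hasSkAt_self_iff Γ(X, U) k _).mpr
      (fun p' _ _ => h p'))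


/-- The property 'locally Noetherian and (S_k)' is local in the syntomic topology: for a jointly
surjective family of syntomic morphisms f i : X i ⟶ S and k a natural number, S is locally
Noetherian with all local rings satisfying Serre's condition (S_k) if and only if every X i is. -/
theorem result {ι : Type u} {S : Scheme.{u}} {X : ι → Scheme.{u}} (f : ∀ i, X i ⟶ S)
    (hsurj : ∀ s : S, ∃ i, s ∈ Set.range (f i).base) (hsyn : ∀ i, Synt.IsSyntomicMor (f i)) (k : ℕ) :
    (IsLocallyNoetherian S ∧ ∀ s : S, LocCoh.HasSk k (S.presheaf.stalk s) (S.presheaf.stalk s)) ↔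
      ∀ i, IsLocallyNoetherian (X i) ∧ ∀ x : X i, LocCoh.HasSk k ((X i).presheaf.stalk x) ((X i).presheaf.stalk x) := by
  constructor
  · rintro ⟨hSN, hSk⟩ i
    haveI := hSN
    haveI := Groth.Agent.S9862.lfp_of_syntomic (f i) (hsyn i)
    haveI hXN : IsLocallyNoetherian (X i) := LocallyOfFiniteType.isLocallyNoetherian (f i)
    refine ⟨hXN, fun x => ?_⟩
    obtain ⟨U, V, e, hxU, hsynUV⟩ := hsyn i x
    letI := ((f i).appLE V.1 U.1 e).hom.toAlgebra
    haveI : IsNoetherianRing Γ(S, V.1) := IsLocallyNoetherian.component_noetherian V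
    haveI : IsNoetherianRing Γ(X i, U.1) := IsLocallyNoetherian.component_noetherian U
    haveI : Module.Flat Γ(S, V.1) Γ(X i, U.1) := hsynUV.1
    have hA : LocCoh.HasSk k Γ(S, V.1) Γ(S, V.1) :=
      (hasSk_chart_iff V.1 V.2 k).mp (fun s _ => hSk s)
    have hC : LocCoh.HasSk k Γ(X i, U.1) Γ(X i, U.1) :=
      Groth.Agent.H15.FibreSk.hasSk_of_flat Γ(S, V.1) Γ(X i, U.1) k hA
        (fun r _ => skFib_of_isCM _ _ k r (Groth.Agent.S9862.isCM_fibLocRing hsynUV r))
    exact (hasSk_chart_iff U.1 U.2 k).mpr hC x hxU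
  · intro h
    have hSN : IsLocallyNoetherian S := Groth.Agent.S9862.isLocallyNoetherian_of_cover f hsurj
      (fun i => Groth.Agent.S9862.flat_of_syntomic (f i) (hsyn i))
      (fun i => Groth.Agent.S9862.lfp_of_syntomic (f i) (hsyn i)) (fun i => (h i).1)
    refine ⟨hSN, fun s => ?_⟩
    obtain ⟨i, x, rfl⟩ := hsurj s
    haveI := hSN
    haveI := (h i).1
    haveI := Groth.Agent.S9862.flat_of_syntomic (f i) (hsyn i)
    letI := ((f i).stalkMap x).hom.toAlgebra
    haveI : IsLocalHom (algebraMap (S.presheaf.stalk ((f i) x)) ((X i).presheaf.stalk x)) :=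
      inferInstanceAs (IsLocalHom ((f i).stalkMap x).hom)
    haveI : Module.Flat (S.presheaf.stalk ((f i) x)) ((X i).presheaf.stalk x) :=
      Flat.stalkMap (f i) x
    haveI : Module.FaithfullyFlat (S.presheaf.stalk ((f i) x)) ((X i).presheaf.stalk x) :=
      Module.FaithfullyFlat.of_flat_of_isLocalHom
    exact hasSk_of_faithfullyFlat _ _ k ((h i).2 x)

end Groth.Agent.S9863
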