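import Groth.Statements.S9865
import Groth.Agent.H49.DescFam

set_option autoImplicit false
open CategoryTheory CategoryTheory.Limits AlgebraicGeometry Opposite
universe u
open Desc

namespace Groth.Agent.S9865

/-- Let f : X' ⟶ X be a morphism of schemes over S, with structure morphisms a' : X' ⟶ S and a : X ⟶ S,
and assume there exists a morphism g : X ⟶ X' over S (for instance a section of f). Then the
pullback functor along f, from descent data for schemes relative to X ⟶ S to descent data relative
to X' ⟶ S, is an equivalence of categories. (Descent data relative to a single morphism are written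
as descent data relative to the corresponding one-member family.) -/
theorem result {X X' S : Scheme.{u}} (a : X ⟶ S) (a' : X' ⟶ S) (f : X' ⟶ X)
    (h : f ≫ a = a') (hg : ∃ g : X ⟶ X', g ≫ a' = a) :
    (Desc.pullDDFam (f := fun _ : PUnit.{u + 1} => a) (f' := fun _ : PUnit.{u + 1} => a') (α := fun j => j)
        (p := 𝟙 S) (p' := fun _ => f) (fun _ => (h).trans (Category.comp_id a').symm)).IsEquivalence := by
  obtain ⟨g, hg⟩ := hg
  let F := Desc.pullDDFam (f := fun _ : PUnit.{u + 1} => a) (f' := fun _ : PUnit.{u + 1} => a')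
    (α := fun j => j) (p := 𝟙 S) (p' := fun _ => f) (fun _ => (h).trans (Category.comp_id a').symm)
  let G := Desc.pullDDFam (f := fun _ : PUnit.{u + 1} => a') (f' := fun _ : PUnit.{u + 1} => a)
    (α := fun j => j) (p := 𝟙 S) (p' := fun _ => g) (fun _ => (hg).trans (Category.comp_id a).symm)
  have dF : Groth.Agent.H49.PtDesc F := Groth.Agent.H49.PtDesc.pull _
  have dG : Groth.Agent.H49.PtDesc G := Groth.Agent.H49.PtDesc.pull _
  let η : 𝟭 _ ≅ F ⋙ G := Groth.Agent.H49.natIsoOfPtDesc Groth.Agent.H49.PtDesc.id
    ((Groth.Agent.H49.PtDesc.pull _).comp (Groth.Agent.H49.PtDesc.pull _)) (by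
      intro T j x
      change x ≫ a = ((x ≫ g) ≫ f) ≫ a
      rw [Category.assoc, Category.assoc, h, hg])
  let ε : G ⋙ F ≅ 𝟭 _ := Groth.Agent.H49.natIsoOfPtDesc
    ((Groth.Agent.H49.PtDesc.pull _).comp (Groth.Agent.H49.PtDesc.pull _))
    Groth.Agent.H49.PtDesc.id (by
      intro T j x
      change ((x ≫ f) ≫ g) ≫ a' = x ≫ a'
      rw [Category.assoc, Category.assoc, hg, h])
  exact (CategoryTheory.Equivalence.mk F G η ε).isEquivalence_functor

end Groth.Agent.S9865
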