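import Groth.Statements.S9870
import Groth.Agent.H51.OpenDesc
import Groth.Agent.H51.QuotKer

set_option autoImplicit false
universe u
open CategoryTheory CategoryTheory.Limits AlgebraicGeometry
open AlgSp

namespace Groth.Agent.S9870

/-- Let `s, t : R ⟶ U` be a pre-relation on a scheme `U` over `S` which is an equivalence relation (on
`T`-points, for every scheme `T` over `S`), with `s` and `t` surjective, flat and locally of finite
presentation, and let `g : U' ⟶ U` be flat and locally of finite presentation. Let `s', t' : R' ⟶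
U'` be the restriction of the pre-relation to `U'`, i.e. `R'` with `(t', s')` and `R' ⟶ R` is the
fibre product of `U' ×_S U'` and `R` over `U ×_S U`. Then the map of fppf quotient sheaves `U'/R' ⟶
U/R` induced by `g` (the unique map under the quotient maps compatible with `h_g`) is representable
and an open immersion. -/
theorem result (S : Scheme.{u}) {R U R' U' : Over S} (s t : R ⟶ U)
    (g : U' ⟶ U) (s' t' : R' ⟶ U') (r : R' ⟶ R)
    (hsq : IsPullback (prod.lift t' s') r (prod.map g g) (prod.lift t s))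
    (hR : AlgSp.IsEqvRel s t)
    [Surjective s.left] [Flat s.left] [LocallyOfFinitePresentation s.left]
    [Surjective t.left] [Flat t.left] [LocallyOfFinitePresentation t.left]
    [Flat g.left] [LocallyOfFinitePresentation g.left]
    (φ : QuotSh.quot Scheme.fppfPrecoverage s' t' ⟶ QuotSh.quot Scheme.fppfPrecoverage s t)
    (hφ : QuotSh.quotπ Scheme.fppfPrecoverage s' t' ≫ φ = QuotSh.repMap Scheme.fppfPrecoverage g ≫ QuotSh.quotπ Scheme.fppfPrecoverage s t) :
    AlgSp.RepWith @IsOpenImmersion φ := by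
  classical
  have hE := hR
  have hqφ₀ : Groth.Agent.H51.QuotKer.qmap s' t' ≫ φ =
      (AlgSp.yon S).map g ≫ Groth.Agent.H51.QuotKer.qmap s t := by
    have h1 := Groth.Agent.H51.QuotKer.repIso_naturality (S := S) g
    unfold Groth.Agent.H51.QuotKer.qmap
    rw [Category.assoc, hφ, ← Category.assoc, ← Category.assoc]
    congr 1
    rw [Iso.inv_comp_eq, ← Category.assoc, Iso.eq_comp_inv]
    exact h1
  have ker₀ := Groth.Agent.H51.QuotKer.isPullback_yon s t hE
  have hw₀ := Groth.Agent.H51.QuotKer.qmap_w s t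
  have hw₀' := Groth.Agent.H51.QuotKer.qmap_w s' t'
  have hepi₀ : Epi (Groth.Agent.H51.QuotKer.qmap s t) := inferInstance
  have hepi₀' : Epi (Groth.Agent.H51.QuotKer.qmap s' t') := inferInstance
  obtain ⟨q, hq⟩ : ∃ q, q = Groth.Agent.H51.QuotKer.qmap s t := ⟨_, rfl⟩
  obtain ⟨q', hq'⟩ : ∃ q', q' = Groth.Agent.H51.QuotKer.qmap s' t' := ⟨_, rfl⟩
  have hqφ : q' ≫ φ = (AlgSp.yon S).map g ≫ q := by rw [hq, hq']; exact hqφ₀
  have ker : IsPullback ((AlgSp.yon S).map t) ((AlgSp.yon S).map s) q q := by rw [hq]; exact ker₀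
  have hqw : (AlgSp.yon S).map s ≫ q = (AlgSp.yon S).map t ≫ q := by rw [hq]; exact hw₀
  have hqw' : (AlgSp.yon S).map s' ≫ q' = (AlgSp.yon S).map t' ≫ q' := by rw [hq']; exact hw₀'
  have hepi : Epi q := by rw [hq]; exact hepi₀
  have hepi' : Epi q' := by rw [hq']; exact hepi₀'
  clear hqφ₀ ker₀ hw₀ hw₀' hepi₀ hepi₀' hq hq'
  -- two points of `U` with the same image in `U/R` are related
  have hrel : ∀ ⦃X : Over S⦄ (a b : X ⟶ U), (AlgSp.yon S).map a ≫ q = (AlgSp.yon S).map b ≫ q →
      ∃ ρ : X ⟶ R, ρ ≫ t = a ∧ ρ ≫ s = b := by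
    intro X a b hab
    obtain ⟨ρ, hρ⟩ := (AlgSp.yon S).map_surjective (ker.lift _ _ hab)
    refine ⟨ρ, (AlgSp.yon S).map_injective ?_, (AlgSp.yon S).map_injective ?_⟩
    · rw [Functor.map_comp, hρ]; exact ker.lift_fst _ _ hab
    · rw [Functor.map_comp, hρ]; exact ker.lift_snd _ _ hab
  -- `φ` is a monomorphism
  have hmono : Mono φ := by
    apply Groth.Agent.H50.mono_of_forall_yon
    intro X a₁ a₂ h12
    obtain ⟨S₁, hS₁, l₁⟩ := Groth.Agent.H50.exists_local_lift q' a₁
    obtain ⟨S₂, hS₂, l₂⟩ := Groth.Agent.H50.exists_local_lift q' a₂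
    refine Groth.Agent.H50.hom_ext_of_local a₁ a₂ ((AlgSp.J S).intersection_covering hS₁ hS₂) ?_
    intro X' f hf
    obtain ⟨x₁, hx₁⟩ := l₁ f hf.1
    obtain ⟨x₂, hx₂⟩ := l₂ f hf.2
    obtain ⟨ξ₁, rfl⟩ := (AlgSp.yon S).map_surjective x₁
    obtain ⟨ξ₂, rfl⟩ := (AlgSp.yon S).map_surjective x₂
    have e : (AlgSp.yon S).map (ξ₁ ≫ g) ≫ q = (AlgSp.yon S).map (ξ₂ ≫ g) ≫ q := by
      rw [Functor.map_comp, Functor.map_comp, Category.assoc, Category.assoc, ← hqφ,
        ← Category.assoc, ← Category.assoc, hx₁, hx₂, Category.assoc, Category.assoc, h12]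
    obtain ⟨ρ, hρ₁, hρ₂⟩ := hrel _ _ e
    have hcomm : prod.lift ξ₁ ξ₂ ≫ prod.map g g = ρ ≫ prod.lift t s := by
      rw [prod.lift_map, prod.comp_lift, hρ₁, hρ₂]
    obtain ⟨ρ', hρ'⟩ : ∃ ρ' : X' ⟶ R', ρ' ≫ prod.lift t' s' = prod.lift ξ₁ ξ₂ :=
      ⟨hsq.lift _ _ hcomm, hsq.lift_fst _ _ hcomm⟩
    have h2 : ρ' ≫ t' = ξ₁ := by
      have := congr_arg (fun m => m ≫ prod.fst) hρ'
      simpa only [Category.assoc, prod.lift_fst] using this
    have h3 : ρ' ≫ s' = ξ₂ := by
      have := congr_arg (fun m => m ≫ prod.snd) hρ'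
      simpa only [Category.assoc, prod.lift_snd] using this
    rw [← hx₁, ← hx₂, ← h2, ← h3, Functor.map_comp, Functor.map_comp, Category.assoc,
      Category.assoc, hqw']
  -- the open set `W`
  let h : pullback g t ⟶ U := pullback.snd g t ≫ s
  have hfl : Flat h.left := by
    have : Flat (pullback.snd g t).left := by
      have sqS : IsPullback (pullback.fst g t).left (pullback.snd g t).left g.left t.left :=
        (IsPullback.of_hasPullback g t).map (Over.forget S)
      exact MorphismProperty.of_isPullback (P := @Flat) sqS inferInstance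
    change Flat ((pullback.snd g t).left ≫ s.left)
    infer_instance
  have hfp : LocallyOfFinitePresentation h.left := by
    have : LocallyOfFinitePresentation (pullback.snd g t).left := by
      have sqS : IsPullback (pullback.fst g t).left (pullback.snd g t).left g.left t.left :=
        (IsPullback.of_hasPullback g t).map (Over.forget S)
      exact MorphismProperty.of_isPullback (P := @LocallyOfFinitePresentation) sqS inferInstance
    change LocallyOfFinitePresentation ((pullback.snd g t).left ≫ s.left)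
    infer_instance
  let W : U.left.Opens := ⟨Set.range h.left, h.left.isOpenMap.isOpen_range⟩
  have hB : ∃ w : (AlgSp.yon S).obj (Groth.Agent.H50.opensOver U W) ⟶ _,
      w ≫ φ = (AlgSp.yon S).map (Groth.Agent.H50.opensOverι U W) ≫ q := by
    obtain ⟨δ, hδ⟩ := Groth.Agent.H50.exists_lift_opensOver W h (fun p => ⟨p, rfl⟩)
    have h3 : δ.left ≫ W.ι = h.left := congr_arg (fun m => m.left) hδ
    refine Groth.Agent.H52.exists_factor_of_fppf_family φ _ (fun _ : Unit => pullback g t)
      (fun _ => δ) ?_ ?_ ?_ ?_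
    · intro τ
      obtain ⟨p, hp⟩ : W.ι τ ∈ Set.range h.left := τ.2
      refine ⟨(), p, W.ι.isOpenEmbedding.injective ?_⟩
      rw [← Scheme.Hom.comp_apply, h3, hp]
    · intro _
      refine MorphismProperty.of_postcomp (W := @Flat) (W' := @IsOpenImmersion) _ W.ι
        inferInstance ?_
      rw [h3]
      exact hfl
    · intro _
      refine MorphismProperty.of_postcomp (W := @LocallyOfFinitePresentation)
        (W' := @IsOpenImmersion) _ W.ι inferInstance ?_
      rw [h3]
      exact hfp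
    · intro _
      refine ⟨(AlgSp.yon S).map (pullback.fst g t) ≫ q', ?_⟩
      rw [Category.assoc, hqφ, ← Category.assoc, ← Functor.map_comp, pullback.condition,
        Functor.map_comp, Category.assoc, ← hqw, ← Category.assoc,
        ← Functor.map_comp, ← Category.assoc, ← Functor.map_comp, hδ]
  obtain ⟨w, hw⟩ := hB
  refine Groth.Agent.H51.OpenDesc.repWith_isOpenImmersion_of_chart φ q W ?_ w hw
  -- (A)
  intro X y a ha χ
  obtain ⟨Sg, hSg, hl⟩ := Groth.Agent.H50.exists_local_lift q' a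
  obtain ⟨X', c', hc', -, -, χ', hχ'⟩ := Groth.Agent.H50.exists_fppf_of_mem_J hSg χ
  obtain ⟨x₀, hx₀⟩ := hl c' hc'
  obtain ⟨ξ, rfl⟩ := (AlgSp.yon S).map_surjective x₀
  have e : (AlgSp.yon S).map (ξ ≫ g) ≫ q = (AlgSp.yon S).map (c' ≫ y) ≫ q := by
    rw [Functor.map_comp, Functor.map_comp, Category.assoc, Category.assoc, ← hqφ,
      ← Category.assoc, hx₀, Category.assoc, ha]
  obtain ⟨ρ, hρ₁, hρ₂⟩ := hrel _ _ e
  have hl : pullback.lift ξ ρ hρ₁.symm ≫ h = c' ≫ y := by
    change pullback.lift ξ ρ hρ₁.symm ≫ pullback.snd g t ≫ s = _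
    rw [pullback.lift_snd_assoc, hρ₂]
  change y.left χ ∈ Set.range h.left
  refine ⟨(pullback.lift ξ ρ hρ₁.symm).left χ', ?_⟩
  rw [← Scheme.Hom.comp_apply, ← Over.comp_left, hl, Over.comp_left, Scheme.Hom.comp_apply, hχ']

end Groth.Agent.S9870
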