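import Groth.Statements.S9871
import Mathlib

set_option autoImplicit false
universe u
open CategoryTheory CategoryTheory.Limits AlgebraicGeometry
open AlgSp

namespace Groth.Agent.S9871

/-- Let `s, t : R ⟶ U` be an etale equivalence relation on a scheme `U` over `S` and let `g : U' ⟶ U` be
an etale morphism over `S`. Let `s', t' : R' ⟶ U'` be the restriction to `U'`: `R'`, with `(t', s')`
and `R' ⟶ R`, is the fibre product of `U' ×_S U'` and `R` over `U ×_S U`. Then `s', t'` is again an
etale equivalence relation. -/
theorem result (S : Scheme.{u}) {R U R' U' : Over S} (s t : R ⟶ U)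
    (g : U' ⟶ U) (s' t' : R' ⟶ U') (r : R' ⟶ R)
    (hsq : IsPullback (prod.lift t' s') r (prod.map g g) (prod.lift t s))
    (h : AlgSp.IsEtaleEqvRel s t) [Etale g.left] :
    AlgSp.IsEtaleEqvRel s' t' := by
  have hw := hsq.w
  have hrt : r ≫ t = t' ≫ g := by
    have := hw =≫ prod.fst
    simp only [Category.assoc, prod.map_fst, prod.lift_fst, prod.lift_fst_assoc] at this
    exact this.symm
  have hrs : r ≫ s = s' ≫ g := by
    have := hw =≫ prod.snd
    simp only [Category.assoc, prod.map_snd, prod.lift_snd, prod.lift_snd_assoc] at this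
    exact this.symm
  have key : ∀ (T : Over S) (a b : T ⟶ U'),
      (∃ r' : T ⟶ R', r' ≫ t' = a ∧ r' ≫ s' = b) ↔
        (∃ ρ : T ⟶ R, ρ ≫ t = a ≫ g ∧ ρ ≫ s = b ≫ g) := by
    intro T a b
    constructor
    · rintro ⟨r', rfl, rfl⟩
      exact ⟨r' ≫ r, by rw [Category.assoc, hrt, Category.assoc],
        by rw [Category.assoc, hrs, Category.assoc]⟩
    · rintro ⟨ρ, h1, h2⟩
      have hc : prod.lift a b ≫ prod.map g g = ρ ≫ prod.lift t s := by
        apply prod.hom_ext <;> simp [h1, h2]
      refine ⟨hsq.lift (prod.lift a b) ρ hc, ?_, ?_⟩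
      · have := hsq.lift_fst (prod.lift a b) ρ hc
        have := this =≫ prod.fst
        simpa only [Category.assoc, prod.lift_fst] using this
      · have := hsq.lift_fst (prod.lift a b) ρ hc
        have := this =≫ prod.snd
        simpa only [Category.assoc, prod.lift_snd] using this
  let Q : MorphismProperty (Over S) := MorphismProperty.inverseImage (@Etale : MorphismProperty Scheme.{u}) (Over.forget S)
  haveI iQ1 : Q.IsStableUnderBaseChange := AlgSp.inverseImage_forget_isStableUnderBaseChange (S := S) @Etale
  have hg : Q g := by show Etale g.left; infer_instance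
  have sq1 : IsPullback (prod.fst : U' ⨯ U' ⟶ U') (prod.map g (𝟙 U')) g (prod.fst : U ⨯ U' ⟶ U) :=
    IsPullback.of_iso_pullback ⟨by simp⟩ (pullbackProdFstIsoProd g U').symm (by simp)
      (by simp only [Iso.symm_hom, pullbackProdFstIsoProd, pullback.lift_snd])
  have sq2 : IsPullback (prod.map (𝟙 U) g) (prod.snd : U ⨯ U' ⟶ U') (prod.snd : U ⨯ U ⟶ U) g :=
    IsPullback.of_iso_pullback ⟨by simp⟩ (pullbackProdSndIsoProd g U).symm
      (by simp only [Iso.symm_hom, pullbackProdSndIsoProd, pullback.lift_fst]) (by simp)
  have h1 : Q (prod.map g (𝟙 U')) := Q.of_isPullback sq1 hg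
  have h2 : Q (prod.map (𝟙 U) g) := Q.of_isPullback sq2.flip hg
  have h3 : Q (prod.map g g) := by
    have : prod.map g g = prod.map g (𝟙 U') ≫ prod.map (𝟙 U) g := by simp
    rw [this]
    have e1 : Etale (prod.map g (𝟙 U')).left := h1
    have e2 : Etale (prod.map (𝟙 U) g).left := h2
    show Etale (prod.map g (𝟙 U') ≫ prod.map (𝟙 U) g).left
    rw [Over.comp_left]
    infer_instance
  have hr : Q r := Q.of_isPullback hsq h3
  have hs : Etale s.left := h.etale_left
  have ht : Etale t.left := h.etale_right
  have hr' : Etale r.left := hr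
  refine { injective := ?_, equivalence := ?_, etale_left := ?_, etale_right := ?_ }
  · intro T r₁ r₂ e1 e2
    apply hsq.hom_ext
    · apply prod.hom_ext
      · simp only [Category.assoc, prod.lift_fst, e1]
      · simp only [Category.assoc, prod.lift_snd, e2]
    · apply h.injective T
      · rw [Category.assoc, Category.assoc, hrt, ← Category.assoc, ← Category.assoc, e1]
      · rw [Category.assoc, Category.assoc, hrs, ← Category.assoc, ← Category.assoc, e2]
  · intro T
    have he := h.equivalence T
    constructor
    · intro a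
      exact (key T a a).2 (he.refl (a ≫ g))
    · intro a b hab
      exact (key T b a).2 (he.symm ((key T a b).1 hab))
    · intro a b c hab hbc
      exact (key T a c).2 (he.trans ((key T a b).1 hab) ((key T b c).1 hbc))
  · have : Etale (s'.left ≫ g.left) := by
      have e : s'.left ≫ g.left = r.left ≫ s.left := by
        rw [← Over.comp_left, ← Over.comp_left, hrs]
      rw [e]; infer_instance
    exact MorphismProperty.of_postcomp (W := @Etale) (W' := @Etale) s'.left g.left inferInstance this
  · have : Etale (t'.left ≫ g.left) := by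
      have e : t'.left ≫ g.left = r.left ≫ t.left := by
        rw [← Over.comp_left, ← Over.comp_left, hrt]
      rw [e]; infer_instance
    exact MorphismProperty.of_postcomp (W := @Etale) (W' := @Etale) t'.left g.left inferInstance this

end Groth.Agent.S9871
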