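import Groth.Statements.S9892
import Mathlib

set_option autoImplicit false
universe u
open CategoryTheory CategoryTheory.Limits AlgebraicGeometry
open AlgSp

namespace Groth.Agent.S9892

/-- Let `a : F ⟶ G` be a map of presheaves of sets on schemes over `S` which is representable by
schemes. If `G` is a sheaf for the fppf topology, then so is `F`. -/
theorem result (S : Scheme.{u}) (F G : AlgSp.PSp S) (a : F ⟶ G)
    (ha : (AlgSp.pyon S).relativelyRepresentable a) (hG : Presheaf.IsSheaf (AlgSp.J S) G) :
    Presheaf.IsSheaf (AlgSp.J S) F := by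
  rw [isSheaf_iff_isSheaf_of_type] at hG ⊢
  intro T R hR x hx
  obtain ⟨y, hy, hyuniq⟩ := hG R hR (x.map a) (hx.map a)
  let ξ : (AlgSp.pyon S).obj T ⟶ G := uliftYonedaEquiv.symm y
  obtain ⟨V, snd, fst, sq⟩ := ha ξ
  have sqW : ∀ W : Over S, IsPullback (fst.app (Opposite.op W)) (((AlgSp.pyon S).map snd).app (Opposite.op W))
      (a.app (Opposite.op W)) (ξ.app (Opposite.op W)) := fun W =>
    sq.map ((evaluation (Over S)ᵒᵖ (Type (u+1))).obj (Opposite.op W))
  have hξ : ∀ (W : Over S) (f : W ⟶ T), ξ.app (Opposite.op W) ⟨f⟩ = G.map f.op y := by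
    intro W f; simp [ξ]
  have hV : Presieve.IsSheaf (AlgSp.J S) ((AlgSp.pyon S).obj V) :=
    (isSheaf_iff_isSheaf_of_type _ _).1 ((AlgSp.yon S).obj V).property
  have hex : ∀ (W : Over S) (f : W ⟶ T) (hf : R f), ∃ v : ((AlgSp.pyon S).obj V).obj (Opposite.op W),
      fst.app (Opposite.op W) v = x f hf ∧ ((AlgSp.pyon S).map snd).app (Opposite.op W) v = ⟨f⟩ := by
    intro W f hf
    apply Types.exists_of_isPullback (sqW W)
    rw [hξ]
    exact (hy f hf).symm
  choose v hv1 hv2 using hex
  let vf : Presieve.FamilyOfElements ((AlgSp.pyon S).obj V) R := fun W f hf => v W f hf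
  have hvf : vf.Compatible := by
    rw [Presieve.compatible_iff_sieveCompatible]
    intro W W' f g hf
    apply Types.ext_of_isPullback (sqW W')
    · rw [hv1, fst.naturality_apply, hv1]
      exact (Presieve.compatible_iff_sieveCompatible x).1 hx f g hf
    · rw [hv2, NatTrans.naturality_apply, hv2]
      rfl
  obtain ⟨s, hs, hsuniq⟩ := hV R hR vf hvf
  refine ⟨fst.app (Opposite.op T) s, ?_, ?_⟩
  · intro W f hf
    rw [← fst.naturality_apply, hs f hf]
    exact hv1 W f hf
  · intro t' ht'
    have hy' : a.app (Opposite.op T) t' = y := hyuniq _ (ht'.map a)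
    obtain ⟨s', hs'1, hs'2⟩ := Types.exists_of_isPullback (sqW T) t' ⟨𝟙 T⟩ (by rw [hξ, hy']; simp)
    have : s' = s := by
      apply hsuniq
      intro W f hf
      apply Types.ext_of_isPullback (sqW W)
      · rw [fst.naturality_apply, hs'1, ht' f hf]; exact (hv1 W f hf).symm
      · rw [NatTrans.naturality_apply, hs'2]
        show _ = ((AlgSp.pyon S).map snd).app (Opposite.op W) (v W f hf)
        rw [hv2]
        apply ULift.ext
        simp
    rw [← hs'1, this]

end Groth.Agent.S9892
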