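import Groth.Statements.S9876
import Mathlib
import Groth.Agent.S9892

set_option autoImplicit false
universe u
open CategoryTheory CategoryTheory.Limits AlgebraicGeometry
open AlgSp

namespace Groth.Agent.S9876

/-- Let `X` be an algebraic space over `S` and `G` a presheaf of sets on schemes over `S` with a map `a
: G ⟶ X` of presheaves which is representable by schemes. Then `G` is an fppf sheaf and an algebraic
space over `S`. -/
theorem result (S : Scheme.{u}) (X : AlgSp.Space S)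
    (G : AlgSp.PSp S) (a : G ⟶ X.obj.obj) (ha : (AlgSp.pyon S).relativelyRepresentable a) :
    AlgSp.IsAlgSpaceP G := by
  have hG : Presheaf.IsSheaf (AlgSp.J S) G :=
    Groth.Agent.S9892.result S G X.obj.obj a ha X.obj.property
  refine ⟨hG, ?_⟩
  let G' : AlgSp.Sp S := ⟨G, hG⟩
  let a' : G' ⟶ X.obj := ObjectProperty.homMk a
  have ha' : AlgSp.Representable a' := by
    intro U ξ
    obtain ⟨V, snd, fst, sq⟩ := ha ξ.hom
    refine ⟨V, snd, ObjectProperty.homMk fst, ?_⟩
    exact IsPullback.of_map_of_faithful (sheafToPresheaf (AlgSp.J S) (Type (u + 1))) sq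
  have hX := X.property
  have hrep : ∀ ⦃W : Over S⦄ (g : (AlgSp.yon S).obj W ⟶ G'), AlgSp.Representable g := by
    intro W g U ξ
    obtain ⟨V₁, p₁, fst₁, sqR⟩ := ha' (ξ ≫ a')
    obtain ⟨Q, qU, fstQ, sqO⟩ := hX.representable_from_yon (g ≫ a') (ξ ≫ a')
    let τ' : (AlgSp.yon S).obj Q ⟶ (AlgSp.yon S).obj V₁ :=
      sqR.lift (fstQ ≫ g) ((AlgSp.yon S).map qU) (by rw [Category.assoc]; exact sqO.w)
    have hτ1 : τ' ≫ fst₁ = fstQ ≫ g := sqR.lift_fst _ _ _
    have hτ2 : τ' ≫ (AlgSp.yon S).map p₁ = (AlgSp.yon S).map qU := sqR.lift_snd _ _ _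
    have sqL : IsPullback τ' fstQ fst₁ g := by
      refine IsPullback.of_right ?_ hτ1 sqR.flip
      rw [hτ2]
      exact sqO.flip
    let σ' : (AlgSp.yon S).obj U ⟶ (AlgSp.yon S).obj V₁ :=
      sqR.lift ξ (𝟙 _) (by simp)
    have hσ1 : σ' ≫ fst₁ = ξ := sqR.lift_fst _ _ _
    obtain ⟨V, snd, fst, sqT⟩ := AlgSp.representable_of_yon τ' σ'
    refine ⟨V, snd, fst ≫ fstQ, ?_⟩
    have := sqT.paste_horiz sqL.flip
    rwa [hσ1] at this
  constructor
  · exact Functor.relativelyRepresentable.diag_of_map_from_obj hrep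
  · obtain ⟨U, p, hét, hsurj⟩ := hX.atlas
    obtain ⟨V, snd, fst, sq⟩ := ha' p
    haveI i1 := AlgSp.repWith_isStableUnderBaseChange (S := S) @Etale
    haveI i2 := AlgSp.repWith_isStableUnderBaseChange (S := S) @Surjective
    exact ⟨V, fst, i1.of_isPullback sq.flip hét, i2.of_isPullback sq.flip hsurj⟩

end Groth.Agent.S9876
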