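import Groth.Statements.S9879
import Groth.Agent.H51.CoprodSplit

set_option autoImplicit false
universe u
open CategoryTheory CategoryTheory.Limits AlgebraicGeometry
open AlgSp

namespace Groth.Agent.S9879

/-- Let `U` be a scheme over `S` and `F_i` a family of fppf sheaves of sets over `S` whose coproduct in
sheaves is isomorphic to `h_U`. Then each `F_i` is representable by a scheme `V_i` over `S` such
that `V_i ⟶ U` (the morphism inducing `h_{V_i} ≅ F_i ⟶ ∐ F_i ≅ h_U`) is an open and closed
immersion, and `U` is the coproduct of the `V_i` in schemes. -/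
theorem result (S : Scheme.{u}) (U : Over S) {ι : Type u}
    (F : ι → AlgSp.Sp S) (c : Cofan F) (hc : IsColimit c) (e : c.pt ≅ (AlgSp.yon S).obj U) :
    ∃ (V : ι → Over S) (g : ∀ i, V i ⟶ U) (ei : ∀ i, (AlgSp.yon S).obj (V i) ≅ F i),
      (∀ i, IsOpenImmersion (g i).left ∧ IsClosedImmersion (g i).left) ∧
      (∀ i, (ei i).hom ≫ c.inj i ≫ e.hom = (AlgSp.yon S).map (g i)) ∧
      Nonempty (IsColimit (Cofan.mk U.left (fun i => (g i).left))) := by
  have key : ∀ i, ∃ (Ti : Over S) (g : Ti ⟶ U) (ei : (AlgSp.yon S).obj Ti ≅ F i),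
      IsOpenImmersion g.left ∧ IsClosedImmersion g.left ∧
      ei.hom ≫ c.inj i ≫ e.hom = (AlgSp.yon S).map g ∧
      Set.range g.left = Groth.Agent.H51.summandSet c e i :=
    fun i => Groth.Agent.H51.exists_summand_iso c e hc i (Groth.Agent.H51.mono_inj c hc i)
  choose V g ei h1 h2 h3 h4 using key
  refine ⟨V, g, ei, fun i => ⟨h1 i, h2 i⟩, h3, ?_⟩
  have : ∀ i, IsOpenImmersion (g i).left := h1
  apply nonempty_isColimit_cofanMk_of (fun i => (g i).left)
  · rw [eq_top_iff]
    intro x _
    have hx : x ∈ ⋃ i, Groth.Agent.H51.summandSet c e i := by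
      rw [Groth.Agent.H51.iUnion_summandSet c e hc]
      trivial
    obtain ⟨i, hi⟩ := Set.mem_iUnion.1 hx
    rw [← h4 i] at hi
    exact TopologicalSpace.Opens.mem_iSup.2 ⟨i, hi⟩
  · intro i j hij
    show Disjoint ((g i).left.opensRange) ((g j).left.opensRange)
    rw [disjoint_iff_inf_le]
    rintro x ⟨hx1, hx2⟩
    have hx1' : x ∈ Groth.Agent.H51.summandSet c e i := by
      rw [← h4 i]
      exact hx1
    have hx2' : x ∈ Groth.Agent.H51.summandSet c e j := by
      rw [← h4 j]
      exact hx2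
    exact (Set.disjoint_left.1 (Groth.Agent.H51.disjoint_summandSet c e hc hij) hx1' hx2').elim

end Groth.Agent.S9879
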