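import Groth.Statements.S9886

set_option autoImplicit false
universe u
open CategoryTheory CategoryTheory.Limits AlgebraicGeometry
open AlgSp

namespace Groth.Agent.S9886

/-- Let `F` be an fppf sheaf of sets over `S` and `P` a property of morphisms of schemes stable under
base change. Assume that for all schemes `U`, `V` over `S` and all `a : h_U ⟶ F`, `b : h_V ⟶ F` the
fibre product `h_U ×_F h_V` is represented by some scheme `W` over `S` with its projections induced
by morphisms `W ⟶ U`, `W ⟶ V`, and that for every such represented fibre product the morphism `W ⟶ U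
×_S V` has `P`. Then the diagonal `F ⟶ F × F` is representable by schemes and has `P`. (The
published statement is for a presheaf of sets `F` and a property `P` that is also fppf local on the
base; this row takes `F` an fppf sheaf and `P` only stable under base change.) -/
theorem result (S : Scheme.{u}) (F : AlgSp.Sp S) (P : MorphismProperty Scheme.{u})
    [P.IsStableUnderBaseChange]
    (h₁ : ∀ ⦃U V : Over S⦄ (a : (AlgSp.yon S).obj U ⟶ F) (b : (AlgSp.yon S).obj V ⟶ F),
      ∃ (W : Over S) (fst : W ⟶ U) (snd : W ⟶ V), IsPullback ((AlgSp.yon S).map fst) ((AlgSp.yon S).map snd) a b)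
    (h₂ : ∀ ⦃U V W : Over S⦄ (a : (AlgSp.yon S).obj U ⟶ F) (b : (AlgSp.yon S).obj V ⟶ F) (fst : W ⟶ U)
      (snd : W ⟶ V), IsPullback ((AlgSp.yon S).map fst) ((AlgSp.yon S).map snd) a b → P (prod.lift fst snd).left) :
    AlgSp.RepWith P (Limits.diag F) := by
  have hrep : ∀ ⦃U : Over S⦄ (a : (AlgSp.yon S).obj U ⟶ F),
      (AlgSp.yon S).relativelyRepresentable a := by
    intro U a V b
    obtain ⟨W, fst, snd, hpb⟩ := h₁ a b
    exact ⟨W, snd, (AlgSp.yon S).map fst, hpb⟩
  have hdiag : (AlgSp.yon S).relativelyRepresentable (Limits.diag F) :=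
    Functor.relativelyRepresentable.diag_iff.mpr hrep
  refine (AlgSp.repWith_iff P _).mpr ⟨hdiag, ?_⟩
  intro T V' g fst' snd' hV'
  obtain ⟨W, fst, snd, hW⟩ := h₁ (g ≫ prod.fst) (g ≫ prod.snd)
  have hP := h₂ (g ≫ prod.fst) (g ≫ prod.snd) fst snd hW
  have hf1 : fst' = (AlgSp.yon S).map snd' ≫ g ≫ prod.fst := by
    have := congrArg (· ≫ prod.fst) hV'.w
    simpa only [Category.assoc, Limits.diag, prod.lift_fst, Category.comp_id] using this
  have hf2 : fst' = (AlgSp.yon S).map snd' ≫ g ≫ prod.snd := by
    have := congrArg (· ≫ prod.snd) hV'.w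
    simpa only [Category.assoc, Limits.diag, prod.lift_snd, Category.comp_id] using this
  let c : V' ⟶ W := (AlgSp.yon S).preimage
    (hW.lift ((AlgSp.yon S).map snd') ((AlgSp.yon S).map snd') (by rw [← hf1, ← hf2]))
  have hc1 : c ≫ fst = snd' := by
    apply (AlgSp.yon S).map_injective
    rw [Functor.map_comp, Functor.map_preimage, hW.lift_fst]
  have hc2 : c ≫ snd = snd' := by
    apply (AlgSp.yon S).map_injective
    rw [Functor.map_comp, Functor.map_preimage, hW.lift_snd]
  have w : c ≫ prod.lift fst snd = snd' ≫ Limits.diag T := by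
    apply prod.hom_ext
    · simp only [Category.assoc, Limits.diag, prod.lift_fst, Category.comp_id, hc1]
    · simp only [Category.assoc, Limits.diag, prod.lift_snd, Category.comp_id, hc2]
  have key : ∀ s : PullbackCone (prod.lift fst snd) (Limits.diag T),
      s.fst ≫ fst = s.snd ∧ s.fst ≫ snd = s.snd := by
    intro s
    have h1 := congrArg (· ≫ prod.fst) s.condition
    have h2 := congrArg (· ≫ prod.snd) s.condition
    simp only [Category.assoc, prod.lift_fst, prod.lift_snd, Limits.diag, Category.comp_id] at h1 h2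
    exact ⟨h1, h2⟩
  have key2 : ∀ s : PullbackCone (prod.lift fst snd) (Limits.diag T),
      ((AlgSp.yon S).map s.snd ≫ g ≫ prod.fst) ≫ Limits.diag F = (AlgSp.yon S).map s.snd ≫ g := by
    intro s
    obtain ⟨k1, k2⟩ := key s
    apply prod.hom_ext
    · simp only [Category.assoc, Limits.diag, prod.lift_fst, Category.comp_id]
    · simp only [Category.assoc, Limits.diag, prod.lift_snd, Category.comp_id]
      calc (AlgSp.yon S).map s.snd ≫ g ≫ prod.fst
          = (AlgSp.yon S).map (s.fst ≫ fst) ≫ g ≫ prod.fst := by rw [k1]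
        _ = (AlgSp.yon S).map s.fst ≫ (AlgSp.yon S).map fst ≫ g ≫ prod.fst := by
            rw [Functor.map_comp, Category.assoc]
        _ = (AlgSp.yon S).map s.fst ≫ (AlgSp.yon S).map snd ≫ g ≫ prod.snd := by rw [hW.w]
        _ = (AlgSp.yon S).map (s.fst ≫ snd) ≫ g ≫ prod.snd := by
            rw [Functor.map_comp, Category.assoc]
        _ = (AlgSp.yon S).map s.snd ≫ g ≫ prod.snd := by rw [k2]
  have sq : IsPullback c snd' (prod.lift fst snd) (Limits.diag T) := by
    refine ⟨⟨w⟩, ⟨PullbackCone.IsLimit.mk w
      (fun s => (AlgSp.yon S).preimage (hV'.lift _ _ (key2 s))) ?_ ?_ ?_⟩⟩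
    · intro s
      obtain ⟨k1, k2⟩ := key s
      apply (AlgSp.yon S).map_injective
      apply hW.hom_ext
      · rw [← Functor.map_comp, Category.assoc, hc1, Functor.map_comp, Functor.map_preimage,
          hV'.lift_snd, ← Functor.map_comp, k1]
      · rw [← Functor.map_comp, Category.assoc, hc2, Functor.map_comp, Functor.map_preimage,
          hV'.lift_snd, ← Functor.map_comp, k2]
    · intro s
      apply (AlgSp.yon S).map_injective
      rw [Functor.map_comp, Functor.map_preimage, hV'.lift_snd]
    · intro s m _ hm2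
      apply (AlgSp.yon S).map_injective
      rw [Functor.map_preimage]
      apply hV'.hom_ext
      · rw [hV'.lift_fst, hf1, ← Category.assoc, ← Functor.map_comp, hm2]
      · rw [hV'.lift_snd, ← Functor.map_comp, hm2]
  exact MorphismProperty.of_isPullback (P := P.inverseImage (Over.forget S)) sq hP

end Groth.Agent.S9886
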