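import Groth.Statements.S9890
import Groth.Agent.H51.FreeQuotSep

set_option autoImplicit false
universe u
open CategoryTheory CategoryTheory.Limits AlgebraicGeometry
open AlgSp

namespace Groth.Agent.S9890

/-- Let a finite group `G` act freely (no non-identity element fixes a point together with its residue
field) by `S`-automorphisms on a scheme `U` over `S`, and let `s, t : R = ∐_{g ∈ G} U ⟶ U` be the
identity and the action. When `U ⟶ S` is quasi-separated, so is the quotient sheaf `U/G = U/R` over
`S`; when `U ⟶ S` is separated, `U/G` is also separated over `S`. -/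
theorem result (S : Scheme.{u}) (U : Over S) (G : Type u) [Group G] [Finite G]
    (ρ : G →* Aut U)
    (hfree : ∀ (g : G) (x : U.left), g ≠ 1 →
      U.left.fromSpecResidueField x ≫ (ρ g).hom.left ≠ U.left.fromSpecResidueField x)
    (c : Cofan (fun _ : G => U)) (hc : IsColimit c) (s t : c.pt ⟶ U)
    (hs : ∀ g, c.inj g ≫ s = 𝟙 U) (ht : ∀ g, c.inj g ≫ t = (ρ g).hom) :
    (QuasiSeparated U.hom → AlgSp.IsQuasiSeparatedSp (QuotSh.quot Scheme.fppfPrecoverage s t)) ∧
      (IsSeparated U.hom → AlgSp.IsSeparatedSp (QuotSh.quot Scheme.fppfPrecoverage s t)) := by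
  have hE := Groth.Agent.H51.FreeAct.isEtaleEqvRel ρ hfree c hc s t hs ht
  have hk := Groth.Agent.H51.QuotKer.isPullback_yon s t hE.toIsEqvRel
  have hmono : Mono (prod.lift t s).left :=
    Groth.Agent.H51.FreeQuotSep.mono_lift_left s t hE.toIsEqvRel
  have het : Etale t.left := hE.etale_right
  have hlft : LocallyOfFiniteType (prod.lift t s).left :=
    Groth.Agent.H51.FreeQuotSep.lft_lift_left s t
  have hsnd : ∀ (P : MorphismProperty Scheme.{u}) [P.IsStableUnderBaseChange] [P.RespectsIso],
      P U.hom → P (prod.snd : U ⨯ U ⟶ U).left := by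
    intro P _ _ hP
    rw [Groth.Agent.H51.FreeQuotSep.snd_left_eq, P.cancel_left_of_respectsIso]
    exact P.pullback_snd _ _ hP
  have hid : ∀ γ : U ⟶ U ⨯ U, γ ≫ prod.snd = 𝟙 U → γ.left ≫ (prod.snd : U ⨯ U ⟶ U).left = 𝟙 _ := by
    intro γ hγ
    rw [← Over.comp_left, hγ]
    rfl
  constructor
  · intro hqs
    have hqc : QuasiCompact (prod.lift t s).left :=
      Groth.Agent.H51.FreeQuotSep.props_of_components c hc s t hs @QuasiCompact
        (fun d hd _ => Groth.Agent.H51.SigmaMor.quasiCompact_sigmaDesc _ d hd)
        (fun γ hγ => by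
          have h1 : QuasiSeparated (prod.snd : U ⨯ U ⟶ U).left := hsnd @QuasiSeparated hqs
          have h2 : QuasiCompact (γ.left ≫ (prod.snd : U ⨯ U ⟶ U).left) := by
            rw [hid γ hγ]; infer_instance
          exact MorphismProperty.HasOfPostcompProperty.of_postcomp (W := @QuasiCompact)
            (W' := @QuasiSeparated) γ.left _ h1 h2) hmono
    exact Groth.Agent.H51.LqfDesc.repWith_diag_of_epi_chart @QuasiCompact
      Groth.Agent.H52.quasiCompact_descendsAlong_fppf (Groth.Agent.H51.QuotKer.qmap s t) s t hk hqc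
  · intro hsep
    have hci : IsClosedImmersion (prod.lift t s).left :=
      Groth.Agent.H51.FreeQuotSep.props_of_components c hc s t hs @IsClosedImmersion
        (fun d hd hm => Groth.Agent.H51.SigmaMor.isClosedImmersion_sigmaDesc _ d hd)
        (fun γ hγ => by
          have h1 : IsSeparated (prod.snd : U ⨯ U ⟶ U).left := hsnd @IsSeparated hsep
          have h2 : IsClosedImmersion (γ.left ≫ (prod.snd : U ⨯ U ⟶ U).left) := by
            rw [hid γ hγ]; infer_instance
          exact MorphismProperty.HasOfPostcompProperty.of_postcomp (W := @IsClosedImmersion)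
            (W' := @IsSeparated) γ.left _ h1 h2) hmono
    exact Groth.Agent.H51.LqfDesc.repWith_diag_of_epi_chart @IsClosedImmersion
      Groth.Agent.H52.isClosedImmersion_descendsAlong_fppf (Groth.Agent.H51.QuotKer.qmap s t) s t hk hci

end Groth.Agent.S9890
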