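import Groth.Statements.S9894
import Groth.Agent.H51.SchDDRep
import Groth.Agent.H52.MonoField
import Groth.Agent.H50.Fibre

set_option autoImplicit false
universe u
open CategoryTheory CategoryTheory.Limits AlgebraicGeometry
open AlgSp

namespace Groth.Agent.S9894

/-- Let `P` be a property of morphisms of schemes which is stable under base change, fppf local on the
base, and such that morphisms of type `P` satisfy descent: for every surjective, flat, locally
finitely presented `p : X' ⟶ S'` every descent datum relative to `p` whose scheme has structure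
morphism in `P` is effective (descent is asked along single fppf covers, the case the argument
uses). Let `F` be an algebraic space over `S`, `G` an fppf sheaf of sets with a map `f : G ⟶ F`, and
`q : h_U ⟶ F` representable etale and surjective such that the base change of `f` along `q` is
represented by a scheme `V` over `S` with `g : V ⟶ U` having `P`. Then `G` is an algebraic space
over `S` and `f` is representable by schemes with property `P`. -/
theorem result (S : Scheme.{u}) (P : MorphismProperty Scheme.{u})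
    [P.IsStableUnderBaseChange] [P.IsLocalAtTarget Scheme.fppfPrecoverage]
    (hdesc : ∀ ⦃X' S' : Scheme.{u}⦄ (p : X' ⟶ S'), Surjective p → Flat p → LocallyOfFinitePresentation p →
      ∀ D : Desc.SchDD p, P D.obj.hom → (Desc.toDD p).essImage D)
    (F : AlgSp.Space S) (G : AlgSp.Sp S) (f : G ⟶ F.obj) {U V : Over S} (q : (AlgSp.yon S).obj U ⟶ F.obj)
    (hqe : AlgSp.RepWith @Etale q) (hqs : AlgSp.RepWith @Surjective q) (fst : (AlgSp.yon S).obj V ⟶ G)
    (g : V ⟶ U) (sq : IsPullback fst ((AlgSp.yon S).map g) f q) (hP : P g.left) :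
    AlgSp.IsAlgSpace G ∧ AlgSp.RepWith P f := by
  suffices h : AlgSp.RepWith P f from
    ⟨Groth.Agent.H50.isAlgSpace_of_representable h.rep F.property, h⟩
  refine MorphismProperty.relative.of_exists (fun T t => ?_)
  obtain ⟨T', cT, bT, sqT⟩ := hqe.rep t
  obtain ⟨bT, rfl⟩ := (AlgSp.yon S).map_surjective bT
  have hcE : Etale cT.left := hqe.property t _ cT sqT
  have hcS : Surjective cT.left := hqs.property t _ cT sqT
  have hepi : Epi ((AlgSp.yon S).map cT) := Groth.Agent.H52.epi_yon_map_of_fppf cT
  obtain ⟨V', gV, gT, hV'⟩ : ∃ (V' : Over S) (gV : V' ⟶ V) (gT : V' ⟶ T'), IsPullback gV gT g bT :=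
    ⟨_, _, _, IsPullback.of_hasPullback _ _⟩
  have hPgT : P gT.left :=
    MorphismProperty.of_isPullback (P := P) (hV'.map (Over.forget S)) hP
  have sqA : IsPullback ((AlgSp.yon S).map gV) ((AlgSp.yon S).map gT) ((AlgSp.yon S).map g)
      ((AlgSp.yon S).map bT) := hV'.map (AlgSp.yon S)
  have sqAB : IsPullback ((AlgSp.yon S).map gV ≫ fst) ((AlgSp.yon S).map gT) f
      ((AlgSp.yon S).map cT ≫ t) := by
    rw [← sqT.w]
    exact sqA.paste_horiz sq
  have sqC : IsPullback (pullback.fst f t) (pullback.snd f t) f t := IsPullback.of_hasPullback f t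
  obtain ⟨a, ha1, ha2⟩ : ∃ a : (AlgSp.yon S).obj V' ⟶ pullback f t,
      a ≫ pullback.fst f t = (AlgSp.yon S).map gV ≫ fst ∧
      a ≫ pullback.snd f t = (AlgSp.yon S).map gT ≫ (AlgSp.yon S).map cT :=
    ⟨pullback.lift _ _ (by rw [sqAB.w, Category.assoc]), pullback.lift_fst _ _ _,
      pullback.lift_snd _ _ _⟩
  have sq0 : IsPullback a ((AlgSp.yon S).map gT) (pullback.snd f t) ((AlgSp.yon S).map cT) := by
    refine IsPullback.of_right ?_ ha2 sqC
    rw [ha1]
    exact sqAB
  have heff : (Desc.toDD cT.left).essImage (Groth.Agent.H51.SchDDRep.dd sq0) :=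
    hdesc cT.left hcS inferInstance inferInstance (Groth.Agent.H51.SchDDRep.dd sq0) hPgT
  obtain ⟨W, w, k, ψ, h1, h2, sqO⟩ :=
    Groth.Agent.H51.SchDDRep.exists_rep_of_effective cT gT (pullback.snd f t) a sq0 heff
  have sqS : IsPullback k.left gT.left w.left cT.left := sqO.map (Over.forget S)
  have hPw : P w.left := by
    have hR : Presieve.singleton cT.left ∈ Scheme.fppfPrecoverage T.left :=
      cT.left.singleton_mem_fppfPrecoverage
    refine MorphismProperty.IsLocalAtTarget.of_forall_pullbackSnd hR ?_
    rintro U₀ g₀ _ ⟨⟩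
    have : P (sqS.isoPullback.hom ≫ pullback.snd w.left cT.left) := by
      rw [sqS.isoPullback_hom_snd]
      exact hPgT
    exact (P.cancel_left_of_respectsIso sqS.isoPullback.hom _).1 this
  refine ⟨W, ψ.inv ≫ pullback.fst f t, w, ?_, hPw⟩
  refine IsPullback.of_iso sqC ψ (Iso.refl _) (Iso.refl _) (Iso.refl _) ?_ ?_ ?_ ?_
  · simp
  · change pullback.snd f t ≫ 𝟙 _ = ψ.hom ≫ (AlgSp.yon S).map w
    rw [h1, Category.comp_id]
  · simp
  · simp

end Groth.Agent.S9894
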