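import Groth.Statements.S9899
import Groth.Agent.H32.JShriek

set_option autoImplicit false
universe u
open CategoryTheory CategoryTheory.Limits AlgebraicGeometry
open AlgSp

namespace Groth.Agent.S9899

/-- Let `g : S ⟶ S'` be a morphism of schemes and `j_!` the left adjoint of the restriction functor from
fppf sheaves of sets on schemes over `S'` to those on schemes over `S`. Let `F` be an algebraic
space over `S`, `T` a scheme over `S` and `f : h_T ⟶ F`, and let `P` be a property of morphisms of
schemes stable under base change and fppf local on the base. Then `j_!(f)`, which is the morphism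
`h_{T} ⟶ j_! F` over `S'` obtained from `f` up to the identification `j_! h_T ≅ h_T` (`T` viewed
over `S'`), has `P` in the representable sense if and only if `f` does. -/
theorem result {S S' : Scheme.{u}} (g : S ⟶ S') (F : AlgSp.Space S) (T : Over S)
    (f : (AlgSp.yon S).obj T ⟶ F.obj) (P : MorphismProperty Scheme.{u}) [P.IsStableUnderBaseChange]
    [P.IsLocalAtTarget Scheme.fppfPrecoverage] :
    AlgSp.RepWith (S := S') P (((Over.map g).sheafPullback (Type (u + 1)) (AlgSp.J S) (AlgSp.J S')).map f) ↔ AlgSp.RepWith P f := by
  have hPiso : P.RespectsIso := MorphismProperty.IsStableUnderBaseChange.respectsIso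
  have hnat : (Groth.Agent.H32.JShriek.Lsh g).map f =
      (Groth.Agent.H32.JShriek.LIso g).inv.app _ ≫
        (Groth.Agent.H32.JShriek.lam g T).hom ≫ ((Groth.Agent.H32.JShriek.lam g T).inv ≫
          (Groth.Agent.H32.JShriek.L g).map f) ≫ (Groth.Agent.H32.JShriek.LIso g).hom.app _ := by
    rw [Category.assoc, Iso.hom_inv_id_assoc, (Groth.Agent.H32.JShriek.LIso g).hom.naturality,
      Iso.inv_hom_id_app_assoc]
  change AlgSp.RepWith (S := S') P ((Groth.Agent.H32.JShriek.Lsh g).map f) ↔ _
  rw [hnat]
  rw [MorphismProperty.cancel_left_of_respectsIso (AlgSp.RepWith (S := S') P),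
    MorphismProperty.cancel_left_of_respectsIso (AlgSp.RepWith (S := S') P),
    MorphismProperty.cancel_right_of_respectsIso (AlgSp.RepWith (S := S') P)]
  constructor
  · intro h
    apply MorphismProperty.relative.of_exists
    intro Y b
    obtain ⟨Q, p₂, fst, sq⟩ := F.property.representable_from_yon f b
    obtain ⟨p₁, rfl⟩ := (AlgSp.yon S).map_surjective fst
    refine ⟨_, _, _, sq, ?_⟩
    have h2 := Groth.Agent.H32.JShriek.squareL g sq (Iso.refl _) (Iso.refl _)
    rw [Iso.refl_hom, Iso.refl_hom, CategoryTheory.Functor.map_id,
      CategoryTheory.Functor.map_id, Category.id_comp, Category.id_comp] at h2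
    have h3 := h.property _ _ _ h2
    change P (((Over.map g).map p₂).left ≫ 𝟙 _) at h3
    rw [Category.comp_id] at h3
    exact h3
  · intro h
    exact Groth.Agent.H32.JShriek.repWith_L g P f h

end Groth.Agent.S9899
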