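import Groth.Statements.S9910
import Groth.Agent.H52.Univ

set_option autoImplicit false
universe u
open CategoryTheory CategoryTheory.Limits AlgebraicGeometry
open AlgSp
open Groth.Agent.H52

namespace Groth.Agent.S9910

/-- (4) ⇒ (1): universal openness of a morphism of algebraic spaces descends along a surjective etale
base change from a scheme. -/
theorem result {S : Scheme.{u}} {X Y : AlgSp.Space S} (f : X ⟶ Y) (V : Over S)
    (p : (AlgSp.yon S).obj V ⟶ Y.obj) (hp : AlgSp.RepWith @Etale p) (hps : AlgSp.RepWith @Surjective p)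
    {P : AlgSp.Sp S} (fst : P ⟶ X.obj) (snd : P ⟶ (AlgSp.yon S).obj V) (sq : IsPullback fst snd f.hom p)
    (h : AlgSp.IsUnivOpenMor snd) : AlgSp.IsUnivOpenMor f.hom := by
  apply isUnivOpenMor_of_affine
  intro Z hZ g Q qfst qsnd sqQ
  have : IsAffine Z.left := hZ
  have hs := surjective_ofPt_of_surjective p hps
  obtain ⟨ι, _, T, c, d, hT, hcE, hcd, hcs⟩ := exists_finite_affine_refinement g p hp hs
  refine isOpenMap_of_refinement qsnd T c (fun i => ?_) hcs fun i => ?_
  · have : Etale (c i).left := hcE i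
    exact (c i).left.isOpenMap
  · obtain ⟨Qi, li, ki, si, sq1, sq2⟩ := exists_baseChange_of_refinement sq sqQ (c i) (d i) (hcd i)
    exact ⟨Qi, li, si, sq1, h (IsAlgSpace.yon_obj (T i)) ((yon S).map (d i)) ki si sq2⟩

end Groth.Agent.S9910
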