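import Groth.Statements.S9911
import Groth.Agent.H51.SrcOpen
import Groth.Agent.H51.AffineCoverFpqc
import Groth.Agent.S9908

set_option autoImplicit false
universe u
open CategoryTheory CategoryTheory.Limits AlgebraicGeometry
open AlgSp

namespace Groth.Agent.S9911

/-- A morphism from an algebraic space to the spectrum of a field is universally open. -/
theorem result {S : Scheme.{u}} (X : AlgSp.Space S) {k : Type u} [Field k]
    (str : Spec (CommRingCat.of k) ⟶ S) (p : X ⟶ (AlgSp.ofScheme S).obj (Over.mk str)) :
    AlgSp.IsUnivOpenMor p.hom := by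
  obtain ⟨U, a, hae, has⟩ := X.property.atlas
  have hU : AlgSp.IsAlgSpace ((AlgSp.yon S).obj U) := ((AlgSp.ofScheme S).obj U).property
  have hcov : AlgSp.IsFppfCover (fun _ : PUnit.{u+1} => (AlgSp.yon S).obj U) (fun _ => a) := by
    refine ⟨fun _ => ⟨?_, ?_⟩, fun x => ⟨PUnit.unit, ?_⟩⟩
    · exact Groth.Agent.H50.locP_of_repWith (P := @Flat)
        (fun A B k (hk : Etale k) => (inferInstance : Flat k))
        (Groth.Agent.H51.repWith_mono (fun A B k (hk : Etale k) => (inferInstance : Flat k)) hae)
    · exact Groth.Agent.H50.locP_of_repWith (P := @LocallyOfFinitePresentation)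
        (fun A B k (hk : Etale k) => (inferInstance : LocallyOfFinitePresentation k))
        (Groth.Agent.H51.repWith_mono
          (fun A B k (hk : Etale k) => (inferInstance : LocallyOfFinitePresentation k)) hae)
    · obtain ⟨v, rfl⟩ := Groth.Agent.H52.surjective_ofPt_of_surjective a has x
      exact ⟨AlgSp.Points.ofScheme U v, (AlgSp.Points.ofPt_eq_map_ofScheme a v).symm⟩
  refine (Groth.Agent.H51.isLocalOnSource_fppf_isUnivOpenMor (fun _ : PUnit.{u+1} => (AlgSp.yon S).obj U)
    (fun _ => a) X.property (fun _ => hU) hcov p.hom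
    ((AlgSp.ofScheme S).obj (Over.mk str)).property).2 (fun _ => ?_)
  obtain ⟨h, hh⟩ := (AlgSp.yon S).map_surjective (a ≫ p.hom)
  have hrep : AlgSp.RepWith @UniversallyOpen ((AlgSp.yon S).map h) := by
    rw [AlgSp.repWith_yon_map_iff]
    have : IsIntegral (Over.mk str).left := by
      change IsIntegral (Spec (CommRingCat.of k)); infer_instance
    have : Subsingleton ↥(Over.mk str).left := by
      change Subsingleton ↥(Spec (CommRingCat.of k)); infer_instance
    infer_instance
  have key : AlgSp.IsUnivOpenMor ((AlgSp.yon S).map h) :=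
    (Groth.Agent.S9908.result (X := (AlgSp.ofScheme S).obj U) (Y := (AlgSp.ofScheme S).obj (Over.mk str))
      ((AlgSp.ofScheme S).map h) hrep.1).1 hrep
  rw [hh] at key
  exact key

end Groth.Agent.S9911
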