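import Groth.Statements.S9913
import Groth.Agent.H52.QC

set_option autoImplicit false
universe u
open CategoryTheory CategoryTheory.Limits AlgebraicGeometry
open AlgSp

namespace Groth.Agent.S9913

/-- For a quasi-compact morphism of algebraic spaces, the induced map on points pulls quasi-compact
opens back to quasi-compact subsets. -/
theorem result {S : Scheme.{u}} {X Y : AlgSp.Space S} (f : X ⟶ Y)
    (hf : AlgSp.IsQuasiCompactMor f.hom) (V : Set (AlgSp.Points Y.obj)) (hV : IsOpen V) (hVc : IsCompact V) :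
    IsCompact (AlgSp.Points.map f.hom ⁻¹' V) := by
  obtain ⟨U, p, hpe, hps⟩ := Y.property.atlas
  have hsurj := Groth.Agent.H52.surjective_ofPt_of_surjective p hps
  let I := {W : U.left.affineOpens // Points.ofPt p '' (W.1 : Set ↥U.left) ⊆ V}
  have hopen : ∀ W : I, IsOpen (Points.ofPt p '' (W.1.1 : Set ↥U.left)) :=
    fun W => Groth.Agent.H52.isOpenMap_ofPt_of_etale p hpe _ W.1.1.2
  have hcov : V ⊆ ⋃ W : I, Points.ofPt p '' (W.1.1 : Set ↥U.left) := by
    intro y hy
    obtain ⟨u, rfl⟩ := hsurj y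
    have hpre : IsOpen (Points.ofPt p ⁻¹' V) := hV.preimage (Points.continuous_ofPt p)
    obtain ⟨_, ⟨W, hW, rfl⟩, huW, hWV⟩ := U.left.isBasis_affineOpens.exists_subset_of_mem_open
      (show u ∈ Points.ofPt p ⁻¹' V from hy) hpre
    exact Set.mem_iUnion.mpr ⟨⟨⟨W, hW⟩, Set.image_subset_iff.mpr hWV⟩, u, huW, rfl⟩
  obtain ⟨t, ht⟩ := hVc.elim_finite_subcover _ hopen hcov
  let c : ∀ W : ↥t, (yon S).obj (Groth.Agent.H52.overOpen U W.1.1.1) ⟶ Y.obj :=
    fun W => (yon S).map (Groth.Agent.H52.overOpenHom U W.1.1.1) ≫ p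
  have hq : ∀ W : ↥t, IsQuasiCompactSp (pullback f.hom (c W)) := fun W => by
    have : IsAffine (Groth.Agent.H52.overOpen U W.1.1.1).left := W.1.1.2
    have : CompactSpace ↥(Groth.Agent.H52.overOpen U W.1.1.1).left := inferInstance
    exact hf (IsAlgSpace.yon_obj _) (Groth.Agent.H52.isQuasiCompactSp_yon _) (c W) _ _
      (IsPullback.of_hasPullback f.hom (c W))
  have key : Points.map f.hom ⁻¹' V =
      ⋃ W : ↥t, Set.range (Points.map (pullback.fst f.hom (c W))) := by
    ext x
    constructor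
    · intro hx
      have hx' := ht hx
      simp only [Set.mem_iUnion] at hx'
      obtain ⟨W, hWt, u, huW, hu⟩ := hx'
      have e : Points.map f.hom x = Points.map (c ⟨W, hWt⟩)
          (Points.ofScheme (Groth.Agent.H52.overOpen U W.1.1) ⟨u, huW⟩) := by
        rw [← Points.ofPt_eq_map_ofScheme, Groth.Agent.H52.ofPt_yon_map_comp]
        exact hu.symm
      obtain ⟨z, hz, -⟩ := Groth.Agent.H52.exists_point_of_isPullback
        (IsPullback.of_hasPullback f.hom (c ⟨W, hWt⟩)) x _ e
      exact Set.mem_iUnion.mpr ⟨⟨W, hWt⟩, z, hz⟩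
    · intro hx
      obtain ⟨W, z, rfl⟩ := Set.mem_iUnion.mp hx
      change Points.map f.hom (Points.map (pullback.fst f.hom (c W)) z) ∈ V
      rw [← Points.map_comp, pullback.condition, Points.map_comp]
      obtain ⟨w, hw⟩ := (Points.schemeEquiv (Groth.Agent.H52.overOpen U W.1.1.1)).surjective
        (Points.map (pullback.snd f.hom (c W)) z)
      rw [← hw]
      change Points.map (c W) (Points.ofScheme _ w) ∈ V
      rw [← Points.ofPt_eq_map_ofScheme, Groth.Agent.H52.ofPt_yon_map_comp]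
      exact W.1.2 ⟨w.1, w.2, rfl⟩
  rw [key]
  exact Groth.Agent.H52.isCompact_iUnion_range_of_isQuasiCompactSp _ _ hq

end Groth.Agent.S9913
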