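import Groth.Statements.S9926
import Groth.Agent.H51.SepSurj
import Groth.Agent.H51.DiagSep
import Groth.Agent.S9925
import Groth.Agent.S9912
import Groth.Agent.S9915

set_option autoImplicit false
universe u
open CategoryTheory CategoryTheory.Limits AlgebraicGeometry
open AlgSp

namespace Groth.Agent.S9926

/-- Let B be an algebraic space and f : X -> Y a morphism over B that is surjective and universally
closed. Quasi-separatedness of X over B forces quasi-separatedness of Y over B, and likewise for
separatedness. (The published lemma also has absolute versions; this row states the versions over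
B.) -/
theorem result {S : Scheme.{u}} {X Y B : AlgSp.Space S} (f : X ⟶ Y) (p : X ⟶ B)
    (q : Y ⟶ B) (comm : f ≫ q = p) (hs : AlgSp.IsSurjectiveMor f.hom) (hc : AlgSp.IsUnivClosedMor f.hom) :
    (AlgSp.IsQuasiSeparatedMor p.hom → AlgSp.IsQuasiSeparatedMor q.hom) ∧
    (AlgSp.IsSeparatedMor p.hom → AlgSp.IsSeparatedMor q.hom) := by
  subst comm
  refine ⟨fun hp => ?_, fun hp =>
    Groth.Agent.H51.isSeparatedMor_of_surjective_univClosed f q hs hc hp⟩
  have hXX : IsAlgSpace (pullback (f.hom ≫ q.hom) (f.hom ≫ q.hom)) :=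
    Groth.Agent.H52.isAlgSpace_of_isPullback (IsPullback.of_hasPullback _ _) B.property.diag
      X.property X.property
  have hXY : IsAlgSpace (pullback (f.hom ≫ q.hom) q.hom) :=
    Groth.Agent.H52.isAlgSpace_of_isPullback (IsPullback.of_hasPullback _ _) B.property.diag
      X.property Y.property
  have hYY : IsAlgSpace (pullback q.hom q.hom) :=
    Groth.Agent.H52.isAlgSpace_of_isPullback (IsPullback.of_hasPullback _ _) B.property.diag
      Y.property Y.property
  let XX : AlgSp.Space S := ⟨pullback (f.hom ≫ q.hom) (f.hom ≫ q.hom), hXX⟩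
  let YY : AlgSp.Space S := ⟨pullback q.hom q.hom, hYY⟩
  let dX : X ⟶ XX := ObjectProperty.homMk (pullback.diagonal (f.hom ≫ q.hom))
  let dY : Y ⟶ YY := ObjectProperty.homMk (pullback.diagonal q.hom)
  let ff : XX ⟶ YY := ObjectProperty.homMk
    (pullback.map (f.hom ≫ q.hom) (f.hom ≫ q.hom) q.hom q.hom f.hom f.hom
      (𝟙 B.obj) ((Category.comp_id _).trans rfl) ((Category.comp_id _).trans rfl))
  have h1 : IsUnivClosedMor (pullback.map (f.hom ≫ q.hom) (f.hom ≫ q.hom) (f.hom ≫ q.hom) q.hom
      (𝟙 X.obj) f.hom (𝟙 B.obj) (by simp) (by simp)) :=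
    Groth.Agent.H51.univSp_of_isPullback _
      (Groth.Agent.H51.isPullback_map_snd (f.hom ≫ q.hom) f.hom q.hom) hc
  have h2 : IsUnivClosedMor (pullback.map (f.hom ≫ q.hom) q.hom q.hom q.hom
      f.hom (𝟙 Y.obj) (𝟙 B.obj) (by simp) (by simp)) :=
    Groth.Agent.H51.univSp_of_isPullback _
      (Groth.Agent.H51.isPullback_map_fst q.hom f.hom q.hom) hc
  have h3 : IsUnivClosedMor ff.hom := by
    show IsUnivClosedMor (pullback.map (f.hom ≫ q.hom) (f.hom ≫ q.hom) q.hom q.hom f.hom f.hom
      (𝟙 B.obj) ((Category.comp_id _).trans rfl) ((Category.comp_id _).trans rfl))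
    rw [Groth.Agent.H51.map_map_eq]
    exact Groth.Agent.H51.univSp_comp IsClosedMor Groth.Agent.H51.isClosedMor_comp hXY hYY h1 h2
  have hff : IsQuasiCompactMor ff.hom := Groth.Agent.S9925.result ff h3
  have hdX : IsQuasiCompactMor dX.hom :=
    (Groth.Agent.S9912.result dX
      (Groth.Agent.H51.representable_pullback_diagonal X.property _)).1 hp
  have hcomp : IsQuasiCompactMor (dX ≫ ff).hom :=
    Groth.Agent.H51.isQuasiCompactMor_comp hXX hYY hdX hff
  have heq : f ≫ dY = dX ≫ ff :=
    ObjectProperty.hom_ext _ (Groth.Agent.H51.comp_diagonal_eq f.hom q.hom)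
  have hdY : IsQuasiCompactMor dY.hom :=
    Groth.Agent.S9915.result f (dX ≫ ff) dY heq hs hcomp
  exact (Groth.Agent.S9912.result dY
    (Groth.Agent.H51.representable_pullback_diagonal Y.property _)).2 hdY

end Groth.Agent.S9926
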