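import Groth.Statements.S9930
import Groth.Agent.H52.Univ

set_option autoImplicit false
universe u
open CategoryTheory CategoryTheory.Limits AlgebraicGeometry
open AlgSp
open Groth.Agent.H52

namespace Groth.Agent.S9930

/-- For a morphism of algebraic spaces representable by schemes, representable universal submersiveness
is equivalent to |Z x_Y X| -> |Z| being a quotient map after every base change along a morphism of
algebraic spaces. -/
theorem result {S : Scheme.{u}} {X Y : AlgSp.Space S} (f : X ⟶ Y)
    (hf : AlgSp.Representable f.hom) :
    AlgSp.RepWith SGA1.UnivSubmersive f.hom ↔ AlgSp.IsUnivSubmersiveMor f.hom := by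
  constructor
  · intro hRW
    apply isUnivSubmersiveMor_of_affine
    intro Z _ g P fst snd sq
    obtain ⟨V, sndV, fstV, sqV⟩ := hRW.1 g
    have hU : SGA1.UnivSubmersive sndV.left := hRW.2 _ _ _ sqV
    have h0 : Topology.IsQuotientMap (fun v => sndV.left v) := hU _ _ _ IsPullback.of_id_snd
    have h1 : Topology.IsQuotientMap (Points.map ((yon S).map sndV)) :=
      (isQuotientMap_map_yon_map_iff sndV).2 h0
    have e : snd = (sq.isoIsPullback _ _ sqV).hom ≫ (yon S).map sndV :=
      (IsPullback.isoIsPullback_hom_snd _ _ sq sqV).symm
    have e2 : Points.map snd = Points.map ((yon S).map sndV) ∘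
        Points.map (sq.isoIsPullback _ _ sqV).hom := by
      conv_lhs => rw [e]
      exact funext (Points.map_comp _ _)
    change Topology.IsQuotientMap (Points.map snd)
    rw [e2]
    exact h1.comp (homeoOfIso (sq.isoIsPullback _ _ sqV)).isQuotientMap
  · intro hU
    exact repWith_universally_topologically (Q := fun f => Topology.IsQuotientMap f) hf
      (fun T' V' g' fst' snd' sq' => (isQuotientMap_map_yon_map_iff snd').1
        (hU (IsAlgSpace.yon_obj T') g' fst' _ sq'))

end Groth.Agent.S9930
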