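import Groth.Statements.S9932
import Groth.Agent.H50.ImmDesc

set_option autoImplicit false
universe u
open CategoryTheory CategoryTheory.Limits AlgebraicGeometry
open AlgSp

namespace Groth.Agent.S9932

open Groth.Agent.H50 Groth.Agent.H52

/-- (4) ⇒ (1): for P = closed immersion, open immersion or immersion, being representable with P
descends along a surjective etale base change from a scheme. -/
theorem result {S : Scheme.{u}} (P : MorphismProperty Scheme.{u})
    (hP : P = @IsClosedImmersion ∨ P = @IsOpenImmersion ∨ P = @IsImmersion) {X Y : AlgSp.Space S} (f : X ⟶ Y)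
    (V : Over S) (p : (AlgSp.yon S).obj V ⟶ Y.obj) (hp : AlgSp.RepWith @Etale p) (hps : AlgSp.RepWith @Surjective p)
    {P₀ : AlgSp.Sp S} (fst : P₀ ⟶ X.obj) (snd : P₀ ⟶ (AlgSp.yon S).obj V) (sq : IsPullback fst snd f.hom p)
    (h : AlgSp.RepWith P snd) : AlgSp.RepWith P f.hom := by
  have hrep : Representable snd := h.rep
  have sq' := hrep.isPullback (𝟙 _)
  have hPj : P (hrep.snd (𝟙 _)).left := h.property_snd (𝟙 _)
  have sqH := sq'.paste_horiz sq
  rw [Category.id_comp] at sqH
  haveI : Epi p := epi_of_etale_surjective p hp hps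
  have hmonoP : ∀ ⦃A B : Scheme.{u}⦄ (g : A ⟶ B), P g → Mono g := by
    intro A B g hg
    rcases hP with rfl | rfl | rfl
    · have : IsClosedImmersion g := hg
      infer_instance
    · have : IsOpenImmersion g := hg
      infer_instance
    · have : IsImmersion g := hg
      infer_instance
  haveI : Mono snd := mono_of_repWith hmonoP h
  haveI : Mono f.hom := mono_of_isPullback_of_epi sq
  have hθ : (Over.isoMk (Iso.refl _) (by simp) :
      Over.mk ((hrep.snd (𝟙 _)).left ≫ V.hom) ≅ hrep.pullback (𝟙 _)).hom ≫ hrep.snd (𝟙 _) =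
      (Over.homMk (hrep.snd (𝟙 _)).left rfl :
        Over.mk ((hrep.snd (𝟙 _)).left ≫ V.hom) ⟶ V) := by
    apply Over.OverMorphism.ext
    simp
  have sqM := isPullback_of_over_iso sqH _ _ hθ
  rcases hP with rfl | rfl | rfl
  · haveI : IsClosedImmersion (hrep.snd (𝟙 _)).left := hPj
    exact repWith_isClosedImmersion_of_isPullback p hp hps (hrep.snd (𝟙 _)).left f.hom _ sqM
  · haveI : IsOpenImmersion (hrep.snd (𝟙 _)).left := hPj
    exact repWith_isOpenImmersion_of_isPullback p hp hps (hrep.snd (𝟙 _)).left f.hom _ sqM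
  · haveI : IsImmersion (hrep.snd (𝟙 _)).left := hPj
    exact repWith_isImmersion_of_isPullback p hp hps (hrep.snd (𝟙 _)).left f.hom _ sqM

end Groth.Agent.S9932
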