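import Groth.Statements.S9931
import Groth.Agent.H50.SigmaChart
import Groth.Agent.S9932

set_option autoImplicit false
universe u
open CategoryTheory CategoryTheory.Limits AlgebraicGeometry
open AlgSp

namespace Groth.Agent.S9931

open Groth.Agent.H50 Groth.Agent.H52

/-- (3) ⇒ (1): for P = closed immersion, open immersion or immersion, a morphism of algebraic spaces
whose base change to every affine scheme over the target is representable with P is itself
representable with P. -/
theorem result {S : Scheme.{u}} (P : MorphismProperty Scheme.{u})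
    (hP : P = @IsClosedImmersion ∨ P = @IsOpenImmersion ∨ P = @IsImmersion) {X Y : AlgSp.Space S} (f : X ⟶ Y)
    (h : ∀ (Z : Over S), IsAffine Z.left → ∀ (g : (AlgSp.yon S).obj Z ⟶ Y.obj) (P₀ : AlgSp.Sp S)
      (fst : P₀ ⟶ X.obj) (snd : P₀ ⟶ (AlgSp.yon S).obj Z), IsPullback fst snd f.hom g → AlgSp.RepWith P snd) :
    AlgSp.RepWith P f.hom := by
  obtain ⟨U, a, hae, has⟩ := Y.property.atlas
  have sqF : IsPullback (pullback.fst f.hom a) (pullback.snd f.hom a) f.hom a :=
    IsPullback.of_hasPullback _ _
  let V : U.left.affineCover.I₀ → Over S := fun k => Over.mk (U.left.affineCover.f k ≫ U.hom)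
  let e : ∀ k, V k ⟶ U := fun k => Over.homMk (U.left.affineCover.f k) rfl
  have sqk : ∀ k, IsPullback (pullback.fst (pullback.snd f.hom a) ((AlgSp.yon S).map (e k)))
      (pullback.snd (pullback.snd f.hom a) ((AlgSp.yon S).map (e k))) (pullback.snd f.hom a)
      ((AlgSp.yon S).map (e k)) := fun k => IsPullback.of_hasPullback _ _
  have key : ∀ k, AlgSp.RepWith P
      (pullback.snd (pullback.snd f.hom a) ((AlgSp.yon S).map (e k))) := by
    intro k
    exact h (V k) (inferInstanceAs (IsAffine (U.left.affineCover.X k)))
      ((AlgSp.yon S).map (e k) ≫ a) _ _ _ ((sqk k).paste_horiz sqF)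
  have hφ : AlgSp.RepWith P (pullback.snd f.hom a) := by
    refine repWith_of_zariski_family (pullback.snd f.hom a) P hP V e
      (fun k => inferInstanceAs (IsOpenImmersion (U.left.affineCover.f k)))
      (fun u => U.left.affineCover.exists_eq u)
      (fun k => (key k).rep.pullback (𝟙 _)) (fun k => (key k).rep.snd (𝟙 _))
      (fun k => (key k).rep.fst (𝟙 _) ≫
        pullback.fst (pullback.snd f.hom a) ((AlgSp.yon S).map (e k))) ?_ ?_
    · intro k
      have h1 := ((key k).rep.isPullback (𝟙 _)).paste_horiz (sqk k)
      rw [Category.id_comp] at h1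
      exact h1
    · intro k
      exact (key k).property_snd (𝟙 _)
  exact Groth.Agent.S9932.result P hP f U a hae has _ _ sqF hφ

end Groth.Agent.S9931
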