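import Groth.Statements.S9933
import Groth.Agent.H50.Permanence
import Groth.Agent.H50.Descent
import Groth.Agent.H51.DiagSep

set_option autoImplicit false
universe u
open CategoryTheory CategoryTheory.Limits AlgebraicGeometry
open AlgSp

namespace Groth.Agent.S9933

open Groth.Agent.H50 Groth.Agent.H51

/-- Permanence for Z -> Y -> X: the five representable finiteness/separation properties of Z -> X pass
to Z -> Y, and a closed immersion Z -> X with Y -> X separated gives a closed immersion Z -> Y. -/
theorem result {S : Scheme.{u}} {Z Y X : AlgSp.Space S} (a : Z ⟶ Y) (b : Y ⟶ X) :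
    ((AlgSp.Representable (a ≫ b).hom ∧ AlgSp.RepWith @LocallyOfFiniteType (a ≫ b).hom ∧
        AlgSp.RepWith (@LocallyQuasiFinite ⊓ @LocallyOfFiniteType) (a ≫ b).hom ∧
        AlgSp.RepWith @IsSeparated (a ≫ b).hom ∧
        AlgSp.RepWith (MorphismProperty.monomorphisms Scheme.{u}) (a ≫ b).hom) →
      (AlgSp.Representable a.hom ∧ AlgSp.RepWith @LocallyOfFiniteType a.hom ∧
        AlgSp.RepWith (@LocallyQuasiFinite ⊓ @LocallyOfFiniteType) a.hom ∧
        AlgSp.RepWith @IsSeparated a.hom ∧
        AlgSp.RepWith (MorphismProperty.monomorphisms Scheme.{u}) a.hom)) ∧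
    (AlgSp.RepWith @IsClosedImmersion (a ≫ b).hom → AlgSp.IsSeparatedMor b.hom →
      AlgSp.RepWith @IsClosedImmersion a.hom) := by
  have hcomp : (a ≫ b).hom = a.hom ≫ b.hom := rfl
  have hlftΔ := repWith_locallyOfFiniteType_diagonal Y.property X.property b.hom
  have hΔ : AlgSp.RepWith (fun _ _ k => LocallyOfFiniteType k ∧ Mono k)
      (pullback.diagonal b.hom) :=
    ⟨hlftΔ.1, fun T W g fst snd sq =>
      ⟨hlftΔ.2 g fst snd sq, mono_left_of_isPullback_diagonal b.hom sq⟩⟩
  refine ⟨fun ⟨h0, h1, h2, h3, h4⟩ => ?_, fun hc hb => ?_⟩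
  · rw [hcomp] at h0 h1 h2 h3 h4
    refine ⟨?_, ?_, ?_, ?_, ?_⟩
    · exact (repWith_of_comp_of_diagonal (P := fun _ _ _ => True) (P' := ⊤)
        (fun _ _ _ _ _ _ _ => MorphismProperty.top_apply _) a.hom b.hom hΔ ⟨h0, fun _ _ _ _ _ _ => trivial⟩).rep
    · exact repWith_of_comp_of_diagonal (P := @LocallyOfFiniteType) (P' := @LocallyOfFiniteType)
        (fun _ _ _ k l hk hl => by
          have := hk.1
          have : LocallyOfFiniteType l := hl
          infer_instance) a.hom b.hom hΔ h1
    · exact repWith_of_comp_of_diagonal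
        (P := (@LocallyQuasiFinite ⊓ @LocallyOfFiniteType : MorphismProperty Scheme.{u}))
        (P' := (@LocallyQuasiFinite ⊓ @LocallyOfFiniteType : MorphismProperty Scheme.{u}))
        (fun _ _ _ k l hk hl => by
          have h1 := hk.1
          have h2 := hk.2
          have : LocallyQuasiFinite l := hl.1
          have : LocallyOfFiniteType l := hl.2
          have : FormallyUnramified k := inferInstance
          have : LocallyQuasiFinite k := locallyQuasiFinite_of_unramified k
          exact ⟨inferInstance, inferInstance⟩) a.hom b.hom hΔ h2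
    · exact repWith_of_comp_of_diagonal (P := @IsSeparated) (P' := @IsSeparated)
        (fun _ _ _ k l hk hl => by
          have := hk.2
          have : IsSeparated l := hl
          infer_instance) a.hom b.hom hΔ h3
    · exact repWith_of_comp_of_diagonal (P := MorphismProperty.monomorphisms Scheme.{u})
        (P' := MorphismProperty.monomorphisms Scheme.{u})
        (fun _ _ _ k l hk hl => by
          have := hk.2
          have : Mono l := hl
          exact (MorphismProperty.monomorphisms.iff _).2 (mono_comp k l)) a.hom b.hom hΔ h4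
  · rw [hcomp] at hc
    exact repWith_of_comp_of_diagonal (Q := @IsClosedImmersion) (P := @IsClosedImmersion)
      (P' := @IsClosedImmersion)
      (fun _ _ _ k l hk hl => by
        have : IsClosedImmersion k := hk
        have : IsClosedImmersion l := hl
        infer_instance) a.hom b.hom hb hc

end Groth.Agent.S9933
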