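import Groth.Statements.S9935
import Groth.Agent.H50.KerBC
import Groth.Agent.H50.SigmaChart
import Groth.Agent.S9912

set_option autoImplicit false
universe u
open CategoryTheory CategoryTheory.Limits AlgebraicGeometry
open AlgSp

namespace Groth.Agent.S9935

open Groth.Agent.H50 Groth.Agent.H52

/-- A quasi-compact immersion of algebraic spaces factors as an open immersion followed by a closed
immersion. -/
theorem result {S : Scheme.{u}} {Z X : AlgSp.Space S}
    (i : Z ⟶ X) (hi : AlgSp.RepWith @IsImmersion i.hom) (hq : AlgSp.IsQuasiCompactMor i.hom) :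
    ∃ (Zbar : AlgSp.Space S) (j : Z ⟶ Zbar) (c : Zbar ⟶ X), j ≫ c = i ∧
      AlgSp.RepWith @IsOpenImmersion j.hom ∧ AlgSp.RepWith @IsClosedImmersion c.hom := by
  obtain ⟨U, a, hae, has⟩ := X.property.atlas
  haveI : Epi a := epi_of_etale_surjective a hae has
  have hrep : AlgSp.Representable i.hom := hi.rep
  have sq0 := hrep.isPullback a
  haveI hIm : IsImmersion (hrep.snd a).left := hi.property_snd a
  have hqc : AlgSp.RepWith @QuasiCompact i.hom := (Groth.Agent.S9912.result i hrep).2 hq
  haveI hQC : QuasiCompact (hrep.snd a).left := hqc.property_snd a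
  have hI : Invariant a (hrep.snd a).left.ker :=
    invariant_ker_of_quasiCompact a hae i.hom hrep (hrep.snd a) (hrep.fst a) sq0
  haveI : Epi (hrep.fst a) := epi_fst_of_isPullback sq0
  obtain ⟨j, hj⟩ := exists_factor_closedSub (I := (hrep.snd a).left.ker) i.hom (hrep.fst a)
    (hrep.snd a) sq0.w le_rfl
  have hτw : (hrep.snd a).left.toImage ≫ (vOver U (hrep.snd a).left.ker).hom =
      (hrep.pullback a).hom := by
    change (hrep.snd a).left.toImage ≫ ((hrep.snd a).left.imageι ≫ U.hom) = _
    rw [← Category.assoc, (hrep.snd a).left.toImage_imageι, Over.w]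
  have hτι : (Over.homMk (hrep.snd a).left.toImage hτw :
      hrep.pullback a ⟶ vOver U (hrep.snd a).left.ker) ≫ vOverι U (hrep.snd a).left.ker =
      hrep.snd a := by
    apply Over.OverMorphism.ext
    exact (hrep.snd a).left.toImage_imageι
  have hcomm : (AlgSp.yon S).map (Over.homMk (hrep.snd a).left.toImage hτw :
      hrep.pullback a ⟶ vOver U (hrep.snd a).left.ker) ≫ closedSubπ a (hrep.snd a).left.ker =
      hrep.fst a ≫ j := by
    rw [← cancel_mono (closedSubι a (hrep.snd a).left.ker), Category.assoc, closedSubπ_ι,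
      ← Category.assoc, ← Functor.map_comp, hτι, Category.assoc, hj, sq0.w]
  have sqJ : IsPullback ((AlgSp.yon S).map (Over.homMk (hrep.snd a).left.toImage hτw :
      hrep.pullback a ⟶ vOver U (hrep.snd a).left.ker)) (hrep.fst a)
      (closedSubπ a (hrep.snd a).left.ker) j := by
    refine IsPullback.of_right ?_ hcomm (isPullback_closedSub hI).flip
    rw [← Functor.map_comp, hτι, hj]
    exact sq0.flip
  have hτo : IsOpenImmersion (Over.homMk (hrep.snd a).left.toImage hτw :
      hrep.pullback a ⟶ vOver U (hrep.snd a).left.ker).left :=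
    inferInstanceAs (IsOpenImmersion (hrep.snd a).left.toImage)
  have hjo : AlgSp.RepWith @IsOpenImmersion j :=
    repWith_immersion_of_isPullback_chart @IsOpenImmersion (Or.inr (Or.inl rfl)) j
      (closedSubπ a (hrep.snd a).left.ker) (repWith_etale_closedSubπ hae hI)
      (repWith_surjective_closedSubπ has hI) _ hτo (hrep.fst a) sqJ.flip
  refine ⟨⟨closedSub a (hrep.snd a).left.ker, isAlgSpace_closedSub hae has hI X.property⟩,
    ObjectProperty.homMk j, ObjectProperty.homMk (closedSubι a (hrep.snd a).left.ker), ?_, hjo,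
    repWith_isClosedImmersion_closedSubι hae has hI⟩
  apply ObjectProperty.hom_ext
  exact hj

end Groth.Agent.S9935
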