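import Groth.Statements.S9939
import Groth.Agent.H50.Basic
import Mathlib.AlgebraicGeometry.Morphisms.UniversallyInjective

set_option autoImplicit false
universe u
open CategoryTheory CategoryTheory.Limits AlgebraicGeometry
open AlgSp

namespace Groth.Agent.S9939

/-- For a morphism of algebraic spaces representable by schemes, representable universal injectivity is
equivalent to injectivity on K-valued points for every field K. -/
theorem result {S : Scheme.{u}} {X Y : AlgSp.Space S} (f : X ⟶ Y)
    (hf : AlgSp.Representable f.hom) :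
    AlgSp.RepWith @UniversallyInjective f.hom ↔
      ∀ (K : Type u) [Field K] (str : Spec (CommRingCat.of K) ⟶ S),
        Function.Injective (fun a : (AlgSp.yon S).obj (Over.mk str) ⟶ X.obj => a ≫ f.hom) := by
  constructor
  · intro h K _ str a a' haa
    dsimp only at haa
    have hrep : AlgSp.Representable f.hom := h.rep
    have h1 : UniversallyInjective (hrep.snd (a ≫ f.hom)).left := h.property_snd (a ≫ f.hom)
    have h2 : ∀ (L : Type u) [Field L], Function.Injective
        (fun g : Spec (.of L) ⟶ (hrep.pullback (a ≫ f.hom)).left ↦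
          g ≫ (hrep.snd (a ≫ f.hom)).left) :=
      ((tfae_universallyInjective (hrep.snd (a ≫ f.hom)).left).out 0 1).1 h1
    have hi : a ≫ f.hom = (AlgSp.yon S).map (𝟙 (Over.mk str)) ≫ a ≫ f.hom := by simp
    have hi' : a' ≫ f.hom = (AlgSp.yon S).map (𝟙 (Over.mk str)) ≫ a ≫ f.hom := by simp [haa]
    have e : hrep.lift a (𝟙 _) hi = hrep.lift a' (𝟙 _) hi' := by
      apply Over.OverMorphism.ext
      apply h2 K
      dsimp only
      rw [← Over.comp_left, ← Over.comp_left, hrep.lift_snd, hrep.lift_snd]
    have e1 := hrep.lift_fst a (𝟙 _) hi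
    have e2 := hrep.lift_fst a' (𝟙 _) hi'
    rw [← e1, ← e2, e]
  · intro h
    refine ⟨hf, ?_⟩
    intro U V g fst snd sq
    have h2 : (∀ (L : Type u) [Field L], Function.Injective
        (fun g : Spec (.of L) ⟶ V.left ↦ g ≫ snd.left)) → UniversallyInjective snd.left :=
      ((tfae_universallyInjective snd.left).out 0 1).2
    apply h2
    intro K _ g1 g2 hg
    dsimp only at hg
    have hw : g2 ≫ V.hom = g1 ≫ V.hom := by
      rw [← Over.w snd, ← Category.assoc, ← hg, Category.assoc]
    let g1' : Over.mk (g1 ≫ V.hom) ⟶ V := Over.homMk g1 rfl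
    let g2' : Over.mk (g1 ≫ V.hom) ⟶ V := Over.homMk g2 hw
    have hs : g1' ≫ snd = g2' ≫ snd := Over.OverMorphism.ext (by
      rw [Over.comp_left, Over.comp_left]; exact hg)
    have h3 : (AlgSp.yon S).map g1' ≫ fst = (AlgSp.yon S).map g2' ≫ fst := by
      apply h K (g1 ≫ V.hom)
      dsimp only
      rw [Category.assoc, Category.assoc, sq.w, ← Category.assoc, ← Category.assoc,
        ← Functor.map_comp, ← Functor.map_comp, hs]
    have h4 : (AlgSp.yon S).map g1' = (AlgSp.yon S).map g2' := by
      apply sq.hom_ext h3
      rw [← Functor.map_comp, ← Functor.map_comp, hs]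
    have h5 : g1' = g2' := (AlgSp.yon S).map_injective h4
    exact congrArg (fun m => m.left) h5

end Groth.Agent.S9939
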