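import Groth.Statements.S9940
import Groth.Agent.H50.Points

set_option autoImplicit false
universe u
open CategoryTheory CategoryTheory.Limits AlgebraicGeometry
open AlgSp

namespace Groth.Agent.S9940

/-- (4) ⇒ (1): universal injectivity of a morphism of algebraic spaces descends along a surjective base
change from a scheme. -/
theorem result {S : Scheme.{u}} {X Y : AlgSp.Space S} (f : X ⟶ Y)
    (Z : Over S) (g : (AlgSp.yon S).obj Z ⟶ Y.obj) (hg : AlgSp.IsSurjectiveMor g) {P : AlgSp.Sp S}
    (fst : P ⟶ X.obj) (snd : P ⟶ (AlgSp.yon S).obj Z) (sq : IsPullback fst snd f.hom g)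
    (h : AlgSp.IsUnivInjectiveMor snd) : AlgSp.IsUnivInjectiveMor f.hom := by
  intro W W' hW k fst' snd' sq' x1 x2 hx
  -- a field point of `W` under `x1`, with a compatible point of `Z`
  obtain ⟨ζ, hζ⟩ := hg (AlgSp.Points.map k (AlgSp.Points.map snd' x1))
  obtain ⟨Ω, _, w, t, ζ', htζ, ht, -⟩ :=
    Groth.Agent.H50.exists_common_field k g (AlgSp.Points.map snd' x1) ζ hζ.symm
  -- base change to `T = Spec Ω`
  have sqQ := IsPullback.of_hasPullback snd' t
  have hcomm : (pullback.fst snd' t ≫ fst') ≫ f.hom = (pullback.snd snd' t ≫ ζ') ≫ g := by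
    rw [Category.assoc, sq'.w, ← Category.assoc, pullback.condition, Category.assoc, htζ,
      Category.assoc]
  have hbig : IsPullback (pullback.fst snd' t ≫ fst') (pullback.snd snd' t) f.hom (ζ' ≫ g) := by
    rw [← htζ]
    exact sqQ.paste_horiz sq'
  have claim : IsPullback (sq.lift (pullback.fst snd' t ≫ fst') (pullback.snd snd' t ≫ ζ') hcomm)
      (pullback.snd snd' t) snd ζ' := by
    refine IsPullback.of_right ?_ (sq.lift_snd _ _ _) sq
    rw [sq.lift_fst]
    exact hbig
  have hinj : Function.Injective (AlgSp.Points.map (pullback.snd snd' t)) :=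
    h (AlgSp.IsAlgSpace.yon_obj (Over.mk w)) ζ' _ _ claim
  -- the point of `T`
  have hτ : AlgSp.Points.map t (AlgSp.Points.mk (Groth.Agent.H50.fieldPtOfHom w (𝟙 _))) =
      AlgSp.Points.map snd' x1 := by
    rw [Groth.Agent.H50.points_map_mk_fieldPtOfHom, Category.id_comp, ht]
  obtain ⟨z1, hz1, hz1'⟩ := Groth.Agent.H50.exists_point_of_isPullback sqQ x1 _ hτ.symm
  obtain ⟨z2, hz2, hz2'⟩ := Groth.Agent.H50.exists_point_of_isPullback sqQ x2 _ (hx ▸ hτ.symm)
  have : z1 = z2 := hinj (hz1'.trans hz2'.symm)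
  rw [← hz1, ← hz2, this]

end Groth.Agent.S9940
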