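import Groth.Statements.S9941
import Groth.Agent.H51.ZarGlueRep
import Groth.Agent.H52.FibProd

set_option autoImplicit false
universe u
open CategoryTheory CategoryTheory.Limits AlgebraicGeometry
open AlgSp

namespace Groth.Agent.S9941

/-- (2) ⇒ (1): an affine morphism of algebraic spaces is representable (and representable-affine). -/
theorem result {S : Scheme.{u}} {X Y : AlgSp.Space S} (f : X ⟶ Y)
    (hf : AlgSp.IsAffineMor f.hom) : AlgSp.RepWith @IsAffineHom f.hom := by
  refine MorphismProperty.relative.of_exists (fun T g => ?_)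
  let 𝒰 : Scheme.OpenCover.{u} T.left := T.left.affineCover
  have hx := fun a => hf (Z := Groth.Agent.H51.ZarGlue.coverOver T 𝒰 a)
    (inferInstanceAs (IsAffine (𝒰.X a)))
    ((yon S).map (Groth.Agent.H51.ZarGlue.coverOverι T 𝒰 a) ≫ g)
  choose Wa i fst sqa haff using hx
  have hcomm : ∀ a, fst a ≫ f.hom =
      (yon S).map (i a ≫ Groth.Agent.H51.ZarGlue.coverOverι T 𝒰 a) ≫ g := by
    intro a
    rw [(sqa a).w, Functor.map_comp, Category.assoc]
  let φ : ∀ a, (yon S).obj (Wa a) ⟶ pullback f.hom g := fun a =>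
    pullback.lift (fst a) ((yon S).map (i a ≫ Groth.Agent.H51.ZarGlue.coverOverι T 𝒰 a)) (hcomm a)
  have sq : ∀ a, IsPullback (φ a) ((yon S).map (i a)) (pullback.snd f.hom g)
      ((yon S).map (Groth.Agent.H51.ZarGlue.coverOverι T 𝒰 a)) := by
    intro a
    exact Groth.Agent.H52.isPullback_lift_of_comp_right (IsPullback.of_hasPullback f.hom g) (sqa a)
      (φ a) (pullback.lift_fst _ _ _) (by rw [pullback.lift_snd, Functor.map_comp])
  obtain ⟨G, e, snd, c, he, hc, hsq⟩ :=
    Groth.Agent.H51.ZarGlue.exists_iso_yon_of_openCover (pullback.snd f.hom g) 𝒰 Wa i φ sq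
  refine ⟨G, e.hom ≫ pullback.fst f.hom g, snd, ?_, ?_⟩
  · rw [← he]
    exact IsPullback.of_iso (IsPullback.of_hasPullback f.hom g) e.symm (Iso.refl _) (Iso.refl _)
      (Iso.refl _) (by simp) (by simp) (by simp) (by simp)
  · show IsAffineHom snd.left
    refine Groth.Agent.H51.ZarGlue.of_openCover_of_isPullback @IsAffineHom snd.left 𝒰
      (fun a => (c a).left) (fun a => (i a).left) hsq (fun a => ?_)
    have : IsAffine (Wa a).left := haff a
    have : IsAffine (Groth.Agent.H51.ZarGlue.coverOver T 𝒰 a).left :=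
      inferInstanceAs (IsAffine (T.left.affineCover.X a))
    exact (inferInstance : IsAffineHom (i a).left)

end Groth.Agent.S9941
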