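import Groth.Statements.S9942
import Groth.Agent.H51.AffDescChart
import Groth.Agent.H51.ZarGlueRep
import Groth.Agent.H52.FibProd

set_option autoImplicit false
universe u
open CategoryTheory CategoryTheory.Limits AlgebraicGeometry
open AlgSp

namespace Groth.Agent.S9942

/-- (3) ⇒ (2): if X x_Y V is an affine scheme for every affine scheme V etale over Y, then f : X -> Y is
affine. -/
theorem result {S : Scheme.{u}} {X Y : AlgSp.Space S} (f : X ⟶ Y)
    (h : ∀ (V : Over S), IsAffine V.left → ∀ (b : (AlgSp.yon S).obj V ⟶ Y.obj), AlgSp.RepWith @Etale b →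
      ∀ (P : AlgSp.Sp S) (fst : P ⟶ X.obj) (snd : P ⟶ (AlgSp.yon S).obj V), IsPullback fst snd f.hom b →
      ∃ (W : Over S), IsAffine W.left ∧ Nonempty ((AlgSp.yon S).obj W ≅ P)) :
    AlgSp.IsAffineMor f.hom := by
  obtain ⟨U, p, hpe, hps⟩ := Y.property.atlas
  -- it suffices that the base change to the atlas is affine
  suffices hsnd : AlgSp.IsAffineMor (pullback.snd f.hom p) by
    intro Z hZ g
    have := hZ
    obtain ⟨Z', c, g'', hZ', hce, hcs, hg⟩ :=
      Groth.Agent.H51.AffDesc.exists_affine_etale_cover p hpe hps g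
    obtain ⟨W', b', x', sqW', hW'⟩ := hsnd hZ' ((AlgSp.yon S).map g'')
    obtain ⟨W, w, k, x, hW, sqx, -⟩ := Groth.Agent.H51.AffDesc.exists_affine_pullback f.hom p
      (pullback.fst f.hom p) (pullback.snd f.hom p) (IsPullback.of_hasPullback f.hom p)
      g c g'' hg b' x' sqW'
    exact ⟨W, w, x, sqx, hW⟩
  -- Zariski gluing over the affine cover of the atlas
  let 𝒰 : Scheme.OpenCover.{u} U.left := U.left.affineCover
  have hx : ∀ a : 𝒰.I₀, ∃ (Wa : Over S) (i : Wa ⟶ Groth.Agent.H51.ZarGlue.coverOver U 𝒰 a)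
      (fst : (AlgSp.yon S).obj Wa ⟶ X.obj),
      IsPullback fst ((AlgSp.yon S).map i) f.hom
        ((AlgSp.yon S).map (Groth.Agent.H51.ZarGlue.coverOverι U 𝒰 a) ≫ p) ∧ IsAffine Wa.left := by
    intro a
    have hb : AlgSp.RepWith @Etale
        ((AlgSp.yon S).map (Groth.Agent.H51.ZarGlue.coverOverι U 𝒰 a) ≫ p) := by
      have h1 : AlgSp.RepWith @Etale
          ((AlgSp.yon S).map (Groth.Agent.H51.ZarGlue.coverOverι U 𝒰 a)) :=
        (AlgSp.repWith_yon_map_iff @Etale _).2
          (inferInstanceAs (Etale (𝒰.f a)))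
      exact MorphismProperty.comp_mem _ _ _ h1 hpe
    obtain ⟨Wa, hWa, ⟨ε⟩⟩ := h (Groth.Agent.H51.ZarGlue.coverOver U 𝒰 a)
      (inferInstanceAs (IsAffine (𝒰.X a))) _ hb _ _ _ (IsPullback.of_hasPullback f.hom _)
    obtain ⟨i, hi⟩ := (AlgSp.yon S).map_surjective (ε.hom ≫ pullback.snd f.hom _)
    refine ⟨Wa, i, ε.hom ≫ pullback.fst f.hom _, ?_, hWa⟩
    rw [hi]
    exact IsPullback.of_iso (IsPullback.of_hasPullback f.hom _) ε.symm (Iso.refl _) (Iso.refl _)
      (Iso.refl _) (by simp) (by simp) (by simp) (by simp)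
  choose Wa i fst sqa haff using hx
  have hcomm : ∀ a, fst a ≫ f.hom =
      (AlgSp.yon S).map (i a ≫ Groth.Agent.H51.ZarGlue.coverOverι U 𝒰 a) ≫ p := by
    intro a
    rw [(sqa a).w, Functor.map_comp, Category.assoc]
  let φ : ∀ a, (AlgSp.yon S).obj (Wa a) ⟶ pullback f.hom p := fun a =>
    pullback.lift (fst a) ((AlgSp.yon S).map (i a ≫ Groth.Agent.H51.ZarGlue.coverOverι U 𝒰 a))
      (hcomm a)
  have sq : ∀ a, IsPullback (φ a) ((AlgSp.yon S).map (i a)) (pullback.snd f.hom p)
      ((AlgSp.yon S).map (Groth.Agent.H51.ZarGlue.coverOverι U 𝒰 a)) := by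
    intro a
    exact Groth.Agent.H52.isPullback_lift_of_comp_right (IsPullback.of_hasPullback f.hom p) (sqa a)
      (φ a) (pullback.lift_fst _ _ _) (by rw [pullback.lift_snd, Functor.map_comp])
  obtain ⟨G, e, snd, c, he, hc, hsq⟩ :=
    Groth.Agent.H51.ZarGlue.exists_iso_yon_of_openCover (pullback.snd f.hom p) 𝒰 Wa i φ sq
  have hsndaff : IsAffineHom snd.left := by
    refine Groth.Agent.H51.ZarGlue.of_openCover_of_isPullback @IsAffineHom snd.left 𝒰
      (fun a => (c a).left) (fun a => (i a).left) hsq (fun a => ?_)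
    have : IsAffine (Wa a).left := haff a
    have : IsAffine (Groth.Agent.H51.ZarGlue.coverOver U 𝒰 a).left :=
      inferInstanceAs (IsAffine (U.left.affineCover.X a))
    exact (inferInstance : IsAffineHom (i a).left)
  intro Z hZ g₀
  have := hZ
  obtain ⟨γ, rfl⟩ := (AlgSp.yon S).map_surjective g₀
  have sqO := IsPullback.of_hasPullback snd γ
  have sqY := sqO.map (AlgSp.yon S)
  refine ⟨pullback snd γ, pullback.snd snd γ,
    (AlgSp.yon S).map (pullback.fst snd γ) ≫ e.hom, ?_, ?_⟩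
  · refine IsPullback.of_iso sqY (Iso.refl _) e (Iso.refl _) (Iso.refl _) ?_ ?_ ?_ ?_
    · simp
    · simp
    · rw [Iso.refl_hom, Category.comp_id, he]
    · simp
  · have sqS : IsPullback (pullback.fst snd γ).left (pullback.snd snd γ).left snd.left γ.left :=
      sqO.map (Over.forget S)
    have : IsAffineHom (pullback.snd snd γ).left :=
      MorphismProperty.of_isPullback (P := @IsAffineHom) sqS hsndaff
    exact isAffine_of_isAffineHom (pullback.snd snd γ).left

end Groth.Agent.S9942
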