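import Groth.Statements.S9944
import Groth.Agent.H50.Affine

set_option autoImplicit false
universe u
open CategoryTheory CategoryTheory.Limits AlgebraicGeometry
open AlgSp

namespace Groth.Agent.S9944

/-- Let g : X -> Y be a morphism over a base algebraic space B with X affine over B. Then g is affine as
soon as the diagonal of Y over B is affine, and in particular as soon as Y is B-separated. (The
published lemma also has two versions with the absolute diagonal of Y; this row states the versions
over B.) -/
theorem result {S : Scheme.{u}} {X Y B : AlgSp.Space S} (g : X ⟶ Y) (p : X ⟶ B)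
    (q : Y ⟶ B) (comm : g ≫ q = p) (hp : AlgSp.IsAffineMor p.hom) :
    (AlgSp.IsAffineMor (pullback.diagonal q.hom) → AlgSp.IsAffineMor g.hom) ∧
    (AlgSp.IsSeparatedMor q.hom → AlgSp.IsAffineMor g.hom) := by
  have hp' : AlgSp.IsAffineMor (g.hom ≫ q.hom) := by
    have : g.hom ≫ q.hom = p.hom := by rw [← comm]; rfl
    rw [this]; exact hp
  refine ⟨fun hΔ => Groth.Agent.H50.isAffineMor_of_comp_of_diagonal g.hom q.hom hp' hΔ, fun hs => ?_⟩
  refine Groth.Agent.H50.isAffineMor_of_comp_of_diagonal g.hom q.hom hp' ?_
  exact Groth.Agent.H50.isAffineMor_of_repWith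
    (Groth.Agent.H50.repWith_mono (P := @IsClosedImmersion) (Q := @IsAffineHom)
      (fun _ _ k hk => by have : IsClosedImmersion k := hk; infer_instance) hs)

end Groth.Agent.S9944
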