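import Groth.Statements.S9945
import Groth.Agent.S9942
import Groth.Agent.S10185
import Mathlib.AlgebraicGeometry.Morphisms.QuasiFinite
import Groth.Agent.H50.Descent

set_option autoImplicit false
universe u
open CategoryTheory CategoryTheory.Limits AlgebraicGeometry
open AlgSp

namespace Groth.Agent.S9945

/-- Over a base scheme with quasi-separated underlying space, every morphism from the spectrum of an
Artinian ring to an algebraic space quasi-separated over S is affine. (The published statement
assumes X quasi-separated in the absolute sense over any base; this row assumes the base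
quasi-separated and X quasi-separated over it, which on such bases is the same condition.) -/
theorem result {S : Scheme.{u}} [QuasiSeparatedSpace ↥S] (X : AlgSp.Space S)
    (hX : AlgSp.IsQuasiSeparatedSp X.obj) (A : Type u) [CommRing A] [IsArtinianRing A]
    (str : Spec (CommRingCat.of A) ⟶ S) (a : (AlgSp.yon S).obj (Over.mk str) ⟶ X.obj) :
    AlgSp.IsAffineMor a := by
  let T : Over S := Over.mk str
  refine Groth.Agent.S9942.result (X := (AlgSp.ofScheme S).obj T) (Y := X)
    (ObjectProperty.homMk a) (fun V hV b hb P fst snd sq => ?_)
  have := hV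
  obtain ⟨W₀, snd₀, fst₀, sq₀⟩ := hb.rep a
  obtain ⟨f₀, rfl⟩ := (AlgSp.yon S).map_surjective fst₀
  have het : Etale snd₀.left := hb.property a _ _ sq₀
  have hTc : CompactSpace ↥T.left := inferInstanceAs (CompactSpace ↥(Spec (CommRingCat.of A)))
  have hc : CompactSpace ↥W₀.left :=
    Groth.Agent.S10185.result X hX T V W₀ a b snd₀ f₀ sq₀.flip
  have hTd : DiscreteTopology ↥T.left :=
    inferInstanceAs (DiscreteTopology (PrimeSpectrum A))
  have hlqf : LocallyQuasiFinite snd₀.left := Groth.Agent.H50.locallyQuasiFinite_of_unramified _
  have hd : DiscreteTopology ↥W₀.left := by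
    have h1 : _root_.IsDiscrete (snd₀.left ⁻¹' (Set.univ : Set ↥T.left)) :=
      snd₀.left.isDiscrete_preimage (isDiscrete_univ_iff.mpr hTd)
    rw [Set.preimage_univ] at h1
    exact isDiscrete_univ_iff.mp h1
  have hfin : Finite ↥W₀.left := finite_of_compact_of_discrete
  refine ⟨W₀, inferInstance, ⟨sq₀.flip.isoIsPullback _ _ sq⟩⟩

end Groth.Agent.S9945
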