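import Groth.Statements.S9954
import Groth.Agent.H50.Descent
import Groth.Agent.H50.Points
import Groth.Agent.H52.Topology
import Mathlib.AlgebraicGeometry.AlgClosed.Basic
import Mathlib.FieldTheory.IsAlgClosed.AlgebraicClosure

set_option autoImplicit false
universe u
open CategoryTheory CategoryTheory.Limits AlgebraicGeometry
open AlgSp

namespace Groth.Agent.S9954

/-- A morphism locally of finite type is surjective if and only if it is surjective on k-valued points
for every algebraically closed field k over the base. -/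
theorem result {S : Scheme.{u}} {X Y : AlgSp.Space S} (f : X ⟶ Y)
    (hf : AlgSp.LocP @LocallyOfFiniteType f.hom) :
    AlgSp.IsSurjectiveMor f.hom ↔
      ∀ (k : Type u) [Field k] [IsAlgClosed k] (str : Spec (CommRingCat.of k) ⟶ S)
        (y : (AlgSp.yon S).obj (Over.mk str) ⟶ Y.obj),
        ∃ x : (AlgSp.yon S).obj (Over.mk str) ⟶ X.obj, x ≫ f.hom = y := by
  constructor
  · intro hs k _ _ str y
    have hs' : Function.Surjective (AlgSp.Points.map f.hom) := hs
    obtain ⟨U, a, hae, has⟩ := X.property.atlas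
    have hg : AlgSp.Representable (a ≫ f.hom) := Y.property.representable_from_yon _
    have hLoc : AlgSp.LocP @LocallyOfFiniteType (a ≫ f.hom) := by
      intro U' V a' b' h' ha' hb' comm
      refine hf (a' ≫ a) b' h' ((AlgSp.RepWith @Etale).comp_mem _ _ ha' hae) hb' ?_
      rw [Category.assoc]
      exact comm
    have hgR : AlgSp.RepWith @LocallyOfFiniteType (a ≫ f.hom) :=
      Groth.Agent.H50.repWith_of_locP Groth.Agent.H50.goodProp_lft.desc hg Y.property.atlas hLoc
    have sqW := hg.isPullback y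
    obtain ⟨ξ, hξ⟩ := hs' (AlgSp.Points.mk (Groth.Agent.H50.fieldPtOfHom str y))
    obtain ⟨u, hu⟩ := Groth.Agent.H52.surjective_ofPt_of_surjective a has ξ
    have h1 : AlgSp.Points.map (a ≫ f.hom) (AlgSp.Points.ofScheme U u) =
        AlgSp.Points.map y (AlgSp.Points.mk (Groth.Agent.H50.fieldPtOfHom str (𝟙 _))) := by
      rw [AlgSp.Points.map_comp, ← AlgSp.Points.ofPt_eq_map_ofScheme, hu, hξ,
        Groth.Agent.H50.points_map_mk_fieldPtOfHom, Category.id_comp]
    obtain ⟨z, -, -⟩ := Groth.Agent.H50.exists_point_of_isPullback sqW _ _ h1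
    obtain ⟨W, w, fstW, sqW', hwlft, ⟨x₁⟩⟩ : ∃ (W : Over S) (w : W ⟶ Over.mk str)
        (fstW : (AlgSp.yon S).obj W ⟶ (AlgSp.yon S).obj U),
        IsPullback fstW ((AlgSp.yon S).map w) (a ≫ f.hom) y ∧ LocallyOfFiniteType w.left ∧
          Nonempty W.left :=
      ⟨_, hg.snd y, hg.fst y, sqW, hgR.property_snd y, ⟨AlgSp.Points.toScheme _ z⟩⟩
    let wl : W.left ⟶ Spec (CommRingCat.of k) := w.left
    have hwl : LocallyOfFiniteType wl := hwlft
    have hJ : JacobsonSpace W.left := LocallyOfFiniteType.jacobsonSpace wl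
    obtain ⟨x₀, -, hx₀⟩ := (jacobsonSpace_iff_locallyClosed.1 hJ) Set.univ ⟨x₁, trivial⟩
      isOpen_univ.isLocallyClosed
    have hx₀' : IsClosed ({x₀} : Set W.left) := hx₀
    have hs1 : pointOfClosedPoint wl x₀ hx₀' ≫ wl = 𝟙 _ := pointOfClosedPoint_comp wl x₀ hx₀'
    have hW : w.left ≫ str = W.hom := Over.w w
    have hσ0 : pointOfClosedPoint wl x₀ hx₀' ≫ W.hom = str := by
      rw [← hW, ← Category.assoc]
      erw [hs1]
      exact Category.id_comp _
    let σ : Over.mk str ⟶ W := Over.homMk (pointOfClosedPoint wl x₀ hx₀') hσ0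
    have hσ : σ ≫ w = 𝟙 _ := by
      ext
      exact hs1
    refine ⟨(AlgSp.yon S).map σ ≫ fstW ≫ a, ?_⟩
    rw [Category.assoc, Category.assoc, sqW'.w, ← Category.assoc, ← (AlgSp.yon S).map_comp, hσ,
      (AlgSp.yon S).map_id, Category.id_comp]
  · intro H
    change Function.Surjective (AlgSp.Points.map f.hom)
    intro η
    obtain ⟨K, _, str, a, rfl⟩ := Groth.Agent.H50.exists_fieldPtOfHom η
    let e : Spec (CommRingCat.of (AlgebraicClosure K)) ⟶ Spec (CommRingCat.of K) :=
      Spec.map (CommRingCat.ofHom (algebraMap K (AlgebraicClosure K)))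
    let φ : Over.mk (e ≫ str) ⟶ Over.mk str := Over.homMk e rfl
    obtain ⟨x, hx⟩ := H (AlgebraicClosure K) (e ≫ str) ((AlgSp.yon S).map φ ≫ a)
    refine ⟨AlgSp.Points.mk (Groth.Agent.H50.fieldPtOfHom (e ≫ str) x), ?_⟩
    rw [Groth.Agent.H50.points_map_mk_fieldPtOfHom, hx]
    exact Groth.Agent.H50.mk_fieldPtOfHom_comp str (e ≫ str) φ a

end Groth.Agent.S9954
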