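import Groth.Statements.S9956
import Groth.Agent.H50.Descent

set_option autoImplicit false
universe u
open CategoryTheory CategoryTheory.Limits AlgebraicGeometry
open AlgSp

namespace Groth.Agent.S9956

/-- For morphisms X -> Y -> Z of algebraic spaces, local quasi-finiteness of the composite implies that
of the first map (locally quasi-finite includes locally of finite type, etale locally on source and
target). -/
theorem result {S : Scheme.{u}} {X Y Z : AlgSp.Space S} (f : X ⟶ Y) (g : Y ⟶ Z)
    (h : AlgSp.LocP ((@LocallyQuasiFinite : MorphismProperty Scheme.{u}) ⊓ @LocallyOfFiniteType) (f ≫ g).hom) :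
    AlgSp.LocP ((@LocallyQuasiFinite : MorphismProperty Scheme.{u}) ⊓ @LocallyOfFiniteType) f.hom := by
  have h' : AlgSp.LocP ((@LocallyQuasiFinite : MorphismProperty Scheme.{u}) ⊓ @LocallyOfFiniteType)
      (f.hom ≫ g.hom) := h
  refine Groth.Agent.H50.locP_of_comp
    (P := (@LocallyQuasiFinite : MorphismProperty Scheme.{u}) ⊓ @LocallyOfFiniteType) (Q := ⊤)
    Groth.Agent.H50.goodProp_lqf.desc ?_ Z.property.atlas h' ?_
  · intro A B C k l hkl _
    have h1 : LocallyQuasiFinite (k ≫ l) := hkl.1
    have h2 : LocallyOfFiniteType (k ≫ l) := hkl.2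
    exact ⟨LocallyQuasiFinite.of_comp k l, locallyOfFiniteType_of_comp k l⟩
  · intro U V a b k _ _ _
    trivial

end Groth.Agent.S9956
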