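import Groth.Statements.S9957
import Groth.Agent.H50.Lfp
import Groth.Agent.S9951

set_option autoImplicit false
universe u
open CategoryTheory CategoryTheory.Limits AlgebraicGeometry
open AlgSp

namespace Groth.Agent.S9957

/-- The source of a morphism of finite presentation whose target is Noetherian is itself Noetherian,
Noetherian meaning quasi-compact, quasi-separated over S and locally Noetherian. (The published
statement uses quasi-separatedness in the absolute sense; this row uses quasi-separatedness over S
in hypothesis and conclusion.) -/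
theorem result {S : Scheme.{u}} {X Y : AlgSp.Space S} (f : X ⟶ Y)
    (hf : AlgSp.IsFinitePresentationMor f.hom)
    (hY : AlgSp.IsQuasiCompactSp Y.obj ∧ AlgSp.IsQuasiSeparatedSp Y.obj ∧ AlgSp.IsLocNoethSp Y.obj) :
    AlgSp.IsQuasiCompactSp X.obj ∧ AlgSp.IsQuasiSeparatedSp X.obj ∧ AlgSp.IsLocNoethSp X.obj := by
  obtain ⟨hlfp, hqc, hqs⟩ := hf
  obtain ⟨hYqc, hYqs, hYn⟩ := hY
  refine ⟨?_, ?_, ?_⟩
  · exact hqc Y.property hYqc (𝟙 Y.obj) (𝟙 X.obj) f.hom (IsPullback.id_horiz f.hom)
  · have sq := Groth.Agent.H50.isPullback_prod_diag f.hom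
    have h1 : AlgSp.RepWith @QuasiCompact (prod.lift (pullback.fst f.hom f.hom)
        (pullback.snd f.hom f.hom)) := Groth.Agent.H50.repWith_fst_of_isPullback sq hYqs
    have h2 : AlgSp.RepWith @QuasiCompact (pullback.diagonal f.hom) := hqs
    have heq : pullback.diagonal f.hom ≫ prod.lift (pullback.fst f.hom f.hom)
        (pullback.snd f.hom f.hom) = Limits.diag X.obj := by
      apply prod.hom_ext
      · simp only [Category.assoc, prod.lift_fst, pullback.diagonal_fst]
      · simp only [Category.assoc, prod.lift_snd, pullback.diagonal_snd]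
    have h3 := (AlgSp.RepWith (S := S) @QuasiCompact).comp_mem _ _ h2 h1
    rw [heq] at h3
    exact h3
  · refine Groth.Agent.S9951.result f ?_ hYn
    intro U V a b h ha hb comm
    have := hlfp a b h ha hb comm
    infer_instance

end Groth.Agent.S9957
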