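import Groth.Statements.S9958
import Groth.Agent.H50.Descent

set_option autoImplicit false
universe u
open CategoryTheory CategoryTheory.Limits AlgebraicGeometry
open AlgSp

namespace Groth.Agent.S9958

/-- Over a locally Noetherian algebraic space, locally of finite type implies locally of finite
presentation. -/
theorem result {S : Scheme.{u}} {X Y : AlgSp.Space S} (f : X ⟶ Y)
    (hY : AlgSp.IsLocNoethSp Y.obj) (hf : AlgSp.LocP @LocallyOfFiniteType f.hom) :
    AlgSp.LocP @LocallyOfFinitePresentation f.hom := by
  intro U V' a b k ha hb comm
  have hk : LocallyOfFiniteType k.left := hf a b k ha hb comm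
  obtain ⟨V, p, hpe, hps, hV⟩ := hY
  have hp : AlgSp.Representable p := hpe.rep
  have sqV := hp.isPullback' b
  have hq1 : Etale (hp.snd b).left := hpe.property_snd b
  have hq2 : Surjective (hp.snd b).left := hps.property_snd b
  have hq1e : AlgSp.RepWith @Etale ((AlgSp.yon S).map (hp.fst' b)) :=
    Groth.Agent.H50.repWith_fst_of_isPullback sqV hb
  have hq1' : Etale (hp.fst' b).left := (AlgSp.repWith_yon_map_iff @Etale _).1 hq1e
  have : IsLocallyNoetherian V.left := hV
  have hN : IsLocallyNoetherian (hp.pullback b).left :=
    LocallyOfFiniteType.isLocallyNoetherian (hp.fst' b).left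
  have sqU := IsPullback.of_hasPullback k (hp.snd b)
  have sqU' : IsPullback (pullback.fst k (hp.snd b)).left (pullback.snd k (hp.snd b)).left k.left
      (hp.snd b).left := sqU.map (Over.forget S)
  have hr : LocallyOfFiniteType (pullback.snd k (hp.snd b)).left :=
    MorphismProperty.of_isPullback (P := @LocallyOfFiniteType) sqU' hk
  have hr' : LocallyOfFinitePresentation (pullback.snd k (hp.snd b)).left := inferInstance
  exact Groth.Agent.H50.descend_of_isPullback_over Groth.Agent.H50.goodProp_lfp.desc sqU hq1 hq2 hr'

end Groth.Agent.S9958
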