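import Groth.Statements.S9959
import Groth.Agent.H50.Lfp

set_option autoImplicit false
universe u
open CategoryTheory CategoryTheory.Limits AlgebraicGeometry
open AlgSp

namespace Groth.Agent.S9959

/-- Given X -> Y -> Z with X -> Z locally finitely presented and Y -> Z locally of finite type, X -> Y
is locally finitely presented (all three etale locally on source and target). -/
theorem result {S : Scheme.{u}} {X Y Z : AlgSp.Space S} (f : X ⟶ Y) (g : Y ⟶ Z)
    (hX : AlgSp.LocP @LocallyOfFinitePresentation (f ≫ g).hom) (hY : AlgSp.LocP @LocallyOfFiniteType g.hom) :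
    AlgSp.LocP @LocallyOfFinitePresentation f.hom := by
  have h' : AlgSp.LocP @LocallyOfFinitePresentation (f.hom ≫ g.hom) := hX
  exact Groth.Agent.H50.locP_of_comp (P := @LocallyOfFinitePresentation) (Q := @LocallyOfFiniteType)
    (P' := @LocallyOfFinitePresentation) Groth.Agent.H50.goodProp_lfp.desc
    (fun A B C k l hkl hl => Groth.Agent.H50.lfp_of_comp_of_lft k l hkl hl) Z.property.atlas h' hY

end Groth.Agent.S9959
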