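import Groth.Statements.S9963
import Groth.Agent.H52.LocPBC
import Groth.Agent.H52.EtLocalInst
import Groth.Agent.H52.Univ
import Groth.Agent.H52.Topology
import Groth.Agent.H52.QC
import Groth.Agent.H52.Fpqc

set_option autoImplicit false
universe u
open CategoryTheory CategoryTheory.Limits AlgebraicGeometry
open AlgSp

namespace Groth.Agent.S9963

open Groth.Agent.H52

/-- A morphism of algebraic spaces that is flat, quasi-compact and surjective is submersive, and
universally submersive. -/
theorem result {S : Scheme.{u}} {X Y : AlgSp.Space S} (f : X ⟶ Y)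
    (hfl : AlgSp.LocP @Flat f.hom) (hqc : AlgSp.IsQuasiCompactMor f.hom) (hs : AlgSp.IsSurjectiveMor f.hom) :
    AlgSp.IsSubmersiveMor f.hom ∧ AlgSp.IsUnivSubmersiveMor f.hom := by
  have huniv : AlgSp.IsUnivSubmersiveMor f.hom := by
    apply isUnivSubmersiveMor_of_affine
    intro Z hZ g P fst snd sq
    have : IsAffine Z.left := hZ
    have hP : AlgSp.IsAlgSpace P :=
      isAlgSpace_of_isPullback sq Y.property.diag X.property (AlgSp.IsAlgSpace.yon_obj Z)
    have hPqc : AlgSp.IsQuasiCompactSp P :=
      hqc (AlgSp.IsAlgSpace.yon_obj Z) (isQuasiCompactSp_yon Z) g fst snd sq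
    have hfl' : AlgSp.LocP @Flat snd :=
      locP_baseChange etLocal_flat X.property Y.property (AlgSp.IsAlgSpace.yon_obj Z) sq hfl
    have hsurj : Function.Surjective (AlgSp.Points.map snd) :=
      surjective_map_snd_of_isPullback sq hs
    obtain ⟨ι, hfin, T, c, hT, hc, hcs⟩ := exists_finite_affine_charts hPqc
    have hex : ∀ i, ∃ h : T i ⟶ Z, (AlgSp.yon S).map h = c i ≫ snd :=
      fun i => ⟨(AlgSp.yon S).preimage _, (AlgSp.yon S).map_preimage _⟩
    choose h hh using hex
    have hflat : ∀ i, Flat (h i).left := fun i =>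
      hfl' (c i) (𝟙 _) (h i) (hc i) (AlgSp.repWith_id _ Z) (by rw [Category.comp_id, hh])
    have hofPt : ∀ i (t : (T i).left),
        AlgSp.Points.ofPt (c i ≫ snd) t = AlgSp.Points.schemeHomeo Z ((h i).left t) := by
      intro i t
      rw [← hh, ← Category.comp_id ((AlgSp.yon S).map (h i)), ofPt_yon_map_comp]
      rfl
    refine (Topology.isQuotientMap_iff _).2 ⟨Topology.isCoinducing_iff.2 fun A => ⟨fun hA => ?_,
      fun hA => hA.preimage (AlgSp.Points.continuous_map _)⟩, hsurj⟩
    have e := Finite.equivFin ι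
    have hT' : ∀ j : Fin (Nat.card ι), IsAffine (T (e.symm j)).left := fun j => hT _
    have hflat' : ∀ j : Fin (Nat.card ι), Flat (h (e.symm j)).left := fun j => hflat _
    have hA' : IsOpen (AlgSp.Points.schemeHomeo Z ⁻¹' A) := by
      refine isOpen_of_flat_family (fun j : Fin (Nat.card ι) => (T (e.symm j)).left)
        (fun j => (h (e.symm j)).left) (fun z => ?_) (fun j => ?_)
      · obtain ⟨x, hx⟩ := hsurj (AlgSp.Points.schemeHomeo Z z)
        obtain ⟨i, t, rfl⟩ := hcs x
        refine ⟨e i, ?_⟩
        rw [Equiv.symm_apply_apply]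
        refine ⟨t, (AlgSp.Points.schemeHomeo Z).injective ?_⟩
        rw [← hofPt, ← hx]
        rfl
      · have e' : (fun t => (h (e.symm j)).left t) ⁻¹' (AlgSp.Points.schemeHomeo Z ⁻¹' A) =
            AlgSp.Points.ofPt (c (e.symm j)) ⁻¹' (AlgSp.Points.map snd ⁻¹' A) := by
          ext t
          simp only [Set.mem_preimage]
          rw [← hofPt]
          rfl
        exact e' ▸ hA.preimage (AlgSp.Points.continuous_ofPt _)
    simpa using (AlgSp.Points.schemeHomeo Z).symm.isOpen_preimage.2 hA'
  exact ⟨huniv Y.property (𝟙 _) (𝟙 _) f.hom (IsPullback.id_horiz f.hom), huniv⟩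

end Groth.Agent.S9963
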