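import Groth.Statements.S9967
import Groth.Agent.H50.SchImage3
import Groth.Agent.H51.GraphSep
import Groth.Agent.S9912

set_option autoImplicit false
universe u
open CategoryTheory CategoryTheory.Limits AlgebraicGeometry
open AlgSp

namespace Groth.Agent.S9967

open Groth.Agent.H50 Groth.Agent.H52 Groth.Agent.H51

/-- For a separated f : X -> Y and a section s of f over a quasi-compact open V of Y, the scheme
theoretic image of s maps isomorphically to Y over V. -/
theorem result {S : Scheme.{u}} {X Y V Y' : AlgSp.Space S} (f : X ⟶ Y) (j : V ⟶ Y)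
    (hj : AlgSp.RepWith @IsOpenImmersion j.hom) (hjq : AlgSp.IsQuasiCompactMor j.hom) (hf : AlgSp.IsSeparatedMor f.hom)
    (s : V ⟶ X) (hs : s ≫ f = j) (c : Y' ⟶ X) (hc : AlgSp.IsSchImage s.hom c.hom)
    {P : AlgSp.Sp S} (fst : P ⟶ Y'.obj) (snd : P ⟶ V.obj) (sq : IsPullback fst snd (c ≫ f).hom j.hom) :
    IsIso snd := by
  have sq1 : IsPullback fst snd (c.hom ≫ f.hom) j.hom := sq
  have hsf : s.hom ≫ f.hom = j.hom := congrArg (fun k => k.hom) hs
  obtain ⟨U, a, hae, has⟩ := X.property.atlas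
  haveI : Epi a := epi_of_etale_surjective a hae has
  have hrepj : AlgSp.Representable j.hom := hj.rep
  -- representability of the section
  have hrep_s : AlgSp.Representable s.hom := by
    intro T t
    have sqT : IsPullback (hrepj.fst (t ≫ f.hom)) ((AlgSp.yon S).map (hrepj.snd (t ≫ f.hom)))
        (s.hom ≫ f.hom) (t ≫ f.hom) := by
      rw [hsf]
      exact hrepj.isPullback _
    obtain ⟨W, jc, -, sqs⟩ := exists_closedImmersion_of_isSeparatedMor s.hom f.hom hf t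
      (hrepj.snd (t ≫ f.hom)) (hrepj.fst (t ≫ f.hom)) sqT
    exact ⟨W, jc ≫ hrepj.snd (t ≫ f.hom), (AlgSp.yon S).map jc ≫ hrepj.fst (t ≫ f.hom), sqs⟩
  -- the chart
  have sqj := hrepj.isPullback (a ≫ f.hom)
  haveI hi'o : IsOpenImmersion (hrepj.snd (a ≫ f.hom)).left := hj.property_snd _
  have hqcj : AlgSp.RepWith @QuasiCompact j.hom := (Groth.Agent.S9912.result j hrepj).2 hjq
  haveI hi'q : QuasiCompact (hrepj.snd (a ≫ f.hom)).left := hqcj.property_snd _
  have sqj' : IsPullback (hrepj.fst (a ≫ f.hom)) ((AlgSp.yon S).map (hrepj.snd (a ≫ f.hom)))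
      (s.hom ≫ f.hom) (a ≫ f.hom) := by
    rw [hsf]
    exact sqj
  obtain ⟨W, jc, hjc, sqs⟩ := exists_closedImmersion_of_isSeparatedMor s.hom f.hom hf a
    (hrepj.snd (a ≫ f.hom)) (hrepj.fst (a ≫ f.hom)) sqj'
  haveI := hjc
  haveI hsUq : QuasiCompact (jc ≫ hrepj.snd (a ≫ f.hom)).left :=
    inferInstanceAs (QuasiCompact (jc.left ≫ (hrepj.snd (a ≫ f.hom)).left))
  have hI := invariant_ker_of_quasiCompact a hae s.hom hrep_s (jc ≫ hrepj.snd (a ≫ f.hom)) _ sqs
  have hS := isSchImage_closedSubι_ker a hae has s.hom hrep_s (jc ≫ hrepj.snd (a ≫ f.hom)) _ sqs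
  obtain ⟨ε, hε⟩ := exists_iso_of_isSchImage Y'.property
    (isAlgSpace_closedSub hae has hI X.property) hc hS
  -- pull back c
  obtain ⟨I₀, b₀, sqc⟩ := exists_ideal_of_closedImmersion c.hom hc.1 a
  obtain ⟨s', hs'⟩ := hc.2.1
  obtain ⟨l, hl1, hl2⟩ := sqc.exists_lift (((AlgSp.yon S).map jc ≫ hrepj.fst (a ≫ f.hom)) ≫ s')
    ((AlgSp.yon S).map (jc ≫ hrepj.snd (a ≫ f.hom))) (by
    rw [Category.assoc, hs', sqs.w])
  obtain ⟨τ, rfl⟩ := (AlgSp.yon S).map_surjective l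
  have hτι : τ ≫ vOverι U I₀ = jc ≫ hrepj.snd (a ≫ f.hom) := (AlgSp.yon S).map_injective (by
    rw [Functor.map_comp]
    exact hl2)
  have hτl : jc.left ≫ (hrepj.snd (a ≫ f.hom)).left = τ.left ≫ I₀.subschemeι :=
    (congrArg CommaMorphism.left hτι).symm
  have hle1 : (jc ≫ hrepj.snd (a ≫ f.hom)).left.ker ≤ I₀ := by
    have := le_ker_of_factor_closedSub hI c.hom ε.hom hε b₀ (vOverι U I₀) sqc.w
    rwa [show (vOverι U I₀).left.ker = I₀ from Scheme.IdealSheafData.ker_subschemeι I₀] at this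
  have hle2 : I₀ ≤ (jc ≫ hrepj.snd (a ≫ f.hom)).left.ker :=
    le_ker_of_factors I₀ (jc ≫ hrepj.snd (a ≫ f.hom)) τ hτι
  have hI₀ : I₀ = (jc.left ≫ (hrepj.snd (a ≫ f.hom)).left).ker := le_antisymm hle2 hle1
  -- the scheme level pullback
  have sqm : IsPullback (𝟙 W.left) jc.left (jc.left ≫ (hrepj.snd (a ≫ f.hom)).left)
      (hrepj.snd (a ≫ f.hom)).left := by
    have h1 := (IsPullback.of_id_snd (f := jc.left)).paste_horiz
      (IsKernelPair.id_of_mono (hrepj.snd (a ≫ f.hom)).left)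
    rw [Category.comp_id] at h1
    exact h1.flip
  haveI : QuasiCompact (jc.left ≫ (hrepj.snd (a ≫ f.hom)).left) := hsUq
  have hker : jc.left.ker = I₀.comap (hrepj.snd (a ≫ f.hom)).left := by
    rw [hI₀]
    exact ker_eq_comap_of_isPullback sqm
  have sqD0 : IsPullback jc.left τ.left (hrepj.snd (a ≫ f.hom)).left I₀.subschemeι :=
    isPullback_of_isClosedImmersion jc.left I₀.subschemeι τ.left (hrepj.snd (a ≫ f.hom)).left hτl
      (by rw [Scheme.IdealSheafData.ker_subschemeι, hker])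
  have sqD1 : IsPullback jc τ (hrepj.snd (a ≫ f.hom)) (vOverι U I₀) :=
    IsPullback.of_map (Over.forget S) hτι.symm sqD0
  have sqD := sqD1.map (AlgSp.yon S)
  -- pasting
  have hout := sqD.paste_horiz sqj
  have hqw : ((AlgSp.yon S).map τ ≫ b₀) ≫ c.hom ≫ f.hom =
      ((AlgSp.yon S).map jc ≫ hrepj.fst (a ≫ f.hom)) ≫ j.hom := by
    rw [hout.w, Category.assoc, ← Category.assoc b₀, sqc.w]
    simp only [Category.assoc]
  have hq1 : sq1.lift ((AlgSp.yon S).map τ ≫ b₀) ((AlgSp.yon S).map jc ≫ hrepj.fst (a ≫ f.hom)) hqw ≫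
      fst = (AlgSp.yon S).map τ ≫ b₀ := IsPullback.lift_fst _ _ _ _
  have hq2 : sq1.lift ((AlgSp.yon S).map τ ≫ b₀) ((AlgSp.yon S).map jc ≫ hrepj.fst (a ≫ f.hom)) hqw ≫
      snd = (AlgSp.yon S).map jc ≫ hrepj.fst (a ≫ f.hom) := IsPullback.lift_snd _ _ _ _
  have sqA : IsPullback (sq1.lift ((AlgSp.yon S).map τ ≫ b₀)
      ((AlgSp.yon S).map jc ≫ hrepj.fst (a ≫ f.hom)) hqw) ((AlgSp.yon S).map τ) fst b₀ := by
    refine IsPullback.of_right ?_ hq1 sq1.flip
    rw [hq2, ← Category.assoc, sqc.w, Category.assoc]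
    exact hout
  have sqP := sqA.paste_vert sqc
  rw [← Functor.map_comp, hτι] at sqP
  haveI : Mono c.hom := mono_of_repWith (fun _ _ g hg => by have := hg; infer_instance) hc.1
  haveI : Mono j.hom := mono_of_repWith (fun _ _ g hg => by have := hg; infer_instance) hj
  haveI : Mono fst := sq1.mono_fst_of_mono
  haveI : Mono (fst ≫ c.hom) := mono_comp _ _
  haveI : Mono s.hom := mono_of_mono_fac hsf
  obtain ⟨e, he⟩ := exists_iso_of_isPullback_of_epi a s.hom (fst ≫ c.hom) sqs sqP (Iso.refl _)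
    (by rw [Iso.refl_hom, Category.id_comp])
  have hρ : e.hom ≫ snd = 𝟙 V.obj := by
    rw [← cancel_mono j.hom]
    calc (e.hom ≫ snd) ≫ j.hom = e.hom ≫ fst ≫ c.hom ≫ f.hom := by
          rw [Category.assoc, ← sq1.w]
      _ = (e.hom ≫ fst ≫ c.hom) ≫ f.hom := by simp only [Category.assoc]
      _ = s.hom ≫ f.hom := by rw [he]
      _ = 𝟙 V.obj ≫ j.hom := by rw [hsf, Category.id_comp]
  have : snd = e.inv := by
    rw [← cancel_epi e.hom, hρ, Iso.hom_inv_id]
  rw [this]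
  infer_instance

end Groth.Agent.S9967
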