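import Groth.Statements.S9968
import Groth.Agent.H50.SchDense
import Groth.Agent.H56.EtDenseSch
-- import your own Groth.Agent.* helpers here

set_option autoImplicit false
universe u
open CategoryTheory CategoryTheory.Limits AlgebraicGeometry
open AlgSp

namespace Groth.Agent.S9968


open Groth.Agent.H50 Groth.Agent.H52 Groth.Agent.H56.EtDense

lemma le_of_over {S : Scheme.{u}} {T : Over S} {A B : T.left.Opens}
    (δ : opensOver T A ⟶ opensOver T B) (h : δ ≫ opensOverι T B = opensOverι T A) : A ≤ B := by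
  have h1 : δ.left ≫ B.ι = A.ι := congrArg CommaMorphism.left h
  intro x hx
  have h2 : (δ.left ≫ B.ι) ⟨x, hx⟩ = A.ι ⟨x, hx⟩ := by rw [h1]
  have h3 : B.ι (δ.left ⟨x, hx⟩) ∈ Set.range B.ι := Set.mem_range_self _
  rw [Scheme.Opens.range_ι] at h3
  have h4 : B.ι (δ.left ⟨x, hx⟩) = x := h2
  rw [h4] at h3
  exact h3

/-- general form: density on one surjective etale chart gives density on every etale chart -/
theorem dense_every_chart {S : Scheme.{u}} {U X : AlgSp.Sp S} (j : U ⟶ X)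
    (hj : AlgSp.IsSchDense j) (V : Over S) (φ : (AlgSp.yon S).obj V ⟶ X)
    (hφ : AlgSp.RepWith @Etale φ)
    (W : V.left.Opens) (fst : (AlgSp.yon S).obj (Over.mk (W.ι ≫ V.hom)) ⟶ U)
    (sq : IsPullback fst ((AlgSp.yon S).map (Over.homMk W.ι rfl : Over.mk (W.ι ≫ V.hom) ⟶ V)) j φ) :
    CInt.IsSchematicallyDense W := by
  obtain ⟨hjo, V₀, φ₀, W₀, fst₀, hφ₀e, hφ₀s, sq₀, hW₀⟩ := hj
  have sqT := hφ₀e.rep.isPullback' φ
  haveI he₂ : Etale (hφ₀e.rep.snd φ).left := hφ₀e.property_snd φ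
  haveI hs₂ : Surjective (hφ₀e.rep.snd φ).left := hφ₀s.property _ _ _ sqT
  haveI he₁ : Etale (hφ₀e.rep.fst' φ).left := hφ.property _ _ _ sqT.flip
  have hd₀ : CInt.IsSchematicallyDense ((hφ₀e.rep.fst' φ).left ⁻¹ᵁ W₀) :=
    isSchematicallyDense_preimage_of_etale _ W₀ hW₀
  obtain ⟨m₀, sqO₀⟩ := exists_isPullback_yon_opensOver (hφ₀e.rep.fst' φ) W₀
  obtain ⟨m, sqO⟩ := exists_isPullback_yon_opensOver (hφ₀e.rep.snd φ) W
  have sqP₀ := sqO₀.paste_horiz sq₀
  have sqP := sqO.paste_horiz sq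
  have hw : ((AlgSp.yon S).map m₀ ≫ fst₀) ≫ j =
      (AlgSp.yon S).map (opensOverι _ ((hφ₀e.rep.fst' φ).left ⁻¹ᵁ W₀)) ≫
        ((AlgSp.yon S).map (hφ₀e.rep.snd φ) ≫ φ) := by
    rw [sqP₀.w, sqT.w]
  have hl := sqP.lift_snd _ _ hw
  obtain ⟨δ, hδ⟩ := (AlgSp.yon S).map_surjective (sqP.lift _ _ hw)
  have hδ' : δ ≫ opensOverι _ ((hφ₀e.rep.snd φ).left ⁻¹ᵁ W) =
      opensOverι _ ((hφ₀e.rep.fst' φ).left ⁻¹ᵁ W₀) :=
    (AlgSp.yon S).map_injective (by rw [Functor.map_comp, hδ, hl])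
  have hle : (hφ₀e.rep.fst' φ).left ⁻¹ᵁ W₀ ≤ (hφ₀e.rep.snd φ).left ⁻¹ᵁ W := le_of_over δ hδ'
  exact isSchematicallyDense_of_preimage (hφ₀e.rep.snd φ).left W
    (isSchematicallyDense_mono hle hd₀)


/-- (2) ⇒ (1): if an open subspace is scheme theoretically dense on one surjective etale scheme chart
then its inverse image on every etale scheme chart is scheme theoretically dense. (Density is read
as schematic density of the inverse image open, on both sides; the test objects are scheme charts.) -/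
theorem result {S : Scheme.{u}} {U X : AlgSp.Space S} (j : U ⟶ X)
    (hj : AlgSp.IsSchDense j.hom) (V : Over S) (φ : (AlgSp.yon S).obj V ⟶ X.obj) (hφ : AlgSp.RepWith @Etale φ)
    (W : V.left.Opens) (fst : (AlgSp.yon S).obj (Over.mk (W.ι ≫ V.hom)) ⟶ U.obj)
    (sq : IsPullback fst ((AlgSp.yon S).map (Over.homMk W.ι rfl : Over.mk (W.ι ≫ V.hom) ⟶ V)) j.hom φ) :
    CInt.IsSchematicallyDense W := by
  exact dense_every_chart j.hom hj V φ hφ W fst sq

end Groth.Agent.S9968
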