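import Groth.Statements.S9969
import Groth.Agent.H50.SchDense
import Groth.Agent.H50.SchImage2
import Groth.Agent.H50.ImmDesc
import Groth.Agent.S9912

set_option autoImplicit false
universe u
open CategoryTheory CategoryTheory.Limits AlgebraicGeometry
open AlgSp

namespace Groth.Agent.S9969

open Groth.Agent.H50 Groth.Agent.H52

/-- For a quasi-compact open subspace, scheme theoretic density is equivalent to the scheme theoretic
closure being everything. -/
theorem result {S : Scheme.{u}} {U X : AlgSp.Space S} (j : U ⟶ X)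
    (hj : AlgSp.RepWith @IsOpenImmersion j.hom) (hq : AlgSp.IsQuasiCompactMor j.hom) :
    AlgSp.IsSchDense j.hom ↔ AlgSp.IsSchImage j.hom (𝟙 X.obj) := by
  constructor
  · rintro ⟨-, V₀, φ, W, fst₀, hφe, hφs, sq₀, hW⟩
    have hmC := AlgSp.repWith_isMultiplicative (S := S) @IsClosedImmersion
    refine ⟨(AlgSp.RepWith @IsClosedImmersion).id_mem X.obj, ⟨j.hom, Category.comp_id _⟩, ?_⟩
    rintro Z' i' hZ' hi' ⟨f'', hf''⟩
    haveI : Epi φ := epi_of_etale_surjective φ hφe hφs
    haveI : Mono i' := mono_of_repWith (fun _ _ g hg => by have := hg; infer_instance) hi'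
    obtain ⟨I', b', sq'⟩ := exists_ideal_of_closedImmersion i' hi' φ
    have hle : I' ≤ W.ι.ker := by
      obtain ⟨l, hl⟩ := (AlgSp.yon S).map_surjective (sq'.lift (fst₀ ≫ f'')
        ((AlgSp.yon S).map (opensOverι V₀ W)) (by rw [Category.assoc, hf'', sq₀.w]))
      exact le_ker_of_factors I' (opensOverι V₀ W) l ((AlgSp.yon S).map_injective (by
        rw [Functor.map_comp, hl, IsPullback.lift_snd]))
    rw [ker_ι_eq_bot_of_isSchematicallyDense hW] at hle
    obtain ⟨δ, hδ⟩ := exists_lift_vOver I' (𝟙 V₀) (hle.trans bot_le)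
    have hfac : ((AlgSp.yon S).map δ ≫ b') ≫ i' = φ := by
      rw [Category.assoc, sq'.w, ← Category.assoc, ← Functor.map_comp, hδ,
        CategoryTheory.Functor.map_id, Category.id_comp]
    haveI : Epi i' := epi_of_epi_fac hfac
    haveI : IsIso i' := isIso_of_mono_of_epi i'
    exact ⟨inv i', IsIso.inv_hom_id i'⟩
  · intro hZ
    refine ⟨hj, ?_⟩
    obtain ⟨U₀, a, hae, has⟩ := X.property.atlas
    haveI : Epi a := epi_of_etale_surjective a hae has
    have hrep : AlgSp.Representable j.hom := hj.rep
    have sq0 := hrep.isPullback a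
    haveI hOI : IsOpenImmersion (hrep.snd a).left := hj.property_snd a
    have hqc : AlgSp.RepWith @QuasiCompact j.hom := (Groth.Agent.S9912.result j hrep).2 hq
    haveI hQC : QuasiCompact (hrep.snd a).left := hqc.property_snd a
    have hI := invariant_ker_of_quasiCompact a hae j.hom hrep (hrep.snd a) (hrep.fst a) sq0
    have hS := isSchImage_closedSubι_ker a hae has j.hom hrep (hrep.snd a) (hrep.fst a) sq0
    obtain ⟨ε, hε⟩ := exists_iso_of_isSchImage X.property
      (isAlgSpace_closedSub hae has hI X.property) hZ hS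
    have hK : (hrep.snd a).left.ker ≤ (𝟙 U₀ : U₀ ⟶ U₀).left.ker :=
      le_ker_of_factor_closedSub hI (𝟙 X.obj) ε.hom hε a (𝟙 U₀) (by simp)
    have hK' : (hrep.snd a).left.ker = ⊥ := by
      rw [← le_bot_iff]
      refine hK.trans (le_of_eq ?_)
      exact Scheme.Hom.ker_eq_bot (𝟙 U₀.left)
    have hι : (hrep.snd a).left.isoOpensRange.inv ≫ (hrep.snd a).left =
        (hrep.snd a).left.opensRange.ι := (hrep.snd a).left.isoOpensRange_inv_comp
    have hθw : (hrep.snd a).left.isoOpensRange.inv ≫ (hrep.pullback a).hom =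
        (opensOver U₀ (hrep.snd a).left.opensRange).hom := by
      change _ = (hrep.snd a).left.opensRange.ι ≫ U₀.hom
      rw [← hι, Category.assoc, Over.w]
    have hθ : (Over.isoMk (hrep.snd a).left.isoOpensRange.symm hθw :
        opensOver U₀ (hrep.snd a).left.opensRange ≅ hrep.pullback a).hom ≫ hrep.snd a =
        opensOverι U₀ (hrep.snd a).left.opensRange := by
      apply Over.OverMorphism.ext
      exact hι
    have sqW := isPullback_of_over_iso sq0 _ _ hθ
    haveI : QuasiCompact (hrep.snd a).left.opensRange.ι := by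
      rw [← hι]
      infer_instance
    refine ⟨U₀, a, (hrep.snd a).left.opensRange, _, hae, has, sqW, ?_⟩
    apply isSchematicallyDense_of_ker_ι_eq_bot
    rw [← hι, Scheme.Hom.ker_comp_of_isIso, hK']

end Groth.Agent.S9969
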