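import Groth.Statements.S9970
import Groth.Agent.H50.SchDense
import Groth.Agent.H56.EtDenseSch
import Groth.Agent.S9968
-- import your own Groth.Agent.* helpers here

set_option autoImplicit false
universe u
open CategoryTheory CategoryTheory.Limits AlgebraicGeometry
open AlgSp

namespace Groth.Agent.S9970


open Groth.Agent.H50 Groth.Agent.H52 Groth.Agent.H56.EtDense

/-- the pullback of a representable open immersion along a map from a scheme is an open subscheme -/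
theorem exists_opens_isPullback {S : Scheme.{u}} {F X : AlgSp.Sp S} (j : F ⟶ X)
    (hj : AlgSp.RepWith @IsOpenImmersion j) {T : Over S} (φ : (AlgSp.yon S).obj T ⟶ X) :
    ∃ (W : T.left.Opens) (f : (AlgSp.yon S).obj (opensOver T W) ⟶ F),
      IsPullback f ((AlgSp.yon S).map (opensOverι T W)) j φ := by
  have sq := hj.rep.isPullback φ
  haveI : IsOpenImmersion (hj.rep.snd φ).left := hj.property_snd φ
  obtain ⟨s, hs⟩ : ∃ s : hj.rep.pullback φ ⟶ T, s = hj.rep.snd φ := ⟨_, rfl⟩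
  obtain ⟨q, hq⟩ : ∃ q : (AlgSp.yon S).obj (hj.rep.pullback φ) ⟶ F, q = hj.rep.fst φ := ⟨_, rfl⟩
  rw [← hs, ← hq] at sq
  haveI : IsOpenImmersion s.left := hs ▸ this
  obtain ⟨W, hW⟩ : ∃ W : T.left.Opens, W = s.left.opensRange := ⟨_, rfl⟩
  have hr : Set.range s.left = Set.range W.ι := by
    rw [Scheme.Opens.range_ι, hW]; rfl
  obtain ⟨iso, hiso⟩ : ∃ iso : (hj.rep.pullback φ).left ≅ (W : Scheme.{u}), iso.hom ≫ W.ι = s.left :=
    ⟨IsOpenImmersion.isoOfRangeEq s.left W.ι hr, IsOpenImmersion.isoOfRangeEq_hom_fac _ _ _⟩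
  have hw : iso.hom ≫ (opensOver T W).hom = (hj.rep.pullback φ).hom := by
    have h1 : (opensOver T W).hom = W.ι ≫ T.hom := rfl
    rw [h1, ← Category.assoc, hiso]
    exact Over.w s
  obtain ⟨ε, hε⟩ : ∃ ε : hj.rep.pullback φ ≅ opensOver T W, ε.hom ≫ opensOverι T W = s := by
    refine ⟨Over.isoMk iso hw, ?_⟩
    apply Over.OverMorphism.ext
    exact hiso
  refine ⟨W, (AlgSp.yon S).map ε.inv ≫ q, ?_⟩
  refine IsPullback.of_iso sq ((AlgSp.yon S).mapIso ε)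
    (Iso.refl _) (Iso.refl _) (Iso.refl _) ?_ ?_ ?_ ?_
  · rw [Iso.refl_hom, Category.comp_id, Functor.mapIso_hom, ← Category.assoc, ← Functor.map_comp,
      Iso.hom_inv_id, CategoryTheory.Functor.map_id, Category.id_comp]
  · rw [Iso.refl_hom, Category.comp_id, Functor.mapIso_hom, ← Functor.map_comp, hε]
  · rw [Iso.refl_hom, Iso.refl_hom, Category.comp_id, Category.id_comp]
  · rw [Iso.refl_hom, Iso.refl_hom, Category.comp_id, Category.id_comp]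

/-- The intersection of two scheme theoretically dense open subspaces is scheme theoretically dense. -/
theorem result {S : Scheme.{u}} {U V X P : AlgSp.Space S} (jU : U ⟶ X) (jV : V ⟶ X)
    (hU : AlgSp.IsSchDense jU.hom) (hV : AlgSp.IsSchDense jV.hom) (fst : P ⟶ U) (snd : P ⟶ V)
    (sq : IsPullback fst.hom snd.hom jU.hom jV.hom) : AlgSp.IsSchDense (fst ≫ jU).hom := by
  obtain ⟨hUo, V₁, φ₁, W₁, f₁, hφ₁e, hφ₁s, sq₁, hW₁⟩ := hU
  have hVo := hV.1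
  have hfst : AlgSp.RepWith @IsOpenImmersion fst.hom := repWith_fst_of_isPullback sq hVo
  haveI := AlgSp.repWith_isMultiplicative (S := S) @IsOpenImmersion
  have hPo : AlgSp.RepWith @IsOpenImmersion (fst ≫ jU).hom :=
    (AlgSp.RepWith @IsOpenImmersion).comp_mem _ _ hfst hUo
  obtain ⟨W₂, f₂, sq₂⟩ := exists_opens_isPullback jV.hom hVo φ₁
  have hW₂ : CInt.IsSchematicallyDense W₂ :=
    Groth.Agent.S9968.dense_every_chart jV.hom hV V₁ φ₁ hφ₁e W₂ f₂ sq₂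
  obtain ⟨W₃, f₃, sq₃⟩ := exists_opens_isPullback (fst ≫ jU).hom hPo φ₁
  refine ⟨hPo, V₁, φ₁, W₃, f₃, hφ₁e, hφ₁s, sq₃, ?_⟩
  -- `W₁ ⊓ W₂ ≤ W₃`
  obtain ⟨δ₁, hδ₁⟩ := exists_lift_opensOver W₁ (opensOverι V₁ (W₁ ⊓ W₂))
    (fun t => (TopologicalSpace.Opens.mem_inf.1 t.2).1)
  obtain ⟨δ₂, hδ₂⟩ := exists_lift_opensOver W₂ (opensOverι V₁ (W₁ ⊓ W₂))
    (fun t => (TopologicalSpace.Opens.mem_inf.1 t.2).2)
  have ha : ((AlgSp.yon S).map δ₁ ≫ f₁) ≫ jU.hom =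
      (AlgSp.yon S).map (opensOverι V₁ (W₁ ⊓ W₂)) ≫ φ₁ := by
    rw [Category.assoc, sq₁.w, ← Category.assoc, ← Functor.map_comp]
    exact congrArg (fun z => (AlgSp.yon S).map z ≫ φ₁) hδ₁
  have hb : ((AlgSp.yon S).map δ₂ ≫ f₂) ≫ jV.hom =
      (AlgSp.yon S).map (opensOverι V₁ (W₁ ⊓ W₂)) ≫ φ₁ := by
    rw [Category.assoc, sq₂.w, ← Category.assoc, ← Functor.map_comp, hδ₂]
  have hg1 : sq.lift ((AlgSp.yon S).map δ₁ ≫ f₁) ((AlgSp.yon S).map δ₂ ≫ f₂) (ha.trans hb.symm) ≫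
      fst.hom = (AlgSp.yon S).map δ₁ ≫ f₁ := sq.lift_fst _ _ _
  have hw : sq.lift ((AlgSp.yon S).map δ₁ ≫ f₁) ((AlgSp.yon S).map δ₂ ≫ f₂) (ha.trans hb.symm) ≫
      (fst ≫ jU).hom = (AlgSp.yon S).map (opensOverι V₁ (W₁ ⊓ W₂)) ≫ φ₁ := by
    show _ ≫ fst.hom ≫ jU.hom = _
    rw [← Category.assoc, hg1, ha]
  have hl := sq₃.lift_snd _ _ hw
  obtain ⟨δ, hδ⟩ := (AlgSp.yon S).map_surjective (sq₃.lift _ _ hw)
  have hδ' : δ ≫ opensOverι V₁ W₃ = opensOverι V₁ (W₁ ⊓ W₂) :=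
    (AlgSp.yon S).map_injective (by rw [Functor.map_comp, hδ, hl])
  exact isSchematicallyDense_mono (Groth.Agent.S9968.le_of_over δ hδ')
    (isSchematicallyDense_inf hW₁ hW₂)

end Groth.Agent.S9970
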