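import Groth.Statements.S9971
import Groth.Agent.H50.SchImage3
import Groth.Agent.H50.RedFactor
import Groth.Agent.S9912

set_option autoImplicit false
universe u
open CategoryTheory CategoryTheory.Limits AlgebraicGeometry
open AlgSp

namespace Groth.Agent.S9971

open Groth.Agent.H50 Groth.Agent.H52

/-- A quasi-compact (or reduced-source) immersion is a scheme theoretically dense, topologically dense
open immersion into its scheme theoretic image. -/
theorem result {S : Scheme.{u}} {Z X Zbar : AlgSp.Space S} (h : Z ⟶ X)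
    (hh : AlgSp.RepWith @IsImmersion h.hom) (hq : AlgSp.IsQuasiCompactMor h.hom ∨ AlgSp.IsReducedSp Z.obj)
    (c : Zbar ⟶ X) (hc : AlgSp.IsSchImage h.hom c.hom) (h' : Z ⟶ Zbar) (fac : h' ≫ c = h) :
    AlgSp.RepWith @IsOpenImmersion h'.hom ∧ AlgSp.IsSchDense h'.hom ∧
      Dense (Set.range (AlgSp.Points.map h'.hom)) := by
  obtain ⟨U, a, hae, has⟩ := X.property.atlas
  haveI : Epi a := epi_of_etale_surjective a hae has
  have hrep : AlgSp.Representable h.hom := hh.rep
  have sq0 := hrep.isPullback a
  haveI hIm : IsImmersion (hrep.snd a).left := hh.property_snd a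
  obtain ⟨I₀, b₀, sqc⟩ := exists_ideal_of_closedImmersion c.hom hc.1 a
  have hb₀e : AlgSp.RepWith @Etale b₀ := repWith_fst_of_isPullback sqc hae
  have hb₀s : AlgSp.RepWith @Surjective b₀ := repWith_fst_of_isPullback sqc has
  have hfac : h'.hom ≫ c.hom = h.hom := congrArg (fun k => k.hom) fac
  obtain ⟨l, hl1, hl2⟩ := sqc.exists_lift (hrep.fst a ≫ h'.hom) ((AlgSp.yon S).map (hrep.snd a)) (by
    rw [Category.assoc, hfac, sq0.w])
  obtain ⟨τ, rfl⟩ := (AlgSp.yon S).map_surjective l
  have hτι : τ ≫ vOverι U I₀ = hrep.snd a := (AlgSp.yon S).map_injective (by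
    rw [Functor.map_comp]
    exact hl2)
  have hτl : τ.left ≫ I₀.subschemeι = (hrep.snd a).left := congrArg CommaMorphism.left hτι
  have sqτ : IsPullback (hrep.fst a) ((AlgSp.yon S).map τ) h'.hom b₀ := by
    have hs : IsPullback ((AlgSp.yon S).map τ ≫ (AlgSp.yon S).map (vOverι U I₀)) (hrep.fst a) a
        (h'.hom ≫ c.hom) := by
      rw [hl2, hfac]
      exact sq0.flip
    exact (IsPullback.of_right hs hl1 sqc.flip).flip
  suffices key : ∃ (_ : IsOpenImmersion τ.left),
      CInt.IsSchematicallyDense τ.left.opensRange ∧ DenseRange τ.left by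
    obtain ⟨k1, k2, k3⟩ := key
    exact isSchDense_of_chart h'.hom b₀ hb₀e hb₀s τ (hrep.fst a) sqτ k2 k3
  rcases hq with hq | hZr
  · -- quasi-compact case
    have hqc : AlgSp.RepWith @QuasiCompact h.hom := (Groth.Agent.S9912.result h hrep).2 hq
    haveI hQC : QuasiCompact (hrep.snd a).left := hqc.property_snd a
    have hI := invariant_ker_of_quasiCompact a hae h.hom hrep (hrep.snd a) (hrep.fst a) sq0
    have hS := isSchImage_closedSubι_ker a hae has h.hom hrep (hrep.snd a) (hrep.fst a) sq0
    obtain ⟨ε, hε⟩ := exists_iso_of_isSchImage Zbar.property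
      (isAlgSpace_closedSub hae has hI X.property) hc hS
    have hle1 : (hrep.snd a).left.ker ≤ I₀ := by
      have := le_ker_of_factor_closedSub hI c.hom ε.hom hε b₀ (vOverι U I₀) sqc.w
      rwa [show (vOverι U I₀).left.ker = I₀ from Scheme.IdealSheafData.ker_subschemeι I₀] at this
    have hle2 : I₀ ≤ (hrep.snd a).left.ker := le_ker_of_factors I₀ (hrep.snd a) τ hτι
    exact isOpenImmersion_of_eq_ker (hrep.snd a).left I₀ (le_antisymm hle2 hle1) τ.left hτl
  · -- reduced case
    have hRI := isRedInduced_of_isSchImage Z.property X.property h.hom c.hom hZr hc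
    haveI : IsReduced (vOver U I₀).left := isReduced_of_isReducedSp hRI.2.2 b₀ hb₀e
    haveI : IsReduced I₀.subscheme := inferInstanceAs (IsReduced (vOver U I₀).left)
    have hr1 : Set.range I₀.subschemeι = AlgSp.Points.ofPt a ⁻¹' Set.range (AlgSp.Points.map c.hom) :=
      range_left_eq_preimage_range_map c.hom a b₀ (vOverι U I₀) sqc
    have hr2 : Set.range (hrep.snd a).left =
        AlgSp.Points.ofPt a ⁻¹' Set.range (AlgSp.Points.map h.hom) :=
      range_left_eq_preimage_range_map h.hom a (hrep.fst a) (hrep.snd a) sq0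
    have hcl : Set.range I₀.subschemeι = closure (Set.range (hrep.snd a).left) := by
      rw [hr2, ← IsOpenMap.preimage_closure_eq_closure_preimage (isOpenMap_ofPt_of_etale a hae)
        (AlgSp.Points.continuous_ofPt a), ← hRI.2.1]
      exact hr1
    exact isOpenImmersion_of_isReduced_of_range_eq (hrep.snd a).left I₀ τ.left hτl hcl

end Groth.Agent.S9971
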