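import Groth.Statements.S9972
import Groth.Agent.H50.Fibre

set_option autoImplicit false
universe u
open CategoryTheory CategoryTheory.Limits AlgebraicGeometry
open AlgSp

namespace Groth.Agent.S9972

/-- Two morphisms to an algebraic space separated over B that agree on an open subspace whose scheme
theoretic closure is everything are equal. -/
theorem result {S : Scheme.{u}} {U X Y B : AlgSp.Space S} (q : Y ⟶ B)
    (hq : AlgSp.IsSeparatedMor q.hom) (f g : X ⟶ Y) (hfg : f ≫ q = g ≫ q) (j : U ⟶ X)
    (hj : AlgSp.RepWith @IsOpenImmersion j.hom) (hcl : AlgSp.IsSchImage j.hom (𝟙 X.obj)) (heq : j ≫ f = j ≫ g) :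
    f = g := by
  apply ObjectProperty.hom_ext
  have hfg' : f.hom ≫ q.hom = g.hom ≫ q.hom := congrArg (fun m => m.hom) hfg
  have heq' : j.hom ≫ f.hom = j.hom ≫ g.hom := congrArg (fun m => m.hom) heq
  obtain ⟨-, -, hmin⟩ := hcl
  obtain ⟨φ, hφ⟩ : ∃ φ : X.obj ⟶ pullback q.hom q.hom, φ = pullback.lift f.hom g.hom hfg' :=
    ⟨_, rfl⟩
  have hφ1 : φ ≫ pullback.fst q.hom q.hom = f.hom := by rw [hφ, pullback.lift_fst]
  have hφ2 : φ ≫ pullback.snd q.hom q.hom = g.hom := by rw [hφ, pullback.lift_snd]
  have hi : RepWith @IsClosedImmersion (pullback.snd (pullback.diagonal q.hom) φ) :=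
    MorphismProperty.pullback_snd (P := RepWith @IsClosedImmersion) _ _ hq
  have hE : IsAlgSpace (pullback (pullback.diagonal q.hom) φ) :=
    Groth.Agent.H50.isAlgSpace_of_representable hi.rep X.property
  have hfac : ∃ f'' : U.obj ⟶ pullback (pullback.diagonal q.hom) φ,
      f'' ≫ pullback.snd (pullback.diagonal q.hom) φ = j.hom := by
    refine ⟨pullback.lift (j.hom ≫ f.hom) j.hom ?_, pullback.lift_snd _ _ _⟩
    apply pullback.hom_ext
    · simp only [Category.assoc, pullback.diagonal_fst, Category.comp_id, hφ1]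
    · simp only [Category.assoc, pullback.diagonal_snd, Category.comp_id, hφ2, heq']
  obtain ⟨k, hk⟩ := hmin _ hE hi hfac
  have h1 : pullback.snd (pullback.diagonal q.hom) φ ≫ f.hom =
      pullback.snd (pullback.diagonal q.hom) φ ≫ g.hom := by
    have hc := pullback.condition (f := pullback.diagonal q.hom) (g := φ)
    have ha := congrArg (fun m => m ≫ pullback.fst q.hom q.hom) hc
    have hb := congrArg (fun m => m ≫ pullback.snd q.hom q.hom) hc
    simp only [Category.assoc, pullback.diagonal_fst, pullback.diagonal_snd, Category.comp_id,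
      hφ1, hφ2] at ha hb
    rw [← ha, ← hb]
  calc f.hom = (k ≫ pullback.snd (pullback.diagonal q.hom) φ) ≫ f.hom := by
        rw [hk, Category.id_comp]
    _ = (k ≫ pullback.snd (pullback.diagonal q.hom) φ) ≫ g.hom := by
        rw [Category.assoc, h1, Category.assoc]
    _ = g.hom := by rw [hk, Category.id_comp]

end Groth.Agent.S9972
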