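import Groth.Statements.S9973
import Groth.Agent.H50.SchDense
import Groth.Agent.H50.Fibre
import Groth.Agent.S9912

set_option autoImplicit false
universe u
open CategoryTheory CategoryTheory.Limits AlgebraicGeometry
open AlgSp

namespace Groth.Agent.S9973

open Groth.Agent.H50 Groth.Agent.H52

/-- The inverse image of a quasi-compact scheme theoretically dense open under a flat morphism of
algebraic spaces is scheme theoretically dense. -/
theorem result {S : Scheme.{u}} {X Y V V' : AlgSp.Space S} (f : X ⟶ Y)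
    (hf : AlgSp.LocP @Flat f.hom) (j : V ⟶ Y) (hj : AlgSp.IsSchDense j.hom) (hjq : AlgSp.IsQuasiCompactMor j.hom)
    (fst : V' ⟶ V) (jX : V' ⟶ X) (sq : IsPullback fst.hom jX.hom j.hom f.hom) : AlgSp.IsSchDense jX.hom := by
  obtain ⟨hjo, V₀, φ, W, fst₀, hφe, hφs, sq₀, hW⟩ := hj
  have hjXo : AlgSp.RepWith @IsOpenImmersion jX.hom := repWith_snd_of_isPullback sq hjo
  refine ⟨hjXo, ?_⟩
  have sqQ := IsPullback.of_hasPullback f.hom φ
  have hQ : AlgSp.IsAlgSpace (pullback f.hom φ) :=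
    isAlgSpace_of_representable (f := pullback.fst f.hom φ)
      (repWith_fst_of_isPullback sqQ hφe).rep X.property
  obtain ⟨T, b, hbe, hbs⟩ := hQ.atlas
  have hmE := AlgSp.repWith_isMultiplicative (S := S) @Etale
  have hmS := AlgSp.repWith_isMultiplicative (S := S) @Surjective
  have hφ'e : AlgSp.RepWith @Etale (b ≫ pullback.fst f.hom φ) :=
    (AlgSp.RepWith @Etale).comp_mem _ _ hbe (repWith_fst_of_isPullback sqQ hφe)
  have hφ's : AlgSp.RepWith @Surjective (b ≫ pullback.fst f.hom φ) :=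
    (AlgSp.RepWith @Surjective).comp_mem _ _ hbs (repWith_fst_of_isPullback sqQ hφs)
  obtain ⟨h, hh⟩ := (AlgSp.yon S).map_surjective (b ≫ pullback.snd f.hom φ)
  have hcomm : (b ≫ pullback.fst f.hom φ) ≫ f.hom = (AlgSp.yon S).map h ≫ φ := by
    rw [hh, Category.assoc, Category.assoc, pullback.condition]
  haveI hfl : Flat h.left := hf _ _ h hφ'e hφe hcomm
  have hqc : AlgSp.RepWith @QuasiCompact j.hom := (Groth.Agent.S9912.result j hjo.rep).2 hjq
  haveI hQC : QuasiCompact W.ι := hqc.property _ _ _ sq₀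
  obtain ⟨hWm, sqO⟩ := exists_isPullback_yon_opensOver h W
  have sqP := sqO.paste_horiz sq₀
  rw [← hcomm] at sqP
  have hw : ((AlgSp.yon S).map hWm ≫ fst₀) ≫ j.hom =
      ((AlgSp.yon S).map (opensOverι T (h.left ⁻¹ᵁ W)) ≫ b ≫ pullback.fst f.hom φ) ≫ f.hom := by
    rw [sqP.w]
    simp only [Category.assoc]
  have hl1 : sq.lift ((AlgSp.yon S).map hWm ≫ fst₀)
      ((AlgSp.yon S).map (opensOverι T (h.left ⁻¹ᵁ W)) ≫ b ≫ pullback.fst f.hom φ) hw ≫ fst.hom =
      (AlgSp.yon S).map hWm ≫ fst₀ := IsPullback.lift_fst _ _ _ _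
  have hl2 : sq.lift ((AlgSp.yon S).map hWm ≫ fst₀)
      ((AlgSp.yon S).map (opensOverι T (h.left ⁻¹ᵁ W)) ≫ b ≫ pullback.fst f.hom φ) hw ≫ jX.hom =
      (AlgSp.yon S).map (opensOverι T (h.left ⁻¹ᵁ W)) ≫ b ≫ pullback.fst f.hom φ :=
    IsPullback.lift_snd _ _ _ _
  refine ⟨T, b ≫ pullback.fst f.hom φ, h.left ⁻¹ᵁ W, sq.lift _ _ hw, hφ'e, hφ's, ?_,
    isSchematicallyDense_preimage_of_flat h.left W hW⟩
  refine IsPullback.of_right ?_ hl2 sq
  rw [hl1]
  have e : ((AlgSp.yon S).map (opensOverι T (h.left ⁻¹ᵁ W)) ≫ b ≫ pullback.fst f.hom φ) ≫ f.hom =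
      (AlgSp.yon S).map (opensOverι T (h.left ⁻¹ᵁ W)) ≫ (b ≫ pullback.fst f.hom φ) ≫ f.hom := by
    simp only [Category.assoc]
  exact sqP

end Groth.Agent.S9973
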