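import Groth.Statements.S9976
import Groth.Agent.H50.FTPoint
import Groth.Agent.H52.FibProd

set_option autoImplicit false
universe u
open CategoryTheory CategoryTheory.Limits AlgebraicGeometry
open AlgSp

namespace Groth.Agent.S9976

open Groth.Agent.H50 Groth.Agent.H52

/-- Under a surjective morphism locally of finite type, every finite type point of the target is the
image of a finite type point of the source. (The published lemma states that the two sets of finite
type points correspond exactly; the inclusion of the image in the finite type points of the target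
holds for every morphism locally of finite type and is omitted here.) -/
theorem result {S : Scheme.{u}} {X Y : AlgSp.Space S} (f : X ⟶ Y)
    (hf : AlgSp.LocP @LocallyOfFiniteType f.hom) (hs : AlgSp.IsSurjectiveMor f.hom) (y : AlgSp.Points Y.obj)
    (hy : ∃ (k : Type u) (_ : Field k) (str : Spec (CommRingCat.of k) ⟶ S) (ξ : (AlgSp.yon S).obj (Over.mk str) ⟶ Y.obj),
        AlgSp.LocP @LocallyOfFiniteType ξ ∧ AlgSp.Points.ofPt ξ (IsLocalRing.closedPoint k) = y) :
    ∃ x : AlgSp.Points X.obj, AlgSp.Points.map f.hom x = y ∧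
      ∃ (k : Type u) (_ : Field k) (str : Spec (CommRingCat.of k) ⟶ S) (ξ : (AlgSp.yon S).obj (Over.mk str) ⟶ X.obj),
        AlgSp.LocP @LocallyOfFiniteType ξ ∧ AlgSp.Points.ofPt ξ (IsLocalRing.closedPoint k) = x := by
  obtain ⟨k, _, str, ξ, hξ, rfl⟩ := hy
  have sq := IsPullback.of_hasPullback f.hom ξ
  have hK : AlgSp.IsAlgSpace ((AlgSp.yon S).obj (Over.mk str)) := AlgSp.IsAlgSpace.yon_obj _
  have hP : AlgSp.IsAlgSpace (pullback f.hom ξ) :=
    isAlgSpace_of_isPullback sq Y.property.diag X.property hK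
  obtain ⟨x0, hx0⟩ := hs (AlgSp.Points.ofPt ξ (IsLocalRing.closedPoint k))
  have hy0 : AlgSp.Points.map ξ (AlgSp.Points.ofPt (𝟙 _) (IsLocalRing.closedPoint k)) =
      AlgSp.Points.ofPt ξ (IsLocalRing.closedPoint k) := by
    rw [AlgSp.Points.map_ofPt, Category.id_comp]
  obtain ⟨z, -, -⟩ := Groth.Agent.H50.exists_point_of_isPullback sq x0
    (AlgSp.Points.ofPt (𝟙 _) (IsLocalRing.closedPoint k)) (hx0.trans hy0.symm)
  obtain ⟨V, r, hre, hrs⟩ := hP.atlas
  obtain ⟨v, -⟩ := surjective_ofPt_of_surjective r hrs z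
  obtain ⟨k', _, ηV, hηV⟩ := exists_lft_field_point v
  have hfst : AlgSp.LocP @LocallyOfFiniteType (pullback.fst f.hom ξ) :=
    locP_baseChange etLocal_lft hK Y.property X.property sq.flip hξ
  have hrf : AlgSp.LocP @LocallyOfFiniteType (r ≫ pullback.fst f.hom ξ) :=
    locP_comp etLocal_lft hP r _ (locP_lft_of_etale r hre) hfst
  refine ⟨AlgSp.Points.ofPt (r ≫ pullback.fst f.hom ξ) (ηV (IsLocalRing.closedPoint k')), ?_,
    isFTPoint_of_lft _ hrf k' ηV hηV⟩
  obtain ⟨h, hh⟩ : ∃ h : V ⟶ Over.mk str, (AlgSp.yon S).map h = r ≫ pullback.snd f.hom ξ :=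
    ⟨(AlgSp.yon S).preimage _, (AlgSp.yon S).map_preimage _⟩
  rw [AlgSp.Points.map_ofPt, Category.assoc, sq.w, ← Category.assoc, ← hh, ofPt_yon_map_comp]
  congr 1
  exact (inferInstance : Subsingleton (PrimeSpectrum k)).elim _ _

end Groth.Agent.S9976
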