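import Groth.Statements.S9978
import Groth.Agent.S9833
import Groth.Agent.H11.NagataFT
import Groth.Agent.H52.Charts

set_option autoImplicit false
universe u
open CategoryTheory CategoryTheory.Limits AlgebraicGeometry
open AlgSp

namespace Groth.Agent.S9978

open Groth.Agent.H52

/-- A scheme locally of finite type over a Nagata scheme is Nagata. -/
theorem nagata_of_lft {W V : Scheme.{u}} (h : W ⟶ V) [LocallyOfFiniteType h]
    (hV : ∀ V' : V.Opens, IsAffineOpen V' → CAlg.IsNagata ↑Γ(V, V')) :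
    ∀ W' : W.Opens, IsAffineOpen W' → CAlg.IsNagata ↑Γ(W, W') := by
  have key : ∀ w : W, ∃ O : W.Opens, IsAffineOpen O ∧ w ∈ O ∧ CAlg.IsNagata ↑Γ(W, O) := by
    intro w
    obtain ⟨_, ⟨V', hV', rfl⟩, hwV', -⟩ :=
      V.isBasis_affineOpens.exists_subset_of_mem_open (Set.mem_univ (h w)) isOpen_univ
    obtain ⟨_, ⟨O, hO, rfl⟩, hwO, hOsub⟩ :=
      W.isBasis_affineOpens.exists_subset_of_mem_open
        (show w ∈ ((h ⁻¹ᵁ V' : W.Opens) : Set ↥W) from hwV') (h ⁻¹ᵁ V').2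
    refine ⟨O, hO, hwO, ?_⟩
    have hft : (h.appLE V' O hOsub).hom.FiniteType := h.finiteType_appLE hV' hO hOsub
    let _ := (h.appLE V' O hOsub).hom.toAlgebra
    have : Algebra.FiniteType ↑Γ(V, V') ↑Γ(W, O) := hft
    exact Groth.Agent.H11.NagataFT.isNagata_of_finiteType ↑Γ(V, V') (hV V' hV') ↑Γ(W, O)
  choose O hO hwO hN using key
  intro W' hW'
  refine Groth.Agent.S9833.result W O ?_ hO hN W' hW'
  rw [eq_top_iff]
  intro w _
  exact TopologicalSpace.Opens.mem_iSup.2 ⟨w, hwO w⟩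

/-- An algebraic space locally of finite type over a Nagata algebraic space is Nagata. -/
theorem result {S : Scheme.{u}} {X Y : AlgSp.Space S} (f : X ⟶ Y)
    (hf : AlgSp.LocP @LocallyOfFiniteType f.hom)
    (hY : AlgSp.EtaleLocally (fun U => ∀ V : U.Opens, IsAffineOpen V → CAlg.IsNagata ↑Γ(U, V)) Y.obj) :
    AlgSp.EtaleLocally (fun U => ∀ V : U.Opens, IsAffineOpen V → CAlg.IsNagata ↑Γ(U, V)) X.obj := by
  obtain ⟨V, q, hqe, hqs, hVN⟩ := hY
  obtain ⟨U₀, p, hpe, hps⟩ := X.property.atlas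
  obtain ⟨W, ψ, fst, sq⟩ := hqe.1 (p ≫ f.hom)
  have hψe : Etale ψ.left := hqe.2 _ _ _ sq
  have hψs : Surjective ψ.left := hqs.2 _ _ _ sq
  obtain ⟨h', rfl⟩ := (AlgSp.yon S).map_surjective fst
  have hre : AlgSp.RepWith @Etale ((AlgSp.yon S).map ψ ≫ p) := repWith_yon_map_comp @Etale _ hψe p hpe
  have hrs : AlgSp.RepWith @Surjective ((AlgSp.yon S).map ψ ≫ p) :=
    repWith_yon_map_comp @Surjective _ hψs p hps
  have comm : ((AlgSp.yon S).map ψ ≫ p) ≫ f.hom = (AlgSp.yon S).map h' ≫ q := by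
    rw [Category.assoc]; exact sq.w.symm
  have hlft : LocallyOfFiniteType h'.left := hf _ q h' hre hqe comm
  exact ⟨W, (AlgSp.yon S).map ψ ≫ p, hre, hrs, nagata_of_lft h'.left hVN⟩

end Groth.Agent.S9978
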