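import Groth.Statements.S9979
import Groth.Agent.S9965
import Groth.Agent.H50.AnClosedSch
import Groth.Agent.H52.DecentTop
import Groth.Agent.H52.QC
import Groth.Agent.H52.Points
import Groth.Agent.H52.Topology
import Groth.Agent.H32.ValWit

set_option autoImplicit false
universe u
open CategoryTheory CategoryTheory.Limits AlgebraicGeometry
open AlgSp

namespace Groth.Agent.S9979

/-- Every point of the scheme theoretic image of a quasi-compact morphism is reached by a valuation ring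
whose generic point lifts to the source. -/
theorem result {S : Scheme.{u}} {X Y Z : AlgSp.Space S} (f : X ⟶ Y) (i : Z ⟶ Y)
    (hq : AlgSp.IsQuasiCompactMor f.hom) (hZ : AlgSp.IsSchImage f.hom i.hom) (z : AlgSp.Points Z.obj) :
    ∃ (A : Type u) (_ : CommRing A) (_ : IsDomain A) (_ : ValuationRing A) (str : Spec (CommRingCat.of A) ⟶ S)
      (a : (AlgSp.yon S).obj (Over.mk str) ⟶ Z.obj)
      (x : (AlgSp.yon S).obj (Over.mk (Spec.map (CommRingCat.ofHom (algebraMap A (FractionRing A))) ≫ str)) ⟶ X.obj),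
      AlgSp.Points.ofPt a (IsLocalRing.closedPoint A) = z ∧
      x ≫ f.hom = (AlgSp.yon S).map (Over.homMk (Spec.map (CommRingCat.ofHom (algebraMap A (FractionRing A)))) rfl) ≫
        a ≫ i.hom := by
  have hdense := (Groth.Agent.S9965.result f i hq hZ).2
  obtain ⟨hi, ⟨f', hf'⟩, -⟩ := hZ
  -- an affine etale chart of `Y` at the image of `z`
  obtain ⟨V, ψ, v, hVa, hψe, hψv⟩ : ∃ (V : Over S) (ψ : (yon S).obj V ⟶ Y.obj) (v : ↥V.left),
      IsAffine V.left ∧ RepWith @Etale ψ ∧ Points.ofPt ψ v = Points.map i.hom z := by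
    obtain ⟨U₀, φ, hφe, hφs⟩ := Y.property.atlas
    obtain ⟨y₀, hy₀⟩ := Groth.Agent.H52.surjective_ofPt_of_surjective φ hφs (Points.map i.hom z)
    obtain ⟨V₀, hV₀, v, hv, hψe, -⟩ := Groth.Agent.H52.exists_affine_restriction φ hφe y₀
    refine ⟨Groth.Agent.H52.overOpen U₀ V₀, _, v, (show IsAffine V₀.toScheme from hV₀), hψe, ?_⟩
    rw [Groth.Agent.H52.ofPt_yon_map_comp, hv, hy₀]
  haveI := hVa
  -- the closed subscheme of the chart
  obtain ⟨ZV, iV, ψZ, sqZ⟩ := hi.1 ψ
  haveI hiV : IsClosedImmersion iV.left := hi.2 _ _ _ sqZ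
  -- the base change of `X` and its chart
  have sqX := IsPullback.of_hasPullback f.hom ψ
  have hVqc : IsQuasiCompactSp ((yon S).obj V) := Groth.Agent.H52.isQuasiCompactSp_yon V
  obtain ⟨U, c, hce, hcs, hUc⟩ := hq (IsAlgSpace.yon_obj _) hVqc ψ _ _ sqX
  haveI : CompactSpace ↥U.left := hUc
  have hsurj := Groth.Agent.H52.surjective_ofPt_of_surjective c hcs
  obtain ⟨p, hp⟩ := (yon S).map_surjective (c ≫ pullback.snd f.hom ψ)
  have hsndc : ∀ u : ↥U.left, Points.map (pullback.snd f.hom ψ) (Points.ofPt c u) =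
      Points.ofScheme V (p.left u) := by
    intro u
    rw [← Groth.Agent.H52.map_yon_map_ofScheme, hp, Points.map_comp, ← Points.ofPt_eq_map_ofScheme]
  have hw : (c ≫ pullback.fst f.hom ψ ≫ f') ≫ i.hom = (c ≫ pullback.snd f.hom ψ) ≫ ψ := by
    simp only [Category.assoc]
    rw [hf', pullback.condition]
  obtain ⟨p', hp'⟩ := (yon S).map_surjective (sqZ.lift _ _ hw)
  have hp'2 : p' ≫ iV = p := by
    apply (yon S).map_injective
    rw [Functor.map_comp, hp', hp]
    exact sqZ.lift_snd _ _ _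
  -- the point of the closed subscheme over `z` and `v`
  obtain ⟨w₀, hw₀1, hw₀2⟩ := Groth.Agent.H52.exists_point_of_isPullback sqZ z (Points.ofScheme V v)
    (by rw [← Points.ofPt_eq_map_ofScheme, hψv])
  obtain ⟨w, rfl⟩ := (Points.schemeEquiv ZV).surjective w₀
  have hwz : Points.ofPt ψZ w = z := by
    rw [Points.ofPt_eq_map_ofScheme]
    exact hw₀1
  have hwv : iV.left w = v := by
    apply Groth.Agent.H52.ofScheme_injective
    rw [← Groth.Agent.H52.map_yon_map_ofScheme]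
    exact hw₀2
  -- `v` lies in the closure of the image of the chart
  have hvcl : v ∈ closure (Set.range p.left) := by
    rw [mem_closure_iff]
    intro O hO hvO
    have hOpen : IsOpen (Points.ofPt ψ '' O) :=
      Groth.Agent.H52.isOpenMap_ofPt_of_etale ψ hψe O hO
    have hmem : Points.map i.hom z ∈ Points.ofPt ψ '' O := ⟨v, hvO, hψv⟩
    have hcl : Points.map i.hom z ∈ closure (Set.range (Points.map f.hom)) := hdense ⟨z, rfl⟩
    obtain ⟨_, ⟨o, hoO, rfl⟩, ⟨x, hx⟩⟩ := mem_closure_iff.mp hcl _ hOpen hmem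
    obtain ⟨t, ht1, ht2⟩ := Groth.Agent.H52.exists_point_of_isPullback sqX x (Points.ofScheme V o)
      (by rw [hx, Points.ofPt_eq_map_ofScheme])
    obtain ⟨u, rfl⟩ := hsurj t
    refine ⟨o, hoO, u, ?_⟩
    apply Groth.Agent.H52.ofScheme_injective
    rw [← hsndc]
    exact ht2
  -- a point of the chart specializing to `v`
  obtain ⟨U', σ, hU'a, hσe, hσs⟩ := Groth.Agent.H50.AnClosedSch.exists_affine_etale_surjective U.left
  haveI := hU'a
  haveI := hσs
  have hr : Set.range (σ ≫ p.left) = Set.range p.left := by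
    ext y
    constructor
    · rintro ⟨a, rfl⟩
      exact ⟨σ a, (Scheme.Hom.comp_apply σ p.left a).symm⟩
    · rintro ⟨b, rfl⟩
      obtain ⟨a, rfl⟩ := σ.surjective b
      exact ⟨a, Scheme.Hom.comp_apply σ p.left a⟩
  obtain ⟨u', hu'⟩ := Groth.Agent.H32.ValWit.exists_specializes_of_mem_closure_range_affine
    (σ ≫ p.left) v (by rw [hr]; exact hvcl)
  have hu : p.left (σ u') ⤳ v := by
    rw [← Scheme.Hom.comp_apply]
    exact hu'
  have hsp' : p'.left (σ u') ⤳ w := by
    have hind : Topology.IsInducing iV.left := iV.left.isClosedEmbedding.isInducing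
    rw [← hind.specializes_iff]
    have e1 : iV.left (p'.left (σ u')) = p.left (σ u') := by
      rw [← hp'2]
      rfl
    rw [e1, hwv]
    exact hu
  obtain ⟨A, iA, iD, iVR, g, ξ, hξg, hgcl⟩ :=
    Groth.Agent.H32.ValWit.exists_valuationRing_of_specializes p'.left (σ u') w hsp'
  have hξ0 : ξ ≫ U.hom =
      Spec.map (CommRingCat.ofHom (algebraMap A (FractionRing A))) ≫ g ≫ ZV.hom := by
    rw [← Over.w p', ← Category.assoc, hξg, Category.assoc]
  obtain ⟨G, hG⟩ : ∃ G : Over.mk (g ≫ ZV.hom) ⟶ ZV, G.left = g := ⟨Over.homMk g rfl, rfl⟩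
  obtain ⟨Ξ, hΞ⟩ : ∃ Ξ : Over.mk (Spec.map (CommRingCat.ofHom
      (algebraMap A (FractionRing A))) ≫ g ≫ ZV.hom) ⟶ U, Ξ.left = ξ := ⟨Over.homMk ξ hξ0, rfl⟩
  have key : Ξ ≫ p' = (Over.homMk (Spec.map (CommRingCat.ofHom
      (algebraMap A (FractionRing A)))) rfl :
      Over.mk (Spec.map (CommRingCat.ofHom (algebraMap A (FractionRing A))) ≫ g ≫ ZV.hom) ⟶
        Over.mk (g ≫ ZV.hom)) ≫ G := by
    apply Over.OverMorphism.ext
    rw [Over.comp_left, Over.comp_left, hΞ, hG, hξg]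
    rfl
  refine ⟨A, iA, iD, iVR, g ≫ ZV.hom, (yon S).map G ≫ ψZ,
    (yon S).map Ξ ≫ c ≫ pullback.fst f.hom ψ, ?_, ?_⟩
  · rw [Groth.Agent.H52.ofPt_yon_map_comp, hG, hgcl]
    exact hwz
  · have e1 : ((yon S).map Ξ ≫ c ≫ pullback.fst f.hom ψ) ≫ f.hom =
        (yon S).map ((Ξ ≫ p') ≫ iV) ≫ ψ := by
      have e0 : (Ξ ≫ p') ≫ iV = Ξ ≫ p := by rw [Category.assoc, hp'2]
      rw [e0, Functor.map_comp, hp]
      simp only [Category.assoc]
      rw [pullback.condition]
    rw [e1, key, Functor.map_comp, Functor.map_comp]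
    simp only [Category.assoc]
    rw [sqZ.w]

end Groth.Agent.S9979
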