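import Groth.Statements.S9980
import Groth.Agent.H52.ResidualChart
import Groth.Agent.H50.FTPoint
import Groth.Agent.H52.LocPChart
import Groth.Agent.H52.LocPOps
import Groth.Agent.H52.EtLocalInst

set_option autoImplicit false
universe u
open CategoryTheory CategoryTheory.Limits AlgebraicGeometry
open AlgSp

namespace Groth.Agent.S9980
open Groth.Agent.H52 Groth.Agent.H50

variable {S : Scheme.{u}}

/-- (A) ⇒ (C). -/
theorem exists_mono_of_isFTPoint (X : AlgSp.Space S) (x : AlgSp.Points X.obj)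
    (h : IsFTPoint X.obj x) :
    ∃ (Z : AlgSp.Space S) (f : Z ⟶ X) (k : Type u) (_ : Field k) (str : Spec (CommRingCat.of k) ⟶ S)
      (z : (AlgSp.yon S).obj (Over.mk str) ⟶ Z.obj), AlgSp.RepWith @Etale z ∧
      AlgSp.RepWith @Surjective z ∧ AlgSp.LocP @LocallyOfFiniteType f.hom ∧ Mono f.hom ∧
      AlgSp.Points.ofPt (z ≫ f.hom) (IsLocalRing.closedPoint k) = x := by
  obtain ⟨U, φ, u, hφe, hucl, rfl⟩ := exists_closed_chart_of_isFTPoint X.property h
  obtain ⟨Z, hZ, i, hmono, hrange, p, hpe, hps, -, hpi⟩ := exists_residual_chart φ hφe u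
  have hci : IsClosedImmersion (U.left.fromSpecResidueField u) :=
    isClosed_singleton_iff_isClosedImmersion.1 hucl
  have hlft : LocallyOfFiniteType (ptIncl φ u).left := by
    change LocallyOfFiniteType (U.left.fromSpecResidueField u)
    infer_instance
  have hi : AlgSp.LocP @LocallyOfFiniteType i :=
    locP_of_one_chart etLocal_lft i p φ (ptIncl φ u) hpe hps hφe hpi hlft
  refine ⟨⟨Z, hZ⟩, ObjectProperty.homMk i, (AlgSp.FieldPt.ofPt φ u).K, inferInstance,
    (AlgSp.FieldPt.ofPt φ u).str, p, hpe, hps, hi, hmono, ?_⟩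
  change AlgSp.Points.ofPt (p ≫ i) _ = _
  rw [hpi, ← AlgSp.FieldPt.toHom_ofPt φ u, AlgSp.Points.ofPt_toHom]
  rfl

/-- (B) ⇒ (A). -/
theorem isFTPoint_of_onePoint (X : AlgSp.Space S) (x : AlgSp.Points X.obj) (Z : AlgSp.Space S)
    (f : Z ⟶ X) (hne : Nonempty (AlgSp.Points Z.obj))
    (hf : AlgSp.LocP @LocallyOfFiniteType f.hom)
    (hr : Set.range (AlgSp.Points.map f.hom) = {x}) : IsFTPoint X.obj x := by
  obtain ⟨z₀⟩ := hne
  obtain ⟨U, a, hae, has⟩ := Z.property.atlas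
  obtain ⟨u, hu⟩ := surjective_ofPt_of_surjective a has z₀
  obtain ⟨k, _, η, hη⟩ := exists_lft_field_point u
  have h1 : AlgSp.LocP @LocallyOfFiniteType (a ≫ f.hom) :=
    locP_comp etLocal_lft Z.property a f.hom (locP_lft_of_etale a hae) hf
  have h2 := isFTPoint_of_lft (a ≫ f.hom) h1 k η hη
  have h3 : AlgSp.Points.ofPt (a ≫ f.hom) (η (IsLocalRing.closedPoint k)) = x := by
    have : AlgSp.Points.ofPt (a ≫ f.hom) (η (IsLocalRing.closedPoint k)) ∈
        Set.range (AlgSp.Points.map f.hom) :=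
      ⟨AlgSp.Points.ofPt a (η (IsLocalRing.closedPoint k)), AlgSp.Points.map_ofPt _ _ _⟩
    rw [hr] at this
    exact this
  rw [h3] at h2
  exact h2

/-- Characterizations of finite type points via one-point algebraic spaces locally of finite type over X
and via monomorphisms from quotients of spectra of fields. -/
theorem result {S : Scheme.{u}} (X : AlgSp.Space S) (x : AlgSp.Points X.obj) :
    ((∃ (k : Type u) (_ : Field k) (str : Spec (CommRingCat.of k) ⟶ S) (ξ : (AlgSp.yon S).obj (Over.mk str) ⟶ X.obj),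
        AlgSp.LocP @LocallyOfFiniteType ξ ∧ AlgSp.Points.ofPt ξ (IsLocalRing.closedPoint k) = x) ↔
      ∃ (Z : AlgSp.Space S) (f : Z ⟶ X), Nonempty (Unique (AlgSp.Points Z.obj)) ∧
        AlgSp.LocP @LocallyOfFiniteType f.hom ∧ Set.range (AlgSp.Points.map f.hom) = {x}) ∧
    ((∃ (k : Type u) (_ : Field k) (str : Spec (CommRingCat.of k) ⟶ S) (ξ : (AlgSp.yon S).obj (Over.mk str) ⟶ X.obj),
        AlgSp.LocP @LocallyOfFiniteType ξ ∧ AlgSp.Points.ofPt ξ (IsLocalRing.closedPoint k) = x) ↔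
      ∃ (Z : AlgSp.Space S) (f : Z ⟶ X) (k : Type u) (_ : Field k) (str : Spec (CommRingCat.of k) ⟶ S)
        (z : (AlgSp.yon S).obj (Over.mk str) ⟶ Z.obj), AlgSp.RepWith @Etale z ∧ AlgSp.RepWith @Surjective z ∧
        AlgSp.LocP @LocallyOfFiniteType f.hom ∧ Mono f.hom ∧
        AlgSp.Points.ofPt (z ≫ f.hom) (IsLocalRing.closedPoint k) = x) := by
  change (IsFTPoint X.obj x ↔ _) ∧ (IsFTPoint X.obj x ↔ _)
  refine ⟨⟨?_, ?_⟩, ⟨?_, ?_⟩⟩
  · rintro ⟨k, _, str, ξ, hξ, hx⟩
    refine ⟨⟨(AlgSp.yon S).obj (Over.mk str), AlgSp.IsAlgSpace.yon_obj _⟩, ObjectProperty.homMk ξ,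
      ?_, hξ, ?_⟩
    · have : Unique ↥(Over.mk str).left := inferInstanceAs (Unique (PrimeSpectrum k))
      exact ⟨(AlgSp.Points.schemeEquiv (Over.mk str)).symm.unique⟩
    · apply Set.Subset.antisymm
      · rintro _ ⟨z, rfl⟩
        obtain ⟨t, rfl⟩ := (AlgSp.Points.schemeEquiv (Over.mk str)).surjective z
        change AlgSp.Points.map ξ (AlgSp.Points.ofScheme _ t) = x
        rw [← AlgSp.Points.ofPt_eq_map_ofScheme, ← hx]
        congr 1
        exact Subsingleton.elim (α := PrimeSpectrum k) _ _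
      · intro y hy
        rw [Set.mem_singleton_iff.1 hy]
        refine ⟨AlgSp.Points.ofScheme _ (IsLocalRing.closedPoint k), ?_⟩
        change AlgSp.Points.map ξ (AlgSp.Points.ofScheme _ _) = x
        rw [← AlgSp.Points.ofPt_eq_map_ofScheme, hx]
  · rintro ⟨Z, f, ⟨hu⟩, hf, hr⟩
    exact isFTPoint_of_onePoint X x Z f ⟨hu.default⟩ hf hr
  · intro h
    exact exists_mono_of_isFTPoint X x h
  · rintro ⟨Z, f, k, _, str, z, hze, hzs, hf, -, hx⟩
    exact ⟨k, inferInstance, str, z ≫ f.hom,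
      locP_comp etLocal_lft Z.property z f.hom (locP_lft_of_etale z hze) hf, hx⟩

end Groth.Agent.S9980
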