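import Groth.Statements.S9981
import Groth.Agent.H50.Constructible
import Groth.Agent.H52.Topology

set_option autoImplicit false
universe u
open CategoryTheory CategoryTheory.Limits AlgebraicGeometry
open AlgSp

namespace Groth.Agent.S9981

open Groth.Agent.H50

/-- The inverse image of an etale locally constructible subset under a morphism of algebraic spaces is
etale locally constructible. -/
theorem result {S : Scheme.{u}} {X Y : AlgSp.Space S} (f : X ⟶ Y)
    (E : Set (AlgSp.Points Y.obj))
    (hE : (∀ (U : Over S) (φ : (AlgSp.yon S).obj U ⟶ Y.obj), AlgSp.RepWith @Etale φ →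
        Topology.IsLocallyConstructible (AlgSp.Points.ofPt φ ⁻¹' E))) :
    (∀ (U : Over S) (φ : (AlgSp.yon S).obj U ⟶ X.obj), AlgSp.RepWith @Etale φ →
        Topology.IsLocallyConstructible (AlgSp.Points.ofPt φ ⁻¹' (AlgSp.Points.map f.hom ⁻¹' E))) := by
  intro U φ hφ
  obtain ⟨V, b, hb, hbs⟩ := Y.property.atlas
  have sq := hb.rep.isPullback' (φ ≫ f.hom)
  have hse : Etale (hb.rep.snd (φ ≫ f.hom)).left := hb.property_snd _
  have hss : Surjective (hb.rep.snd (φ ≫ f.hom)).left := hbs.property_snd _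
  have h1 := isLocallyConstructible_preimage (hb.rep.fst' (φ ≫ f.hom)).left (hE V b hb)
  have e : (hb.rep.fst' (φ ≫ f.hom)).left ⁻¹' (AlgSp.Points.ofPt b ⁻¹' E) =
      (hb.rep.snd (φ ≫ f.hom)).left ⁻¹'
        (AlgSp.Points.ofPt φ ⁻¹' (AlgSp.Points.map f.hom ⁻¹' E)) := by
    ext w
    simp only [Set.mem_preimage]
    rw [AlgSp.Points.map_ofPt, ← Groth.Agent.H52.ofPt_yon_map_comp,
      ← Groth.Agent.H52.ofPt_yon_map_comp, sq.w]
  rw [e] at h1
  exact isLocallyConstructible_of_preimage_of_etale_surjective (hb.rep.snd (φ ≫ f.hom)).left h1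

end Groth.Agent.S9981
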