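import Groth.Statements.S9982
import Groth.Agent.H50.Constructible
import Groth.Agent.H50.OpenSubChart
import Groth.Agent.H52.QC

set_option autoImplicit false
universe u
open CategoryTheory CategoryTheory.Limits AlgebraicGeometry
open AlgSp

namespace Groth.Agent.S9982

open Groth.Agent.H50 Groth.Agent.H52

/-- A quasi-compact morphism locally of finite presentation between algebraic spaces maps etale locally
constructible sets to etale locally constructible sets. -/
theorem result {S : Scheme.{u}} {X Y : AlgSp.Space S} (f : X ⟶ Y)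
    (hq : AlgSp.IsQuasiCompactMor f.hom) (hfp : AlgSp.LocP @LocallyOfFinitePresentation f.hom)
    (E : Set (AlgSp.Points X.obj))
    (hE : (∀ (U : Over S) (φ : (AlgSp.yon S).obj U ⟶ X.obj), AlgSp.RepWith @Etale φ →
        Topology.IsLocallyConstructible (AlgSp.Points.ofPt φ ⁻¹' E))) :
    (∀ (U : Over S) (φ : (AlgSp.yon S).obj U ⟶ Y.obj), AlgSp.RepWith @Etale φ →
        Topology.IsLocallyConstructible (AlgSp.Points.ofPt φ ⁻¹' (AlgSp.Points.map f.hom '' E))) := by
  intro V φ hφ
  apply isLocallyConstructible_of_forall_openImmersion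
  intro v
  obtain ⟨_, ⟨(V₀ : V.left.Opens), hV₀, rfl⟩, hvV₀, -⟩ := V.left.isBasis_affineOpens.exists_subset_of_mem_open
    (Set.mem_univ v) isOpen_univ
  refine ⟨V₀.toScheme, V₀.ι, inferInstance, ⟨⟨v, hvV₀⟩, rfl⟩, ?_⟩
  have hφ₀ : RepWith @Etale ((yon S).map (opensOverι V V₀) ≫ φ) :=
    repWith_etale_opens_ι_comp φ hφ V₀
  have hpre : V₀.ι ⁻¹' (Points.ofPt φ ⁻¹' (Points.map f.hom '' E)) =
      Points.ofPt ((yon S).map (opensOverι V V₀) ≫ φ) ⁻¹' (Points.map f.hom '' E) := by
    ext t
    simp only [Set.mem_preimage]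
    rw [ofPt_yon_map_comp]
    rfl
  rw [hpre]
  have sq := IsPullback.of_hasPullback f.hom ((yon S).map (opensOverι V V₀) ≫ φ)
  haveI : IsAffine (opensOver V V₀).left := hV₀
  have hqcV : IsQuasiCompactSp ((yon S).obj (opensOver V V₀)) := isQuasiCompactSp_yon _
  have hXV : IsQuasiCompactSp (pullback f.hom ((yon S).map (opensOverι V V₀) ≫ φ)) :=
    hq (IsAlgSpace.yon_obj _) hqcV _ _ _ sq
  obtain ⟨W, c, hce, hcs, hW⟩ := hXV
  haveI : CompactSpace ↥W.left := hW
  have hfst : RepWith @Etale (pullback.fst f.hom ((yon S).map (opensOverι V V₀) ≫ φ)) :=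
    repWith_fst_of_isPullback sq hφ₀
  have := AlgSp.repWith_isMultiplicative (S := S) @Etale
  have ha : RepWith @Etale (c ≫ pullback.fst f.hom ((yon S).map (opensOverι V V₀) ≫ φ)) :=
    (RepWith @Etale).comp_mem _ _ hce hfst
  obtain ⟨h, hh⟩ := (yon S).map_surjective
    (c ≫ pullback.snd f.hom ((yon S).map (opensOverι V V₀) ≫ φ))
  have comm : (c ≫ pullback.fst f.hom ((yon S).map (opensOverι V V₀) ≫ φ)) ≫ f.hom =
      (yon S).map h ≫ ((yon S).map (opensOverι V V₀) ≫ φ) := by
    rw [hh, Category.assoc, Category.assoc, pullback.condition]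
  haveI hlfp : LocallyOfFinitePresentation h.left := hfp _ _ h ha hφ₀ comm
  haveI hqc : QuasiCompact h.left :=
    (HasAffineProperty.iff_of_isAffine (P := @QuasiCompact)).mpr (inferInstance : CompactSpace ↥W.left)
  have hEW := hE W (c ≫ pullback.fst f.hom ((yon S).map (opensOverι V V₀) ≫ φ)) ha
  have him := h.left.isLocallyConstructible_image hEW
  have heq : Points.ofPt ((yon S).map (opensOverι V V₀) ≫ φ) ⁻¹' (Points.map f.hom '' E) =
      h.left '' (Points.ofPt (c ≫ pullback.fst f.hom ((yon S).map (opensOverι V V₀) ≫ φ)) ⁻¹' E) := by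
    ext t
    constructor
    · rintro ⟨e, he, het⟩
      rw [Points.ofPt_eq_map_ofScheme] at het
      obtain ⟨ξ, hξ1, hξ2⟩ := Groth.Agent.H52.exists_point_of_isPullback sq e _ het
      obtain ⟨w, rfl⟩ := surjective_ofPt_of_surjective c hcs ξ
      refine ⟨w, ?_, ?_⟩
      · show Points.ofPt (c ≫ pullback.fst _ _) w ∈ E
        rw [← Points.map_ofPt, hξ1]
        exact he
      · apply ofScheme_injective
        rw [← map_yon_map_ofScheme, hh, Points.map_comp, ← Points.ofPt_eq_map_ofScheme, hξ2]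
    · rintro ⟨w, hw, rfl⟩
      refine ⟨Points.ofPt (c ≫ pullback.fst _ _) w, hw, ?_⟩
      rw [Points.map_ofPt, comm, ofPt_yon_map_comp]
  rw [heq]
  exact him

end Groth.Agent.S9982
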