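import Groth.Statements.S9983
import Groth.Agent.H32.CIFF
import Mathlib.CategoryTheory.Adjunction.FullyFaithful

set_option autoImplicit false
universe u
open CategoryTheory CategoryTheory.Limits AlgebraicGeometry
open AlgSp

namespace Groth.Agent.S9983

/-- For a closed immersion i of algebraic spaces, i_* on the small etale sites is fully faithful on
sheaves of sets and on abelian sheaves, with i⁻¹ a left inverse (the counit i⁻¹ i_* ⟶ id is an
isomorphism). (The published statement also describes the essential images of i_*; this row states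
only full faithfulness and the left inverse.) -/
theorem result {S : Scheme.{u}} {Z X : AlgSp.Space S} (i : Z ⟶ X)
    (hi : AlgSp.RepWith @IsClosedImmersion i.hom) :
    ((AlgSp.pushEt hi.1 (Type (u + 1))).Full ∧ (AlgSp.pushEt hi.1 (Type (u + 1))).Faithful) ∧
    ((AlgSp.pushEt hi.1 AddCommGrpCat.{u + 1}).Full ∧ (AlgSp.pushEt hi.1 AddCommGrpCat.{u + 1}).Faithful) ∧
    IsIso (AlgSp.pullPushAdjEt hi.1 (Type (u + 1))).counit := by
  have hCD := Groth.Agent.H32.CIFF.bc_isCoverDense Z.property X.property hi
  have hLF := Groth.Agent.H32.CIFF.bc_isLocallyFull hi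
  have h1 : (AlgSp.pushEt hi.1 (Type (u + 1))).Full :=
    Functor.IsCoverDense.full_sheafPushforwardContinuous _ _ _
  have h2 : (AlgSp.pushEt hi.1 (Type (u + 1))).Faithful :=
    Functor.IsCoverDense.faithful_sheafPushforwardContinuous _ _ _
  have h3 : (AlgSp.pushEt hi.1 AddCommGrpCat.{u + 1}).Full :=
    Functor.IsCoverDense.full_sheafPushforwardContinuous _ _ _
  have h4 : (AlgSp.pushEt hi.1 AddCommGrpCat.{u + 1}).Faithful :=
    Functor.IsCoverDense.faithful_sheafPushforwardContinuous _ _ _
  refine ⟨⟨h1, h2⟩, ⟨h3, h4⟩, ?_⟩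
  infer_instance

end Groth.Agent.S9983
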