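import Groth.Statements.S9986
import Groth.Agent.H50.SchDense
import Groth.Agent.H56.EtDenseSch
import Groth.Agent.S9968
import Groth.Agent.S9970
-- import your own Groth.Agent.* helpers here

set_option autoImplicit false
universe u
open CategoryTheory CategoryTheory.Limits AlgebraicGeometry
open AlgSp

namespace Groth.Agent.S9986


open Groth.Agent.H50 Groth.Agent.H52 Groth.Agent.H56.EtDense Opposite

lemma mono_iff {S : Scheme.{u}} {U X : AlgSp.Space S} (j : U ⟶ X)
    (hj : AlgSp.RepWith @IsOpenImmersion j.hom) :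
    Mono (AlgSp.bcRingHom hj.1) ↔ ∀ E : AlgSp.EtOver X.obj,
      Function.Injective ⇑(ConcreteCategory.hom (hj.1.snd E.obj.hom).left.appTop) := by
  have h0 : ∀ E : AlgSp.EtOver X.obj,
      Function.Injective ⇑(ConcreteCategory.hom ((AlgSp.bcRingHom hj.1).hom.app (op E))) ↔
      Function.Injective ⇑(ConcreteCategory.hom (hj.1.snd E.obj.hom).left.appTop) := by
    intro E
    constructor
    · intro h x y hxy
      have := @h (ULift.up x) (ULift.up y) (ULift.ext _ _ hxy)
      exact congrArg ULift.down this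
    · intro h x y hxy
      exact ULift.ext _ _ (h (congrArg ULift.down hxy))
  rw [Sheaf.Hom.mono_iff_presheaf_mono]
  constructor
  · intro h E
    have := (NatTrans.mono_iff_mono_app _).1 h (op E)
    exact (h0 E).1 (ConcreteCategory.injective_of_mono_of_preservesPullback _)
  · intro h
    have : ∀ E, Mono ((AlgSp.bcRingHom hj.1).hom.app E) := fun E =>
      ConcreteCategory.mono_of_injective _ ((h0 E.unop).2 (h E.unop))
    exact NatTrans.mono_of_mono_app _

lemma inj_comp {A B C : CommRingCat.{u}} (f : A ⟶ B) (g : B ⟶ C) (hf : Function.Injective f)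
    (hg : Function.Injective g) : Function.Injective (f ≫ g) := by
  intro x y h
  rw [CommRingCat.comp_apply, CommRingCat.comp_apply] at h
  exact hf (hg h)

lemma inj_of_comp {A B C : CommRingCat.{u}} (f : A ⟶ B) (g : B ⟶ C)
    (h : Function.Injective (f ≫ g)) : Function.Injective f := by
  intro x y hxy
  apply h
  rw [CommRingCat.comp_apply, CommRingCat.comp_apply, hxy]

lemma injective_ι_appTop_of_dense {Y : Scheme.{u}} {W : Y.Opens}
    (hW : CInt.IsSchematicallyDense W) : Function.Injective W.ι.appTop := by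
  have key : ∀ (A : Y.Opens) (_ : A = ⊤ ⊓ W) (hA : A ≤ ⊤),
      Function.Injective (Y.presheaf.map (homOfLE hA).op) := by
    rintro _ rfl hA
    exact hW ⊤
  show Function.Injective (W.ι.app ⊤)
  rw [Scheme.Opens.ι_app]
  refine key _ ?_ _
  rw [Scheme.Hom.image_preimage_eq_opensRange_inf, Scheme.Opens.opensRange_ι, inf_comm]

lemma injective_res_of_injective_ι_appTop {T : Scheme.{u}} (V₁ W : T.Opens)
    (h : Function.Injective (V₁.ι ⁻¹ᵁ W).ι.appTop) :
    Function.Injective (T.presheaf.map (homOfLE (inf_le_left : V₁ ⊓ W ≤ V₁)).op) := by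
  have key : ∀ (A B : T.Opens) (hAB : A ≤ B), B = V₁ → A = V₁ ⊓ W →
      Function.Injective (T.presheaf.map (homOfLE hAB).op) →
      Function.Injective (T.presheaf.map (homOfLE (inf_le_left : V₁ ⊓ W ≤ V₁)).op) := by
    rintro _ _ hAB rfl rfl h
    exact h
  have h' : Function.Injective ((V₁.ι ⁻¹ᵁ W).ι.app ⊤) := h
  rw [Scheme.Opens.ι_app] at h'
  refine key (V₁.ι ''ᵁ ((V₁.ι ⁻¹ᵁ W).ι ''ᵁ ((V₁.ι ⁻¹ᵁ W).ι ⁻¹ᵁ ⊤))) (V₁.ι ''ᵁ ⊤)
    (V₁.ι.image_mono le_top) ?_ ?_ h'
  · exact Scheme.Opens.ι_image_top V₁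
  · rw [Scheme.Hom.image_preimage_eq_opensRange_inf, Scheme.Opens.opensRange_ι, inf_top_eq,
      Scheme.Hom.image_preimage_eq_opensRange_inf, Scheme.Opens.opensRange_ι]

/-- the pullback of a representable open immersion along a map from a scheme is an open subscheme
(with the comparison isomorphism) -/
theorem exists_opens_isPullback_snd {S : Scheme.{u}} {F X : AlgSp.Sp S} (j : F ⟶ X)
    (hj : AlgSp.RepWith @IsOpenImmersion j) {T : Over S} (φ : (AlgSp.yon S).obj T ⟶ X) :
    ∃ (W : T.left.Opens) (f : (AlgSp.yon S).obj (opensOver T W) ⟶ F)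
      (iso : (hj.rep.pullback φ).left ≅ (W : Scheme.{u})),
      iso.hom ≫ W.ι = (hj.rep.snd φ).left ∧
      IsPullback f ((AlgSp.yon S).map (opensOverι T W)) j φ := by
  have sq := hj.rep.isPullback φ
  haveI : IsOpenImmersion (hj.rep.snd φ).left := hj.property_snd φ
  obtain ⟨s, hs⟩ : ∃ s : hj.rep.pullback φ ⟶ T, s = hj.rep.snd φ := ⟨_, rfl⟩
  obtain ⟨q, hq⟩ : ∃ q : (AlgSp.yon S).obj (hj.rep.pullback φ) ⟶ F, q = hj.rep.fst φ := ⟨_, rfl⟩
  rw [← hs, ← hq] at sq
  haveI : IsOpenImmersion s.left := hs ▸ this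
  obtain ⟨W, hW⟩ : ∃ W : T.left.Opens, W = s.left.opensRange := ⟨_, rfl⟩
  have hr : Set.range s.left = Set.range W.ι := by
    rw [Scheme.Opens.range_ι, hW]; rfl
  obtain ⟨iso, hiso⟩ : ∃ iso : (hj.rep.pullback φ).left ≅ (W : Scheme.{u}), iso.hom ≫ W.ι = s.left :=
    ⟨IsOpenImmersion.isoOfRangeEq s.left W.ι hr, IsOpenImmersion.isoOfRangeEq_hom_fac _ _ _⟩
  have hw : iso.hom ≫ (opensOver T W).hom = (hj.rep.pullback φ).hom := by
    have h1 : (opensOver T W).hom = W.ι ≫ T.hom := rfl
    rw [h1, ← Category.assoc, hiso]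
    exact Over.w s
  obtain ⟨ε, hε⟩ : ∃ ε : hj.rep.pullback φ ≅ opensOver T W, ε.hom ≫ opensOverι T W = s := by
    refine ⟨Over.isoMk iso hw, ?_⟩
    apply Over.OverMorphism.ext
    exact hiso
  refine ⟨W, (AlgSp.yon S).map ε.inv ≫ q, iso, by rw [← hs]; exact hiso, ?_⟩
  refine IsPullback.of_iso sq ((AlgSp.yon S).mapIso ε)
    (Iso.refl _) (Iso.refl _) (Iso.refl _) ?_ ?_ ?_ ?_
  · rw [Iso.refl_hom, Category.comp_id, Functor.mapIso_hom, ← Category.assoc, ← Functor.map_comp,
      Iso.hom_inv_id, CategoryTheory.Functor.map_id, Category.id_comp]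
  · rw [Iso.refl_hom, Category.comp_id, Functor.mapIso_hom, ← Functor.map_comp, hε]
  · rw [Iso.refl_hom, Iso.refl_hom, Category.comp_id, Category.id_comp]
  · rw [Iso.refl_hom, Iso.refl_hom, Category.comp_id, Category.id_comp]


/-- For an open immersion j : U -> X of algebraic spaces, U is scheme theoretically dense in X exactly
when the comparison map from O_X to j_* O_U on the small etale site of X is a monomorphism of
sheaves of rings. -/
theorem result {S : Scheme.{u}} {U X : AlgSp.Space S} (j : U ⟶ X)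
    (hj : AlgSp.RepWith @IsOpenImmersion j.hom) :
    AlgSp.IsSchDense j.hom ↔ Mono (AlgSp.bcRingHom hj.1) := by
  rw [mono_iff j hj]
  constructor
  · intro hd E
    obtain ⟨W, f, iso, hiso, sq⟩ := exists_opens_isPullback_snd j.hom hj E.obj.hom
    have hW : CInt.IsSchematicallyDense W :=
      Groth.Agent.S9968.dense_every_chart j.hom hd E.obj.left E.obj.hom E.property W f sq
    have h1 : (hj.1.snd E.obj.hom).left.appTop = W.ι.appTop ≫ iso.hom.appTop := by
      rw [← Scheme.Hom.comp_appTop, hiso]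
    rw [h1]
    have h2 : Function.Injective iso.hom.appTop := by
      have h3 : iso.hom.appTop ≫ iso.inv.appTop = 𝟙 _ := by
        rw [← Scheme.Hom.comp_appTop, iso.inv_hom_id, Scheme.Hom.id_appTop]
      apply inj_of_comp iso.hom.appTop iso.inv.appTop
      rw [h3]
      intro x y hxy
      exact hxy
    exact inj_comp _ _ (injective_ι_appTop_of_dense hW) h2
  · intro hinj
    refine ⟨hj, ?_⟩
    obtain ⟨T, b, hbe, hbs⟩ := X.property.atlas
    obtain ⟨W, f, sq⟩ := Groth.Agent.S9970.exists_opens_isPullback j.hom hj b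
    refine ⟨T, b, W, f, hbe, hbs, sq, ?_⟩
    intro V₁
    apply injective_res_of_injective_ι_appTop
    haveI := AlgSp.repWith_isMultiplicative (S := S) @Etale
    have hEe : AlgSp.RepWith @Etale ((AlgSp.yon S).map (opensOverι T V₁) ≫ b) :=
      (AlgSp.RepWith @Etale).comp_mem _ _ ((AlgSp.repWith_yon_map_iff @Etale _).2
        (inferInstanceAs (Etale V₁.ι))) hbe
    have hE := hinj (AlgSp.EtOver.mk (U := opensOver T V₁)
      ((AlgSp.yon S).map (opensOverι T V₁) ≫ b) hEe)
    obtain ⟨m', sqO⟩ := exists_isPullback_yon_opensOver (opensOverι T V₁) W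
    have sqP := sqO.paste_horiz sq
    have sqE := hj.1.isPullback ((AlgSp.yon S).map (opensOverι T V₁) ≫ b)
    have hl := sqP.lift_snd _ _ sqE.w
    obtain ⟨κ, hκ⟩ := (AlgSp.yon S).map_surjective (sqP.lift _ _ sqE.w)
    have hκ' : κ ≫ opensOverι (opensOver T V₁) ((opensOverι T V₁).left ⁻¹ᵁ W) =
        hj.1.snd ((AlgSp.yon S).map (opensOverι T V₁) ≫ b) :=
      (AlgSp.yon S).map_injective (by rw [Functor.map_comp, hκ, hl])
    have h1 : κ.left ≫ (V₁.ι ⁻¹ᵁ W).ι =
        (hj.1.snd ((AlgSp.yon S).map (opensOverι T V₁) ≫ b)).left :=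
      congrArg CommaMorphism.left hκ'
    have h2 : (hj.1.snd ((AlgSp.yon S).map (opensOverι T V₁) ≫ b)).left.appTop =
        (V₁.ι ⁻¹ᵁ W).ι.appTop ≫ κ.left.appTop := by
      rw [← h1]
      exact Scheme.Hom.comp_appTop _ _
    have hE' : Function.Injective
        (hj.1.snd ((AlgSp.yon S).map (opensOverι T V₁) ≫ b)).left.appTop := hE
    rw [h2] at hE'
    exact inj_of_comp _ _ hE'

end Groth.Agent.S9986
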