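import Groth.Statements.S9987
import Groth.Agent.H50.Basic

set_option autoImplicit false
universe u
open CategoryTheory CategoryTheory.Limits AlgebraicGeometry Opposite
open AlgSp

namespace Groth.Agent.S9987

/-- For a closed immersion i : Z ⟶ X of algebraic spaces over S (representable, every base change to a
scheme a closed immersion), the comparison map O_X ⟶ i_* O_Z of sheaves of rings on the small etale
site of X is locally surjective. (The published statement also asserts that i_* O_Z is a
quasi-coherent O_X-module and that the kernel of O_X ⟶ i_* O_Z is a quasi-coherent sheaf of ideals;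
those two assertions are the closed-immersion cases of the general facts that direct images along
quasi-compact quasi-separated morphisms preserve quasi-coherence and that the kernel ideal of a
quasi-compact morphism is quasi-coherent, a closed immersion being quasi-compact and separated, and
only the surjectivity is stated here.) -/
theorem result {S : Scheme.{u}} {Z X : AlgSp.Space S} (i : Z ⟶ X)
    (hi : AlgSp.RepWith @IsClosedImmersion i.hom) :
    Presheaf.IsLocallySurjective (AlgSp.etTop X.obj) (AlgSp.bcRingHom hi.1).hom := by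
  have surj : ∀ (E' : AlgSp.EtOver X.obj), IsAffine E'.obj.left.left →
      Function.Surjective ⇑(ConcreteCategory.hom ((AlgSp.bcRingHom hi.1).hom.app (op E'))) := by
    intro E' hE' y
    have hci : IsClosedImmersion (hi.1.snd E'.obj.hom).left := hi.property_snd _
    obtain ⟨t, ht⟩ := (IsClosedImmersion.isAffine_surjective_of_isAffine
      (hi.1.snd E'.obj.hom).left).2 (ULift.down y)
    exact ⟨ULift.up t, ULift.ext _ _ ht⟩
  constructor
  intro E s
  have instE := AlgSp.repWith_isMultiplicative (S := S) @Etale
  obtain ⟨Ei, gi, hgi, haff⟩ : ∃ (Ei : E.obj.left.left.affineCover.I₀ → AlgSp.EtOver X.obj)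
      (gi : ∀ j, Ei j ⟶ E),
      (∀ x : ↥E.obj.left.left, ∃ j, x ∈ Set.range (gi j).hom.left.left) ∧
      ∀ j, IsAffine (Ei j).obj.left.left := by
    refine ⟨fun j => AlgSp.EtOver.mk (U := Over.mk (E.obj.left.left.affineCover.f j ≫ E.obj.left.hom))
      ((AlgSp.yon S).map (Over.homMk (E.obj.left.left.affineCover.f j) rfl :
        Over.mk (E.obj.left.left.affineCover.f j ≫ E.obj.left.hom) ⟶ E.obj.left) ≫ E.obj.hom)
      ((AlgSp.RepWith @Etale).comp_mem _ _ ((AlgSp.repWith_yon_map_iff @Etale _).2
        (inferInstanceAs (Etale (E.obj.left.left.affineCover.f j)))) E.property),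
      fun j => AlgSp.EtOver.homMk (Over.homMk (E.obj.left.left.affineCover.f j) rfl) rfl, ?_, ?_⟩
    · intro x
      exact ⟨E.obj.left.left.affineCover.idx x, E.obj.left.left.affineCover.covers x⟩
    · intro j
      exact inferInstanceAs (IsAffine (E.obj.left.left.affineCover.X j))
  have hcov : Sieve.ofArrows Ei gi ∈ AlgSp.etTop X.obj E := AlgSp.ofArrows_mem_etTop Ei gi hgi
  refine (AlgSp.etTop X.obj).superset_covering ?_ hcov
  rintro V g ⟨W, a, b, ⟨j⟩, rfl⟩
  apply Sieve.downward_closed
  obtain ⟨t, ht⟩ := surj (Ei j) (haff j) (((AlgSp.EtOver.bc hi.1).sheafPushforwardContinuous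
    RingCat.{u + 1} (AlgSp.etTop X.obj) (AlgSp.etTop Z.obj)).obj (AlgSp.OEtRing Z.obj) |>.obj.map (gi j).op s)
  exact ⟨t, ht⟩

end Groth.Agent.S9987
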