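import Groth.Statements.S9994
import Groth.Agent.H50.AtMor

set_option autoImplicit false
universe u
open CategoryTheory CategoryTheory.Limits AlgebraicGeometry
open AlgSp

namespace Groth.Agent.S9994

/-- A morphism f : X ⟶ Y of algebraic spaces has P etale locally on the source and target if and only if
it has P at every point of |X| in the neighbourhood sense (some chart diagram through the point
whose top arrow has P on an open neighbourhood of the chosen point). -/
theorem result {S : Scheme.{u}} (P : MorphismProperty Scheme.{u})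
    (hP : P = @LocallyOfFiniteType ∨ P = @LocallyOfFinitePresentation ∨ P = @Flat ∨ P = @Smooth ∨ P = @Etale ∨
      (∀ ⦃A B : Scheme.{u}⦄ (g : A ⟶ B), P g ↔ (LocallyQuasiFinite g ∧ LocallyOfFiniteType g)) ∨
      (∀ ⦃A B : Scheme.{u}⦄ (g : A ⟶ B), P g ↔ (LocallyOfFiniteType g ∧ FormallyUnramified g)))
    {X Y : AlgSp.Space S} (f : X ⟶ Y) :
    AlgSp.LocP P f.hom ↔
      ∀ x : AlgSp.Points X.obj, AlgSp.HasAtMor (fun U _ h u => ∃ W : U.Opens, u ∈ W ∧ P (W.ι ≫ h)) f.hom x := by
  have hE := Groth.Agent.H52.etLocal_of_list P hP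
  constructor
  · intro hf x
    obtain ⟨U, a, ha, has⟩ := X.property.atlas
    obtain ⟨V, b, hb, hbs⟩ := Y.property.atlas
    have sq := hb.rep.isPullback' (a ≫ f.hom)
    have hse : Etale (hb.rep.snd (a ≫ f.hom)).left := hb.property_snd _
    have hss : Surjective (hb.rep.snd (a ≫ f.hom)).left := hbs.property_snd _
    obtain ⟨u, rfl⟩ := Groth.Agent.H52.surjective_ofPt_of_surjective a has x
    obtain ⟨u', hu'⟩ := hss.surj u
    have hι : RepWith @Etale ((yon S).map (hb.rep.snd (a ≫ f.hom))) :=
      (repWith_yon_map_iff _ _).2 hse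
    have := AlgSp.repWith_isMultiplicative (S := S) @Etale
    have ha' : RepWith @Etale ((yon S).map (hb.rep.snd (a ≫ f.hom)) ≫ a) :=
      (RepWith @Etale).comp_mem _ _ hι ha
    have comm : ((yon S).map (hb.rep.snd (a ≫ f.hom)) ≫ a) ≫ f.hom =
        (yon S).map (hb.rep.fst' (a ≫ f.hom)) ≫ b := by
      rw [Category.assoc]
      exact sq.w.symm
    refine ⟨_, V, _, b, hb.rep.fst' (a ≫ f.hom), u', ha', hb, comm, ?_, ⊤, trivial, ?_⟩
    · rw [Groth.Agent.H52.ofPt_yon_map_comp, hu']
    · exact hE.precomp _ _ inferInstance (hf _ b _ ha' hb comm)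
  · intro H
    exact Groth.Agent.H50.locP_of_forall_hasAtMor_nbhd hE f.hom H

end Groth.Agent.S9994
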