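import Groth.Statements.S9997
import Groth.Agent.H52.Charts
import Groth.Agent.H52.EtLocalInst
import Groth.Agent.H52.QC
import Groth.Agent.H50.Etale

set_option autoImplicit false
universe u
open CategoryTheory CategoryTheory.Limits AlgebraicGeometry Opposite
open AlgSp

namespace Groth.Agent.S9997

open Groth.Agent.H52

/-- A closed immersion into an affine scheme is locally of finite presentation iff its kernel ideal is finitely
generated. -/
theorem lfp_iff_ker_fg {W U : Scheme.{u}} (c : W ⟶ U) [IsClosedImmersion c] [IsAffine U] :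
    LocallyOfFinitePresentation c ↔ (RingHom.ker c.appTop.hom).FG := by
  obtain ⟨hW, hsurj⟩ := IsClosedImmersion.isAffine_surjective_of_isAffine c
  rw [HasRingHomProperty.iff_of_isAffine (P := @LocallyOfFinitePresentation)]
  constructor
  · intro h
    let _ := c.appTop.hom.toAlgebra
    have : Algebra.FinitePresentation ↑Γ(U, ⊤) ↑Γ(W, ⊤) := h
    exact Algebra.FinitePresentation.ker_fG_of_surjective (Algebra.ofId ↑Γ(U, ⊤) ↑Γ(W, ⊤)) hsurj
  · intro h
    exact RingHom.FinitePresentation.of_surjective _ hsurj h

/-- A closed immersion i : Z ⟶ X of algebraic spaces is (locally) of finite presentation if and only if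
its sheaf of ideals is of finite type; finite type is rendered chart by chart, as finite generation
of the kernel ideal Ker(Γ(U, O_U) → Γ(Z ×_X U, O)) for every affine etale chart U of X (for a
quasi-coherent sheaf of ideals the two readings agree by descent of finite generation along etale
coverings). -/
theorem result {S : Scheme.{u}} {Z X : AlgSp.Space S} (i : Z ⟶ X)
    (hi : AlgSp.RepWith @IsClosedImmersion i.hom) :
    AlgSp.LocP @LocallyOfFinitePresentation i.hom ↔
      ∀ (E : AlgSp.EtOver X.obj) (hE : IsAffine E.obj.left.left), ((AlgSp.idealOfRep hi.1).ideal E hE).FG := by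
  have hi1 := hi.1
  constructor
  · intro hlfp E hE
    have sq := AlgSp.EtOver.isPullback_bcObj hi1 E
    have hcl : IsClosedImmersion (AlgSp.EtOver.bcπ hi1 E).left := hi.2 _ _ _ sq
    have ha : AlgSp.RepWith @Etale (AlgSp.EtOver.bcObj hi1 E).obj.hom := (AlgSp.EtOver.bcObj hi1 E).property
    have hl : LocallyOfFinitePresentation (AlgSp.EtOver.bcπ hi1 E).left :=
      hlfp _ E.obj.hom (AlgSp.EtOver.bcπ hi1 E) ha E.property sq.w
    have : IsAffine E.obj.left.left := hE
    exact (lfp_iff_ker_fg (AlgSp.EtOver.bcπ hi1 E).left).1 hl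
  · intro H U' V' a' b' h' ha' hb' comm
    rw [IsZariskiLocalAtSource.iff_exists_resLE (P := @LocallyOfFinitePresentation)]
    intro u
    obtain ⟨_, ⟨(O : V'.left.Opens), hO, rfl⟩, huO, -⟩ :=
      V'.left.isBasis_affineOpens.exists_subset_of_mem_open (Set.mem_univ (h'.left u)) isOpen_univ
    refine ⟨O, h'.left ⁻¹ᵁ O, huO, le_rfl, ?_⟩
    have hbO : RepWith @Etale ((yon S).map (overOpenHom V' O) ≫ b') :=
      repWith_yon_map_comp @Etale _ (show Etale (Scheme.Opens.ι O) from inferInstance) b' hb'
    let E : AlgSp.EtOver X.obj := AlgSp.EtOver.mk ((yon S).map (overOpenHom V' O) ≫ b') hbO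
    have hE : IsAffine E.obj.left.left := hO
    have hfg := H E hE
    have sq := AlgSp.EtOver.isPullback_bcObj hi1 E
    have hcl : IsClosedImmersion (AlgSp.EtOver.bcπ hi1 E).left := hi.2 _ _ _ sq
    have hl : LocallyOfFinitePresentation (AlgSp.EtOver.bcπ hi1 E).left :=
      (lfp_iff_ker_fg (AlgSp.EtOver.bcπ hi1 E).left).2 hfg
    set N : U'.left.Opens := h'.left ⁻¹ᵁ O with hN
    have haN : RepWith @Etale ((yon S).map (overOpenHom U' N) ≫ a') :=
      repWith_yon_map_comp @Etale _ (show Etale (Scheme.Opens.ι N) from inferInstance) a' ha'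
    let hres : overOpen U' N ⟶ overOpen V' O :=
      Over.homMk (h'.left.resLE O N le_rfl) (by
        change h'.left.resLE O N le_rfl ≫ (O.ι ≫ V'.hom) = N.ι ≫ U'.hom
        rw [← Category.assoc, Scheme.Hom.resLE_comp_ι, Category.assoc, Over.w h'])
    have hres_comp : hres ≫ overOpenHom V' O = overOpenHom U' N ≫ h' := by
      ext : 1
      change h'.left.resLE O N le_rfl ≫ O.ι = N.ι ≫ h'.left
      exact Scheme.Hom.resLE_comp_ι _ _
    have hcomm : ((yon S).map (overOpenHom U' N) ≫ a') ≫ i.hom = (yon S).map hres ≫ E.obj.hom := by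
      change _ = (yon S).map hres ≫ ((yon S).map (overOpenHom V' O) ≫ b')
      rw [← Category.assoc, ← Functor.map_comp, hres_comp, Functor.map_comp, Category.assoc,
        Category.assoc, comm]
    let k := hi1.lift ((yon S).map (overOpenHom U' N) ≫ a') hres hcomm
    have hk1 : (yon S).map k ≫ hi1.fst E.obj.hom = (yon S).map (overOpenHom U' N) ≫ a' :=
      hi1.lift_fst _ _ _
    have hk2 : k ≫ hi1.snd E.obj.hom = hres := hi1.lift_snd _ _ _
    have hek : Etale k.left :=
      Groth.Agent.H50.etale_of_charts _ _ haN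
        (Groth.Agent.H50.repWith_fst_of_isPullback sq hbO) k hk1
    have hdec : h'.left.resLE O N le_rfl = k.left ≫ (hi1.snd E.obj.hom).left := by
      have := congrArg (fun m => m.left) hk2
      exact this.symm
    rw [hdec]
    have : LocallyOfFinitePresentation k.left := inferInstance
    exact MorphismProperty.comp_mem _ _ _ this hl

end Groth.Agent.S9997
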